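import Mathlib

set_option autoImplicit false

namespace Cfsg.Agent.Lib.Helper73

/-- Square roots of one modulo `2 ^ (k + 2)`. -/
theorem sq_one_mod_two_pow (k : ℕ) (r : ℤ) (h : (4 * 2 ^ k : ℤ) ∣ r ^ 2 - 1) :
    (4 * 2 ^ k : ℤ) ∣ r - 1 ∨ (4 * 2 ^ k : ℤ) ∣ r + 1 ∨
      (1 ≤ k ∧ (4 * 2 ^ k : ℤ) ∣ r - 1 - 2 * 2 ^ k) ∨
      (1 ≤ k ∧ (4 * 2 ^ k : ℤ) ∣ r + 1 - 2 * 2 ^ k) := by
  have h4 : (4 : ℤ) ∣ r ^ 2 - 1 := dvd_trans (dvd_mul_right 4 _) h
  -- r is odd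
  obtain ⟨u, hu⟩ : ∃ u : ℤ, r = 2 * u + 1 := by
    rcases Int.even_or_odd' r with ⟨m, hm | hm⟩
    · exfalso
      rw [hm] at h4
      have : (2 * m) ^ 2 - 1 = 4 * (m * m) - 1 := by ring
      rw [this] at h4
      generalize m * m = q at h4
      omega
    · exact ⟨m, hm⟩
  subst hu
  have hprod : (2 ^ k : ℤ) ∣ u * (u + 1) := by
    have e : (2 * u + 1) ^ 2 - 1 = 4 * (u * (u + 1)) := by ring
    rw [e] at h
    exact (mul_dvd_mul_iff_left (by norm_num : (4 : ℤ) ≠ 0)).1 h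
  have hp2 : Prime (2 : ℤ) := Int.prime_two
  -- one of u, u+1 is odd
  have hcase : (2 ^ k : ℤ) ∣ u ∨ (2 ^ k : ℤ) ∣ u + 1 := by
    rcases Int.even_or_odd' u with ⟨m, hm | hm⟩
    · left
      refine hp2.pow_dvd_of_dvd_mul_right k ?_ hprod
      rw [hm]; omega
    · right
      refine hp2.pow_dvd_of_dvd_mul_left k ?_ hprod
      rw [hm]; omega
  rcases hcase with ⟨t, ht⟩ | ⟨t, ht⟩
  · rcases Int.even_or_odd' t with ⟨t', ht' | ht'⟩
    · left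
      refine ⟨t', ?_⟩
      rw [ht, ht']; ring
    · by_cases hk : k = 0
      · right; left
        subst hk
        refine ⟨t' + 1, ?_⟩
        rw [ht, ht']; ring
      · right; right; left
        refine ⟨by omega, t', ?_⟩
        rw [ht, ht']; ring
  · have hu' : u = 2 ^ k * t - 1 := by linarith
    rcases Int.even_or_odd' t with ⟨t', ht' | ht'⟩
    · right; left
      refine ⟨t', ?_⟩
      rw [hu', ht']; ring
    · by_cases hk : k = 0
      · left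
        subst hk
        refine ⟨t', ?_⟩
        rw [hu', ht']; ring
      · right; right; right
        refine ⟨by omega, t', ?_⟩
        rw [hu', ht']; ring

theorem zpow_eq_of_dvd_sub {G : Type*} [Group G] (a : G) {x y : ℤ}
    (h : (orderOf a : ℤ) ∣ x - y) : a ^ x = a ^ y := by
  rw [zpow_eq_zpow_iff_modEq]
  exact (Int.modEq_iff_dvd.2 (by rw [← neg_sub]; exact (dvd_neg.2 h)))

theorem dvd_sub_of_zpow_eq {G : Type*} [Group G] (a : G) {x y : ℤ}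
    (h : a ^ x = a ^ y) : (orderOf a : ℤ) ∣ x - y := by
  rw [zpow_eq_zpow_iff_modEq] at h
  have := Int.modEq_iff_dvd.1 h
  rw [← neg_sub] at this
  exact (dvd_neg.1 this)

/-- Core of the classification of `2`-groups with a cyclic maximal subgroup: given `a` of order
`2 ^ (k + 2)` and `b0 ∉ ⟨a⟩` normalizing `⟨a⟩` with `b0 ^ 2 ∈ ⟨a⟩`, not commuting with `a`, one can
modify `b0` by a power of `a` to get one of the four standard presentations. -/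
theorem cyclic_index_two_core {G : Type*} [Group G] (k : ℕ) (a b0 : G)
    (horder : orderOf a = 4 * 2 ^ k)
    (hnorm : b0 * a * b0⁻¹ ∈ Subgroup.zpowers a) (hsq : b0 * b0 ∈ Subgroup.zpowers a)
    (hb0 : b0 ∉ Subgroup.zpowers a) (hnc : b0 * a * b0⁻¹ ≠ a) :
    ∃ b : G, b ∉ Subgroup.zpowers a ∧ b0⁻¹ * b ∈ Subgroup.zpowers a ∧
      ((b ^ 2 = 1 ∧ b * a * b⁻¹ = a⁻¹) ∨ (b ^ 2 = a ^ (2 * 2 ^ k) ∧ b * a * b⁻¹ = a⁻¹) ∨
        (1 ≤ k ∧ b ^ 2 = 1 ∧ b * a * b⁻¹ = a ^ (1 + 2 * 2 ^ k)) ∨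
        (1 ≤ k ∧ b ^ 2 = 1 ∧ b * a * b⁻¹ = a ^ (2 * 2 ^ k - 1))) := by
  obtain ⟨r, hr⟩ := Subgroup.mem_zpowers_iff.1 hnorm
  obtain ⟨s, hs⟩ := Subgroup.mem_zpowers_iff.1 hsq
  have hN : (orderOf a : ℤ) = 4 * 2 ^ k := by rw [horder]; push_cast; ring
  -- conjugation by b0 on powers of a
  have hconj : ∀ j : ℤ, b0 * a ^ j * b0⁻¹ = a ^ (r * j) := by
    intro j
    rw [← conj_zpow, ← hr, ← zpow_mul]
  -- r^2 ≡ 1
  have hr2 : (4 * 2 ^ k : ℤ) ∣ r ^ 2 - 1 := by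
    rw [← hN]
    have h1 : a ^ (r * r) = a ^ (1 : ℤ) := by
      rw [← hconj r, hr, zpow_one]
      have : b0 * (b0 * a * b0⁻¹) * b0⁻¹ = (b0 * b0) * a * (b0 * b0)⁻¹ := by group
      rw [this, ← hs]
      rw [(Commute.zpow_left (Commute.refl a) s).eq, mul_assoc, mul_inv_cancel, mul_one]
    have := dvd_sub_of_zpow_eq a h1
    rwa [sq]
  -- r s ≡ s
  have hrs : (4 * 2 ^ k : ℤ) ∣ (r - 1) * s := by
    rw [← hN]
    have h1 : a ^ (r * s) = a ^ s := by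
      rw [← hconj s, hs]; group
    have := dvd_sub_of_zpow_eq a h1
    have e : (r - 1) * s = r * s - s := by ring
    rwa [e]
  have hr1 : ¬ (4 * 2 ^ k : ℤ) ∣ r - 1 := by
    intro h
    apply hnc
    rw [← hr]
    have := zpow_eq_of_dvd_sub a (x := r) (y := 1) (by rw [hN]; exact h)
    rw [this, zpow_one]
  -- general formulas for b = b0 * a ^ j
  have hbmem : ∀ j : ℤ, b0 * a ^ j ∉ Subgroup.zpowers a := by
    intro j hmem
    apply hb0
    have : b0 = (b0 * a ^ j) * (a ^ j)⁻¹ := by group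
    rw [this]
    exact Subgroup.mul_mem _ hmem (Subgroup.inv_mem _ (Subgroup.zpow_mem _ (Subgroup.mem_zpowers a) j))
  have hbmem' : ∀ j : ℤ, b0⁻¹ * (b0 * a ^ j) ∈ Subgroup.zpowers a := by
    intro j
    have : b0⁻¹ * (b0 * a ^ j) = a ^ j := by group
    rw [this]
    exact Subgroup.zpow_mem _ (Subgroup.mem_zpowers a) j
  have hbconj : ∀ j : ℤ, (b0 * a ^ j) * a * (b0 * a ^ j)⁻¹ = a ^ r := by
    intro j
    have : (b0 * a ^ j) * a * (b0 * a ^ j)⁻¹ = b0 * (a ^ j * a * (a ^ j)⁻¹) * b0⁻¹ := by group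
    rw [this]
    have h2 : a ^ j * a * (a ^ j)⁻¹ = a := by
      rw [(Commute.zpow_left (Commute.refl a) j).eq, mul_assoc, mul_inv_cancel, mul_one]
    rw [h2, hr]
  have hbsq : ∀ j : ℤ, (b0 * a ^ j) ^ 2 = a ^ (r * j + s + j) := by
    intro j
    have : (b0 * a ^ j) ^ 2 = (b0 * a ^ j * b0⁻¹) * (b0 * b0) * a ^ j := by
      rw [sq]; group
    rw [this, hconj, ← hs, ← zpow_add, ← zpow_add]
  -- a ^ s when 2 * 2 ^ k ∣ s
  have hhalf : ∀ t : ℤ, a ^ (2 * 2 ^ k * t) = 1 ∨ a ^ (2 * 2 ^ k * t) = a ^ (2 * 2 ^ k : ℤ) := by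
    intro t
    rcases Int.even_or_odd' t with ⟨t', ht' | ht'⟩
    · left
      rw [← orderOf_dvd_iff_zpow_eq_one, hN]
      exact ⟨t', by rw [ht']; ring⟩
    · right
      apply zpow_eq_of_dvd_sub
      rw [hN]
      exact ⟨t', by rw [ht']; ring⟩
  have hnat2 : a ^ (2 * 2 ^ k : ℤ) = a ^ (2 * 2 ^ k : ℕ) := by
    rw [← zpow_natCast]; push_cast; rfl
  rcases sq_one_mod_two_pow k r hr2 with h | h | ⟨hk, h⟩ | ⟨hk, h⟩
  · exact absurd h hr1
  · -- r ≡ -1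
    have hrm : a ^ r = a⁻¹ := by
      rw [← zpow_neg_one]
      apply zpow_eq_of_dvd_sub
      rw [hN]
      have e : r - -1 = r + 1 := by ring
      rwa [e]
    -- 2 * 2^k ∣ s
    have hs2 : (2 * 2 ^ k : ℤ) ∣ s := by
      obtain ⟨c, hc⟩ := h
      obtain ⟨d, hd⟩ := hrs
      -- (r - 1) = 4*2^k*c - 2
      have e : (r - 1) * s = (4 * 2 ^ k * c - 2) * s := by rw [show r - 1 = 4 * 2 ^ k * c - 2 by linarith]
      rw [e] at hd
      refine ⟨c * s - d, ?_⟩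
      have hpos : (2 : ℤ) ≠ 0 := by norm_num
      apply mul_left_cancel₀ hpos
      linarith
    obtain ⟨t, ht⟩ := hs2
    refine ⟨b0 * a ^ (0 : ℤ), hbmem 0, hbmem' 0, ?_⟩
    rcases hhalf t with h1 | h1
    · left
      refine ⟨?_, by rw [hbconj, hrm]⟩
      rw [hbsq, mul_zero, zero_add, add_zero, ht, h1]
    · right; left
      refine ⟨?_, by rw [hbconj, hrm]⟩
      rw [hbsq, mul_zero, zero_add, add_zero, ht, h1, hnat2]
  · -- r ≡ 1 + 2 * 2^k, modular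
    have hrm : a ^ r = a ^ (1 + 2 * 2 ^ k : ℕ) := by
      rw [← zpow_natCast]
      apply zpow_eq_of_dvd_sub
      rw [hN]
      push_cast
      have e : r - (1 + 2 * 2 ^ k) = r - 1 - 2 * 2 ^ k := by ring
      rwa [e]
    obtain ⟨k', rfl⟩ : ∃ k', k = k' + 1 := ⟨k - 1, by omega⟩
    -- s even
    have hs2 : (2 : ℤ) ∣ s := by
      obtain ⟨c, hc⟩ := h
      obtain ⟨d, hd⟩ := hrs
      have e : (r - 1) * s = (4 * 2 ^ (k' + 1) * c + 2 * 2 ^ (k' + 1)) * s := by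
        rw [show r - 1 = 4 * 2 ^ (k' + 1) * c + 2 * 2 ^ (k' + 1) by linarith]
      rw [e] at hd
      -- 2 * 2^(k'+1) * s = 4 * 2^(k'+1) * (d - c s)
      have hpos : (2 * 2 ^ (k' + 1) : ℤ) ≠ 0 := by positivity
      refine ⟨d - c * s, ?_⟩
      apply mul_left_cancel₀ hpos
      linarith
    obtain ⟨u, hu⟩ := hs2
    -- j = u * (2^(k'+1) - 1)
    refine ⟨b0 * a ^ (u * (2 ^ (k' + 1) - 1) : ℤ), hbmem _, hbmem' _, ?_⟩
    right; right; left
    refine ⟨by omega, ?_, by rw [hbconj, hrm]⟩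
    rw [hbsq, ← orderOf_dvd_iff_zpow_eq_one, hN]
    obtain ⟨c, hc⟩ := h
    have hr' : r = 4 * 2 ^ (k' + 1) * c + 1 + 2 * 2 ^ (k' + 1) := by linarith
    refine ⟨c * (u * (2 ^ (k' + 1) - 1)) + u * 2 ^ k', ?_⟩
    rw [hr', hu]
    ring
  · -- r ≡ -1 + 2 * 2^k, semidihedral
    have hpow1 : 1 ≤ 2 * 2 ^ k := by
      have : 0 < 2 ^ k := by positivity
      omega
    have hrm : a ^ r = a ^ (2 * 2 ^ k - 1 : ℕ) := by
      rw [← zpow_natCast]
      apply zpow_eq_of_dvd_sub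
      rw [hN]
      rw [Nat.cast_sub hpow1]
      push_cast
      have e : r - (2 * 2 ^ k - 1) = r + 1 - 2 * 2 ^ k := by ring
      rwa [e]
    obtain ⟨k', rfl⟩ : ∃ k', k = k' + 1 := ⟨k - 1, by omega⟩
    -- 2 * 2^k ∣ s
    have hs2 : (2 * 2 ^ (k' + 1) : ℤ) ∣ s := by
      obtain ⟨c, hc⟩ := h
      obtain ⟨d, hd⟩ := hrs
      have hr' : r - 1 = 4 * 2 ^ (k' + 1) * c + 2 * 2 ^ (k' + 1) - 2 := by linarith
      rw [hr'] at hd
      -- 2 * (2^(k'+1) - 1 + 2 * 2^(k'+1) c) * s = 4 * 2^(k'+1) * d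
      -- so 2 * 2^(k'+1) ∣ (2^(k'+1) - 1 + 2 * 2^(k'+1) * c) * s with first factor odd
      have hdvd : (2 * 2 ^ (k' + 1) : ℤ) ∣ (2 ^ (k' + 1) - 1 + 2 * 2 ^ (k' + 1) * c) * s := by
        refine ⟨d, ?_⟩
        have hpos : (2 : ℤ) ≠ 0 := by norm_num
        apply mul_left_cancel₀ hpos
        linarith
      have e2 : (2 * 2 ^ (k' + 1) : ℤ) = 2 ^ (k' + 2) := by ring
      rw [e2] at hdvd ⊢
      refine Int.prime_two.pow_dvd_of_dvd_mul_left (k' + 2) ?_ hdvd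
      intro hodd
      have e3 : (2 ^ (k' + 1) - 1 + 2 ^ (k' + 2) * c : ℤ) = 2 * (2 ^ k' + 2 ^ (k' + 1) * c) - 1 := by
        ring
      rw [e3] at hodd
      generalize (2 ^ k' + 2 ^ (k' + 1) * c : ℤ) = X at hodd
      omega
    obtain ⟨t, ht⟩ := hs2
    rcases hhalf t with h1 | h1
    · refine ⟨b0 * a ^ (0 : ℤ), hbmem 0, hbmem' 0, ?_⟩
      right; right; right
      refine ⟨by omega, ?_, by rw [hbconj, hrm]⟩
      rw [hbsq, mul_zero, zero_add, add_zero, ht, h1]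
    · refine ⟨b0 * a ^ (1 : ℤ), hbmem 1, hbmem' 1, ?_⟩
      right; right; right
      refine ⟨by omega, ?_, by rw [hbconj, hrm]⟩
      rw [hbsq, mul_one, add_assoc, add_comm s 1, ← add_assoc, zpow_add, ht, h1, ← zpow_add,
        ← orderOf_dvd_iff_zpow_eq_one, hN]
      obtain ⟨c, hc⟩ := h
      refine ⟨c + 1, ?_⟩
      linarith

end Cfsg.Agent.Lib.Helper73
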