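import Mathlib
import Cfsg.Agent.Lib.Helper6.SzCh.Defs
import Cfsg.Agent.Lib.Helper78.CharOrtho
import Cfsg.Agent.Lib.Helper78.CharMore
import Cfsg.Agent.Lib.Helper78.FiniteAbelianDual
import Cfsg.Agent.Lib.Helper78.ExcGram
import Cfsg.Agent.Lib.Helper80.CharBasic
import Cfsg.Agent.Lib.Helper45.SzChGBasic
import Cfsg.Agent.Lib.Helper25.SzChBLin

/-!
# SZCH-[B-TABLE] (helper73, for helper6): the three non-linear irreducible characters of the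
Borel subgroup `B = QK` of a Suzuki group, from the orthogonality relations alone.
-/

set_option autoImplicit false
set_option linter.unusedSimpArgs false

namespace Cfsg.Agent.Lib.Helper73.SzCh

open Cfsg Cfsg.Agent.Lib.Helper6.SzCh Cfsg.Agent.Lib.Helper78
open scoped ComplexConjugate Classical

universe u

/-! ## arithmetic -/

theorem bt_not_sq (m e : ℕ) : e ^ 2 ≠ 2 ^ (2 * m + 1) := by
  intro h
  have hdvd : e ∣ 2 ^ (2 * m + 1) := by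
    rw [← h, pow_two]
    exact Dvd.intro _ rfl
  obtain ⟨k, _, hk⟩ := (Nat.dvd_prime_pow Nat.prime_two).1 hdvd
  rw [hk, ← pow_mul] at h
  have := Nat.pow_right_injective (le_refl 2) h
  omega

theorem bt_descent : ∀ (m e₁ e₂ : ℕ), 0 < e₁ → 0 < e₂ → e₁ ^ 2 + e₂ ^ 2 = 2 * (2 ^ m) ^ 2 →
    e₁ = 2 ^ m ∧ e₂ = 2 ^ m := by
  intro m
  induction m with
  | zero =>
    intro e₁ e₂ h1 h2 h
    have hb1 : e₁ ≤ 1 := by nlinarith
    have hb2 : e₂ ≤ 1 := by nlinarith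
    constructor <;> simp <;> omega
  | succ m ih =>
    intro e₁ e₂ h1 h2 h
    have h4 : (e₁ ^ 2 + e₂ ^ 2) % 4 = 0 := by
      rw [h, pow_succ 2 m]
      have : 2 * (2 ^ m * 2) ^ 2 = 4 * (2 * (2 ^ m) ^ 2) := by ring
      rw [this]
      exact Nat.mul_mod_right 4 _
    have he1 : e₁ % 2 = 0 := by
      by_contra hne
      have ho : e₁ % 2 = 1 := by omega
      have hsq1 : e₁ ^ 2 % 4 = 1 := by
        obtain ⟨k, hk⟩ : ∃ k, e₁ = 2 * k + 1 := ⟨e₁ / 2, by omega⟩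
        rw [hk]
        ring_nf
        omega
      have hsq2 : e₂ ^ 2 % 4 = 0 ∨ e₂ ^ 2 % 4 = 1 := by
        rcases Nat.even_or_odd' e₂ with ⟨k, hk | hk⟩ <;> rw [hk] <;> ring_nf <;> omega
      omega
    have he2 : e₂ % 2 = 0 := by
      by_contra hne
      have ho : e₂ % 2 = 1 := by omega
      have hsq1 : e₂ ^ 2 % 4 = 1 := by
        obtain ⟨k, hk⟩ : ∃ k, e₂ = 2 * k + 1 := ⟨e₂ / 2, by omega⟩
        rw [hk]
        ring_nf
        omega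
      have hsq2 : e₁ ^ 2 % 4 = 0 := by
        obtain ⟨k, hk⟩ : ∃ k, e₁ = 2 * k := ⟨e₁ / 2, by omega⟩
        rw [hk]
        ring_nf
        omega
      omega
    obtain ⟨f₁, hf₁⟩ : ∃ k, e₁ = 2 * k := ⟨e₁ / 2, by omega⟩
    obtain ⟨f₂, hf₂⟩ : ∃ k, e₂ = 2 * k := ⟨e₂ / 2, by omega⟩
    have hf : f₁ ^ 2 + f₂ ^ 2 = 2 * (2 ^ m) ^ 2 := by
      rw [hf₁, hf₂, pow_succ 2 m] at h
      nlinarith
    obtain ⟨r1, r2⟩ := ih f₁ f₂ (by omega) (by omega) hf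
    rw [hf₁, hf₂, r1, r2, pow_succ 2 m]
    constructor <;> ring

theorem bt_aux (m q h : ℕ) (hh : h = 2 ^ m) (hq : q = 2 ^ (2 * m + 1))
    (nx ny nz ex ey ez : ℕ) (hnx : nx ≠ 0)
    (hpx : nx * ex = 0) (hpy : ny * ey = 0) (hpz : nz * ez = 0)
    (hE : ex ^ 2 + ey ^ 2 + ez ^ 2 = q) (hA : nx ^ 2 + ny ^ 2 + nz ^ 2 = (q - 1) ^ 2) :
    nx = q - 1 ∧ ex = 0 ∧ ny = 0 ∧ ey = h ∧ nz = 0 ∧ ez = h := by
  have hex : ex = 0 := by
    rcases Nat.mul_eq_zero.1 hpx with h1 | h1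
    · exact absurd h1 hnx
    · exact h1
  rw [hex] at hE
  have hey : ey ≠ 0 := by
    intro h0
    rw [h0] at hE
    have : ez ^ 2 = 2 ^ (2 * m + 1) := by
      rw [← hq, ← hE]
      ring
    exact bt_not_sq m ez this
  have hez : ez ≠ 0 := by
    intro h0
    rw [h0] at hE
    have : ey ^ 2 = 2 ^ (2 * m + 1) := by
      rw [← hq, ← hE]
      ring
    exact bt_not_sq m ey this
  have hny : ny = 0 := by
    rcases Nat.mul_eq_zero.1 hpy with h1 | h1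
    · exact h1
    · exact absurd h1 hey
  have hnz : nz = 0 := by
    rcases Nat.mul_eq_zero.1 hpz with h1 | h1
    · exact h1
    · exact absurd h1 hez
  rw [hny, hnz] at hA
  have hnxq : nx = q - 1 := by
    have : nx ^ 2 = (q - 1) ^ 2 := by
      rw [← hA]
      ring
    exact Nat.pow_left_injective (by norm_num : 2 ≠ 0) this
  have hsum : ey ^ 2 + ez ^ 2 = 2 * (2 ^ m) ^ 2 := by
    have h2 : q = 2 * (2 ^ m) ^ 2 := by
      rw [hq]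
      ring
    rw [← h2, ← hE]
    ring
  obtain ⟨r1, r2⟩ := bt_descent m ey ez (Nat.pos_of_ne_zero hey) (Nat.pos_of_ne_zero hez) hsum
  exact ⟨hnxq, hex, hny, by rw [hh, r1], hnz, by rw [hh, r2]⟩

theorem bt_comb {ι : Type*} [DecidableEq ι] (m q h : ℕ) (hh : h = 2 ^ m) (hq : q = 2 ^ (2 * m + 1))
    (N : Finset ι) (n₀ e : ι → ℕ) (hcard : N.card = 3)
    (hE : ∑ i ∈ N, e i ^ 2 = q) (hA : ∑ i ∈ N, n₀ i ^ 2 = (q - 1) ^ 2)
    (hB : ∑ i ∈ N, n₀ i * e i = 0) :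
    ∃ φ ψ₁ ψ₂ : ι, φ ≠ ψ₁ ∧ φ ≠ ψ₂ ∧ ψ₁ ≠ ψ₂ ∧ N = {φ, ψ₁, ψ₂} ∧
      n₀ φ = q - 1 ∧ e φ = 0 ∧ n₀ ψ₁ = 0 ∧ e ψ₁ = h ∧ n₀ ψ₂ = 0 ∧ e ψ₂ = h := by
  have hq2 : 2 ≤ q := by
    rw [hq, pow_succ]
    have : 0 < 2 ^ (2 * m) := Nat.pos_of_ne_zero (by positivity)
    omega
  obtain ⟨x, y, z, hxy, hxz, hyz, rfl⟩ := Finset.card_eq_three.1 hcard
  have hyz' : y ∉ ({z} : Finset ι) := by
    rw [Finset.mem_singleton]
    exact hyz
  have hxyz : x ∉ ({y, z} : Finset ι) := by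
    rw [Finset.mem_insert, Finset.mem_singleton]
    rintro (h1 | h1)
    · exact hxy h1
    · exact hxz h1
  rw [Finset.sum_insert hxyz, Finset.sum_insert hyz', Finset.sum_singleton] at hE hA hB
  have hpx : n₀ x * e x = 0 := by omega
  have hpy : n₀ y * e y = 0 := by omega
  have hpz : n₀ z * e z = 0 := by omega
  have hne : n₀ x ≠ 0 ∨ n₀ y ≠ 0 ∨ n₀ z ≠ 0 := by
    by_contra hcon
    push Not at hcon
    obtain ⟨h1, h2, h3⟩ := hcon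
    rw [h1, h2, h3] at hA
    have : 0 < (q - 1) ^ 2 := by
      have : 0 < q - 1 := by omega
      positivity
    omega
  rcases hne with h1 | h1 | h1
  · obtain ⟨r1, r2, r3, r4, r5, r6⟩ := bt_aux m q h hh hq (n₀ x) (n₀ y) (n₀ z) (e x) (e y) (e z) h1
      hpx hpy hpz (by omega) (by omega)
    exact ⟨x, y, z, hxy, hxz, hyz, rfl, r1, r2, r3, r4, r5, r6⟩
  · obtain ⟨r1, r2, r3, r4, r5, r6⟩ := bt_aux m q h hh hq (n₀ y) (n₀ x) (n₀ z) (e y) (e x) (e z) h1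
      hpy hpx hpz (by omega) (by omega)
    refine ⟨y, x, z, fun h => hxy h.symm, hyz, hxz, ?_, r1, r2, r3, r4, r5, r6⟩
    exact Finset.insert_comm x y {z}
  · obtain ⟨r1, r2, r3, r4, r5, r6⟩ := bt_aux m q h hh hq (n₀ z) (n₀ x) (n₀ y) (e z) (e x) (e y) h1
      hpz hpx hpy (by omega) (by omega)
    refine ⟨z, x, y, fun h => hxz h.symm, fun h => hyz h.symm, hxy, ?_, r1, r2, r3, r4, r5, r6⟩
    ext i
    simp only [Finset.mem_insert, Finset.mem_singleton]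
    tauto

/-! ## counting in `B` -/

section Count

open Cfsg.Agent.Lib.Helper45.SzCh Cfsg.Agent.Lib.Helper25.SzCh

variable {G : Type u} [Group G]

theorem bt_card_filter_mem (H : Subgroup G) [Fintype ↥H] (T : Set G) (hT : T ⊆ (H : Set G))
    [DecidablePred fun b : ↥H => (b : G) ∈ T] :
    (Finset.univ.filter (fun b : ↥H => (b : G) ∈ T)).card = T.ncard := by
  rw [← Nat.card_coe_set_eq, ← Fintype.card_subtype, ← Nat.card_eq_fintype_card]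
  exact Nat.card_congr
    { toFun := fun b => ⟨(b.1 : G), b.2⟩
      invFun := fun x => ⟨⟨x.1, hT x.2⟩, x.2⟩
      left_inv := fun b => rfl
      right_inv := fun x => rfl }

/-- a `B`-conjugate of an element of `Q \ Z` lies in `Q \ Z` -/
theorem bt_conj_QZ (D : SzData G) {x b : ↥D.B} (hx : (x : G) ∈ D.Q) (hxZ : (x : G) ∉ D.Z)
    (h : IsConj x b) : (b : G) ∈ D.Q ∧ (b : G) ∉ D.Z := by
  obtain ⟨c, hc⟩ := isConj_iff.1 h
  have hmem : (b : G) ∈ {y : G | ∃ b ∈ D.B, b * (x : G) * b⁻¹ = y} := by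
    refine ⟨(c : G), c.2, ?_⟩
    rw [← hc]
    rfl
  exact conjClass_subset D hx hxZ hmem

theorem bt_val_Z [Finite G] (D : SzData G) {f : ↥D.B → ℂ} (hf : IsClassFunction ↥D.B f)
    {t₀ t : ↥D.B} (ht₀ : (t₀ : G) ∈ D.Z) (ht₀1 : t₀ ≠ 1) (ht : (t : G) ∈ D.Z) (ht1 : t ≠ 1) :
    f t = f t₀ := by
  have h1 : (t₀ : G) ≠ 1 := fun h => ht₀1 (Subtype.ext h)
  have h2 : (t : G) ≠ 1 := fun h => ht1 (Subtype.ext h)
  obtain ⟨k, hk, hkt⟩ := exists_K_conj_Z D ht₀ h1 ht h2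
  have : t = (⟨k, D.K_le hk⟩ : ↥D.B) * t₀ * (⟨k, D.K_le hk⟩ : ↥D.B)⁻¹ := Subtype.ext hkt.symm
  rw [this, hf]

theorem bt_val_QZ [Finite G] (D : SzData G) {f : ↥D.B → ℂ} (hf : IsClassFunction ↥D.B f)
    {x₀ y : ↥D.B} (hx₀ : (x₀ : G) ∈ D.Q) (hx₀Z : (x₀ : G) ∉ D.Z) (hy : (y : G) ∈ D.Q)
    (hyZ : (y : G) ∉ D.Z) : (IsConj x₀ y ∧ f y = f x₀) ∨ (¬ IsConj x₀ y ∧ f y = f x₀⁻¹) := by
  by_cases hc : IsConj x₀ y
  · left
    refine ⟨hc, ?_⟩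
    obtain ⟨c, hc'⟩ := isConj_iff.1 hc
    rw [← hc', hf]
  · right
    refine ⟨hc, ?_⟩
    obtain ⟨b, hb, h | h⟩ := exists_B_conj_QZ D hx₀ hx₀Z hy hyZ
    · exfalso
      apply hc
      rw [isConj_iff]
      exact ⟨⟨b, hb⟩, Subtype.ext h⟩
    · have : y = (⟨b, hb⟩ : ↥D.B) * x₀⁻¹ * (⟨b, hb⟩ : ↥D.B)⁻¹ := by
        apply Subtype.ext
        show (y : G) = b * (x₀ : G)⁻¹ * b⁻¹
        have h2 : (y : G)⁻¹ = b * (x₀ : G) * b⁻¹ := h.symm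
        have h3 : (y : G) = (b * (x₀ : G) * b⁻¹)⁻¹ := by rw [← h2, inv_inv]
        rw [h3]
        group
      rw [this, hf]

theorem bt_card_SZ [Finite G] (D : SzData G) [Fintype ↥D.B] :
    (Finset.univ.filter (fun b : ↥D.B => (b : G) ∈ D.Z ∧ b ≠ 1)).card = D.q - 1 := by
  rw [← ncard_Z_diff D, ← bt_card_filter_mem D.B ((D.Z : Set G) \ {1})
    (fun x hx => Q_le_B D (Z_le_Q D hx.1))]
  congr 1
  ext b
  simp only [Finset.mem_filter, Finset.mem_univ, true_and, Set.mem_sdiff, SetLike.mem_coe,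
    Set.mem_singleton_iff]
  constructor
  · rintro ⟨h1, h2⟩
    exact ⟨h1, fun h => h2 (Subtype.ext h)⟩
  · rintro ⟨h1, h2⟩
    exact ⟨h1, fun h => h2 (congrArg Subtype.val h)⟩

theorem bt_card_SC [Finite G] (D : SzData G) [Fintype ↥D.B] (x₀ : ↥D.B) (hx₀ : (x₀ : G) ∈ D.Q)
    (hx₀Z : (x₀ : G) ∉ D.Z) :
    2 * (Finset.univ.filter (fun b : ↥D.B => IsConj x₀ b)).card = D.q * (D.q - 1) := by
  have hidx : (Finset.univ.filter (fun b : ↥D.B => IsConj x₀ b)).card =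
      (Subgroup.centralizer ({x₀} : Set ↥D.B)).index := by
    convert card_isConj_eq_index x₀
  rw [hidx]
  have h1 := (Subgroup.centralizer ({x₀} : Set ↥D.B)).card_mul_index
  rw [card_centralizer_B_QZ D x₀ hx₀ hx₀Z, card_B D] at h1
  have hq := q_pos D
  have h2 : D.q * (2 * (Subgroup.centralizer ({x₀} : Set ↥D.B)).index) =
      D.q * (D.q * (D.q - 1)) := by
    have : D.q * (D.q * (D.q - 1)) = D.q ^ 2 * (D.q - 1) := by ring
    rw [this, ← h1]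
    ring
  exact Nat.eq_of_mul_eq_mul_left hq h2

theorem bt_card_SC' [Finite G] (D : SzData G) [Fintype ↥D.B] (x₀ : ↥D.B) (hx₀ : (x₀ : G) ∈ D.Q)
    (hx₀Z : (x₀ : G) ∉ D.Z) :
    2 * (Finset.univ.filter (fun b : ↥D.B => (b : G) ∈ D.Q ∧ (b : G) ∉ D.Z ∧
      ¬ IsConj x₀ b)).card = D.q * (D.q - 1) := by
  have hQZ : (Finset.univ.filter (fun b : ↥D.B => (b : G) ∈ (D.Q : Set G) \ (D.Z : Set G))).card
      = D.q * (D.q - 1) := by
    rw [bt_card_filter_mem D.B _ (fun x hx => Q_le_B D hx.1), ncard_Q_diff_Z D]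
  have hsplit := Finset.card_filter_add_card_filter_not
    (s := Finset.univ.filter (fun b : ↥D.B => (b : G) ∈ (D.Q : Set G) \ (D.Z : Set G)))
    (fun b : ↥D.B => IsConj x₀ b)
  rw [Finset.filter_filter, Finset.filter_filter, hQZ] at hsplit
  have h1 : Finset.univ.filter (fun b : ↥D.B => (b : G) ∈ (D.Q : Set G) \ (D.Z : Set G) ∧
      IsConj x₀ b) = Finset.univ.filter (fun b : ↥D.B => IsConj x₀ b) := by
    ext b
    simp only [Finset.mem_filter, Finset.mem_univ, true_and, Set.mem_sdiff, SetLike.mem_coe]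
    constructor
    · rintro ⟨_, h⟩
      exact h
    · intro h
      exact ⟨bt_conj_QZ D hx₀ hx₀Z h, h⟩
  have h2 : Finset.univ.filter (fun b : ↥D.B => (b : G) ∈ (D.Q : Set G) \ (D.Z : Set G) ∧
      ¬ IsConj x₀ b) = Finset.univ.filter (fun b : ↥D.B => (b : G) ∈ D.Q ∧ (b : G) ∉ D.Z ∧
      ¬ IsConj x₀ b) := by
    ext b
    simp only [Finset.mem_filter, Finset.mem_univ, true_and, Set.mem_sdiff, SetLike.mem_coe,
      and_assoc]
  rw [h1, h2] at hsplit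
  have h3 := bt_card_SC D x₀ hx₀ hx₀Z
  omega

/-- the sum over `B` of a class function vanishing off `Q` -/
theorem bt_sum_formula [Finite G] (D : SzData G) [Fintype ↥D.B] (t₀ x₀ : ↥D.B)
    (ht₀ : (t₀ : G) ∈ D.Z) (ht₀1 : t₀ ≠ 1) (hx₀ : (x₀ : G) ∈ D.Q) (hx₀Z : (x₀ : G) ∉ D.Z)
    (f : ↥D.B → ℂ) (hf : IsClassFunction ↥D.B f) (hoff : ∀ b : ↥D.B, (b : G) ∉ D.Q → f b = 0) :
    2 * ∑ b : ↥D.B, f b = 2 * f 1 + 2 * ((D.q : ℂ) - 1) * f t₀ +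
      (D.q : ℂ) * ((D.q : ℂ) - 1) * (f x₀ + f x₀⁻¹) := by
  have hx₀1 : x₀ ≠ 1 := by
    intro h
    apply hx₀Z
    rw [h]
    exact D.Z.one_mem
  have hpt : ∀ b : ↥D.B, f b = (if b = 1 then f 1 else 0) +
      (if (b : G) ∈ D.Z ∧ b ≠ 1 then f t₀ else 0) + (if IsConj x₀ b then f x₀ else 0) +
      (if (b : G) ∈ D.Q ∧ (b : G) ∉ D.Z ∧ ¬ IsConj x₀ b then f x₀⁻¹ else 0) := by
    intro b
    by_cases hb1 : b = 1
    · have hnc : ¬ IsConj x₀ b := by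
        intro h
        apply (bt_conj_QZ D hx₀ hx₀Z h).2
        rw [hb1]
        exact D.Z.one_mem
      have h4 : ¬ ((b : G) ∈ D.Q ∧ (b : G) ∉ D.Z ∧ ¬ IsConj x₀ b) := by
        rintro ⟨_, h, _⟩
        apply h
        rw [hb1]
        exact D.Z.one_mem
      rw [if_pos hb1, if_neg (fun h => h.2 hb1), if_neg hnc, if_neg h4, hb1]
      ring
    · by_cases hbZ : (b : G) ∈ D.Z
      · have hnc : ¬ IsConj x₀ b := fun h => (bt_conj_QZ D hx₀ hx₀Z h).2 hbZ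
        have h4 : ¬ ((b : G) ∈ D.Q ∧ (b : G) ∉ D.Z ∧ ¬ IsConj x₀ b) := fun h => h.2.1 hbZ
        rw [if_neg hb1, if_pos ⟨hbZ, hb1⟩, if_neg hnc, if_neg h4,
          bt_val_Z D hf ht₀ ht₀1 hbZ hb1]
        ring
      · by_cases hbQ : (b : G) ∈ D.Q
        · rcases bt_val_QZ D hf hx₀ hx₀Z hbQ hbZ with ⟨hc, hv⟩ | ⟨hc, hv⟩
          · rw [if_neg hb1, if_neg (fun h => hbZ h.1), if_pos hc, if_neg (fun h => h.2.2 hc), hv]
            ring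
          · rw [if_neg hb1, if_neg (fun h => hbZ h.1), if_neg hc, if_pos ⟨hbQ, hbZ, hc⟩, hv]
            ring
        · have hnc : ¬ IsConj x₀ b := fun h => hbQ (bt_conj_QZ D hx₀ hx₀Z h).1
          rw [if_neg hb1, if_neg (fun h => hbZ h.1), if_neg hnc, if_neg (fun h => hbQ h.1),
            hoff b hbQ]
          ring
  rw [Finset.sum_congr rfl (fun b _ => hpt b), Finset.sum_add_distrib, Finset.sum_add_distrib,
    Finset.sum_add_distrib, Finset.sum_ite_eq' Finset.univ (1 : ↥D.B), if_pos (Finset.mem_univ _),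
    ← Finset.sum_filter, ← Finset.sum_filter, ← Finset.sum_filter, Finset.sum_const,
    Finset.sum_const, Finset.sum_const, bt_card_SZ D, nsmul_eq_mul, nsmul_eq_mul, nsmul_eq_mul]
  have h1 := bt_card_SC D x₀ hx₀ hx₀Z
  have h2 := bt_card_SC' D x₀ hx₀ hx₀Z
  have h1' : (2 : ℂ) * ((Finset.univ.filter (fun b : ↥D.B => IsConj x₀ b)).card : ℂ) =
      (D.q : ℂ) * ((D.q : ℂ) - 1) := by
    have hq := q_pos D
    have : ((2 * (Finset.univ.filter (fun b : ↥D.B => IsConj x₀ b)).card : ℕ) : ℂ) =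
        ((D.q * (D.q - 1) : ℕ) : ℂ) := by rw [h1]
    rw [Nat.cast_mul, Nat.cast_mul, Nat.cast_sub hq] at this
    simpa using this
  have h2' : (2 : ℂ) * ((Finset.univ.filter (fun b : ↥D.B => (b : G) ∈ D.Q ∧ (b : G) ∉ D.Z ∧
      ¬ IsConj x₀ b)).card : ℂ) = (D.q : ℂ) * ((D.q : ℂ) - 1) := by
    have hq := q_pos D
    have : ((2 * (Finset.univ.filter (fun b : ↥D.B => (b : G) ∈ D.Q ∧ (b : G) ∉ D.Z ∧
      ¬ IsConj x₀ b)).card : ℕ) : ℂ) = ((D.q * (D.q - 1) : ℕ) : ℂ) := by rw [h2]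
    rw [Nat.cast_mul, Nat.cast_mul, Nat.cast_sub hq] at this
    simpa using this
  have h3 : ((D.q - 1 : ℕ) : ℂ) = (D.q : ℂ) - 1 := by
    rw [Nat.cast_sub (q_pos D)]
    simp
  rw [h3]
  linear_combination (f x₀) * h1' + (f x₀⁻¹) * h2'

/-- restriction to `Z`: the integers `n₀ = ⟨ξ|_Z, 1⟩` and `e = ⟨ξ|_Z, ζ⟩` -/
theorem bt_exists_n0_e [Finite G] (D : SzData G) [Fintype ↥D.B] (t₀ : ↥D.B)
    (ht₀ : (t₀ : G) ∈ D.Z) (ht₀1 : t₀ ≠ 1) {ξ : ↥D.B → ℂ} (hξ : IsCharacter ↥D.B ξ) :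
    ∃ n₀ e : ℕ, ξ 1 = (n₀ : ℂ) + (e : ℂ) * ((D.q : ℂ) - 1) ∧ ξ t₀ = (n₀ : ℂ) - (e : ℂ) := by
  obtain ⟨ZB, hZB⟩ : ∃ ZB : Subgroup ↥D.B, ZB = D.Z.subgroupOf D.B := ⟨_, rfl⟩
  have hmemZB : ∀ z : ↥D.B, z ∈ ZB ↔ (z : G) ∈ D.Z := by
    intro z
    rw [hZB, Subgroup.mem_subgroupOf]
  have hcomm : ∀ a b : ↥ZB, a * b = b * a := by
    intro a b
    have ha : ((a : ↥D.B) : G) ∈ D.Z := (hmemZB _).1 a.2
    have hb : ((b : ↥D.B) : G) ∈ D.Z := (hmemZB _).1 b.2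
    have ha' : ((a : ↥D.B) : G) ∈ Subgroup.centralizer (D.Q : Set G) := ha.2
    have hb' : ((b : ↥D.B) : G) ∈ D.Q := hb.1
    have := (Subgroup.mem_centralizer_iff.1 ha') _ hb'
    apply Subtype.ext
    apply Subtype.ext
    exact this.symm
  have hab : IsMulCommutative ↥ZB := ⟨⟨hcomm⟩⟩
  let instCG : CommGroup ↥ZB := IsMulCommutative.instCommGroup
  have hfinD : Fintype (↥ZB →* ℂˣ) := Fintype.ofFinite _
  have hcardZB : Fintype.card ↥ZB = D.q := by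
    rw [← Nat.card_eq_fintype_card, hZB, ← card_Z' D]
    exact Nat.card_congr (Subgroup.subgroupOfEquivOfLe
      (fun x hx => Q_le_B D (Z_le_Q D hx))).toEquiv
  have hq8 : 2 ≤ D.q := by
    show 2 ≤ qOf D.m
    unfold qOf
    rw [pow_succ]
    have : 0 < 2 ^ (2 * D.m) := Nat.pos_of_ne_zero (by positivity)
    omega
  have hqC : (D.q : ℂ) ≠ 0 := by
    have : D.q ≠ 0 := by omega
    exact_mod_cast this
  -- the restricted character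
  have hres : IsCharacter ↥ZB (fun z : ↥ZB => ξ (z : ↥D.B)) :=
    Cfsg.Agent.Lib.Helper80.isCharacter_restrict ZB hξ
  have hcf : IsClassFunction ↥D.B ξ := IsCharacter.isClassFunction hξ
  have hval : ∀ z : ↥ZB, z ≠ 1 → ξ (z : ↥D.B) = ξ t₀ := by
    intro z hz
    exact bt_val_Z D hcf ht₀ ht₀1 ((hmemZB _).1 z.2) (fun h => hz (Subtype.ext h))
  -- a nonprincipal character of `ZB`
  obtain ⟨ζ, hζ⟩ : ∃ ζ : ↥ZB →* ℂˣ, ζ ≠ 1 := by
    apply Fintype.exists_ne_of_one_lt_card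
    rw [dual_card, hcardZB]
    omega
  have hsplit : ∀ c : ↥ZB → ℂ, ∑ z : ↥ZB, ξ (z : ↥D.B) * conj (c z) =
      ξ 1 * conj (c 1) + ξ t₀ * ∑ z ∈ Finset.univ.erase (1 : ↥ZB), conj (c z) := by
    intro c
    rw [← Finset.add_sum_erase Finset.univ _ (Finset.mem_univ (1 : ↥ZB)), Finset.mul_sum]
    congr 1
    apply Finset.sum_congr rfl
    intro z hz
    rw [hval z (Finset.ne_of_mem_erase hz)]
  have hcardC : (Nat.card ↥ZB : ℂ) = (D.q : ℂ) := by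
    rw [Nat.card_eq_fintype_card, hcardZB]
  obtain ⟨n₀, hn₀⟩ := IsCharacter.exists_nat_classInner hres
    ⟨fun _ => 1, Cfsg.Agent.Lib.Helper78.isIrrCharacter_one⟩
  obtain ⟨e, he⟩ := IsCharacter.exists_nat_classInner hres
    ⟨fun z => ((ζ z : ℂˣ) : ℂ), Cfsg.Agent.Lib.Helper80.isIrrCharacter_of_hom ζ⟩
  unfold classInner at hn₀ he
  rw [hcardC] at hn₀ he
  simp only at hn₀ he
  rw [hsplit (fun _ => 1)] at hn₀
  rw [hsplit (fun z => ((ζ z : ℂˣ) : ℂ))] at he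
  have hs1 : ∑ z ∈ Finset.univ.erase (1 : ↥ZB), conj (1 : ℂ) = (D.q : ℂ) - 1 := by
    rw [map_one, Finset.sum_const, Finset.card_erase_of_mem (Finset.mem_univ _),
      Finset.card_univ, hcardZB, nsmul_eq_mul, mul_one, Nat.cast_sub (by omega)]
    simp
  have hs2 : ∑ z ∈ Finset.univ.erase (1 : ↥ZB), conj (((ζ z : ℂˣ) : ℂ)) = -1 := by
    rw [Finset.sum_erase_eq_sub (Finset.mem_univ _), ← map_sum, sum_dual_apply_eq_zero hζ]
    simp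
  rw [hs1] at hn₀
  rw [hs2] at he
  simp only [map_one, Units.val_one, mul_one] at hn₀ he
  refine ⟨n₀, e, ?_, ?_⟩
  · have h1 : ξ 1 + ξ t₀ * ((D.q : ℂ) - 1) = (D.q : ℂ) * (n₀ : ℂ) := by
      rw [← hn₀]
      field_simp
    have h2 : ξ 1 + ξ t₀ * (-1) = (D.q : ℂ) * (e : ℂ) := by
      rw [← he]
      field_simp
    have h3 : (D.q : ℂ) * (ξ 1 - ((n₀ : ℂ) + (e : ℂ) * ((D.q : ℂ) - 1))) = 0 := by
      linear_combination h1 + ((D.q : ℂ) - 1) * h2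
    rcases mul_eq_zero.1 h3 with h | h
    · exact absurd h hqC
    · exact sub_eq_zero.1 h
  · have h1 : ξ 1 + ξ t₀ * ((D.q : ℂ) - 1) = (D.q : ℂ) * (n₀ : ℂ) := by
      rw [← hn₀]
      field_simp
    have h2 : ξ 1 + ξ t₀ * (-1) = (D.q : ℂ) * (e : ℂ) := by
      rw [← he]
      field_simp
    have h3 : (D.q : ℂ) * (ξ t₀ - ((n₀ : ℂ) - (e : ℂ))) = 0 := by
      linear_combination h1 - h2
    rcases mul_eq_zero.1 h3 with h | h
    · exact absurd h hqC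
    · exact sub_eq_zero.1 h

theorem bt_card_L [Finite G] (D : SzData G) [Fintype ↥D.B] :
    (Finset.univ.filter (fun ξ : IrrCharacter ↥D.B => IsLinQ D ξ.1)).card = D.q - 1 := by
  rw [← card_isLinQ D, ← Fintype.card_subtype, ← Nat.card_eq_fintype_card]
  exact Nat.card_congr
    { toFun := fun ξ => ⟨ξ.1.1, ξ.2⟩
      invFun := fun lam => ⟨⟨lam.1, lam.2.1⟩, lam.2⟩
      left_inv := fun ξ => rfl
      right_inv := fun lam => rfl }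

theorem bt_qsub (D : SzData G) : ((D.q - 1 : ℕ) : ℂ) = (D.q : ℂ) - 1 := by
  rw [Nat.cast_sub (q_pos D)]
  simp

/-- column orthogonality restricted to the characters that are not `IsLinQ`, at elements of `Q` -/
theorem bt_col [Finite G] (D : SzData G) [Fintype ↥D.B] (g h : ↥D.B) (hg : (g : G) ∈ D.Q)
    (hh : (h : G) ∈ D.Q) :
    ∑ ξ ∈ Finset.univ.filter (fun ξ : IrrCharacter ↥D.B => ¬ IsLinQ D ξ.1),
      (ξ : ↥D.B → ℂ) g * conj ((ξ : ↥D.B → ℂ) h) =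
    ∑ ξ : IrrCharacter ↥D.B, (ξ : ↥D.B → ℂ) g * conj ((ξ : ↥D.B → ℂ) h) - ((D.q : ℂ) - 1) := by
  rw [← Finset.sum_filter_add_sum_filter_not Finset.univ
    (fun ξ : IrrCharacter ↥D.B => IsLinQ D ξ.1)]
  have hL : ∑ ξ ∈ Finset.univ.filter (fun ξ : IrrCharacter ↥D.B => IsLinQ D ξ.1),
      (ξ : ↥D.B → ℂ) g * conj ((ξ : ↥D.B → ℂ) h) = (D.q : ℂ) - 1 := by
    have h1 : ∀ ξ ∈ Finset.univ.filter (fun ξ : IrrCharacter ↥D.B => IsLinQ D ξ.1),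
        (ξ : ↥D.B → ℂ) g * conj ((ξ : ↥D.B → ℂ) h) = 1 := by
      intro ξ hξ
      have hl : IsLinQ D ξ.1 := (Finset.mem_filter.1 hξ).2
      rw [hl.2 g hg, hl.2 h hh, map_one, mul_one]
    rw [Finset.sum_congr rfl h1, Finset.sum_const, bt_card_L D, nsmul_eq_mul, mul_one, bt_qsub D]
  rw [hL]
  ring

/-- the characters that are not `IsLinQ` vanish off `Q` -/
theorem bt_off [Finite G] (D : SzData G) [Fintype ↥D.B] (ξ : IrrCharacter ↥D.B)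
    (hξ : ¬ IsLinQ D ξ.1) (b : ↥D.B) (hb : (b : G) ∉ D.Q) : (ξ : ↥D.B → ℂ) b = 0 := by
  have hall := second_orthogonality_of_isConj (IsConj.refl b)
  rw [card_centralizer_B_off D b hb, bt_qsub D,
    ← Finset.sum_filter_add_sum_filter_not Finset.univ
      (fun ξ : IrrCharacter ↥D.B => IsLinQ D ξ.1)] at hall
  have hL : ∑ ξ ∈ Finset.univ.filter (fun ξ : IrrCharacter ↥D.B => IsLinQ D ξ.1),
      (ξ : ↥D.B → ℂ) b * conj ((ξ : ↥D.B → ℂ) b) = (D.q : ℂ) - 1 := by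
    have h1 : ∀ ξ ∈ Finset.univ.filter (fun ξ : IrrCharacter ↥D.B => IsLinQ D ξ.1),
        (ξ : ↥D.B → ℂ) b * conj ((ξ : ↥D.B → ℂ) b) = 1 := by
      intro ξ hξ
      exact isLinQ_mul_conj D (Finset.mem_filter.1 hξ).2 b
    rw [Finset.sum_congr rfl h1, Finset.sum_const, bt_card_L D, nsmul_eq_mul, mul_one, bt_qsub D]
  rw [hL] at hall
  have hN : ∑ ξ ∈ Finset.univ.filter (fun ξ : IrrCharacter ↥D.B => ¬ IsLinQ D ξ.1),
      (ξ : ↥D.B → ℂ) b * conj ((ξ : ↥D.B → ℂ) b) = 0 := by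
    linear_combination hall
  have hN' : ∑ ξ ∈ Finset.univ.filter (fun ξ : IrrCharacter ↥D.B => ¬ IsLinQ D ξ.1),
      Complex.normSq ((ξ : ↥D.B → ℂ) b) = 0 := by
    have h2 : ∀ ξ ∈ Finset.univ.filter (fun ξ : IrrCharacter ↥D.B => ¬ IsLinQ D ξ.1),
        (ξ : ↥D.B → ℂ) b * conj ((ξ : ↥D.B → ℂ) b) =
          ((Complex.normSq ((ξ : ↥D.B → ℂ) b) : ℝ) : ℂ) := fun ξ _ => Complex.mul_conj _
    rw [Finset.sum_congr rfl h2, ← Complex.ofReal_sum] at hN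
    exact_mod_cast hN
  have h3 := (Finset.sum_eq_zero_iff_of_nonneg (fun ξ _ => Complex.normSq_nonneg _)).1 hN' ξ
    (Finset.mem_filter.2 ⟨Finset.mem_univ _, hξ⟩)
  exact Complex.normSq_eq_zero.1 h3

/-- row orthogonality for a character that is not `IsLinQ` -/
theorem bt_rows [Finite G] (D : SzData G) [Fintype ↥D.B] (t₀ x₀ : ↥D.B)
    (ht₀ : (t₀ : G) ∈ D.Z) (ht₀1 : t₀ ≠ 1) (hx₀ : (x₀ : G) ∈ D.Q) (hx₀Z : (x₀ : G) ∉ D.Z)
    (ξ : IrrCharacter ↥D.B) (hξ : ¬ IsLinQ D ξ.1) (n₀ e : ℕ)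
    (h1 : (ξ : ↥D.B → ℂ) 1 = (n₀ : ℂ) + (e : ℂ) * ((D.q : ℂ) - 1))
    (hτ : (ξ : ↥D.B → ℂ) t₀ = (n₀ : ℂ) - (e : ℂ)) :
    ((D.q : ℂ) - 1) * ((ξ : ↥D.B → ℂ) x₀ + conj ((ξ : ↥D.B → ℂ) x₀)) = -2 * (n₀ : ℂ) ∧
    (n₀ : ℂ) ^ 2 + ((D.q : ℂ) - 1) * (e : ℂ) ^ 2 +
      ((D.q : ℂ) - 1) * ((ξ : ↥D.B → ℂ) x₀ * conj ((ξ : ↥D.B → ℂ) x₀)) =
        (D.q : ℂ) * ((D.q : ℂ) - 1) := by
  have hqC : (D.q : ℂ) ≠ 0 := by
    have := q_pos D
    have h : D.q ≠ 0 := by omega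
    exact_mod_cast h
  have hchar : IsCharacter ↥D.B ξ.1 := IsIrrCharacter.isCharacter ξ.2
  have hcf : IsClassFunction ↥D.B ξ.1 := IsCharacter.isClassFunction hchar
  have hinv : (ξ : ↥D.B → ℂ) x₀⁻¹ = conj ((ξ : ↥D.B → ℂ) x₀) := IsCharacter.inv hchar x₀
  have hcardB : (Nat.card ↥D.B : ℂ) = (D.q : ℂ) ^ 2 * ((D.q : ℂ) - 1) := by
    rw [card_B D, Nat.cast_mul, Nat.cast_pow, bt_qsub D]
  have hcardB0 : (Nat.card ↥D.B : ℂ) ≠ 0 := by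
    have : Nat.card ↥D.B ≠ 0 := Nat.card_pos.ne'
    exact_mod_cast this
  constructor
  · have hne : (ξ : ↥D.B → ℂ) ≠ fun _ => 1 := by
      intro h
      apply hξ
      rw [h]
      exact isLinQ_one D
    have h0 := classInner_irr_ne ξ.2 Cfsg.Agent.Lib.Helper78.isIrrCharacter_one hne
    unfold classInner at h0
    have hsum : ∑ b : ↥D.B, (ξ : ↥D.B → ℂ) b = 0 := by
      rcases mul_eq_zero.1 h0 with h | h
      · exact absurd (inv_eq_zero.1 h) hcardB0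
      · simpa using h
    have hf := bt_sum_formula D t₀ x₀ ht₀ ht₀1 hx₀ hx₀Z ξ.1 hcf (bt_off D ξ hξ)
    rw [hsum, h1, hτ, hinv] at hf
    have h3 : (D.q : ℂ) * (((D.q : ℂ) - 1) * ((ξ : ↥D.B → ℂ) x₀ + conj ((ξ : ↥D.B → ℂ) x₀)) +
        2 * (n₀ : ℂ)) = 0 := by
      linear_combination -hf
    rcases mul_eq_zero.1 h3 with h | h
    · exact absurd h hqC
    · linear_combination h
  · have h0 := classInner_irr_self ξ.2
    unfold classInner at h0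
    have hsum : ∑ b : ↥D.B, (ξ : ↥D.B → ℂ) b * conj ((ξ : ↥D.B → ℂ) b) =
        (D.q : ℂ) ^ 2 * ((D.q : ℂ) - 1) := by
      rw [← hcardB]
      field_simp at h0
      exact h0
    have hcf2 : IsClassFunction ↥D.B (fun b => (ξ : ↥D.B → ℂ) b * conj ((ξ : ↥D.B → ℂ) b)) := by
      intro g h
      show (ξ : ↥D.B → ℂ) (h * g * h⁻¹) * conj ((ξ : ↥D.B → ℂ) (h * g * h⁻¹)) = _
      rw [hcf g h]
    have hoff2 : ∀ b : ↥D.B, (b : G) ∉ D.Q →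
        (fun b => (ξ : ↥D.B → ℂ) b * conj ((ξ : ↥D.B → ℂ) b)) b = 0 := by
      intro b hb
      show (ξ : ↥D.B → ℂ) b * conj ((ξ : ↥D.B → ℂ) b) = 0
      rw [bt_off D ξ hξ b hb, zero_mul]
    have hf := bt_sum_formula D t₀ x₀ ht₀ ht₀1 hx₀ hx₀Z _ hcf2 hoff2
    rw [hsum, h1, hτ, hinv] at hf
    simp only [map_add, map_sub, map_mul, map_natCast, map_one, Complex.conj_conj] at hf
    have h3 : (2 * (D.q : ℂ)) * ((n₀ : ℂ) ^ 2 + ((D.q : ℂ) - 1) * (e : ℂ) ^ 2 +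
      ((D.q : ℂ) - 1) * ((ξ : ↥D.B → ℂ) x₀ * conj ((ξ : ↥D.B → ℂ) x₀)) -
        (D.q : ℂ) * ((D.q : ℂ) - 1)) = 0 := by
      linear_combination -hf
    rcases mul_eq_zero.1 h3 with h | h
    · exfalso
      rcases mul_eq_zero.1 h with h' | h'
      · norm_num at h'
      · exact hqC h'
    · exact sub_eq_zero.1 h

theorem bt_bilin {ι : Type*} (N : Finset ι) (a b : ι → ℂ) (c₁ c₂ c₃ c₄ : ℂ) :
    ∑ i ∈ N, (c₁ * a i + c₂ * b i) * (c₃ * a i + c₄ * b i) =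
      c₁ * c₃ * ∑ i ∈ N, a i ^ 2 + (c₁ * c₄ + c₂ * c₃) * ∑ i ∈ N, a i * b i +
        c₂ * c₄ * ∑ i ∈ N, b i ^ 2 := by
  rw [Finset.mul_sum, Finset.mul_sum, Finset.mul_sum, ← Finset.sum_add_distrib,
    ← Finset.sum_add_distrib]
  apply Finset.sum_congr rfl
  intro i _
  ring

theorem bt_exists_t0 [Finite G] (D : SzData G) : ∃ t : G, t ∈ D.Z ∧ t ≠ 1 := by
  by_contra hcon
  push Not at hcon
  have hbot : D.Z = ⊥ := by
    rw [Subgroup.eq_bot_iff_forall]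
    exact hcon
  have h1 := card_Z' D
  rw [hbot, Subgroup.card_bot] at h1
  have h2 : 2 ≤ D.q := by
    show 2 ≤ qOf D.m
    unfold qOf
    rw [pow_succ]
    have : 0 < 2 ^ (2 * D.m) := Nat.pos_of_ne_zero (by positivity)
    omega
  omega

theorem bt_exists_x0 [Finite G] (D : SzData G) : ∃ x : G, x ∈ D.Q ∧ x ∉ D.Z := by
  by_contra hcon
  push Not at hcon
  have hle : D.Q ≤ D.Z := hcon
  have h1 := Subgroup.card_le_of_le hle
  rw [card_Z' D, card_Q' D] at h1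
  have h2 : 2 ≤ D.q := by
    show 2 ≤ qOf D.m
    unfold qOf
    rw [pow_succ]
    have : 0 < 2 ^ (2 * D.m) := Nat.pos_of_ne_zero (by positivity)
    omega
  nlinarith

theorem bt_sums [Finite G] (D : SzData G) [Fintype ↥D.B] (t₀ x₀ : ↥D.B)
    (ht₀ : (t₀ : G) ∈ D.Z) (ht₀1 : t₀ ≠ 1) (hx₀ : (x₀ : G) ∈ D.Q) (hx₀Z : (x₀ : G) ∉ D.Z)
    (n₀ e : IrrCharacter ↥D.B → ℕ)
    (h1 : ∀ ξ : IrrCharacter ↥D.B,
      (ξ : ↥D.B → ℂ) 1 = (n₀ ξ : ℂ) + (e ξ : ℂ) * ((D.q : ℂ) - 1))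
    (hτ : ∀ ξ : IrrCharacter ↥D.B, (ξ : ↥D.B → ℂ) t₀ = (n₀ ξ : ℂ) - (e ξ : ℂ)) :
    ∑ ξ ∈ Finset.univ.filter (fun ξ : IrrCharacter ↥D.B => ¬ IsLinQ D ξ.1), e ξ ^ 2 = D.q ∧
    ∑ ξ ∈ Finset.univ.filter (fun ξ : IrrCharacter ↥D.B => ¬ IsLinQ D ξ.1), n₀ ξ ^ 2 =
      (D.q - 1) ^ 2 ∧
    ∑ ξ ∈ Finset.univ.filter (fun ξ : IrrCharacter ↥D.B => ¬ IsLinQ D ξ.1), n₀ ξ * e ξ = 0 ∧
    (Finset.univ.filter (fun ξ : IrrCharacter ↥D.B => ¬ IsLinQ D ξ.1)).card = 3 := by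
  set N := Finset.univ.filter (fun ξ : IrrCharacter ↥D.B => ¬ IsLinQ D ξ.1) with hN
  have hq2 : 2 ≤ D.q := by
    show 2 ≤ qOf D.m
    unfold qOf
    rw [pow_succ]
    have : 0 < 2 ^ (2 * D.m) := Nat.pos_of_ne_zero (by positivity)
    omega
  have hqC : (D.q : ℂ) ≠ 0 := by
    have h : D.q ≠ 0 := by omega
    exact_mod_cast h
  have hq1C : (D.q : ℂ) - 1 ≠ 0 := by
    rw [← bt_qsub D]
    have h : D.q - 1 ≠ 0 := by omega
    exact_mod_cast h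
  have h1Q : ((1 : ↥D.B) : G) ∈ D.Q := D.Q.one_mem
  have ht₀Q : (t₀ : G) ∈ D.Q := Z_le_Q D ht₀
  have ht₀G : (t₀ : G) ≠ 1 := fun h => ht₀1 (Subtype.ext h)
  -- the column sums
  have hcent1 : Nat.card ↥(Subgroup.centralizer ({(1 : ↥D.B)} : Set ↥D.B)) = Nat.card ↥D.B := by
    have : Subgroup.centralizer ({(1 : ↥D.B)} : Set ↥D.B) = ⊤ := by
      ext g
      simp [Subgroup.mem_centralizer_singleton_iff]
    rw [this, Subgroup.card_top]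
  have hnc : ¬ IsConj (1 : ↥D.B) t₀ := by
    intro h
    obtain ⟨c, hc⟩ := isConj_iff.1 h
    apply ht₀1
    rw [← hc]
    group
  have C1 := bt_col D 1 1 h1Q h1Q
  rw [second_orthogonality_of_isConj (IsConj.refl (1 : ↥D.B)), hcent1, card_B D] at C1
  have C2 := bt_col D t₀ t₀ ht₀Q ht₀Q
  rw [second_orthogonality_of_isConj (IsConj.refl t₀), card_centralizer_B_Z D t₀ ht₀ ht₀1] at C2
  have C3 := bt_col D 1 t₀ h1Q ht₀Q
  rw [second_orthogonality_of_not_isConj hnc] at C3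
  have C4 := bt_col D x₀ x₀ hx₀ hx₀
  rw [second_orthogonality_of_isConj (IsConj.refl x₀), card_centralizer_B_QZ D x₀ hx₀ hx₀Z] at C4
  -- rewrite in terms of `n₀`, `e`
  have hc1 : ∀ ξ : IrrCharacter ↥D.B, (ξ : ↥D.B → ℂ) 1 * conj ((ξ : ↥D.B → ℂ) 1) =
      (1 * (n₀ ξ : ℂ) + ((D.q : ℂ) - 1) * (e ξ : ℂ)) *
        (1 * (n₀ ξ : ℂ) + ((D.q : ℂ) - 1) * (e ξ : ℂ)) := by
    intro ξ
    rw [h1]
    simp only [map_add, map_sub, map_mul, map_natCast, map_one]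
    ring
  have hc2 : ∀ ξ : IrrCharacter ↥D.B, (ξ : ↥D.B → ℂ) t₀ * conj ((ξ : ↥D.B → ℂ) t₀) =
      (1 * (n₀ ξ : ℂ) + (-1) * (e ξ : ℂ)) * (1 * (n₀ ξ : ℂ) + (-1) * (e ξ : ℂ)) := by
    intro ξ
    rw [hτ]
    simp only [map_add, map_sub, map_mul, map_natCast, map_one]
    ring
  have hc3 : ∀ ξ : IrrCharacter ↥D.B, (ξ : ↥D.B → ℂ) 1 * conj ((ξ : ↥D.B → ℂ) t₀) =
      (1 * (n₀ ξ : ℂ) + ((D.q : ℂ) - 1) * (e ξ : ℂ)) * (1 * (n₀ ξ : ℂ) + (-1) * (e ξ : ℂ)) := by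
    intro ξ
    rw [h1, hτ]
    simp only [map_add, map_sub, map_mul, map_natCast, map_one]
    ring
  rw [Finset.sum_congr rfl (fun ξ _ => hc1 ξ), bt_bilin] at C1
  rw [Finset.sum_congr rfl (fun ξ _ => hc2 ξ), bt_bilin] at C2
  rw [Finset.sum_congr rfl (fun ξ _ => hc3 ξ), bt_bilin] at C3
  push_cast at C1 C2 C3 C4
  rw [bt_qsub D] at C1
  -- solve
  have hSE : ∑ ξ ∈ N, (e ξ : ℂ) ^ 2 = (D.q : ℂ) := by
    have h : (D.q : ℂ) ^ 2 * (∑ ξ ∈ N, (e ξ : ℂ) ^ 2 - (D.q : ℂ)) = 0 := by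
      linear_combination C1 + C2 - 2 * C3
    rcases mul_eq_zero.1 h with h' | h'
    · exact absurd (pow_eq_zero_iff (by norm_num) |>.1 h') hqC
    · exact sub_eq_zero.1 h'
  have hSB : ∑ ξ ∈ N, (n₀ ξ : ℂ) * (e ξ : ℂ) = 0 := by
    have h : (D.q : ℂ) * ∑ ξ ∈ N, (n₀ ξ : ℂ) * (e ξ : ℂ) = 0 := by
      linear_combination C3 - C2 + (D.q : ℂ) * hSE
    rcases mul_eq_zero.1 h with h' | h'
    · exact absurd h' hqC
    · exact h'
  have hSA : ∑ ξ ∈ N, (n₀ ξ : ℂ) ^ 2 = ((D.q : ℂ) - 1) ^ 2 := by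
    linear_combination C2 + 2 * hSB - hSE
  -- the rows
  have hrows : ∀ ξ ∈ N, (n₀ ξ : ℂ) ^ 2 + ((D.q : ℂ) - 1) * (e ξ : ℂ) ^ 2 +
      ((D.q : ℂ) - 1) * ((ξ : ↥D.B → ℂ) x₀ * conj ((ξ : ↥D.B → ℂ) x₀)) =
        (D.q : ℂ) * ((D.q : ℂ) - 1) := by
    intro ξ hξ
    exact (bt_rows D t₀ x₀ ht₀ ht₀1 hx₀ hx₀Z ξ (Finset.mem_filter.1 hξ).2 (n₀ ξ) (e ξ)
      (h1 ξ) (hτ ξ)).2
  have hrowsum := Finset.sum_congr rfl hrows
  rw [Finset.sum_add_distrib, Finset.sum_add_distrib, ← Finset.mul_sum, ← Finset.mul_sum,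
    Finset.sum_const, nsmul_eq_mul, hSA, hSE, C4] at hrowsum
  have hcard : (N.card : ℂ) = 3 := by
    have h : ((D.q : ℂ) * ((D.q : ℂ) - 1)) * ((N.card : ℂ) - 3) = 0 := by
      linear_combination -hrowsum
    rcases mul_eq_zero.1 h with h' | h'
    · exfalso
      rcases mul_eq_zero.1 h' with h'' | h''
      · exact hqC h''
      · exact hq1C h''
    · exact sub_eq_zero.1 h'
  refine ⟨?_, ?_, ?_, ?_⟩
  · exact_mod_cast hSE
  · have : ((∑ ξ ∈ N, n₀ ξ ^ 2 : ℕ) : ℂ) = (((D.q - 1) ^ 2 : ℕ) : ℂ) := by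
      push_cast
      rw [bt_qsub D]
      exact hSA
    exact_mod_cast this
  · exact_mod_cast hSB
  · exact_mod_cast hcard

theorem exists_bTable [Finite G] (D : SzData G) : Nonempty (BTable D) := by
  have hfinB : Fintype ↥D.B := Fintype.ofFinite _
  obtain ⟨t, htZ, ht1⟩ := bt_exists_t0 D
  obtain ⟨x, hxQ, hxZ⟩ := bt_exists_x0 D
  obtain ⟨t₀, ht₀def⟩ : ∃ t₀ : ↥D.B, t₀ = ⟨t, Q_le_B D (Z_le_Q D htZ)⟩ := ⟨_, rfl⟩
  obtain ⟨x₀, hx₀def⟩ : ∃ x₀ : ↥D.B, x₀ = ⟨x, Q_le_B D hxQ⟩ := ⟨_, rfl⟩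
  have ht₀ : (t₀ : G) ∈ D.Z := by rw [ht₀def]; exact htZ
  have ht₀1 : t₀ ≠ 1 := by
    intro h
    apply ht1
    have := congrArg Subtype.val h
    rw [ht₀def] at this
    exact this
  have hx₀ : (x₀ : G) ∈ D.Q := by rw [hx₀def]; exact hxQ
  have hx₀Z : (x₀ : G) ∉ D.Z := by rw [hx₀def]; exact hxZ
  have hq2 : 2 ≤ D.q := by
    show 2 ≤ qOf D.m
    unfold qOf
    rw [pow_succ]
    have : 0 < 2 ^ (2 * D.m) := Nat.pos_of_ne_zero (by positivity)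
    omega
  have hqC : (D.q : ℂ) ≠ 0 := by
    have h : D.q ≠ 0 := by omega
    exact_mod_cast h
  have hq1C : (D.q : ℂ) - 1 ≠ 0 := by
    rw [← bt_qsub D]
    have h : D.q - 1 ≠ 0 := by omega
    exact_mod_cast h
  have hhpos : 0 < D.h := by
    show 0 < hOf D.m
    unfold hOf
    positivity
  have hhC : (D.h : ℂ) ≠ 0 := by
    have h : D.h ≠ 0 := by omega
    exact_mod_cast h
  have hqh : D.q = 2 * D.h ^ 2 := by
    show qOf D.m = 2 * hOf D.m ^ 2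
    unfold qOf hOf
    ring
  have hqhC : (D.q : ℂ) = 2 * (D.h : ℂ) ^ 2 := by
    rw [hqh]
    push_cast
    ring
  choose n₀ e h1 hτ using fun ξ : IrrCharacter ↥D.B =>
    bt_exists_n0_e D t₀ ht₀ ht₀1 (IsIrrCharacter.isCharacter ξ.2)
  obtain ⟨hE, hA, hB, hcard⟩ := bt_sums D t₀ x₀ ht₀ ht₀1 hx₀ hx₀Z n₀ e h1 hτ
  obtain ⟨φ, ψ₁, ψ₂, hφψ₁, hφψ₂, hψ₁ψ₂, hNeq, hnφ, heφ, hnψ₁, heψ₁, hnψ₂, heψ₂⟩ :=
    bt_comb D.m D.q D.h rfl rfl _ n₀ e hcard hE hA hB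
  have hmemN : ∀ ξ : IrrCharacter ↥D.B, ¬ IsLinQ D ξ.1 → ξ = φ ∨ ξ = ψ₁ ∨ ξ = ψ₂ := by
    intro ξ hξ
    have : ξ ∈ Finset.univ.filter (fun ξ : IrrCharacter ↥D.B => ¬ IsLinQ D ξ.1) :=
      Finset.mem_filter.2 ⟨Finset.mem_univ _, hξ⟩
    rw [hNeq] at this
    simpa using this
  have hNφ : ¬ IsLinQ D φ.1 := by
    have : φ ∈ Finset.univ.filter (fun ξ : IrrCharacter ↥D.B => ¬ IsLinQ D ξ.1) := by
      rw [hNeq]
      simp
    exact (Finset.mem_filter.1 this).2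
  have hNψ₁ : ¬ IsLinQ D ψ₁.1 := by
    have : ψ₁ ∈ Finset.univ.filter (fun ξ : IrrCharacter ↥D.B => ¬ IsLinQ D ξ.1) := by
      rw [hNeq]
      simp
    exact (Finset.mem_filter.1 this).2
  have hNψ₂ : ¬ IsLinQ D ψ₂.1 := by
    have : ψ₂ ∈ Finset.univ.filter (fun ξ : IrrCharacter ↥D.B => ¬ IsLinQ D ξ.1) := by
      rw [hNeq]
      simp
    exact (Finset.mem_filter.1 this).2
  -- the values of `φ`
  have hφ1 : (φ : ↥D.B → ℂ) 1 = (D.q : ℂ) - 1 := by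
    rw [h1 φ, hnφ, heφ, bt_qsub D]
    simp
  have hφt : (φ : ↥D.B → ℂ) t₀ = (D.q : ℂ) - 1 := by
    rw [hτ φ, hnφ, heφ, bt_qsub D]
    simp
  obtain ⟨hφR1, hφR2⟩ := bt_rows D t₀ x₀ ht₀ ht₀1 hx₀ hx₀Z φ hNφ (n₀ φ) (e φ) (h1 φ) (hτ φ)
  rw [hnφ, bt_qsub D] at hφR1
  rw [hnφ, heφ, bt_qsub D] at hφR2
  have hφv : (φ : ↥D.B → ℂ) x₀ = -1 := by
    have hs : (φ : ↥D.B → ℂ) x₀ + conj ((φ : ↥D.B → ℂ) x₀) = -2 := by
      have h : ((D.q : ℂ) - 1) * ((φ : ↥D.B → ℂ) x₀ + conj ((φ : ↥D.B → ℂ) x₀) + 2) = 0 := by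
        linear_combination hφR1
      rcases mul_eq_zero.1 h with h' | h'
      · exact absurd h' hq1C
      · linear_combination h'
    have hp : (φ : ↥D.B → ℂ) x₀ * conj ((φ : ↥D.B → ℂ) x₀) = 1 := by
      have h : ((D.q : ℂ) - 1) * ((φ : ↥D.B → ℂ) x₀ * conj ((φ : ↥D.B → ℂ) x₀) - 1) = 0 := by
        push_cast at hφR2
        linear_combination hφR2
      rcases mul_eq_zero.1 h with h' | h'
      · exact absurd h' hq1C
      · linear_combination h'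
    have hz : ((φ : ↥D.B → ℂ) x₀ + 1) * conj ((φ : ↥D.B → ℂ) x₀ + 1) = 0 := by
      rw [map_add, map_one]
      linear_combination hs + hp
    rw [Complex.mul_conj] at hz
    have hz' : Complex.normSq ((φ : ↥D.B → ℂ) x₀ + 1) = 0 := by exact_mod_cast hz
    have := Complex.normSq_eq_zero.1 hz'
    linear_combination this
  have hφcf : IsClassFunction ↥D.B φ.1 :=
    IsCharacter.isClassFunction (IsIrrCharacter.isCharacter φ.2)
  have hφQZ : ∀ b : ↥D.B, (b : G) ∈ D.Q → (b : G) ∉ D.Z → (φ : ↥D.B → ℂ) b = -1 := by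
    intro b hbQ hbZ
    rcases bt_val_QZ D hφcf hx₀ hx₀Z hbQ hbZ with ⟨_, hv⟩ | ⟨_, hv⟩
    · rw [hv, hφv]
    · rw [hv, IsCharacter.inv (IsIrrCharacter.isCharacter φ.2), hφv]
      simp
  -- the values of `ψ`
  have hψgen : ∀ ψ : IrrCharacter ↥D.B, ¬ IsLinQ D ψ.1 → n₀ ψ = 0 → e ψ = D.h →
      (ψ : ↥D.B → ℂ) 1 = (D.h : ℂ) * ((D.q : ℂ) - 1) ∧
      (∀ b : ↥D.B, (b : G) ∈ D.Z → b ≠ 1 → (ψ : ↥D.B → ℂ) b = -(D.h : ℂ)) ∧
      (∀ b : ↥D.B, (b : G) ∈ D.Q → (b : G) ∉ D.Z → (ψ : ↥D.B → ℂ) b ^ 2 = -((D.h : ℂ) ^ 2)) := by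
    intro ψ hNψ hnψ heψ
    have hψchar : IsCharacter ↥D.B ψ.1 := IsIrrCharacter.isCharacter ψ.2
    have hψcf : IsClassFunction ↥D.B ψ.1 := IsCharacter.isClassFunction hψchar
    obtain ⟨hR1, hR2⟩ := bt_rows D t₀ x₀ ht₀ ht₀1 hx₀ hx₀Z ψ hNψ (n₀ ψ) (e ψ) (h1 ψ) (hτ ψ)
    rw [hnψ] at hR1
    rw [hnψ, heψ] at hR2
    refine ⟨?_, ?_, ?_⟩
    · rw [h1 ψ, hnψ, heψ]
      simp
    · intro b hbZ hb1
      rw [bt_val_Z D hψcf ht₀ ht₀1 hbZ hb1, hτ ψ, hnψ, heψ]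
      simp
    · have hs : conj ((ψ : ↥D.B → ℂ) x₀) = -(ψ : ↥D.B → ℂ) x₀ := by
        have h : ((D.q : ℂ) - 1) * ((ψ : ↥D.B → ℂ) x₀ + conj ((ψ : ↥D.B → ℂ) x₀)) = 0 := by
          rw [hR1]
          simp
        rcases mul_eq_zero.1 h with h' | h'
        · exact absurd h' hq1C
        · linear_combination h'
      have hp : (ψ : ↥D.B → ℂ) x₀ ^ 2 = -((D.h : ℂ) ^ 2) := by
        rw [hs] at hR2
        have h : ((D.q : ℂ) - 1) * ((ψ : ↥D.B → ℂ) x₀ ^ 2 + (D.h : ℂ) ^ 2) = 0 := by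
          push_cast at hR2
          linear_combination -hR2 - ((D.q : ℂ) - 1) * hqhC
        rcases mul_eq_zero.1 h with h' | h'
        · exact absurd h' hq1C
        · linear_combination h'
      intro b hbQ hbZ
      rcases bt_val_QZ D hψcf hx₀ hx₀Z hbQ hbZ with ⟨_, hv⟩ | ⟨_, hv⟩
      · rw [hv, hp]
      · rw [hv, IsCharacter.inv hψchar, hs, neg_sq, hp]
  obtain ⟨hψ₁1, hψ₁Z, hψ₁sq⟩ := hψgen ψ₁ hNψ₁ hnψ₁ heψ₁
  obtain ⟨hψ₂1, hψ₂Z, hψ₂sq⟩ := hψgen ψ₂ hNψ₂ hnψ₂ heψ₂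
  -- `ψ₂ = -ψ₁` on `Q \ Z`
  have hneg : ∀ b : ↥D.B, (b : G) ∈ D.Q → (b : G) ∉ D.Z →
      (ψ₂ : ↥D.B → ℂ) b = -(ψ₁ : ↥D.B → ℂ) b := by
    intro b hbQ hbZ
    have hb1 : b ≠ 1 := by
      intro h
      apply hbZ
      rw [h]
      exact D.Z.one_mem
    have hnc : ¬ IsConj (1 : ↥D.B) b := by
      intro h
      obtain ⟨c, hc⟩ := isConj_iff.1 h
      apply hb1
      rw [← hc]
      group
    have hC := bt_col D 1 b D.Q.one_mem hbQ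
    rw [second_orthogonality_of_not_isConj hnc, hNeq,
      Finset.sum_insert (by simp [hφψ₁, hφψ₂]), Finset.sum_insert (by simp [hψ₁ψ₂]),
      Finset.sum_singleton, hφ1, hψ₁1, hψ₂1, hφQZ b hbQ hbZ] at hC
    have h : ((D.h : ℂ) * ((D.q : ℂ) - 1)) *
        conj ((ψ₁ : ↥D.B → ℂ) b + (ψ₂ : ↥D.B → ℂ) b) = 0 := by
      rw [map_add]
      simp only [map_neg, map_one] at hC
      linear_combination hC
    rcases mul_eq_zero.1 h with h' | h'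
    · exfalso
      rcases mul_eq_zero.1 h' with h'' | h''
      · exact hhC h''
      · exact hq1C h''
    · have := (map_eq_zero (starRingEnd ℂ)).1 h'
      linear_combination this
  exact ⟨{ φ := φ.1
           ψ₁ := ψ₁.1
           ψ₂ := ψ₂.1
           irr_φ := φ.2
           irr_ψ₁ := ψ₁.2
           irr_ψ₂ := ψ₂.2
           complete := by
             intro ξ hξ
             by_cases hl : IsLinQ D ξ
             · exact Or.inl hl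
             · right
               rcases hmemN ⟨ξ, hξ⟩ hl with h | h | h
               · exact Or.inl (congrArg Subtype.val h)
               · exact Or.inr (Or.inl (congrArg Subtype.val h))
               · exact Or.inr (Or.inr (congrArg Subtype.val h))
           φ_off := bt_off D φ hNφ
           ψ₁_off := bt_off D ψ₁ hNψ₁
           ψ₂_off := bt_off D ψ₂ hNψ₂
           φ_Z := by
             intro b hbZ
             by_cases hb1 : b = 1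
             · rw [hb1]
               exact hφ1
             · rw [bt_val_Z D hφcf ht₀ ht₀1 hbZ hb1]
               exact hφt
           φ_QZ := hφQZ
           ψ₁_one := hψ₁1
           ψ₂_one := hψ₂1
           ψ₁_Z := hψ₁Z
           ψ₂_Z := hψ₂Z
           ψ_neg := hneg
           ψ_sq := hψ₁sq }⟩

end Count

end Cfsg.Agent.Lib.Helper73.SzCh
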