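import Mathlib
import Cfsg.Agent.Lib.Helper6.SzCh.Defs
import Cfsg.Agent.Lib.Helper78.CharOrtho
import Cfsg.Agent.Lib.Helper78.ExcAbstract
import Cfsg.Agent.Lib.Helper78.ExcConcrete

/-!
# SZCH-[EXC-TI] (helper73, for helper6): exceptional characters of an abelian T.I. subgroup `A`
with `C_G(a) = A` for `a ∈ A \ 1`, general finite `G`.
-/

set_option autoImplicit false

namespace Cfsg.Agent.Lib.Helper73.SzCh

open Cfsg Cfsg.Agent.Lib.Helper6.SzCh Cfsg.Agent.Lib.Helper78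
open scoped ComplexConjugate Classical

universe u

/-- orbit sums of nonprincipal characters in the semiregular situation -/
theorem orbit_sum_facts {A Γ : Type*} [CommGroup A] [Fintype A] [Group Γ] [Fintype Γ]
    [MulDistribMulAction Γ A] (S : Subgroup Γ)
    (hS : ∀ y : A, y ≠ 1 → ∀ n : Γ, n • y = y ↔ n ∈ S) (m : ℕ)
    (hm : Fintype.card Γ = Nat.card S * m) [Fintype (A →* ℂˣ)] {ψ : A →* ℂˣ} (hψ : ψ ≠ 1) :
    (Finset.univ.filter (fun ψ' : A →* ℂˣ => dualRel Γ ψ ψ')).card = m ∧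
    (∑ y : A, ∑ ψ' ∈ Finset.univ.filter (fun ψ' : A →* ℂˣ => dualRel Γ ψ ψ'),
      ((ψ' y : ℂˣ) : ℂ)) = 0 ∧
    (∑ y : A, (∑ ψ' ∈ Finset.univ.filter (fun ψ' : A →* ℂˣ => dualRel Γ ψ ψ'),
        ((ψ' y : ℂˣ) : ℂ)) *
      conj (∑ ψ' ∈ Finset.univ.filter (fun ψ' : A →* ℂˣ => dualRel Γ ψ ψ'),
        ((ψ' y : ℂˣ) : ℂ))) = (m : ℂ) * (Fintype.card A : ℂ) := by
  have hcard : (Finset.univ.filter (fun ψ' : A →* ℂˣ => dualRel Γ ψ ψ')).card = m := by
    have h1 := card_dualRel_class S hS hψ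
    rw [hm, mul_comm] at h1
    have hSpos : 0 < Nat.card S := Nat.card_pos
    exact Nat.eq_of_mul_eq_mul_left hSpos h1
  refine ⟨hcard, ?_, ?_⟩
  · rw [Finset.sum_comm]
    apply Finset.sum_eq_zero
    intro ψ' hψ'
    exact sum_dual_apply_eq_zero (dualRel_ne_one (Finset.mem_filter.1 hψ').2 hψ)
  · have h1 : ∀ y : A, (∑ ψ' ∈ Finset.univ.filter (fun ψ' : A →* ℂˣ => dualRel Γ ψ ψ'),
          ((ψ' y : ℂˣ) : ℂ)) *
        conj (∑ ψ' ∈ Finset.univ.filter (fun ψ' : A →* ℂˣ => dualRel Γ ψ ψ'),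
          ((ψ' y : ℂˣ) : ℂ)) =
        ∑ ψ' ∈ Finset.univ.filter (fun ψ' : A →* ℂˣ => dualRel Γ ψ ψ'),
          ∑ ψ'' ∈ Finset.univ.filter (fun ψ' : A →* ℂˣ => dualRel Γ ψ ψ'),
            ((ψ' y : ℂˣ) : ℂ) * conj ((ψ'' y : ℂˣ) : ℂ) := by
      intro y
      rw [map_sum, Finset.sum_mul_sum]
    rw [Finset.sum_congr rfl (fun y _ => h1 y), Finset.sum_comm]
    have h2 : ∀ ψ' ∈ Finset.univ.filter (fun ψ' : A →* ℂˣ => dualRel Γ ψ ψ'),
        ∑ y : A, ∑ ψ'' ∈ Finset.univ.filter (fun ψ' : A →* ℂˣ => dualRel Γ ψ ψ'),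
            ((ψ' y : ℂˣ) : ℂ) * conj ((ψ'' y : ℂˣ) : ℂ) = (Fintype.card A : ℂ) := by
      intro ψ' hψ'
      rw [Finset.sum_comm]
      have h3 : ∀ ψ'' ∈ Finset.univ.filter (fun ψ' : A →* ℂˣ => dualRel Γ ψ ψ'),
          ∑ y : A, ((ψ' y : ℂˣ) : ℂ) * conj ((ψ'' y : ℂˣ) : ℂ) =
            if ψ' = ψ'' then (Fintype.card A : ℂ) else 0 := fun ψ'' _ => dual_sum_mul_conj ψ' ψ''
      rw [Finset.sum_congr rfl h3, Finset.sum_ite_eq, if_pos hψ']
    rw [Finset.sum_congr rfl h2, Finset.sum_const, hcard, nsmul_eq_mul]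

/-- the norm of `d + δ Θ` over `A \ 1`, `Θ` an orbit sum -/
theorem orbit_norm_sum {A Γ : Type*} [CommGroup A] [Fintype A] [Group Γ] [Fintype Γ]
    [MulDistribMulAction Γ A] (S : Subgroup Γ)
    (hS : ∀ y : A, y ≠ 1 → ∀ n : Γ, n • y = y ↔ n ∈ S) (m : ℕ)
    (hm : Fintype.card Γ = Nat.card S * m) [Fintype (A →* ℂˣ)] {ψ : A →* ℂˣ} (hψ : ψ ≠ 1)
    (d δ : ℤ) (hδ : δ = 1 ∨ δ = -1) :
    ∑ y ∈ Finset.univ.filter (fun y : A => y ≠ 1),
      ((d : ℂ) + (δ : ℂ) * ∑ ψ' ∈ Finset.univ.filter (fun ψ' : A →* ℂˣ => dualRel Γ ψ ψ'),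
        ((ψ' y : ℂˣ) : ℂ)) *
      conj ((d : ℂ) + (δ : ℂ) * ∑ ψ' ∈ Finset.univ.filter (fun ψ' : A →* ℂˣ => dualRel Γ ψ ψ'),
        ((ψ' y : ℂˣ) : ℂ)) =
      ((Fintype.card A : ℂ) - 1) * (d : ℂ) ^ 2 - 2 * (m : ℂ) * (d : ℂ) * (δ : ℂ) +
        (m : ℂ) * ((Fintype.card A : ℂ) - (m : ℂ)) := by
  obtain ⟨hcard, hsum, hsq⟩ := orbit_sum_facts S hS m hm hψ
  set Θ : A → ℂ := fun y => ∑ ψ' ∈ Finset.univ.filter (fun ψ' : A →* ℂˣ => dualRel Γ ψ ψ'),
        ((ψ' y : ℂˣ) : ℂ) with hΘ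
  have hΘ1 : Θ 1 = (m : ℂ) := by
    rw [hΘ]
    simp only [map_one, Units.val_one, Finset.sum_const, nsmul_eq_mul, mul_one]
    rw [hcard]
  have hδ2 : (δ : ℂ) ^ 2 = 1 := by
    rcases hδ with h | h <;> rw [h] <;> norm_num
  have hsumc : ∑ y : A, conj (Θ y) = 0 := by
    rw [← map_sum]
    have : ∑ y : A, Θ y = 0 := hsum
    rw [this, map_zero]
  have hF : ∀ y : A, ((d : ℂ) + (δ : ℂ) * Θ y) * conj ((d : ℂ) + (δ : ℂ) * Θ y) =
      (d : ℂ) ^ 2 + (d : ℂ) * (δ : ℂ) * Θ y + (d : ℂ) * (δ : ℂ) * conj (Θ y) +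
        Θ y * conj (Θ y) := by
    intro y
    simp only [map_add, map_mul, map_intCast]
    linear_combination (Θ y * conj (Θ y)) * hδ2
  rw [Finset.filter_ne', Finset.sum_erase_eq_sub (Finset.mem_univ 1),
    Finset.sum_congr rfl (fun y _ => hF y), hF 1, Finset.sum_add_distrib, Finset.sum_add_distrib,
    Finset.sum_add_distrib, ← Finset.mul_sum, ← Finset.mul_sum]
  have h1 : ∑ y : A, Θ y = 0 := hsum
  have h2 : ∑ y : A, Θ y * conj (Θ y) = (m : ℂ) * (Fintype.card A : ℂ) := hsq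
  rw [h1, hsumc, h2, hΘ1]
  simp only [Finset.sum_const, Finset.card_univ, nsmul_eq_mul, Complex.conj_natCast]
  ring

theorem sumNe_eq_sum_filter {G : Type u} [Group G] [Fintype G] (A : Subgroup G) (f : G → ℂ) :
    sumNe A f = ∑ y ∈ Finset.univ.filter (fun y : ↥A => y ≠ 1), f (y : G) := by
  unfold sumNe
  rw [finsum_eq_sum_of_fintype]
  rw [Finset.sum_subtype (Finset.univ.filter (fun y : ↥A => y ≠ 1)) (p := fun y : ↥A => y ≠ 1)
    (by simp) (fun y => f (y : G))]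
  let e : {x : G // x ∈ A ∧ x ≠ 1} ≃ {y : ↥A // y ≠ 1} :=
    { toFun := fun x => ⟨⟨x.1, x.2.1⟩, fun h => x.2.2 (congrArg Subtype.val h)⟩
      invFun := fun y => ⟨y.1.1, y.1.2, fun h => y.2 (Subtype.ext h)⟩
      left_inv := fun x => rfl
      right_inv := fun y => rfl }
  exact Fintype.sum_equiv e _ _ (fun x => rfl)

variable {G : Type u} [Group G]

theorem exc_TI [Fintype G] (A : Subgroup G) (e : ℕ)
    (hcent : ∀ a ∈ A, a ≠ 1 → Subgroup.centralizer ({a} : Set G) = A)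
    (hnorm : Nat.card ↥(Subgroup.normalizer (A : Set G)) = e * Nat.card A)
    (hbig : e + 1 < Nat.card A) :
    ∃ (δ d : ℤ) (Y : Finset (IrrCharacter G)) (v : IrrCharacter G → ℤ),
      (δ = 1 ∨ δ = -1) ∧
      Y.card * e + 1 = Nat.card A ∧
      (∀ χ ∈ Y, (χ : G → ℂ) ≠ fun _ => 1) ∧
      (∀ χ : IrrCharacter G, χ ∉ Y → ∀ y ∈ A, y ≠ 1 → (χ : G → ℂ) y = (v χ : ℂ)) ∧
      (∀ χ ∈ Y, sumNe A (fun y => (χ : G → ℂ) y * conj ((χ : G → ℂ) y)) =
        ((Nat.card A : ℂ) - 1) * (d : ℂ) ^ 2 - 2 * (e : ℂ) * (d : ℂ) * (δ : ℂ) +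
          (e : ℂ) * ((Nat.card A : ℂ) - (e : ℂ))) ∧
      ((d - δ) ^ 2 + ((Y.card : ℤ) - 1) * d ^ 2 +
        ∑ χ ∈ Finset.univ.filter (fun χ : IrrCharacter G => χ ∉ Y), v χ ^ 2 = (e : ℤ) + 1) ∧
      (∀ g : G, (∀ x : G, x * g * x⁻¹ ∈ A → g = 1) →
        ∀ χ ∈ Y, ∀ χ' ∈ Y, (χ : G → ℂ) g = (χ' : G → ℂ) g) := by
  -- `A` is commutative
  have hcommG : ∀ a ∈ A, ∀ b ∈ A, a * b = b * a := by
    intro a ha b hb
    by_cases ha1 : a = 1
    · rw [ha1, one_mul, mul_one]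
    · have hb' : b ∈ Subgroup.centralizer ({a} : Set G) := by
        rw [hcent a ha ha1]
        exact hb
      rw [Subgroup.mem_centralizer_singleton_iff] at hb'
      exact hb'.symm
  have hab : IsMulCommutative ↥A := ⟨⟨fun a b => Subtype.ext (hcommG a a.2 b b.2)⟩⟩
  let instCG : CommGroup ↥A := IsMulCommutative.instCommGroup
  have hfinD : Fintype (↥A →* ℂˣ) := Fintype.ofFinite _
  -- the stabilizer
  obtain ⟨S, hSdef⟩ : ∃ S : Subgroup ↥(Subgroup.normalizer (A : Set G)),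
      S = A.subgroupOf (Subgroup.normalizer (A : Set G)) := ⟨_, rfl⟩
  have hS : ∀ y : ↥A, y ≠ 1 → ∀ n : ↥(Subgroup.normalizer (A : Set G)), n • y = y ↔ n ∈ S := by
    intro y hy n
    have hy1 : (y : G) ≠ 1 := fun h => hy (Subtype.ext h)
    rw [hSdef, Subgroup.mem_subgroupOf]
    constructor
    · intro h
      have h' : (n : G) * (y : G) * (n : G)⁻¹ = (y : G) := congrArg Subtype.val h
      have h2 : (n : G) ∈ Subgroup.centralizer ({(y : G)} : Set G) := by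
        rw [Subgroup.mem_centralizer_singleton_iff]
        exact mul_inv_eq_iff_eq_mul.mp h'
      rw [hcent y y.2 hy1] at h2
      exact h2
    · intro h
      apply Subtype.ext
      show (n : G) * (y : G) * (n : G)⁻¹ = (y : G)
      rw [hcommG _ h _ y.2, mul_assoc, mul_inv_cancel, mul_one]
  have hcardS : Nat.card S = Nat.card A := by
    rw [hSdef]
    exact Nat.card_congr (Subgroup.subgroupOfEquivOfLe Subgroup.le_normalizer).toEquiv
  have hmcard : Fintype.card ↥(Subgroup.normalizer (A : Set G)) = Nat.card S * e := by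
    rw [← Nat.card_eq_fintype_card, hnorm, hcardS, mul_comm]
  have hmA : e + 1 < Fintype.card ↥A := by
    rw [← Nat.card_eq_fintype_card]
    exact hbig
  have hAcard : (Fintype.card ↥A : ℂ) = (Nat.card A : ℂ) := by
    rw [← Nat.card_eq_fintype_card]
  -- conjugacy inside `A \ 1` is `N(A)`-conjugacy
  have hconjN : ∀ y y' : ↥A, y ≠ 1 → ∀ c : G, c * (y : G) * c⁻¹ = (y' : G) →
      c ∈ Subgroup.normalizer (A : Set G) := by
    intro y y' hy c hc
    have hy1 : (y : G) ≠ 1 := fun h => hy (Subtype.ext h)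
    have hy'1 : (y' : G) ≠ 1 := by
      intro h
      apply hy1
      rw [h] at hc
      have : (y : G) = c⁻¹ * 1 * c := by
        rw [← hc]
        group
      rw [this]
      group
    rw [Subgroup.mem_normalizer_iff]
    intro h
    constructor
    · intro hh
      have h2 : c * h * c⁻¹ ∈ Subgroup.centralizer ({(y' : G)} : Set G) := by
        rw [Subgroup.mem_centralizer_singleton_iff, ← hc]
        have := hcommG h hh _ y.2
        calc c * h * c⁻¹ * (c * (y : G) * c⁻¹) = c * (h * (y : G)) * c⁻¹ := by group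
          _ = c * ((y : G) * h) * c⁻¹ := by rw [this]
          _ = c * (y : G) * c⁻¹ * (c * h * c⁻¹) := by group
      rw [hcent _ y'.2 hy'1] at h2
      exact h2
    · intro hh
      have h2 : h ∈ Subgroup.centralizer ({(y : G)} : Set G) := by
        rw [Subgroup.mem_centralizer_singleton_iff]
        have := hcommG _ hh _ y'.2
        rw [← hc] at this
        have h3 : c⁻¹ * (c * h * c⁻¹ * (c * (y : G) * c⁻¹)) * c =
            c⁻¹ * (c * (y : G) * c⁻¹ * (c * h * c⁻¹)) * c := by rw [this]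
        calc h * (y : G) = c⁻¹ * (c * h * c⁻¹ * (c * (y : G) * c⁻¹)) * c := by group
          _ = c⁻¹ * (c * (y : G) * c⁻¹ * (c * h * c⁻¹)) * c := h3
          _ = (y : G) * h := by group
      rw [hcent _ y.2 hy1] at h2
      exact h2
  -- the functions
  obtain ⟨θ, hθ⟩ : ∃ θ : IrrCharacter G → ↥A → ℂ,
      θ = fun (χ : IrrCharacter G) (y : ↥A) => (χ : G → ℂ) (y : G) := ⟨_, rfl⟩
  have hθap : ∀ (χ : IrrCharacter G) (y : ↥A), θ χ y = (χ : G → ℂ) (y : G) := by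
    intro χ y
    rw [hθ]
  have hinv : ∀ (χ : IrrCharacter G) (n : ↥(Subgroup.normalizer (A : Set G))) (y : ↥A),
      θ χ (n • y) = θ χ y := by
    intro χ n y
    rw [hθap, hθap]
    show (χ : G → ℂ) ((n : G) * (y : G) * (n : G)⁻¹) = (χ : G → ℂ) y
    exact isClassFunction_irr χ (y : G) (n : G)
  have hint : ∀ (χ : IrrCharacter G) (ψ : ↥A →* ℂˣ), ∃ k : ℤ, gco (θ χ) ψ = (k : ℂ) := by
    intro χ ψ
    have h1 : θ χ = fun y : ↥A => (χ : G → ℂ) (y : G) := by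
      funext y
      exact hθap χ y
    rw [h1]
    exact exists_int_gco_restrict A (IsIrrCharacter.isCharacter χ.2) ψ
  have hK : ∀ y y' : ↥A, y ≠ 1 → y' ≠ 1 →
      ∑ χ : IrrCharacter G, θ χ y * conj (θ χ y') =
        if ∃ n : ↥(Subgroup.normalizer (A : Set G)), n • y = y' then
          (Fintype.card ↥A : ℂ) else 0 := by
    intro y y' hy hy'
    have hy1 : (y : G) ≠ 1 := fun h => hy (Subtype.ext h)
    have hsum : ∑ χ : IrrCharacter G, θ χ y * conj (θ χ y') =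
        ∑ χ : IrrCharacter G, (χ : G → ℂ) (y : G) * conj ((χ : G → ℂ) (y' : G)) := by
      apply Finset.sum_congr rfl
      intro χ _
      rw [hθap, hθap]
    rw [hsum]
    by_cases hc : IsConj (y : G) (y' : G)
    · have hex : ∃ n : ↥(Subgroup.normalizer (A : Set G)), n • y = y' := by
        obtain ⟨c, hc'⟩ := isConj_iff.1 hc
        exact ⟨⟨c, hconjN y y' hy c hc'⟩, Subtype.ext hc'⟩
      rw [if_pos hex, second_orthogonality_of_isConj hc, hcent _ y.2 hy1, hAcard]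
    · have hex : ¬ ∃ n : ↥(Subgroup.normalizer (A : Set G)), n • y = y' := by
        rintro ⟨n, hn⟩
        apply hc
        rw [isConj_iff]
        exact ⟨(n : G), congrArg Subtype.val hn⟩
      rw [if_neg hex, second_orthogonality_of_not_isConj hc]
  obtain ⟨deg, hdegdef⟩ : ∃ deg : IrrCharacter G → ℤ,
      deg = fun χ : IrrCharacter G => (charDegree (χ : G → ℂ) : ℤ) := ⟨_, rfl⟩
  have hdeg : ∀ χ, 0 < deg χ := by
    intro χ
    rw [hdegdef]
    show (0 : ℤ) < (charDegree (χ : G → ℂ) : ℤ)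
    exact_mod_cast IsIrrCharacter.charDegree_pos χ.2
  have hdegval : ∀ χ : IrrCharacter G, (deg χ : ℂ) = conj ((χ : G → ℂ) 1) := by
    intro χ
    rw [hdegdef, IsCharacter.apply_one_eq_charDegree (IsIrrCharacter.isCharacter χ.2)]
    simp
  have hnotconj_one : ∀ y : G, y ≠ 1 → ¬ IsConj y 1 := by
    intro y hy h
    apply hy
    obtain ⟨c, hc⟩ := isConj_iff.1 h
    have : y = c⁻¹ * 1 * c := by
      rw [← hc]
      group
    rw [this]
    group
  have hdeg0 : ∀ y : ↥A, y ≠ 1 → ∑ χ : IrrCharacter G, θ χ y * (deg χ : ℂ) = 0 := by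
    intro y hy
    have hy1 : (y : G) ≠ 1 := fun h => hy (Subtype.ext h)
    rw [← second_orthogonality_of_not_isConj (hnotconj_one _ hy1)]
    apply Finset.sum_congr rfl
    intro χ _
    rw [hdegval, hθap]
  obtain ⟨δ, d, ζ, a, Y, hδ, hζY, hYsurj, hζR, hYcard, hconst, hX, hval, hnorm', hw⟩ :=
    exceptional_abstract S hS e hmcard hmA θ hinv hint
      (by intro y y' hy hy'; convert hK y y' hy hy') deg hdeg hdeg0
  refine ⟨δ, d, Y, a, hδ, ?_, ?_, ?_, ?_, by convert hnorm', ?_⟩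
  · have h1 : 1 ≤ Fintype.card ↥A := by omega
    rw [Nat.card_eq_fintype_card]
    omega
  · intro χ hχY hχ
    refine hconst χ 1 ?_ hχY
    intro y
    rw [hθap, hχ]
  · intro χ hχ y hy hy1
    have := hX χ hχ ⟨y, hy⟩ (fun h => hy1 (congrArg Subtype.val h))
    rw [hθap] at this
    exact this
  · intro χ hχ
    obtain ⟨ψ, hψ, hζψ⟩ := hYsurj χ hχ
    rw [sumNe_eq_sum_filter]
    have hterm : ∀ y ∈ Finset.univ.filter (fun y : ↥A => y ≠ 1),
        (χ : G → ℂ) (y : G) * conj ((χ : G → ℂ) (y : G)) =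
        ((d : ℂ) + (δ : ℂ) * ∑ ψ' ∈ Finset.univ.filter
          (fun ψ' : ↥A →* ℂˣ => dualRel ↥(Subgroup.normalizer (A : Set G)) ψ ψ'),
          ((ψ' y : ℂˣ) : ℂ)) *
        conj ((d : ℂ) + (δ : ℂ) * ∑ ψ' ∈ Finset.univ.filter
          (fun ψ' : ↥A →* ℂˣ => dualRel ↥(Subgroup.normalizer (A : Set G)) ψ ψ'),
          ((ψ' y : ℂˣ) : ℂ)) := by
      intro y hy
      have hy1 : y ≠ 1 := (Finset.mem_filter.1 hy).2
      have h1 := hval ψ hψ y hy1
      rw [hζψ, hθap, finsum_mem_eq_sum_filter_of_fintype] at h1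
      have h2 : (χ : G → ℂ) (y : G) = (d : ℂ) + (δ : ℂ) * ∑ ψ' ∈ Finset.univ.filter
          (fun ψ' : ↥A →* ℂˣ => dualRel ↥(Subgroup.normalizer (A : Set G)) ψ ψ'),
          ((ψ' y : ℂˣ) : ℂ) := by
        rw [h1]
        congr 2
        apply Finset.sum_congr _ (fun _ _ => rfl)
        ext ψ'
        simp only [Finset.mem_filter, Finset.mem_univ, true_and]
        exact Iff.rfl
      rw [← h2]
    rw [Finset.sum_congr rfl hterm]
    have h5 := orbit_norm_sum S hS e hmcard hψ d δ hδ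
    rw [hAcard] at h5
    convert h5
  · intro g hg χ hχ χ' hχ'
    have hwg : ∀ y : ↥A, y ≠ 1 →
        ∑ η : IrrCharacter G, θ η y * conj ((η : G → ℂ) g) = 0 := by
      intro y hy
      have hy1 : (y : G) ≠ 1 := fun h => hy (Subtype.ext h)
      have hnc : ¬ IsConj (y : G) g := by
        intro h
        obtain ⟨c, hc⟩ := isConj_iff.1 h
        apply hy1
        have hg1 : g = 1 := by
          apply hg c⁻¹
          rw [← hc]
          have : c⁻¹ * (c * (y : G) * c⁻¹) * c⁻¹⁻¹ = (y : G) := by group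
          rw [this]
          exact y.2
        rw [hg1] at hc
        have : (y : G) = c⁻¹ * 1 * c := by
          rw [← hc]
          group
        rw [this]
        group
      rw [← second_orthogonality_of_not_isConj hnc]
      apply Finset.sum_congr rfl
      intro η _
      rw [hθap]
    have h1 := (hw (fun η => conj ((η : G → ℂ) g)) hwg).1 χ hχ χ' hχ'
    exact (starRingEnd ℂ).injective h1

end Cfsg.Agent.Lib.Helper73.SzCh
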