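import Mathlib
import Cfsg.Agent.Lib.Helper73.CyclicMax
import Cfsg.Agent.Lib.Helper24.PGroupBasic

set_option autoImplicit false

namespace Cfsg.Agent.Lib.Helper73

/-- Lifting the exponent, in the form needed: for an odd prime `p`, if `p ^ (k + 2) ∣ r ^ p - 1`
then `p ^ (k + 1) ∣ r - 1`. -/
theorem dvd_sub_one_of_dvd_pow_prime_sub_one (p : ℕ) (hp : p.Prime) (hodd : Odd p) (k : ℕ) (r : ℤ)
    (h : (p : ℤ) ^ (k + 2) ∣ r ^ p - 1) : (p : ℤ) ^ (k + 1) ∣ r - 1 := by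
  have hp' : Prime (p : ℤ) := Nat.prime_iff_prime_int.1 hp
  have h1 : (p : ℤ) ∣ r ^ p - 1 := dvd_trans (dvd_pow_self _ (by omega)) h
  have h2 : (p : ℤ) ∣ r ^ p - r := by
    have := (Int.ModEq.pow_prime_eq_self hp r).symm
    exact Int.modEq_iff_dvd.1 this
  have hxy : (p : ℤ) ∣ r - 1 := by
    have : r - 1 = (r ^ p - 1) - (r ^ p - r) := by ring
    rw [this]; exact dvd_sub h1 h2
  have hx : ¬ (p : ℤ) ∣ r := by
    intro hr
    have h3 : (p : ℤ) ∣ r ^ p := dvd_pow hr hp.ne_zero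
    have h4 : (p : ℤ) ∣ 1 := by
      have : (1 : ℤ) = r ^ p - (r ^ p - 1) := by ring
      rw [this]; exact dvd_sub h3 h1
    exact hp'.not_isUnit (isUnit_of_dvd_one h4)
  have hL := emultiplicity_pow_prime_sub_pow_prime hp' hodd (x := r) (y := 1)
    (by simpa using hxy) hx
  rw [one_pow] at hL
  rw [pow_dvd_iff_le_emultiplicity] at h ⊢
  rw [hL] at h
  have h5 : ((k + 1 : ℕ) : ℕ∞) + 1 ≤ emultiplicity (p : ℤ) (r - 1) + 1 := by
    have : ((k + 2 : ℕ) : ℕ∞) = ((k + 1 : ℕ) : ℕ∞) + 1 := by push_cast; ring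
    rw [← this]; exact h
  exact (ENat.add_le_add_iff_right (by simp)).1 h5

/-- `(1 + x) ^ i = 1 + i * x + x ^ 2 * z` for some `z`. -/
theorem one_add_pow_exists (x : ℤ) (i : ℕ) : ∃ z : ℤ, (1 + x) ^ i = 1 + i * x + x ^ 2 * z := by
  induction i with
  | zero => exact ⟨0, by simp⟩
  | succ i ih =>
    obtain ⟨z, hz⟩ := ih
    refine ⟨i + z + x * z, ?_⟩
    rw [pow_succ, hz]
    push_cast
    ring

/-- Core of the classification of nonabelian `p`-groups (`p` odd) with a cyclic maximal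
subgroup. -/
theorem cyclic_index_p_core {G : Type*} [Group G] (p : ℕ) [hp : Fact p.Prime] (hp2 : p ≠ 2)
    (k : ℕ) (a b0 : G) (horder : orderOf a = p ^ (k + 2))
    (hnorm : b0 * a * b0⁻¹ ∈ Subgroup.zpowers a) (hpow : b0 ^ p ∈ Subgroup.zpowers a)
    (hb0 : b0 ∉ Subgroup.zpowers a) (hnc : b0 * a * b0⁻¹ ≠ a) :
    ∃ b : G, orderOf b = p ∧ b ∉ Subgroup.zpowers a ∧ b * a * b⁻¹ = a ^ (1 + p ^ (k + 1)) := by
  have hodd : Odd p := hp.out.odd_of_ne_two hp2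
  have hp' : Prime (p : ℤ) := Nat.prime_iff_prime_int.1 hp.out
  have hppos : (0 : ℤ) < p := by exact_mod_cast hp.out.pos
  obtain ⟨r, hr⟩ := Subgroup.mem_zpowers_iff.1 hnorm
  obtain ⟨s, hs⟩ := Subgroup.mem_zpowers_iff.1 hpow
  have hN : (orderOf a : ℤ) = p * (p : ℤ) ^ (k + 1) := by rw [horder]; push_cast; ring
  have hconj : ∀ j : ℤ, b0 * a ^ j * b0⁻¹ = a ^ (r * j) := by
    intro j
    rw [← conj_zpow, ← hr, ← zpow_mul]
  have hiter : ∀ i : ℕ, b0 ^ i * a * (b0 ^ i)⁻¹ = a ^ (r ^ i) := by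
    intro i
    induction i with
    | zero => simp
    | succ i ih =>
      have : b0 ^ (i + 1) * a * (b0 ^ (i + 1))⁻¹ = b0 * (b0 ^ i * a * (b0 ^ i)⁻¹) * b0⁻¹ := by
        rw [pow_succ']; group
      rw [this, ih, hconj, pow_succ']
  -- r ^ p ≡ 1
  have hrp : (p : ℤ) ^ (k + 2) ∣ r ^ p - 1 := by
    have e : (p : ℤ) ^ (k + 2) = p * (p : ℤ) ^ (k + 1) := by ring
    rw [e, ← hN]
    have h1 : a ^ (r ^ p) = a ^ (1 : ℤ) := by
      rw [← hiter p, ← hs, zpow_one]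
      rw [(Commute.zpow_left (Commute.refl a) s).eq, mul_assoc, mul_inv_cancel, mul_one]
    exact dvd_sub_of_zpow_eq a h1
  obtain ⟨c, hc⟩ := dvd_sub_one_of_dvd_pow_prime_sub_one p hp.out hodd k r hrp
  have hr' : r = 1 + (p : ℤ) ^ (k + 1) * c := by linarith
  -- p ∤ c
  have hpc : ¬ (p : ℤ) ∣ c := by
    rintro ⟨c', hc'⟩
    apply hnc
    rw [← hr]
    have := zpow_eq_of_dvd_sub a (x := r) (y := 1)
      (by rw [hN]; exact ⟨c', by rw [hr', hc']; ring⟩)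
    rw [this, zpow_one]
  -- inverse of c mod p
  obtain ⟨i, hi⟩ : ∃ i : ℕ, (p : ℤ) ∣ (i : ℤ) * c - 1 := by
    have hcop : IsCoprime c (p : ℤ) := (hp'.coprime_iff_not_dvd.2 hpc).symm
    obtain ⟨u, v, huv⟩ := hcop
    refine ⟨(u % p).toNat, ?_⟩
    have hnn : 0 ≤ u % (p : ℤ) := Int.emod_nonneg _ (ne_of_gt hppos)
    rw [Int.toNat_of_nonneg hnn]
    refine ⟨-(u / p) * c - v, ?_⟩
    have hdiv := Int.emod_add_mul_ediv u p
    -- u % p = u - p * (u / p)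
    have : u % (p : ℤ) = u - p * (u / p) := by linarith
    rw [this]
    linarith
  have hq2 : (p : ℤ) * (p : ℤ) ^ (k + 1) ∣ ((p : ℤ) ^ (k + 1)) ^ 2 := by
    refine ⟨(p : ℤ) ^ k, ?_⟩
    ring
  -- b1 = b0 ^ i
  have hb1conj : b0 ^ i * a * (b0 ^ i)⁻¹ = a ^ (1 + (p : ℤ) ^ (k + 1)) := by
    rw [hiter i]
    apply zpow_eq_of_dvd_sub
    rw [hN, hr']
    obtain ⟨z, hz⟩ := one_add_pow_exists ((p : ℤ) ^ (k + 1) * c) i
    rw [hz]
    obtain ⟨w, hw⟩ := hi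
    obtain ⟨w2, hw2⟩ := hq2
    refine ⟨w + w2 * c ^ 2 * z, ?_⟩
    have e1 : (1 + (i : ℤ) * ((p : ℤ) ^ (k + 1) * c) + ((p : ℤ) ^ (k + 1) * c) ^ 2 * z)
        - (1 + (p : ℤ) ^ (k + 1)) = (p : ℤ) ^ (k + 1) * ((i : ℤ) * c - 1)
          + (((p : ℤ) ^ (k + 1)) ^ 2) * (c ^ 2 * z) := by ring
    rw [e1, hw, hw2]
    ring
  have hicop : Nat.Coprime i p := by
    rw [Nat.coprime_comm, hp.out.coprime_iff_not_dvd]
    intro hpi
    obtain ⟨w, hw⟩ := hi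
    have h1 : (p : ℤ) ∣ (i : ℤ) * c := dvd_mul_of_dvd_left (by exact_mod_cast hpi) c
    have h2 : (p : ℤ) ∣ 1 := by
      have : (1 : ℤ) = (i : ℤ) * c - ((i : ℤ) * c - 1) := by ring
      rw [this]; exact dvd_sub h1 ⟨w, hw⟩
    exact hp'.not_isUnit (isUnit_of_dvd_one h2)
  have hb1mem : b0 ^ i ∉ Subgroup.zpowers a := by
    intro hmem
    apply hb0
    have hg := Nat.gcd_eq_gcd_ab i p
    rw [hicop] at hg
    have : b0 = (b0 ^ i) ^ (Nat.gcdA i p) * (b0 ^ p) ^ (Nat.gcdB i p) := by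
      rw [← zpow_natCast b0 i, ← zpow_natCast b0 p, ← zpow_mul, ← zpow_mul, ← zpow_add]
      have : (i : ℤ) * Nat.gcdA i p + (p : ℤ) * Nat.gcdB i p = 1 := by
        rw [← hg]; simp
      rw [this, zpow_one]
    rw [this]
    exact Subgroup.mul_mem _ (Subgroup.zpow_mem _ hmem _) (Subgroup.zpow_mem _ hpow _)
  have hb1pow : (b0 ^ i) ^ p ∈ Subgroup.zpowers a := by
    rw [← pow_mul, mul_comm, pow_mul]
    exact Subgroup.pow_mem _ hpow _
  -- rename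
  generalize hb1 : b0 ^ i = b1 at hb1conj hb1mem hb1pow
  obtain ⟨s1, hs1⟩ := Subgroup.mem_zpowers_iff.1 hb1pow
  have hconj1 : ∀ j : ℤ, b1 * a ^ j * b1⁻¹ = a ^ ((1 + (p : ℤ) ^ (k + 1)) * j) := by
    intro j
    rw [← conj_zpow, hb1conj, ← zpow_mul]
  -- p ∣ s1
  have hps1 : (p : ℤ) ∣ s1 := by
    have h1 : a ^ ((1 + (p : ℤ) ^ (k + 1)) * s1) = a ^ s1 := by
      rw [← hconj1 s1, hs1]; group
    have h2 := dvd_sub_of_zpow_eq a h1
    rw [hN] at h2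
    have e : (1 + (p : ℤ) ^ (k + 1)) * s1 - s1 = (p : ℤ) ^ (k + 1) * s1 := by ring
    rw [e, mul_comm (p : ℤ) _] at h2
    exact (mul_dvd_mul_iff_left (pow_ne_zero _ (ne_of_gt hppos))).1 h2
  obtain ⟨u, hu⟩ := hps1
  -- x = a ^ (-u), y = b1, z = a ^ (p^(k+1) * (-u))
  have hz : b1 * a ^ (-u) = a ^ ((p : ℤ) ^ (k + 1) * (-u)) * a ^ (-u) * b1 := by
    have h1 : b1 * a ^ (-u) = (b1 * a ^ (-u) * b1⁻¹) * b1 := by group
    rw [h1, hconj1, ← zpow_add]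
    congr 2
    ring
  have hzx : Commute (a ^ ((p : ℤ) ^ (k + 1) * (-u))) (a ^ (-u)) := Commute.zpow_zpow_self a _ _
  have hzy : Commute (a ^ ((p : ℤ) ^ (k + 1) * (-u))) b1 := by
    have h1 : b1 * a ^ ((p : ℤ) ^ (k + 1) * (-u)) * b1⁻¹ = a ^ ((p : ℤ) ^ (k + 1) * (-u)) := by
      rw [hconj1]
      apply zpow_eq_of_dvd_sub
      rw [hN]
      obtain ⟨w2, hw2⟩ := hq2
      refine ⟨w2 * (-u), ?_⟩
      have e : (1 + (p : ℤ) ^ (k + 1)) * ((p : ℤ) ^ (k + 1) * -u) - (p : ℤ) ^ (k + 1) * -u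
          = ((p : ℤ) ^ (k + 1)) ^ 2 * (-u) := by ring
      rw [e, hw2]; ring
    have h2 : b1 * a ^ ((p : ℤ) ^ (k + 1) * (-u)) = a ^ ((p : ℤ) ^ (k + 1) * (-u)) * b1 :=
      mul_inv_eq_iff_eq_mul.1 h1
    exact h2.symm
  have hpowp := Cfsg.Agent.Lib.Helper24.mul_pow_of_central_comm (a ^ (-u)) b1
    (a ^ ((p : ℤ) ^ (k + 1) * (-u))) hz hzx hzy p
  have hbp : (a ^ (-u) * b1) ^ p = 1 := by
    rw [hpowp, ← hs1]
    have h1 : (a ^ (-u)) ^ p * a ^ s1 = 1 := by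
      rw [← zpow_natCast, ← zpow_mul, ← zpow_add, hu]
      have : -u * (p : ℤ) + (p : ℤ) * u = 0 := by ring
      rw [this, zpow_zero]
    rw [h1, one_mul]
    have h3 : 2 < p := by
      have := hp.out.two_le
      omega
    obtain ⟨m, hm⟩ := hp.out.dvd_choose_self (by norm_num : (2 : ℕ) ≠ 0) h3
    rw [hm, pow_mul]
    have h2 : (a ^ ((p : ℤ) ^ (k + 1) * (-u))) ^ p = 1 := by
      rw [← zpow_natCast, ← zpow_mul, ← orderOf_dvd_iff_zpow_eq_one, hN]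
      exact ⟨-u, by ring⟩
    rw [h2, one_pow]
  have hbmem : a ^ (-u) * b1 ∉ Subgroup.zpowers a := by
    intro hmem
    apply hb1mem
    have : b1 = (a ^ (-u))⁻¹ * (a ^ (-u) * b1) := by group
    rw [this]
    exact Subgroup.mul_mem _ (Subgroup.inv_mem _ (Subgroup.zpow_mem _ (Subgroup.mem_zpowers a) _)) hmem
  refine ⟨a ^ (-u) * b1, ?_, hbmem, ?_⟩
  · apply orderOf_eq_prime hbp
    intro h1
    apply hbmem
    rw [h1]
    exact Subgroup.one_mem _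
  · have : a ^ (-u) * b1 * a * (a ^ (-u) * b1)⁻¹ = a ^ (-u) * (b1 * a * b1⁻¹) * (a ^ (-u))⁻¹ := by
      group
    rw [this, hb1conj]
    rw [(Commute.zpow_zpow_self a _ _).eq, mul_assoc, mul_inv_cancel, mul_one]
    rw [← zpow_natCast]
    push_cast
    rfl

end Cfsg.Agent.Lib.Helper73
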