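import Mathlib

set_option autoImplicit false

namespace Cfsg.Agent.Lib.Helper73

/-- A group of exponent two is commutative. -/
theorem comm_of_sq_eq_one {H : Type*} [Group H] (h : ∀ x : H, x ^ 2 = 1) (a b : H) :
    a * b = b * a := by
  have ha : a⁻¹ = a := by rw [inv_eq_iff_mul_eq_one, ← sq, h]
  have hb : b⁻¹ = b := by rw [inv_eq_iff_mul_eq_one, ← sq, h]
  have hab : (a * b)⁻¹ = a * b := by rw [inv_eq_iff_mul_eq_one, ← sq, h]
  rw [mul_inv_rev, ha, hb] at hab
  exact hab.symm

/-- A nontrivial normal subgroup of a finite `p`-group meets the center nontrivially. -/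
theorem exists_ne_one_mem_center_of_normal' {P : Type*} [Group P] [Finite P] {p : ℕ}
    [Fact p.Prime] (hP : IsPGroup p P) (N : Subgroup P) [N.Normal] (hN : N ≠ ⊥) :
    ∃ z ∈ N, z ≠ 1 ∧ z ∈ Subgroup.center P := by
  have hPc : IsPGroup p (ConjAct P) := hP.of_equiv ConjAct.toConjAct
  have hdvd : p ∣ Nat.card N := by
    have hN' : IsPGroup p N := hP.to_subgroup N
    have : Nontrivial N := (Subgroup.nontrivial_iff_ne_bot N).2 hN
    obtain ⟨n, hn0, hn⟩ := hN'.nontrivial_iff_card.mp inferInstance
    exact hn.symm ▸ dvd_pow_self _ (ne_of_gt hn0)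
  have h1 : (1 : N) ∈ MulAction.fixedPoints (ConjAct P) N := by
    intro g
    exact smul_one g
  obtain ⟨b, hb, hne⟩ := hPc.exists_fixed_point_of_prime_dvd_card_of_fixed_point N hdvd h1
  refine ⟨b, b.2, ?_, ?_⟩
  · intro h
    apply hne
    exact (Subtype.ext h).symm
  · rw [Subgroup.mem_center_iff]
    intro g
    have h2 := hb (ConjAct.toConjAct g)
    have h3 := congrArg Subtype.val h2
    rw [ConjAct.Subgroup.val_conj_smul, ConjAct.smul_def, ConjAct.ofConjAct_toConjAct] at h3
    rw [mul_inv_eq_iff_eq_mul] at h3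
    exact h3

/-- Elements of `H ⊔ N` for `N` normal are products. -/
theorem mem_sup_normal_iff {G : Type*} [Group G] (H N : Subgroup G) [N.Normal] (x : G) :
    x ∈ H ⊔ N ↔ ∃ h ∈ H, ∃ n ∈ N, h * n = x := by
  rw [← SetLike.mem_coe, Subgroup.mul_normal, Set.mem_mul]
  simp

/-- Two subgroups of order two sharing a non-identity element are equal. -/
theorem subgroup_eq_of_card_two {G : Type*} [Group G] (K L : Subgroup G) (hK : Nat.card K = 2)
    (hL : Nat.card L = 2) (z : G) (hzK : z ∈ K) (hzL : z ∈ L) (hz : z ≠ 1) : K = L := by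
  have hKf : Finite K := Nat.finite_of_card_ne_zero (by omega)
  have hLf : Finite L := Nat.finite_of_card_ne_zero (by omega)
  have hzc : 2 ≤ Nat.card (Subgroup.zpowers z) := by
    rw [Nat.card_zpowers]
    have hfin : IsOfFinOrder z := by
      have : IsOfFinOrder (⟨z, hzK⟩ : K) := isOfFinOrder_of_finite _
      exact (Submonoid.isOfFinOrder_coe (H := K.toSubmonoid) (x := ⟨z, hzK⟩)).2 this
    have h0 : 0 < orderOf z := orderOf_pos_iff.2 hfin
    have h1 : orderOf z ≠ 1 := by
      intro h
      exact hz (orderOf_eq_one_iff.1 h)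
    omega
  have h1 : Subgroup.zpowers z = K :=
    Subgroup.eq_of_le_of_card_ge (by rw [Subgroup.zpowers_le]; exact hzK) (by omega)
  have h2 : Subgroup.zpowers z = L :=
    Subgroup.eq_of_le_of_card_ge (by rw [Subgroup.zpowers_le]; exact hzL) (by omega)
  rw [← h1, ← h2]

/-- In a finite `p`-group every proper subgroup lies in a subgroup of index `p`. -/
theorem exists_index_prime_ge {G : Type*} [Group G] [Finite G] {p : ℕ} [hp : Fact p.Prime]
    (hG : IsPGroup p G) (C : Subgroup G) (hC : C ≠ ⊤) :
    ∃ K : Subgroup G, C ≤ K ∧ K.index = p := by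
  obtain ⟨m, hm⟩ := IsPGroup.iff_card.1 hG
  obtain ⟨n, hn⟩ := IsPGroup.iff_card.1 (hG.to_subgroup C)
  have hlt : Nat.card C < Nat.card G := by
    by_contra hge
    push Not at hge
    exact hC (Subgroup.eq_top_of_le_card C hge)
  rw [hm, hn] at hlt
  have hnm : n < m := (Nat.pow_lt_pow_iff_right hp.out.one_lt).1 hlt
  obtain ⟨K, hK, hCK⟩ := Sylow.exists_subgroup_card_pow_prime_le p (m := m - 1)
    (by rw [hm]; exact pow_dvd_pow p (Nat.sub_le m 1)) C hn (by omega)
  refine ⟨K, hCK, ?_⟩
  have h1 := K.card_mul_index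
  rw [hK, hm] at h1
  have h2 : p ^ m = p ^ (m - 1) * p := by
    rw [← pow_succ]
    congr 1
    omega
  rw [h2] at h1
  exact Nat.eq_of_mul_eq_mul_left (pow_pos hp.out.pos _) h1

/-- In a finite noncommutative `2`-group, a subgroup contained in every subgroup of index two has
index greater than two. -/
theorem two_lt_index_of_forall_index_two_le {G : Type*} [Group G] [Finite G] (hG : IsPGroup 2 G)
    (hnc : ¬ IsMulCommutative G) (M : Subgroup G)
    (hK : ∀ K : Subgroup G, K.index = 2 → M ≤ K) : 2 < M.index := by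
  have : Fact (Nat.Prime 2) := ⟨Nat.prime_two⟩
  by_contra hle
  push Not at hle
  have h0 : M.index ≠ 0 := Subgroup.index_ne_zero_of_finite
  have hcases : M.index = 1 ∨ M.index = 2 := by omega
  rcases hcases with h1 | h2
  · -- M = ⊤
    have hMtop : M = ⊤ := Subgroup.index_eq_one.1 h1
    have hbot : (⊥ : Subgroup G) ≠ ⊤ := by
      intro h
      apply hnc
      have hsub : Subsingleton G :=
        Subgroup.subsingleton_iff.1 (subsingleton_of_bot_eq_top h)
      exact ⟨⟨fun a b => Subsingleton.elim _ _⟩⟩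
    obtain ⟨K, -, hKi⟩ := exists_index_prime_ge hG ⊥ hbot
    have := hK K hKi
    rw [hMtop, top_le_iff] at this
    rw [this, Subgroup.index_top] at hKi
    omega
  · have hMtop : M ≠ ⊤ := by
      intro h
      rw [h, Subgroup.index_top] at h2
      omega
    obtain ⟨x, hx⟩ : ∃ x : G, x ∉ M := by
      by_contra hcon
      push Not at hcon
      exact hMtop (eq_top_iff.2 (fun y _ => hcon y))
    by_cases hC : Subgroup.zpowers x = ⊤
    · apply hnc
      have hcyc : IsCyclic G := ⟨⟨x, fun y => by
        have : y ∈ Subgroup.zpowers x := by rw [hC]; trivial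
        exact this⟩⟩
      exact ⟨⟨fun a b => (IsCyclic.commGroup (α := G)).mul_comm a b⟩⟩
    · obtain ⟨K, hCK, hKi⟩ := exists_index_prime_ge hG _ hC
      have hMK := hK K hKi
      have hcard : Nat.card K ≤ Nat.card M := by
        have e1 := K.card_mul_index
        have e2 := M.card_mul_index
        rw [hKi] at e1
        rw [h2] at e2
        have : Nat.card K * 2 = Nat.card M * 2 := by rw [e1, e2]
        omega
      have hEq : M = K := Subgroup.eq_of_le_of_card_ge hMK hcard
      apply hx
      rw [hEq]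
      exact hCK (Subgroup.mem_zpowers x)

/-- The normal closure of the set of squares of elements of `P`. -/
def sqSub {S : Type*} [Group S] (P : Subgroup S) : Subgroup S :=
  Subgroup.normalClosure {y | ∃ x ∈ P, x ^ 2 = y}

instance sqSub_normal {S : Type*} [Group S] (P : Subgroup S) : (sqSub P).Normal :=
  Subgroup.normalClosure_normal

theorem sq_mem_sqSub {S : Type*} [Group S] (P : Subgroup S) (x : S) (hx : x ∈ P) :
    x ^ 2 ∈ sqSub P :=
  Subgroup.subset_normalClosure ⟨x, hx, rfl⟩

theorem sqSub_le {S : Type*} [Group S] (P : Subgroup S) [P.Normal] : sqSub P ≤ P := by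
  apply Subgroup.normalClosure_le_normal
  rintro y ⟨x, hx, rfl⟩
  exact P.pow_mem hx 2

/-- For `P` normal, `sqSub P` lies in (the image of) every index two subgroup of `P`. -/
theorem sqSub_subgroupOf_le_of_index_two {S : Type*} [Group S] (P : Subgroup S) [P.Normal]
    (K : Subgroup P) (hK : K.index = 2) : (sqSub P).subgroupOf P ≤ K := by
  have hle : sqSub P ≤ K.map P.subtype := by
    unfold sqSub Subgroup.normalClosure
    rw [Subgroup.closure_le]
    intro y hy
    rw [Group.mem_conjugatesOfSet_iff] at hy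
    obtain ⟨a, ⟨x, hx, rfl⟩, hconj⟩ := hy
    rw [isConj_iff] at hconj
    obtain ⟨c, rfl⟩ := hconj
    have hcx : c * x * c⁻¹ ∈ P := Subgroup.Normal.conj_mem inferInstance x hx c
    have hsq : (⟨c * x * c⁻¹, hcx⟩ : P) ^ 2 ∈ K := Subgroup.sq_mem_of_index_two hK _
    refine ⟨(⟨c * x * c⁻¹, hcx⟩ : P) ^ 2, hsq, ?_⟩
    simp only [Subgroup.coe_subtype, Subgroup.coe_pow]
    rw [conj_pow]
  intro y hy
  rw [Subgroup.mem_subgroupOf] at hy
  obtain ⟨k, hk, hky⟩ := hle hy
  have : k = y := Subtype.ext hky
  rw [← this]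
  exact hk

/-- For a noncommutative normal `2`-subgroup `P`, the index of `sqSub P` in `P` exceeds two. -/
theorem two_lt_relIndex_sqSub {S : Type*} [Group S] [Finite S] (hS : IsPGroup 2 S)
    (P : Subgroup S) [P.Normal] (hP : ¬ IsMulCommutative P) : 2 < (sqSub P).relIndex P := by
  unfold Subgroup.relIndex
  exact two_lt_index_of_forall_index_two_le (hS.to_subgroup P) hP _
    (fun K hK => sqSub_subgroupOf_le_of_index_two P K hK)

/-- For a noncommutative normal `2`-subgroup `P` with centre of order two, the centre lies in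
`sqSub P`. -/
theorem center_map_le_sqSub {S : Type*} [Group S] [Finite S] (hS : IsPGroup 2 S)
    (P : Subgroup S) [P.Normal] (hP : ¬ IsMulCommutative P)
    (hZ : Nat.card (Subgroup.center P) = 2) :
    (Subgroup.center P).map P.subtype ≤ sqSub P := by
  have : Fact (Nat.Prime 2) := ⟨Nat.prime_two⟩
  have hne : (sqSub P).subgroupOf P ≠ ⊥ := by
    intro hbot
    apply hP
    have hexp : ∀ x : P, x ^ 2 = 1 := by
      intro x
      have : x ^ 2 ∈ (sqSub P).subgroupOf P := by
        rw [Subgroup.mem_subgroupOf]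
        simpa using sq_mem_sqSub P x x.2
      rw [hbot] at this
      exact Subgroup.mem_bot.1 this
    exact ⟨⟨fun a b => comm_of_sq_eq_one hexp a b⟩⟩
  obtain ⟨z, hzM, hz1, hzc⟩ :=
    exists_ne_one_mem_center_of_normal' (hS.to_subgroup P) ((sqSub P).subgroupOf P) hne
  -- center P = zpowers z
  have hcen : Subgroup.center P = Subgroup.zpowers z := by
    symm
    apply Subgroup.eq_of_le_of_card_ge
    · rw [Subgroup.zpowers_le]; exact hzc
    · rw [hZ, Nat.card_zpowers]
      have h0 : 0 < orderOf z := orderOf_pos z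
      have h1 : orderOf z ≠ 1 := fun h => hz1 (orderOf_eq_one_iff.1 h)
      omega
  rw [hcen]
  rintro y ⟨w, hw, rfl⟩
  have hwM : w ∈ (sqSub P).subgroupOf P := by
    have : Subgroup.zpowers z ≤ (sqSub P).subgroupOf P := by
      rw [Subgroup.zpowers_le]; exact hzM
    exact this hw
  exact Subgroup.mem_subgroupOf.1 hwM

end Cfsg.Agent.Lib.Helper73
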