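import Mathlib

set_option autoImplicit false

namespace Cfsg.Agent.Lib.Helper73

section
variable {G : Type*} [Group G]

/-- powers of `ρ` indexed by `ZMod n`, where `ρ ^ n = 1` -/
noncomputable def zmodPow (ρ : G) (n : ℕ) (h : ρ ^ n = 1) : ZMod n →+ Additive G :=
  ZMod.lift n ⟨zmultiplesHom (Additive G) (Additive.ofMul ρ), by
    simp only [zmultiplesHom_apply]
    rw [natCast_zsmul, ← ofMul_pow, h, ofMul_one]⟩

theorem zmodPow_intCast (ρ : G) (n : ℕ) (h : ρ ^ n = 1) (k : ℤ) :
    (zmodPow ρ n h (k : ZMod n)).toMul = ρ ^ k := by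
  rw [zmodPow, ZMod.lift_coe]
  simp only [zmultiplesHom_apply]
  rw [← ofMul_zpow, toMul_ofMul]

theorem zmodPow_natCast (ρ : G) (n : ℕ) (h : ρ ^ n = 1) (k : ℕ) :
    (zmodPow ρ n h (k : ZMod n)).toMul = ρ ^ k := by
  have := zmodPow_intCast ρ n h (k : ℤ)
  rwa [Int.cast_natCast, zpow_natCast] at this

theorem zmodPow_one (ρ : G) (n : ℕ) (h : ρ ^ n = 1) : (zmodPow ρ n h 1).toMul = ρ := by
  have := zmodPow_natCast ρ n h 1
  rwa [Nat.cast_one, pow_one] at this

theorem zmodPow_mem (ρ : G) (n : ℕ) (h : ρ ^ n = 1) (i : ZMod n) :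
    (zmodPow ρ n h i).toMul ∈ Subgroup.zpowers ρ := by
  have : i = ((ZMod.cast i : ℤ) : ZMod n) := (ZMod.intCast_zmod_cast i).symm
  rw [this, zmodPow_intCast]
  exact Subgroup.zpow_mem_zpowers ρ _

theorem conj_inv_of_mem_zpowers {α β : G} (hc : β * α * β⁻¹ = α⁻¹) {c : G}
    (hcm : c ∈ Subgroup.zpowers α) : β * c * β⁻¹ = c⁻¹ := by
  obtain ⟨k, rfl⟩ := hcm
  have h2 := map_zpow (MulAut.conj β) α k
  simp only [MulAut.conj_apply] at h2
  rw [h2, hc, inv_zpow]

theorem mul_eq_mul_inv_of_mem_zpowers {α β : G} (hc : β * α * β⁻¹ = α⁻¹) {c : G}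
    (hcm : c ∈ Subgroup.zpowers α) : c * β = β * c⁻¹ := by
  have h1 := conj_inv_of_mem_zpowers hc (inv_mem hcm)
  rw [inv_inv] at h1
  calc c * β = (β * c⁻¹ * β⁻¹) * β := by rw [h1]
    _ = β * c⁻¹ := by group

/-- The homomorphism from the generalized quaternion group determined by `α`, `β`. -/
noncomputable def quatHom (α β : G) (n : ℕ) (hα : α ^ (2 * n) = 1) (hβ : β ^ 2 = α ^ n)
    (hc : β * α * β⁻¹ = α⁻¹) : QuaternionGroup n →* G :=
  MonoidHom.mk' (fun x => match x with
    | QuaternionGroup.a i => (zmodPow α (2 * n) hα i).toMul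
    | QuaternionGroup.xa i => β * (zmodPow α (2 * n) hα i).toMul) (by
    intro x y
    rcases x with i | i <;> rcases y with j | j
    · show (zmodPow α (2 * n) hα (i + j)).toMul = _
      rw [map_add, toMul_add]
    · show β * (zmodPow α (2 * n) hα (j - i)).toMul =
        (zmodPow α (2 * n) hα i).toMul * (β * (zmodPow α (2 * n) hα j).toMul)
      rw [← mul_assoc, mul_eq_mul_inv_of_mem_zpowers hc (zmodPow_mem α (2 * n) hα i),
        sub_eq_neg_add, map_add, map_neg, toMul_add, toMul_neg, mul_assoc]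
    · show β * (zmodPow α (2 * n) hα (i + j)).toMul =
        β * (zmodPow α (2 * n) hα i).toMul * (zmodPow α (2 * n) hα j).toMul
      rw [map_add, toMul_add, mul_assoc]
    · show (zmodPow α (2 * n) hα ((n : ZMod (2 * n)) + j - i)).toMul =
        β * (zmodPow α (2 * n) hα i).toMul * (β * (zmodPow α (2 * n) hα j).toMul)
      rw [mul_assoc β, ← mul_assoc _ β, mul_eq_mul_inv_of_mem_zpowers hc (zmodPow_mem α (2 * n) hα i),
        add_sub_assoc, map_add, toMul_add, zmodPow_natCast, ← hβ,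
        sub_eq_neg_add, map_add, map_neg, toMul_add, toMul_neg, pow_two]
      simp only [mul_assoc])

theorem quatHom_a (α β : G) (n : ℕ) (hα : α ^ (2 * n) = 1) (hβ : β ^ 2 = α ^ n)
    (hc : β * α * β⁻¹ = α⁻¹) (i : ZMod (2 * n)) :
    quatHom α β n hα hβ hc (QuaternionGroup.a i) = (zmodPow α (2 * n) hα i).toMul := rfl

theorem quatHom_xa (α β : G) (n : ℕ) (hα : α ^ (2 * n) = 1) (hβ : β ^ 2 = α ^ n)
    (hc : β * α * β⁻¹ = α⁻¹) (i : ZMod (2 * n)) :
    quatHom α β n hα hβ hc (QuaternionGroup.xa i) = β * (zmodPow α (2 * n) hα i).toMul := rfl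

theorem quaternion_equiv (α β : G) (n : ℕ) (hn0 : n ≠ 0) (hα : α ^ (2 * n) = 1)
    (hβ : β ^ 2 = α ^ n) (hc : β * α * β⁻¹ = α⁻¹)
    (hgen : Subgroup.zpowers α ⊔ Subgroup.zpowers β = ⊤)
    (hcard : Nat.card G = 4 * n) : Nonempty (QuaternionGroup n ≃* G) := by
  have : NeZero n := ⟨hn0⟩
  have hfin : Finite G := Nat.finite_of_card_ne_zero (by rw [hcard]; omega)
  set f := quatHom α β n hα hβ hc with hf
  have hfa : f (QuaternionGroup.a 1) = α := by
    rw [hf, quatHom_a, zmodPow_one]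
  have hfb : f (QuaternionGroup.xa 0) = β := by
    rw [hf, quatHom_xa, map_zero, toMul_zero, mul_one]
  have hsurj : Function.Surjective f := by
    rw [← MonoidHom.range_eq_top, eq_top_iff, ← hgen, sup_le_iff]
    constructor
    · rw [Subgroup.zpowers_le]; exact ⟨_, hfa⟩
    · rw [Subgroup.zpowers_le]; exact ⟨_, hfb⟩
  have hbij : Function.Bijective f := by
    rw [Nat.bijective_iff_surjective_and_card]
    exact ⟨hsurj, by rw [Nat.card_eq_fintype_card, QuaternionGroup.card, hcard]⟩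
  exact ⟨MulEquiv.ofBijective f hbij⟩

/-- The homomorphism from the dihedral group determined by `α`, `β`. -/
noncomputable def dihHom (α β : G) (n : ℕ) (hα : α ^ n = 1) (hβ : β ^ 2 = 1)
    (hc : β * α * β⁻¹ = α⁻¹) : DihedralGroup n →* G :=
  MonoidHom.mk' (fun x => match x with
    | DihedralGroup.r i => (zmodPow α n hα i).toMul
    | DihedralGroup.sr i => β * (zmodPow α n hα i).toMul) (by
    intro x y
    rcases x with i | i <;> rcases y with j | j
    · show (zmodPow α n hα (i + j)).toMul = _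
      rw [map_add, toMul_add]
    · show β * (zmodPow α n hα (j - i)).toMul =
        (zmodPow α n hα i).toMul * (β * (zmodPow α n hα j).toMul)
      rw [← mul_assoc, mul_eq_mul_inv_of_mem_zpowers hc (zmodPow_mem α n hα i),
        sub_eq_neg_add, map_add, map_neg, toMul_add, toMul_neg, mul_assoc]
    · show β * (zmodPow α n hα (i + j)).toMul =
        β * (zmodPow α n hα i).toMul * (zmodPow α n hα j).toMul
      rw [map_add, toMul_add, mul_assoc]
    · show (zmodPow α n hα (j - i)).toMul =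
        β * (zmodPow α n hα i).toMul * (β * (zmodPow α n hα j).toMul)
      rw [mul_assoc β, ← mul_assoc _ β, mul_eq_mul_inv_of_mem_zpowers hc (zmodPow_mem α n hα i),
        sub_eq_neg_add, map_add, map_neg, toMul_add, toMul_neg]
      have : β * β = 1 := by rw [← pow_two, hβ]
      simp only [← mul_assoc, this, one_mul])

theorem dihHom_r (α β : G) (n : ℕ) (hα : α ^ n = 1) (hβ : β ^ 2 = 1)
    (hc : β * α * β⁻¹ = α⁻¹) (i : ZMod n) :
    dihHom α β n hα hβ hc (DihedralGroup.r i) = (zmodPow α n hα i).toMul := rfl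

theorem dihHom_sr (α β : G) (n : ℕ) (hα : α ^ n = 1) (hβ : β ^ 2 = 1)
    (hc : β * α * β⁻¹ = α⁻¹) (i : ZMod n) :
    dihHom α β n hα hβ hc (DihedralGroup.sr i) = β * (zmodPow α n hα i).toMul := rfl

theorem dihedral_equiv (α β : G) (n : ℕ) (hn0 : n ≠ 0) (hα : α ^ n = 1)
    (hβ : β ^ 2 = 1) (hc : β * α * β⁻¹ = α⁻¹)
    (hgen : Subgroup.zpowers α ⊔ Subgroup.zpowers β = ⊤)
    (hcard : Nat.card G = 2 * n) : Nonempty (DihedralGroup n ≃* G) := by
  have : NeZero n := ⟨hn0⟩
  have hfin : Finite G := Nat.finite_of_card_ne_zero (by rw [hcard]; omega)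
  set f := dihHom α β n hα hβ hc with hf
  have hfa : f (DihedralGroup.r 1) = α := by
    rw [hf, dihHom_r, zmodPow_one]
  have hfb : f (DihedralGroup.sr 0) = β := by
    rw [hf, dihHom_sr, map_zero, toMul_zero, mul_one]
  have hsurj : Function.Surjective f := by
    rw [← MonoidHom.range_eq_top, eq_top_iff, ← hgen, sup_le_iff]
    constructor
    · rw [Subgroup.zpowers_le]; exact ⟨_, hfa⟩
    · rw [Subgroup.zpowers_le]; exact ⟨_, hfb⟩
  have hbij : Function.Bijective f := by
    rw [Nat.bijective_iff_surjective_and_card]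
    exact ⟨hsurj, by rw [DihedralGroup.nat_card, hcard]⟩
  exact ⟨MulEquiv.ofBijective f hbij⟩

/-- A cyclic subgroup of index two together with any element outside generates the group. -/
theorem zpowers_sup_zpowers_eq_top [Finite G] (α β : G) (hcard : Nat.card G = 2 * orderOf α)
    (hβ : β ∉ Subgroup.zpowers α) : Subgroup.zpowers α ⊔ Subgroup.zpowers β = ⊤ := by
  have hidx : (Subgroup.zpowers α).index = 2 := by
    have h1 := Subgroup.index_mul_card (Subgroup.zpowers α)
    rw [Nat.card_zpowers, hcard] at h1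
    have h0 : 0 < orderOf α := orderOf_pos α
    exact Nat.eq_of_mul_eq_mul_right h0 h1
  set K := Subgroup.zpowers α ⊔ Subgroup.zpowers β with hK
  have hle : Subgroup.zpowers α ≤ K := le_sup_left
  have h2 := Subgroup.relIndex_mul_index hle
  rw [hidx] at h2
  have h3 : K.index ∣ 2 := Dvd.intro_left _ h2
  rcases (Nat.dvd_prime Nat.prime_two).mp h3 with h | h
  · exact Subgroup.index_eq_one.mp h
  · exfalso
    rw [h] at h2
    have h4 : (Subgroup.zpowers α).relIndex K = 1 := by omega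
    have h5 : K ≤ Subgroup.zpowers α := Subgroup.relIndex_eq_one.mp h4
    exact hβ (h5 (le_sup_right (a := Subgroup.zpowers α) (Subgroup.mem_zpowers β)))

end

end Cfsg.Agent.Lib.Helper73
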