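import Cfsg.Agent.S0069
import Cfsg.Agent.Lib.Helper30.CycSylBasic
import Cfsg.Agent.Lib.Helper35.FpfCyclic

/-!
(helper73, module M1 for helper33, S1549 chain) In a Frobenius complement of odd order every subgroup of
prime order is normal.
-/

set_option autoImplicit false

namespace Cfsg.Agent.Lib.Helper73

open Cfsg
open scoped commutatorElement

/-- In a `Z`-group all of whose subgroups of order a product of two primes are cyclic, an element of
prime order not dividing the order of the commutator subgroup centralizes the commutator subgroup. -/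
theorem centralizes_commutator_of_zgroup {H : Type*} [Group H] [Finite H] [IsZGroup H]
    (hP : ∀ B : Subgroup H, (∃ r s : ℕ, r.Prime ∧ s.Prime ∧ Nat.card B = r * s) → IsCyclic B)
    (b : H) (r : ℕ) (hr : r.Prime) (hb : orderOf b = r) (hrD : ¬ r ∣ Nat.card (commutator H)) :
    ∀ d ∈ commutator H, b * d = d * b := by
  have hDcyc : IsCyclic (commutator H) := IsZGroup.isCyclic_commutator H
  have hDn : (commutator H).Normal := inferInstance
  have hBcard : Nat.card (Subgroup.zpowers b) = r := by rw [Nat.card_zpowers, hb]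
  have hBN : Subgroup.zpowers b ≤ Subgroup.normalizer ((commutator H : Subgroup H) : Set H) := by
    rw [Subgroup.normalizer_eq_top]; exact le_top
  have hcopBD : (Nat.card (Subgroup.zpowers b)).Coprime (Nat.card (commutator H)) := by
    rw [hBcard]; exact (Nat.Prime.coprime_iff_not_dvd hr).mpr hrD
  have hDcomm : IsMulCommutative (commutator H) := by
    let _ := IsCyclic.commGroup (α := commutator H)
    exact ⟨⟨mul_comm⟩⟩
  obtain ⟨h55a, _⟩ := Cfsg.Agent.S0055.result (Subgroup.zpowers b) (commutator H) hBN hcopBD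
  have hcomm : ⁅commutator H, Subgroup.zpowers b⁆ = ⊥ := by
    by_contra hne
    have hnt : Nontrivial (⁅commutator H, Subgroup.zpowers b⁆ : Subgroup H) :=
      (Subgroup.nontrivial_iff_ne_bot _).mpr hne
    have hc1 : Nat.card (⁅commutator H, Subgroup.zpowers b⁆ : Subgroup H) ≠ 1 :=
      Finite.one_lt_card.ne'
    obtain ⟨s, hs, hsdvd⟩ := Nat.exists_prime_and_dvd hc1
    have := Fact.mk hs
    obtain ⟨d, hd⟩ := exists_prime_orderOf_dvd_card' s hsdvd
    have hdD : (d : H) ∈ commutator H :=
      (Subgroup.commutator_le_left (commutator H) (Subgroup.zpowers b)) d.2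
    have hdo : orderOf (d : H) = s := by rw [Subgroup.orderOf_coe]; exact hd
    have hsr : s ≠ r := by
      rintro rfl
      apply hrD
      rw [← hdo]
      have := orderOf_dvd_natCard (⟨(d : H), hdD⟩ : commutator H)
      rwa [Subgroup.orderOf_mk] at this
    have hconj : b * (d : H) * b⁻¹ ∈ Subgroup.zpowers (d : H) := by
      have hm := Cfsg.Agent.S0069.mem_zpowers_of_cyclic hs
        (⟨b * (d : H) * b⁻¹, hDn.conj_mem _ hdD b⟩ : commutator H) ⟨(d : H), hdD⟩
        (by rw [Subgroup.orderOf_mk]; exact hdo)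
        (by
          apply Subtype.ext
          simp only [Subgroup.coe_pow, Subgroup.coe_one]
          rw [conj_pow, ← hdo, pow_orderOf_eq_one, mul_one, mul_inv_cancel])
      obtain ⟨k, hk⟩ := hm
      refine ⟨k, ?_⟩
      have := congrArg Subtype.val hk
      simpa using this
    have hBS : Subgroup.zpowers b ≤
        Subgroup.normalizer ((Subgroup.zpowers (d : H) : Subgroup H) : Set H) := by
      rw [Subgroup.zpowers_le]
      have hmap : ∀ x ∈ Subgroup.zpowers (d : H), b * x * b⁻¹ ∈ Subgroup.zpowers (d : H) := by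
        rintro _ ⟨k, rfl⟩
        have e : b * (d : H) ^ k * b⁻¹ = (b * (d : H) * b⁻¹) ^ k := (conj_zpow).symm
        rw [e]
        exact zpow_mem hconj k
      have hpow : ∀ n : ℕ, ∀ x ∈ Subgroup.zpowers (d : H),
          b ^ n * x * (b ^ n)⁻¹ ∈ Subgroup.zpowers (d : H) := by
        intro n
        induction n with
        | zero => intro x hx; simpa using hx
        | succ n ih =>
          intro x hx
          have e : b ^ (n + 1) * x * (b ^ (n + 1))⁻¹ = b * (b ^ n * x * (b ^ n)⁻¹) * b⁻¹ := by
            rw [pow_succ']; group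
          rw [e]
          exact hmap _ (ih x hx)
      have hbinv : b⁻¹ = b ^ (r - 1) := by
        apply inv_eq_of_mul_eq_one_left
        rw [← pow_succ, Nat.sub_add_cancel hr.one_lt.le, ← hb, pow_orderOf_eq_one]
      rw [Subgroup.mem_normalizer_iff]
      intro x
      constructor
      · exact hmap x
      · intro hx
        have := hpow (r - 1) _ hx
        rw [← hbinv] at this
        simpa [mul_assoc] using this
    have hdisj : Subgroup.zpowers (d : H) ⊓ Subgroup.zpowers b = ⊥ := by
      apply Disjoint.eq_bot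
      apply Subgroup.disjoint_of_coprime_natCard
      rw [Nat.card_zpowers, Nat.card_zpowers, hdo, hb]
      exact (Nat.coprime_primes hs hr).mpr hsr
    have hcard : Nat.card (Subgroup.zpowers (d : H) ⊔ Subgroup.zpowers b : Subgroup H) = s * r := by
      rw [Cfsg.Agent.Lib.Helper54.card_sup_of_le_normalizer hBS hdisj, Nat.card_zpowers,
        Nat.card_zpowers, hdo, hb]
    have hcyc := hP _ ⟨s, r, hs, hr, hcard⟩
    have hbd : b * (d : H) = (d : H) * b := by
      let _ := IsCyclic.commGroup (α := (Subgroup.zpowers (d : H) ⊔ Subgroup.zpowers b : Subgroup H))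
      have hb' : b ∈ (Subgroup.zpowers (d : H) ⊔ Subgroup.zpowers b : Subgroup H) :=
        (le_sup_right : Subgroup.zpowers b ≤ _) (Subgroup.mem_zpowers b)
      have hd' : (d : H) ∈ (Subgroup.zpowers (d : H) ⊔ Subgroup.zpowers b : Subgroup H) :=
        (le_sup_left : Subgroup.zpowers (d : H) ≤ _) (Subgroup.mem_zpowers (d : H))
      have := mul_comm (⟨b, hb'⟩ : (Subgroup.zpowers (d : H) ⊔ Subgroup.zpowers b : Subgroup H))
        ⟨(d : H), hd'⟩
      exact congrArg Subtype.val this
    have hmem : (d : H) ∈ (commutator H ⊓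
        Subgroup.centralizer ((Subgroup.zpowers b : Subgroup H) : Set H)) ⊓
        ⁅commutator H, Subgroup.zpowers b⁆ := by
      refine Subgroup.mem_inf.mpr ⟨Subgroup.mem_inf.mpr ⟨hdD, ?_⟩, d.2⟩
      rw [Subgroup.mem_centralizer_iff]
      intro z hz
      obtain ⟨k, rfl⟩ := hz
      exact ((Commute.zpow_left (show Commute b (d : H) from hbd) k).eq)
    rw [h55a, Subgroup.mem_bot] at hmem
    rw [hmem, orderOf_one] at hdo
    exact hs.one_lt.ne hdo
  intro d hd
  have := Subgroup.commutator_eq_bot_iff_le_centralizer.mp hcomm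
  have h3 := this hd
  rw [Subgroup.mem_centralizer_iff] at h3
  exact h3 b (Subgroup.mem_zpowers b)

/-- In a `Z`-group all of whose subgroups of order a product of two primes are cyclic, every subgroup
generated by an element of prime order is normal. -/
theorem zpowers_normal_of_zgroup {H : Type*} [Group H] [Finite H] [IsZGroup H]
    (hP : ∀ B : Subgroup H, (∃ r s : ℕ, r.Prime ∧ s.Prime ∧ Nat.card B = r * s) → IsCyclic B)
    (b : H) (r : ℕ) (hr : r.Prime) (hb : orderOf b = r) : (Subgroup.zpowers b).Normal := by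
  have hDcyc : IsCyclic (commutator H) := IsZGroup.isCyclic_commutator H
  have hcop : (Nat.card (commutator H)).Coprime (commutator H).index :=
    IsZGroup.coprime_commutator_index H
  have hDn : (commutator H).Normal := inferInstance
  have hbr : b ^ r = 1 := by rw [← hb]; exact pow_orderOf_eq_one b
  -- it suffices to show that conjugates of `b` lie in `zpowers b`
  suffices hconj : ∀ g : H, g * b * g⁻¹ ∈ Subgroup.zpowers b by
    constructor
    rintro _ ⟨k, rfl⟩ g
    have e : g * b ^ k * g⁻¹ = (g * b * g⁻¹) ^ k := (conj_zpow).symm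
    rw [e]
    exact zpow_mem (hconj g) k
  intro g
  by_cases hrD : r ∣ Nat.card (commutator H)
  · -- `b` lies in the cyclic commutator subgroup
    have hbD : b ∈ commutator H := by
      apply Cfsg.Agent.Lib.Helper30.CycSyl.mem_of_coprime_index
      rw [hb]
      exact Nat.Coprime.coprime_dvd_left hrD hcop
    have hm := Cfsg.Agent.S0069.mem_zpowers_of_cyclic hr
      (⟨g * b * g⁻¹, hDn.conj_mem _ hbD g⟩ : commutator H) ⟨b, hbD⟩
      (by rw [Subgroup.orderOf_mk]; exact hb)
      (by
        apply Subtype.ext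
        simp only [Subgroup.coe_pow, Subgroup.coe_one]
        rw [conj_pow, hbr, mul_one, mul_inv_cancel])
    obtain ⟨k, hk⟩ := hm
    refine ⟨k, ?_⟩
    have := congrArg Subtype.val hk
    simpa using this
  · -- `b` is central
    have hbD := centralizes_commutator_of_zgroup hP b r hr hb hrD
    set d := g * b * g⁻¹ * b⁻¹ with hd
    have hdD : d ∈ commutator H := by
      have : d = ⁅g, b⁆ := by rw [hd, commutatorElement_def]
      rw [this, _root_.commutator_def]
      exact Subgroup.commutator_mem_commutator (Subgroup.mem_top g) (Subgroup.mem_top b)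
    have hdb : Commute d b := (hbD d hdD).symm
    have h1 : d * b = g * b * g⁻¹ := by rw [hd, inv_mul_cancel_right]
    have h2 : (d * b) ^ r = 1 := by rw [h1, conj_pow, hbr, mul_one, mul_inv_cancel]
    rw [hdb.mul_pow, hbr, mul_one] at h2
    have h3 : orderOf d ∣ r := orderOf_dvd_of_pow_eq_one h2
    have h4 : orderOf d ∣ Nat.card (commutator H) := by
      have := orderOf_dvd_natCard (⟨d, hdD⟩ : commutator H)
      rwa [Subgroup.orderOf_mk] at this
    have h5 : orderOf d = 1 := by
      rcases (Nat.dvd_prime hr).mp h3 with h | h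
      · exact h
      · exfalso
        apply hrD
        rw [← h]
        exact h4
    have h6 : d = 1 := orderOf_eq_one_iff.mp h5
    rw [← h1, h6, one_mul]
    exact Subgroup.mem_zpowers b

/-- **M1.** In a Frobenius complement of odd order every subgroup of prime order is normal. -/
theorem prime_order_normal_of_fpf {X : Type*} [Group X] [Finite X] (K E : Subgroup X) [K.Normal]
    (hK : K ≠ ⊥) (hfpf : ∀ e ∈ E, e ≠ 1 → K ⊓ Subgroup.centralizer {e} = ⊥)
    (hodd : Odd (Nat.card E)) (W : Subgroup X) (hWE : W ≤ E) (hW : (Nat.card W).Prime) :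
    E ≤ Subgroup.normalizer (W : Set X) := by
  have h2 : ¬ 2 ∣ Nat.card E := by
    intro h
    have := hodd
    rw [Nat.odd_iff] at this
    omega
  have hZ : IsZGroup E := by
    refine ⟨fun p hp P => ?_⟩
    have : Fact p.Prime := ⟨hp⟩
    have hu := Cfsg.Agent.Lib.Helper35.unique_subgroup_of_order_p_of_fpf K E hK hfpf p
      (P : Subgroup E) P.isPGroup'
    have h16 : IsCyclic (P : Subgroup E) ∨
        ∃ n : ℕ, Nonempty ((P : Subgroup E) ≃* QuaternionGroup (2 ^ n)) := by
      rcases Cfsg.Agent.S0016.result p P.isPGroup' hu with h | ⟨-, h⟩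
      · left; exact h
      · right; exact h
    rcases h16 with h | ⟨n, ⟨e⟩⟩
    · exact h
    · exfalso
      apply h2
      have h3 : Nat.card (P : Subgroup E) = 4 * 2 ^ n := by
        rw [Nat.card_congr e.toEquiv, Nat.card_eq_fintype_card, QuaternionGroup.card]
      have h4 : Nat.card (P : Subgroup E) ∣ Nat.card E := Subgroup.card_subgroup_dvd_card _
      rw [h3] at h4
      exact (Dvd.intro (2 * 2 ^ n) (by ring)).trans h4
  have hP : ∀ B : Subgroup E, (∃ r s : ℕ, r.Prime ∧ s.Prime ∧ Nat.card B = r * s) → IsCyclic B := by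
    rintro B ⟨r, s, hr, hs, hcard⟩
    have hinj : Function.Injective E.subtype := Subgroup.subtype_injective E
    have hcard' : Nat.card (B.map E.subtype) = r * s := by
      rw [Subgroup.card_map_of_injective hinj, hcard]
    have hle : B.map E.subtype ≤ E := by
      rintro _ ⟨x, _, rfl⟩
      exact x.2
    have hsolv : Group.IsSolvable (B.map E.subtype) :=
      Group.isSolvable_of_isSolvable_injective (Subgroup.inclusion_injective hle)
    have hcyc : IsCyclic (B.map E.subtype) :=
      Cfsg.Agent.Lib.Helper35.isCyclic_of_fpf K (B.map E.subtype) hK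
        (fun b hb hb1 => hfpf b (hle hb) hb1) hsolv (Or.inr ⟨r, s, hr, hs, hcard'⟩)
    exact (B.equivMapOfInjective E.subtype hinj).symm.isCyclic.mp hcyc
  -- a generator of `W`
  have : Fact (Nat.card W).Prime := ⟨hW⟩
  obtain ⟨w, hw⟩ := exists_prime_orderOf_dvd_card' (G := W) (Nat.card W) dvd_rfl
  have hwo : orderOf (w : X) = Nat.card W := by rw [Subgroup.orderOf_coe]; exact hw
  have hWz : W = Subgroup.zpowers (w : X) := by
    symm
    apply Subgroup.eq_of_le_of_card_ge (Subgroup.zpowers_le.mpr w.2)
    rw [Nat.card_zpowers, hwo]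
  set b : E := ⟨(w : X), hWE w.2⟩ with hbdef
  have hbo : orderOf b = Nat.card W := by
    rw [← hwo, ← Subgroup.orderOf_coe]
  have hn := zpowers_normal_of_zgroup hP b (Nat.card W) hW hbo
  -- transfer to `X`
  have hmemW : ∀ y : E, y ∈ Subgroup.zpowers b ↔ (y : X) ∈ W := by
    intro y
    rw [hWz, Subgroup.mem_zpowers_iff, Subgroup.mem_zpowers_iff]
    constructor
    · rintro ⟨k, hk⟩
      exact ⟨k, by rw [← hk]; simp [hbdef]⟩
    · rintro ⟨k, hk⟩
      refine ⟨k, Subtype.ext ?_⟩
      rw [← hk]
      simp [hbdef]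
  intro e he
  rw [Subgroup.mem_normalizer_iff]
  intro x
  constructor
  · intro hx
    have h1 : (⟨x, hWE hx⟩ : E) ∈ Subgroup.zpowers b := (hmemW _).mpr hx
    have h2 := hn.conj_mem _ h1 ⟨e, he⟩
    exact (hmemW _).mp h2
  · intro hx
    have hxE : e * x * e⁻¹ ∈ E := hWE hx
    have h1 : (⟨e * x * e⁻¹, hxE⟩ : E) ∈ Subgroup.zpowers b := (hmemW _).mpr hx
    have h2 := hn.conj_mem _ h1 (⟨e, he⟩ : E)⁻¹
    have h3 := (hmemW _).mp h2
    have h4 : (((⟨e, he⟩ : E)⁻¹ * ⟨e * x * e⁻¹, hxE⟩ * ((⟨e, he⟩ : E)⁻¹)⁻¹ : E) : X) = x := by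
      simp only [Subgroup.coe_mul, Subgroup.coe_inv]
      group
    rw [h4] at h3
    exact h3

end Cfsg.Agent.Lib.Helper73
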