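import Mathlib
import Cfsg.Agent.Lib.Helper74.PF127Defs
import Cfsg.Agent.Lib.Helper3.Dade
import Cfsg.Agent.Lib.Helper25.Norm3
import Cfsg.Agent.Lib.Helper25.DadeExp6
import Cfsg.Agent.S1500
import Cfsg.Agent.S1501

/-!
# MODULES [RHO](a),(b) for Peterfalvi (12.7) = S1540 (helper73, for helper74)

`dadeRes_isClassFunction`: the Dade restriction of a class function is a class function of `L`.
`dadeRes_int`: the inner product of a generalized character of `L` supported on `A` with the Dade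
restriction of a generalized character of `G` is an integer.
-/

set_option autoImplicit false

namespace Cfsg.Agent.Lib.Helper73.PF127Rho

open Cfsg
open scoped ComplexConjugate
open Cfsg.Agent.Lib.Helper74.PF127

/-- conjugation invariance of the Dade average under `L`. -/
theorem dadeAvg_conj {G : Type*} [Group G] [Finite G] {A : Set G} {L : Subgroup G}
    {R : G → Subgroup G} (hD : DadeHypothesis A L R) {ν : G → ℂ} (hν : IsClassFunction G ν)
    {a : G} (ha : a ∈ A) {h : G} (hh : h ∈ L) :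
    dadeAvg R ν (h * a * h⁻¹) = dadeAvg R ν a := by
  have hha : h * a * h⁻¹ ∈ A := hD.conj_mem h hh a ha
  unfold dadeAvg
  rw [Cfsg.Agent.Lib.Helper3.Dade.card_H_conj hD ha hha]
  congr 1
  symm
  apply finsum_mem_eq_of_bijOn (fun w => h * w * h⁻¹)
  · refine ⟨?_, ?_, ?_⟩
    · intro w hw
      exact (Cfsg.Agent.Lib.Helper3.Dade.mem_H_conj_iff hD ha hha w).mp hw
    · intro w₁ _ w₂ _ h12
      simpa using h12
    · intro u hu
      refine ⟨h⁻¹ * u * h, ?_, ?_⟩
      · apply (Cfsg.Agent.Lib.Helper3.Dade.mem_H_conj_iff hD ha hha (h⁻¹ * u * h)).mpr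
        have : h * (h⁻¹ * u * h) * h⁻¹ = u := by group
        rw [this]; exact hu
      · show h * (h⁻¹ * u * h) * h⁻¹ = u
        group
  · intro w _
    have : h * a * h⁻¹ * (h * w * h⁻¹) = h * (a * w) * h⁻¹ := by group
    rw [this, hν]

/-- MODULE [RHO] (a) -/
theorem dadeRes_isClassFunction {G : Type*} [Group G] [Fintype G] {A : Set G} {L : Subgroup G}
    {R : G → Subgroup G} (hD : DadeHypothesis A L R) {ν : G → ℂ} (hν : IsClassFunction G ν) :
    IsClassFunction L (dadeRes A L R ν) := by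
  intro g h
  by_cases hg : (g : G) ∈ A
  · have hhg : ((h * g * h⁻¹ : L) : G) ∈ A := by
      have := hD.conj_mem (h : G) h.2 (g : G) hg
      simpa using this
    rw [dadeRes_of_mem _ _ _ _ _ hhg, dadeRes_of_mem _ _ _ _ _ hg]
    have e : ((h * g * h⁻¹ : L) : G) = (h : G) * (g : G) * (h : G)⁻¹ := by simp
    rw [e]
    exact dadeAvg_conj hD hν hg h.2
  · have hhg : ((h * g * h⁻¹ : L) : G) ∉ A := by
      intro hmem
      apply hg
      have := hD.conj_mem ((h : G)⁻¹) (L.inv_mem h.2) _ hmem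
      have e : (h : G)⁻¹ * ((h * g * h⁻¹ : L) : G) * ((h : G)⁻¹)⁻¹ = (g : G) := by
        simp only [Subgroup.coe_mul, Subgroup.coe_inv]
        group
      rwa [e] at this
    rw [dadeRes_of_not_mem _ _ _ _ _ hhg, dadeRes_of_not_mem _ _ _ _ _ hg]

/-- MODULE [RHO] (b) -/
theorem dadeRes_int {G : Type*} [Group G] [Fintype G] {A : Set G} {L : Subgroup G} [Fintype L]
    {R : G → Subgroup G} (hD : DadeHypothesis A L R) {ν : G → ℂ}
    (hν : IsGeneralizedCharacter G ν) (β : L → ℂ) (hβ : IsGeneralizedCharacter L β)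
    (hβA : ∀ l : L, (l : G) ∉ A → β l = 0) :
    ∃ z : ℤ, classInner β (dadeRes A L R ν) = z := by
  have hβc : IsClassFunction L β := Cfsg.Agent.Lib.Helper25.dgen_isClassFunction hβ
  have hνc : IsClassFunction G ν := Cfsg.Agent.Lib.Helper25.dgen_isClassFunction hν
  have h1 := (Cfsg.Agent.S1500.result A L R hD β hβc hβA).2 ν (dadeRes A L R ν) hνc
    (fun a ha => by rw [dadeRes_of_mem _ _ _ _ _ ha]; rfl)
  have h2 := Cfsg.Agent.S1501.result A L R hD β hβ hβA
  obtain ⟨n, hn, _⟩ := Cfsg.Agent.Lib.Helper25.inner_int' h2 hν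
  exact ⟨n, by rw [← h1, hn]⟩

end Cfsg.Agent.Lib.Helper73.PF127Rho
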