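import Mathlib
import Cfsg.Agent.Lib.Helper41.N22.Defs

/-!
# S4346 module [FIXMOD] (helper73, for helper41): fixed points of an element of prime order on an
invariant finite set.
-/

set_option autoImplicit false

namespace Cfsg.Agent.Lib.Helper73.N22
open Cfsg.Agent.Lib.Helper41.N22

/-- [FIXMOD] -/
theorem card_fixed_modEq {Ω : Type*} [Fintype Ω] [DecidableEq Ω] (u : Equiv.Perm Ω) (q : ℕ)
    [Fact q.Prime] (hu : u ^ q = 1) (S : Finset Ω) (hS : ∀ ω ∈ S, u ω ∈ S) :
    (S.filter (fun ω => u ω = ω)).card ≡ S.card [MOD q] := by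
  let f : Function.End {ω // ω ∈ S} := fun ω => ⟨u ω.1, hS ω.1 ω.2⟩
  have hpow : ∀ (k : ℕ) (ω : {ω // ω ∈ S}), ((f ^ k) ω).1 = (u ^ k) ω.1 := by
    intro k
    induction k with
    | zero => intro ω; rw [pow_zero, pow_zero]; rfl
    | succ k ih =>
      intro ω
      rw [pow_succ, pow_succ]
      exact ih (f ω)
  have hf : f ^ q ^ 1 = 1 := by
    rw [pow_one]
    funext ω
    apply Subtype.ext
    rw [hpow q ω, hu]
    rfl
  have h1 := Equiv.Perm.card_fixedPoints_modEq (p := q) (n := 1) hf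
  rw [Fintype.card_coe] at h1
  have h2 : Fintype.card (Function.fixedPoints f) = (S.filter (fun ω => u ω = ω)).card := by
    rw [← Fintype.card_coe (S.filter (fun ω => u ω = ω))]
    refine Fintype.card_congr ⟨fun ω => ⟨ω.1.1, ?_⟩, fun ω => ⟨⟨ω.1, (Finset.mem_filter.mp ω.2).1⟩, ?_⟩,
      ?_, ?_⟩
    · rw [Finset.mem_filter]
      refine ⟨ω.1.2, ?_⟩
      have := ω.2
      rw [Function.mem_fixedPoints, Function.IsFixedPt] at this
      exact congrArg Subtype.val this
    · rw [Function.mem_fixedPoints, Function.IsFixedPt]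
      apply Subtype.ext
      exact (Finset.mem_filter.mp ω.2).2
    · intro ω; rfl
    · intro ω; rfl
  rw [h2] at h1
  exact h1.symm

end Cfsg.Agent.Lib.Helper73.N22
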