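import Mathlib
import Cfsg.Agent.Lib.Helper12.SimsLocDefs

/-!
# S2772-[SL-J] (helper73): an elementary abelian subgroup of `S` of maximal order not inside `Q`
-/

set_option autoImplicit false

namespace Cfsg.Agent.Lib.Helper73.SimsLocJ

open Cfsg.Agent.Lib.Helper12.SimsLoc

variable {H : Type*} [Group H]

/-- conjugate of a subgroup, as a map -/
theorem mem_conjMap {A : Subgroup H} {g u : H} (hu : u ∈ A) :
    g * u * g⁻¹ ∈ A.map (MulAut.conj g).toMonoidHom :=
  ⟨u, hu, by simp [MulAut.conj_apply]⟩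

theorem EA_conjMap {A : Subgroup H} (hA : EA A) (g : H) : EA (A.map (MulAut.conj g).toMonoidHom) := by
  rintro _ ⟨a, ha, rfl⟩
  have h := hA a ha
  simp only [MulEquiv.coe_toMonoidHom, MulAut.conj_apply]
  calc g * a * g⁻¹ * (g * a * g⁻¹) = g * (a * a) * g⁻¹ := by group
    _ = 1 := by rw [h]; group

theorem card_conjMap [Finite H] (A : Subgroup H) (g : H) :
    Nat.card ↥(A.map (MulAut.conj g).toMonoidHom) = Nat.card ↥A :=
  Subgroup.card_map_of_injective (MulAut.conj g).injective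

/-- [SL-J] Thompson subgroup step: an elementary abelian subgroup of `S` of maximal order not inside `Q` -/
theorem exists_max_ea_not_le [Finite H] (G S Q : Subgroup H) (x : H)
    (hQS : Q ≤ S) (hS1 : S ≠ ⊥) (two : IsPGroup 2 ↥S)
    (hQn : ∀ g ∈ G, ∀ u ∈ Q, g * u * g⁻¹ ∈ Q)
    (hx : ∀ s ∈ S, x * s * x⁻¹ ∈ S)
    (hno : NoCommon G S x) :
    ∃ A : Subgroup H, A ≤ S ∧ EA A ∧ ¬ A ≤ Q ∧
      ∀ B : Subgroup H, B ≤ S → EA B → Nat.card ↥B ≤ Nat.card ↥A := by
  classical
  -- a maximal one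
  have hfin : ({B : Subgroup H | B ≤ S ∧ EA B} : Set (Subgroup H)).Finite := Set.toFinite _
  have hne : ({B : Subgroup H | B ≤ S ∧ EA B} : Set (Subgroup H)).Nonempty :=
    ⟨⊥, bot_le, fun a ha => by rw [Subgroup.mem_bot.1 ha, mul_one]⟩
  obtain ⟨A₀, ⟨hA₀S, hA₀E⟩, hA₀max⟩ :=
    Set.exists_max_image _ (fun B : Subgroup H => Nat.card ↥B) hfin hne
  by_contra hcon
  push Not at hcon
  -- every maximal one lies in `Q`
  have hallQ : ∀ A : Subgroup H, A ≤ S → EA A → Nat.card ↥A = Nat.card ↥A₀ → A ≤ Q := by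
    intro A hAS hAE hcard
    by_contra hAQ
    obtain ⟨B, hBS, hBE, hlt⟩ := hcon A hAS hAE hAQ
    have := hA₀max B ⟨hBS, hBE⟩
    omega
  set J : Subgroup H := sSup {A : Subgroup H | A ≤ S ∧ EA A ∧ Nat.card ↥A = Nat.card ↥A₀} with hJ
  have hA₀J : A₀ ≤ J := le_sSup ⟨hA₀S, hA₀E, rfl⟩
  have hJS : J ≤ S := sSup_le fun A hA => hA.1
  -- `A₀ ≠ ⊥`
  have hA₀ne : A₀ ≠ ⊥ := by
    intro h0
    -- an involution of `S`
    have : Nontrivial ↥S := by
      rw [← Subgroup.nontrivial_iff_ne_bot] at hS1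
      exact hS1
    have h2 : 2 ∣ Nat.card ↥S := by
      obtain ⟨n, hn⟩ := two.exists_card_eq
      have hn0 : n ≠ 0 := by
        rintro rfl
        rw [pow_zero] at hn
        have := Finite.one_lt_card (α := ↥S)
        omega
      rw [hn]
      exact dvd_pow_self 2 hn0
    have : Fact (Nat.Prime 2) := ⟨Nat.prime_two⟩
    obtain ⟨z, hz⟩ := exists_prime_orderOf_dvd_card' 2 h2
    have hzS : (z : H) ∈ S := z.2
    have hz2 : orderOf (z : H) = 2 := by rw [Subgroup.orderOf_coe]; exact hz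
    have hB : Subgroup.zpowers (z : H) ≤ S := by
      rw [Subgroup.zpowers_le]; exact hzS
    have hBE : EA (Subgroup.zpowers (z : H)) := by
      intro a ha
      obtain ⟨k, rfl⟩ := Subgroup.mem_zpowers_iff.1 ha
      have hzz : (z : H) * (z : H) = 1 := by
        have := pow_orderOf_eq_one (z : H)
        rw [hz2, pow_two] at this
        exact this
      rw [← zpow_add, ← two_mul, zpow_mul, zpow_two, hzz, one_zpow]
    have := hA₀max _ ⟨hB, hBE⟩
    rw [Nat.card_zpowers, hz2, h0, Subgroup.card_bot] at this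
    omega
  have hJne : J ≠ ⊥ := by
    intro h
    apply hA₀ne
    rw [eq_bot_iff, ← h]
    exact hA₀J
  -- conjugation invariance
  have hGJ : ∀ g ∈ G, ∀ u ∈ J, g * u * g⁻¹ ∈ J := by
    intro g hg
    have hle : J ≤ J.comap (MulAut.conj g).toMonoidHom := by
      apply sSup_le
      rintro A ⟨hAS, hAE, hAc⟩ u hu
      rw [Subgroup.mem_comap]
      have hAQ := hallQ A hAS hAE hAc
      have hmem : A.map (MulAut.conj g).toMonoidHom ∈
          {A : Subgroup H | A ≤ S ∧ EA A ∧ Nat.card ↥A = Nat.card ↥A₀} := by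
        refine ⟨?_, EA_conjMap hAE g, by rw [card_conjMap, hAc]⟩
        rintro _ ⟨a, ha, rfl⟩
        exact hQS (by simpa [MulAut.conj_apply] using hQn g hg a (hAQ ha))
      exact le_sSup hmem ⟨u, hu, rfl⟩
    intro u hu
    have := hle hu
    rw [Subgroup.mem_comap] at this
    simpa [MulAut.conj_apply] using this
  have hxJ : ∀ u ∈ J, x * u * x⁻¹ ∈ J := by
    have hle : J ≤ J.comap (MulAut.conj x).toMonoidHom := by
      apply sSup_le
      rintro A ⟨hAS, hAE, hAc⟩ u hu
      rw [Subgroup.mem_comap]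
      have hmem : A.map (MulAut.conj x).toMonoidHom ∈
          {A : Subgroup H | A ≤ S ∧ EA A ∧ Nat.card ↥A = Nat.card ↥A₀} := by
        refine ⟨?_, EA_conjMap hAE x, by rw [card_conjMap, hAc]⟩
        rintro _ ⟨a, ha, rfl⟩
        simpa [MulAut.conj_apply] using hx a (hAS ha)
      exact le_sSup hmem ⟨u, hu, rfl⟩
    intro u hu
    have := hle hu
    rw [Subgroup.mem_comap] at this
    simpa [MulAut.conj_apply] using this
  exact hno J hJS hJne hGJ hxJ

end Cfsg.Agent.Lib.Helper73.SimsLocJ
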