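import Mathlib
import Cfsg.Prelude.Def_Blocks
import Cfsg.Agent.Lib.Helper12.W2pDefs
import Cfsg.Agent.S4441
import Cfsg.Agent.Lib.Helper17.PrimeSylow

/-!
# W2P module [BLK2] (helper73, for helper12's S0720)

If `η` lies in the principal `p`-block of `Γ`, `p² ∤ |Γ|`, `π` of order `p`, `η 1 = n`,
`t n = p - 1` with `n, t ≥ 2` and `∑_s η (π^s) = 0`, then `|N(⟨π⟩) : C(⟨π⟩)| = n`.
-/

set_option autoImplicit false

open Cfsg Cfsg.Agent.Lib.Helper12.W2p

namespace Cfsg.Agent.Lib.Helper73.W2p

theorem charDegree_eq_of_apply_one {Γ : Type*} [Group Γ] (χ : Γ → ℂ) (n : ℕ)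
    (h : χ 1 = n) : charDegree χ = n := by
  unfold charDegree
  rw [h]
  simp

theorem relIndex_eq_of_mem_principalBlock {Γ : Type*} [Group Γ] [Fintype Γ] (p : ℕ)
    [Fact p.Prime] (M : Ideal AlgInt) (hM : IsPModular p M) (hp2 : p ≠ 2)
    (hsq : ¬ p ^ 2 ∣ Nat.card Γ) (π : Γ) (hπ : orderOf π = p)
    (η : IrrCharacter Γ) (hB : η ∈ principalBlock M Γ) (n t : ℕ) (hη : (η : Γ → ℂ) 1 = n)
    (hn : 2 ≤ n) (ht : 2 ≤ t) (htn : t * n = p - 1)
    (hsum : ∑ s ∈ Finset.range p, (η : Γ → ℂ) (π ^ s) = 0) :
    (Subgroup.centralizer (Subgroup.zpowers π : Set Γ)).relIndex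
      (Subgroup.normalizer (Subgroup.zpowers π : Set Γ)) = n := by
  classical
  have hp : p.Prime := Fact.out
  have hp1 : 1 < p := hp.one_lt
  -- the Sylow subgroup
  have hcardZ : Nat.card (Subgroup.zpowers π) = p := by
    rw [Nat.card_zpowers, hπ]
  have hdvd : p ∣ Nat.card Γ := by
    rw [← hπ]; exact orderOf_dvd_natCard π
  have hcardpos : Nat.card Γ ≠ 0 := Nat.card_pos.ne'
  have hfac : (Nat.card Γ).factorization p = 1 := by
    have h1 : 1 ≤ (Nat.card Γ).factorization p :=
      (hp.dvd_iff_one_le_factorization hcardpos).mp hdvd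
    have h2 : ¬ 2 ≤ (Nat.card Γ).factorization p := by
      intro h2
      apply hsq
      exact (hp.pow_dvd_iff_le_factorization hcardpos).mpr h2
    omega
  have hcardZ' : Nat.card (Subgroup.zpowers π) = p ^ (Nat.card Γ).factorization p := by
    rw [hfac, pow_one, hcardZ]
  set P : Sylow p Γ := Sylow.ofCard (Subgroup.zpowers π) hcardZ' with hPdef
  have hPcoe : (P : Subgroup Γ) = Subgroup.zpowers π := Sylow.coe_ofCard _ _
  have hPcard : Nat.card (P : Subgroup Γ) = p := by rw [hPcoe, hcardZ]
  have hPcard' : Nat.card P = p := hPcard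
  set e : ℕ := (Subgroup.centralizer ((P : Subgroup Γ) : Set Γ)).relIndex
      (Subgroup.normalizer ((P : Subgroup Γ) : Set Γ)) with hedef
  have hedvd : e ∣ p - 1 :=
    Cfsg.Agent.Lib.Helper17.relIndex_cent_norm_dvd_pred_of_card_prime P hPcard
  have hgoal : (Subgroup.centralizer (Subgroup.zpowers π : Set Γ)).relIndex
      (Subgroup.normalizer (Subgroup.zpowers π : Set Γ)) = e := by
    rw [hedef, hPcoe]
  rw [hgoal]
  have hp1pos : 0 < p - 1 := by omega
  have hepos : 0 < e := Nat.pos_of_dvd_of_pos hedvd hp1pos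
  have hele : e ≤ p - 1 := Nat.le_of_dvd hp1pos hedvd
  -- n < p
  have hnlt : n < p := by
    have : n ≤ t * n := Nat.le_mul_of_pos_left n (by omega)
    omega
  have h2n : 2 * n ≤ p - 1 := by
    calc 2 * n ≤ t * n := Nat.mul_le_mul_right n ht
      _ = p - 1 := htn
  obtain ⟨X, Y, hXY, -, -, -, εX, ε, hX, hε, hY, -, -⟩ :=
    Cfsg.Agent.S4441.result (G := Γ) p M hM hp2 P hPcard' e rfl
  have hdeg : charDegree (η : Γ → ℂ) = n := charDegree_eq_of_apply_one _ n hη
  rw [hXY] at hB
  rcases hB with hBX | hBY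
  · -- η ∈ X
    exfalso
    obtain ⟨hεη, -, hval⟩ := hX η hBX
    have hvals : ∀ s ∈ Finset.range p, s ≠ 0 → (η : Γ → ℂ) (π ^ s) = (εX η : ℂ) := by
      intro s hs hs0
      have hslt : s < p := Finset.mem_range.mp hs
      have hmem : π ^ s ∈ (P : Subgroup Γ) := by
        rw [hPcoe]; exact Subgroup.npow_mem_zpowers π s
      have hne : π ^ s ≠ 1 := by
        intro h1
        have := orderOf_dvd_of_pow_eq_one h1
        rw [hπ] at this
        have := Nat.le_of_dvd (Nat.pos_of_ne_zero hs0) this
        omega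
      have h := hval (π ^ s) hmem hne 1 (Subgroup.one_mem _) (by
        rw [orderOf_one]; intro h; have := Nat.le_of_dvd one_pos h; omega)
      rwa [mul_one] at h
    have hsplit : ∑ s ∈ Finset.range p, (η : Γ → ℂ) (π ^ s)
        = (n : ℂ) + ((p - 1 : ℕ) : ℂ) * (εX η : ℂ) := by
      obtain ⟨m, rfl⟩ : ∃ m, p = m + 1 := ⟨p - 1, by omega⟩
      rw [Finset.sum_range_succ']
      simp only [pow_zero]
      rw [hη]
      have : ∑ k ∈ Finset.range m, (η : Γ → ℂ) (π ^ (k + 1)) =
          ∑ k ∈ Finset.range m, (εX η : ℂ) := by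
        apply Finset.sum_congr rfl
        intro k hk
        apply hvals (k + 1)
        · rw [Finset.mem_range] at hk ⊢; omega
        · omega
      rw [this, Finset.sum_const, Finset.card_range]
      simp only [Nat.add_sub_cancel, nsmul_eq_mul]
      ring
    rw [hsplit] at hsum
    rcases hεη with h1 | h1
    · rw [h1] at hsum
      have : ((n + (p - 1) : ℕ) : ℂ) = 0 := by
        push_cast at hsum ⊢
        simpa using hsum
      have := Nat.cast_eq_zero.mp this
      omega
    · rw [h1] at hsum
      have h' : (n : ℂ) = ((p - 1 : ℕ) : ℂ) := by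
        push_cast at hsum ⊢
        linear_combination hsum
      have h'' : n = p - 1 := Nat.cast_injective h'
      -- t * n = n, t ≥ 2, n ≥ 2
      rw [← h''] at htn
      have : 2 * n ≤ n := by
        calc 2 * n ≤ t * n := Nat.mul_le_mul_right n ht
          _ = n := htn
      omega
  · -- η ∈ Y
    have hcong := hY η hBY
    rw [hdeg] at hcong
    rcases hε with h1 | h1
    · rw [h1, one_mul] at hcong
      -- n ≡ e mod p
      have h2 : (n : ℤ) % p = (e : ℤ) % p := hcong
      have hn' : (n : ℤ) % p = n := Int.emod_eq_of_lt (by positivity) (by exact_mod_cast hnlt)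
      have he' : (e : ℤ) % p = e := Int.emod_eq_of_lt (by positivity)
        (by have : e < p := by omega
            exact_mod_cast this)
      rw [hn', he'] at h2
      exact (Nat.cast_injective h2).symm
    · exfalso
      rw [h1] at hcong
      -- n ≡ -e mod p → p ∣ n + e
      have hdvd' : (p : ℤ) ∣ (n : ℤ) + e := by
        have := hcong.dvd
        -- (p:ℤ) ∣ -1 * e - n
        have h3 : (p : ℤ) ∣ -((-1 : ℤ) * e - n) := (dvd_neg).mpr this
        have h4 : -((-1 : ℤ) * e - n) = (n : ℤ) + e := by ring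
        rwa [h4] at h3
      have hdvdN : p ∣ n + e := by exact_mod_cast hdvd'
      obtain ⟨c, hc⟩ := hdvdN
      have hc1 : c = 1 := by
        rcases Nat.lt_or_ge c 1 with h | h
        · have : c = 0 := by omega
          subst this
          omega
        · rcases Nat.lt_or_ge c 2 with h' | h'
          · omega
          · exfalso
            have : p * 2 ≤ p * c := Nat.mul_le_mul_left p h'
            omega
      subst hc1
      rw [mul_one] at hc
      -- e = p - n, e ∣ p - 1
      obtain ⟨d, hd⟩ := hedvd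
      have hd1 : d = 1 := by
        rcases Nat.lt_or_ge d 1 with h | h
        · have : d = 0 := by omega
          subst this
          omega
        · rcases Nat.lt_or_ge d 2 with h' | h'
          · omega
          · exfalso
            have : e * 2 ≤ e * d := Nat.mul_le_mul_left e h'
            omega
      subst hd1
      omega

end Cfsg.Agent.Lib.Helper73.W2p
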