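import Mathlib
import Cfsg.Prelude.Def_GeometricClasses
import Cfsg.Agent.Lib.Helper99.AschDefs
import Cfsg.Agent.Lib.Helper5.AschODefs
import Cfsg.Agent.Lib.Helper5.AschOBasic

/-!
# ASCHO2-[P-2] (helper73): `Ω` stabilises no orthogonal decomposition (dimension ≥ 7).
`_of` form: the statements of ASCHO2-[EICH] and ASCHO2-[ISOTROPIC] are hypotheses.
-/

set_option autoImplicit false
set_option linter.unusedSectionVars false
set_option linter.unusedVariables false

namespace Cfsg.Agent.Lib.Helper5.AschO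

open Cfsg Cfsg.Geo Cfsg.Agent.Lib.Helper99.Asch
open scoped MatrixGroups Matrix Kronecker

variable {ι : Type} [Fintype ι] [DecidableEq ι] {F : Type*} [Field F] [Fintype F]

/-- ASCHO2-[P-2] in `_of` form: `hE` is the statement of [EICH], `hI` the statement of [ISOTROPIC]. -/
theorem not_omegaGL_le_decompositionStabilizer_of {Q : (ι → F) → F}
    (hQ : IsNondegenerateQuadraticForm Q)
    (hE : ∀ p w : ι → F, Q p = 0 → QuadraticMap.polar Q p w = 0 →
      ∃ g : GL ι F, g ∈ omegaGL Q ∧ ∀ z : ι → F, (g : Matrix ι ι F) *ᵥ z =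
        z + QuadraticMap.polar Q z w • p - QuadraticMap.polar Q z p • w -
          (Q w * QuadraticMap.polar Q z p) • p)
    (hI : ∀ U : Submodule F (ι → F), IsNondegenerateOn (QuadraticMap.polar Q) U →
      3 ≤ Module.finrank F U → ∃ p ∈ U, p ≠ 0 ∧ Q p = 0)
    (h7 : 7 ≤ Fintype.card ι) {t : ℕ} (k : ℕ) (D : Fin t → Submodule F (ι → F))
    (hD : IsOrthogonalMDecomposition Q k D) : ¬ omegaGL Q ≤ decompositionStabilizer D := by
  intro hle
  have hb := hQ.polar_bilinear
  have hdec := hD.decomp.decomp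
  have ht : 2 ≤ t := hdec.two_le
  have hsymm : ∀ x y : ι → F, QuadraticMap.polar Q x y = QuadraticMap.polar Q y x :=
    fun x y => QuadraticMap.polar_comm Q x y
  let i₀ : Fin t := ⟨0, by omega⟩
  let i₁ : Fin t := ⟨1, by omega⟩
  have h01 : i₁ ≠ i₀ := by
    intro h
    have := congrArg Fin.val h
    simp [i₀, i₁] at this
  have hdisj : Disjoint (D i₀) (⨆ (j) (_ : j ≠ i₀), D j) := hdec.indep i₀
  have hsup : D i₀ ⊔ (⨆ (j) (_ : j ≠ i₀), D j) = ⊤ := by
    rw [eq_top_iff, ← hdec.iSup_eq_top]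
    refine iSup_le fun i => ?_
    by_cases hi : i = i₀
    · rw [hi]; exact le_sup_left
    · exact le_trans (le_iSup₂ (f := fun j (_ : j ≠ i₀) => D j) i hi) le_sup_right
  -- `U ⊥ A`
  have hUA : ∀ u ∈ (⨆ (j) (_ : j ≠ i₀), D j), ∀ a ∈ D i₀, QuadraticMap.polar Q u a = 0 := by
    intro u hu a ha
    refine Submodule.iSup_induction (fun j => ⨆ (_ : j ≠ i₀), D j)
      (motive := fun u => QuadraticMap.polar Q u a = 0) hu ?_ ?_ ?_
    · intro j x hx
      by_cases hj : j = i₀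
      · have : (⨆ (_ : j ≠ i₀), D j) = ⊥ := by
          rw [iSup_eq_bot]; intro h; exact absurd hj h
        rw [this, Submodule.mem_bot] at hx
        rw [hx]
        have := hb.smul_left 0 0 a
        simpa using this
      · have : (⨆ (_ : j ≠ i₀), D j) = D j := by
          rw [iSup_pos hj]
        rw [this] at hx
        exact hD.decomp.orthogonal j i₀ hj x hx a ha
    · have := hb.smul_left 0 0 a
      simpa using this
    · intro x y hx hy
      rw [hb.add_left, hx, hy, add_zero]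
  -- `U` is non-degenerate
  have hUnd : IsNondegenerateOn (QuadraticMap.polar Q) (⨆ (j) (_ : j ≠ i₀), D j) := by
    intro u hu hu0
    obtain ⟨⟨x, hx⟩, _⟩ := hQ.nondegenerate u hu0
    have hxtop : x ∈ D i₀ ⊔ (⨆ (j) (_ : j ≠ i₀), D j) := by rw [hsup]; trivial
    obtain ⟨a, ha, u', hu', rfl⟩ := Submodule.mem_sup.mp hxtop
    have h1 : QuadraticMap.polar Q (a + u') u = QuadraticMap.polar Q u' u := by
      rw [hb.add_left, hsymm a u, hUA u hu a ha, zero_add]
    rw [h1] at hx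
    refine ⟨⟨u', hu', hx⟩, ⟨u', hu', ?_⟩⟩
    rw [hsymm]; exact hx
  -- dimension of `U`
  have hfinU : 3 ≤ Module.finrank F (⨆ (j) (_ : j ≠ i₀), D j : Submodule F (ι → F)) := by
    have hc : IsCompl (D i₀) (⨆ (j) (_ : j ≠ i₀), D j) := ⟨hdisj, codisjoint_iff.mpr hsup⟩
    have h1 := Submodule.finrank_add_eq_of_isCompl hc
    rw [Module.finrank_fintype_fun_eq_card, hdec.finrank_eq i₀] at h1
    have h2 : Module.finrank F (D i₁) ≤
        Module.finrank F (⨆ (j) (_ : j ≠ i₀), D j : Submodule F (ι → F)) :=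
      Submodule.finrank_mono (le_iSup₂ (f := fun j (_ : j ≠ i₀) => D j) i₁ h01)
    rw [hdec.finrank_eq i₁] at h2
    omega
  obtain ⟨p, hpU, hp0, hQp⟩ := hI _ hUnd hfinU
  -- a pair `z, w ∈ A` with `polar z w ≠ 0`
  have hA0 : D i₀ ≠ ⊥ := by
    intro h
    have := hdec.finrank_eq i₀
    rw [h, finrank_bot] at this
    have := hdec.pos
    omega
  obtain ⟨z, hzA, hz0⟩ := Submodule.exists_mem_ne_zero_of_ne_bot hA0
  obtain ⟨_, ⟨w, hwA, hzw⟩⟩ := hD.decomp.nondegenerate i₀ z hzA hz0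
  obtain ⟨g, hgΩ, hg⟩ := hE p w hQp (hUA p hpU w hwA)
  obtain ⟨σ, hσ⟩ := hle hgΩ
  have hgz : (g : Matrix ι ι F) *ᵥ z = z + QuadraticMap.polar Q z w • p := by
    rw [hg z, hsymm z p, hUA p hpU z hzA]
    simp
  have hmem : (g : Matrix ι ι F) *ᵥ z ∈ D (σ i₀) := by
    rw [← hσ i₀]
    exact ⟨z, hzA, by simp [Matrix.toLin'_apply]⟩
  rw [hgz] at hmem
  by_cases hσ0 : σ i₀ = i₀
  · rw [hσ0] at hmem
    have h1 : QuadraticMap.polar Q z w • p ∈ D i₀ := by
      have := (D i₀).sub_mem hmem hzA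
      simpa using this
    have h2 : p ∈ D i₀ := by
      have := (D i₀).smul_mem (QuadraticMap.polar Q z w)⁻¹ h1
      rwa [smul_smul, inv_mul_cancel₀ hzw, one_smul] at this
    exact hp0 ((Submodule.disjoint_def.mp hdisj) p h2 hpU)
  · have hle' : D (σ i₀) ≤ ⨆ (j) (_ : j ≠ i₀), D j :=
      le_iSup₂ (f := fun j (_ : j ≠ i₀) => D j) (σ i₀) hσ0
    have h1 := hle' hmem
    have h2 : z ∈ (⨆ (j) (_ : j ≠ i₀), D j : Submodule F (ι → F)) := by
      have := Submodule.sub_mem _ h1 (Submodule.smul_mem _ (QuadraticMap.polar Q z w) hpU)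
      simpa using this
    exact hz0 ((Submodule.disjoint_def.mp hdisj) z hzA h2)

end Cfsg.Agent.Lib.Helper5.AschO
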