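import Mathlib
import Cfsg.Prelude.Def_GeometricClasses
import Cfsg.Agent.Lib.Helper99.AschDefs
import Cfsg.Agent.Lib.Helper5.AschODefs
import Cfsg.Agent.Lib.Helper5.AschOBasic
import Cfsg.Agent.Lib.Helper34.BhrspP5

/-!
# ASCHO2-[P-5] (helper73): a subgroup containing a unipotent one-parameter family `1 + a N`
(`N ≠ 0`, `N² = 0`, all `a ∈ F`) is contained in no subfield group over a proper subfield.
`not_omegaGL_le_subfieldSubgroup_of` takes the conclusion of ASCHO2-[PLANE] as a hypothesis.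
-/

set_option autoImplicit false
set_option linter.unusedSectionVars false
set_option linter.unusedVariables false

namespace Cfsg.Agent.Lib.Helper73.AschO2P5

open Cfsg Cfsg.Geo
open scoped MatrixGroups Matrix

variable {ι : Type} [Fintype ι] [DecidableEq ι] {F : Type*} [Field F]

theorem one_add_pow_of_sq_zero (X : Matrix ι ι F) (hX : X * X = 0) (k : ℕ) :
    (1 + X) ^ k = 1 + k • X := by
  induction k with
  | zero => simp
  | succ k ih =>
    rw [pow_succ, ih, add_mul, mul_add, mul_add, mul_one, one_mul, mul_one, smul_mul_assoc, hX,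
      smul_zero, add_zero, succ_nsmul]
    abel

/-- in a finite field of characteristic `p`, an element whose `p`-th power lies in the subfield `F₀`
lies in `F₀` -/
theorem mem_of_pow_char_mem [Finite F] (p : ℕ) [hp : Fact p.Prime] [CharP F p] (F₀ : Subfield F)
    (μ : F) (hμ : μ ^ p ∈ F₀) : μ ∈ F₀ := by
  have hinj : Function.Injective (fun z : F₀ => z ^ p) := by
    intro z w hzw
    have h1 : ((z : F)) ^ p = ((w : F)) ^ p := by
      have := congrArg (fun t : F₀ => (t : F)) hzw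
      simpa using this
    exact Subtype.ext (frobenius_inj F p h1)
  have hsurj : Function.Surjective (fun z : F₀ => z ^ p) := Finite.injective_iff_surjective.mp hinj
  obtain ⟨z, hz⟩ := hsurj ⟨μ ^ p, hμ⟩
  have h2 : ((z : F)) ^ p = μ ^ p := by
    have := congrArg (fun t : F₀ => (t : F)) hz
    simpa using this
  have h3 : (z : F) = μ := frobenius_inj F p h2
  rw [← h3]
  exact z.2

/-- the core of [P-5] -/
theorem not_le_subfieldSubgroup_of_family [Fintype F] [Nonempty ι] (Ω : Subgroup (GL ι F))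
    (N : Matrix ι ι F) (hN : N ≠ 0) (hNN : N * N = 0)
    (hfam : ∀ a : F, ∃ g : GL ι F, g ∈ Ω ∧ (g : Matrix ι ι F) = 1 + a • N)
    (F₀ : Subfield F) (hF₀ : F₀ ≠ ⊤) (P : GL ι F) : ¬ Ω ≤ subfieldSubgroup F₀ P := by
  intro hle
  obtain ⟨p, hchar⟩ := CharP.exists F
  have := hchar
  have : Fact p.Prime := ⟨CharP.char_is_prime F p⟩
  set PM : Matrix ι ι F := (P : Matrix ι ι F) with hPM
  set PI : Matrix ι ι F := ((P⁻¹ : GL ι F) : Matrix ι ι F) with hPI
  have hPIP : PI * PM = 1 := by rw [hPI, hPM, ← Units.val_mul, inv_mul_cancel, Units.val_one]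
  have hPPI : PM * PI = 1 := by rw [hPI, hPM, ← Units.val_mul, mul_inv_cancel, Units.val_one]
  set N' : Matrix ι ι F := PI * N * PM with hN'
  have hN'N' : N' * N' = 0 := by
    rw [hN']
    calc PI * N * PM * (PI * N * PM) = PI * N * (PM * PI) * N * PM := by
          simp only [mul_assoc]
      _ = 0 := by rw [hPPI, mul_one, mul_assoc PI N N, hNN, mul_zero, zero_mul]
  have hN'0 : N' ≠ 0 := by
    intro h0
    apply hN
    have : PM * N' * PI = N := by
      rw [hN']
      calc PM * (PI * N * PM) * PI = (PM * PI) * N * (PM * PI) := by simp only [mul_assoc]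
        _ = N := by rw [hPPI, one_mul, mul_one]
    rw [← this, h0, mul_zero, zero_mul]
  -- every entry of `a • N'` lies in `F₀`
  have hent : ∀ (a : F) (i j : ι), a * N' i j ∈ F₀ := by
    intro a i j
    obtain ⟨g, hgΩ, hg⟩ := hfam a
    obtain ⟨A, μ, hA⟩ := Cfsg.Agent.Lib.Helper94.BHRSP.P5.exists_of_mem_subfieldSubgroup F₀ P g
      (hle hgΩ)
    set Am : Matrix ι ι F := (A : Matrix ι ι F₀).map F₀.subtype with hAm
    have h1 : 1 + a • N' = (μ : F) • Am := by
      have h2 : PI * ((g : Matrix ι ι F) * PM) = PI * ((μ : F) • (PM * Am)) := by rw [hA]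
      rw [hg, Matrix.mul_smul, ← mul_assoc PI PM, hPIP, one_mul, add_mul, one_mul, mul_add,
        hPIP, smul_mul_assoc, Matrix.mul_smul, ← mul_assoc] at h2
      exact h2
    -- μ ^ p ∈ F₀
    have h3 : (1 + a • N') ^ p = 1 := by
      rw [one_add_pow_of_sq_zero _ (by rw [smul_mul_smul_comm, hN'N', smul_zero])]
      rw [← Nat.cast_smul_eq_nsmul F, CharP.cast_eq_zero, zero_smul, add_zero]
    have h4 : ((μ : F) ^ p) • ((A : Matrix ι ι F₀) ^ p).map F₀.subtype = 1 := by
      rw [← h3, h1, smul_pow, hAm]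
      congr 1
      exact (map_pow (RingHom.mapMatrix F₀.subtype) (A : Matrix ι ι F₀) p)
    obtain ⟨i₀⟩ := ‹Nonempty ι›
    have h5 : (μ : F) ^ p * ((((A : Matrix ι ι F₀) ^ p) i₀ i₀ : F₀) : F) = 1 := by
      have := congrFun (congrFun h4 i₀) i₀
      simpa using this
    have hμp : (μ : F) ^ p ∈ F₀ := by
      have hne : ((((A : Matrix ι ι F₀) ^ p) i₀ i₀ : F₀) : F) ≠ 0 := by
        intro h0; rw [h0, mul_zero] at h5; exact zero_ne_one h5
      have : (μ : F) ^ p = ((((A : Matrix ι ι F₀) ^ p) i₀ i₀ : F₀) : F)⁻¹ :=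
        eq_inv_of_mul_eq_one_left h5
      rw [this]
      exact F₀.inv_mem (SetLike.coe_mem _)
    have hμ : (μ : F) ∈ F₀ := mem_of_pow_char_mem p F₀ _ hμp
    -- entries
    have h6 : (a • N') i j = ((μ : F) • Am) i j - (1 : Matrix ι ι F) i j := by
      rw [← h1]; simp
    have h7 : a * N' i j = (a • N') i j := by simp
    rw [h7, h6]
    refine F₀.sub_mem ?_ ?_
    · rw [Matrix.smul_apply, smul_eq_mul, hAm, Matrix.map_apply]
      exact F₀.mul_mem hμ (SetLike.coe_mem _)
    · rw [Matrix.one_apply]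
      split_ifs
      · exact F₀.one_mem
      · exact F₀.zero_mem
  obtain ⟨i, j, hij⟩ : ∃ i j, N' i j ≠ 0 := by
    by_contra hcon
    push Not at hcon
    exact hN'0 (Matrix.ext hcon)
  apply hF₀
  rw [eq_top_iff]
  intro a _
  have hν : N' i j ∈ F₀ := by simpa using hent 1 i j
  have haν := hent a i j
  have : a = a * N' i j * (N' i j)⁻¹ := by
    rw [mul_assoc, mul_inv_cancel₀ hij, mul_one]
  rw [this]
  exact F₀.mul_mem haν (F₀.inv_mem hν)

end Cfsg.Agent.Lib.Helper73.AschO2P5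

namespace Cfsg.Agent.Lib.Helper5.AschO

open Cfsg Cfsg.Geo Cfsg.Agent.Lib.Helper99.Asch
open scoped MatrixGroups Matrix Kronecker

variable {ι : Type} [Fintype ι] [DecidableEq ι] {F : Type*} [Field F] [Fintype F]

/-- ASCHO2-[P-5] in `_of` form: the conclusion of ASCHO2-[PLANE] is a hypothesis. -/
theorem not_omegaGL_le_subfieldSubgroup_of {Q : (ι → F) → F}
    (hplane : ∃ (N : Matrix ι ι F) (p w : ι → F), LinearIndependent F ![p, w] ∧ N ≠ 0 ∧ N * N = 0 ∧
      (∀ z, N *ᵥ z = QuadraticMap.polar Q z w • p - QuadraticMap.polar Q z p • w) ∧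
      ∀ a : F, ∃ g : GL ι F, g ∈ omegaGL Q ∧ (g : Matrix ι ι F) = 1 + a • N)
    (h7 : 7 ≤ Fintype.card ι) (F₀ : Subfield F) (hF₀ : F₀ ≠ ⊤) (P : GL ι F) :
    ¬ omegaGL Q ≤ subfieldSubgroup F₀ P := by
  obtain ⟨N, p, w, _, hN, hNN, _, hfam⟩ := hplane
  have : Nonempty ι := by
    rw [← Fintype.card_pos_iff]; omega
  exact Cfsg.Agent.Lib.Helper73.AschO2P5.not_le_subfieldSubgroup_of_family (omegaGL Q) N hN hNN hfam
    F₀ hF₀ P

end Cfsg.Agent.Lib.Helper5.AschO
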