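import Mathlib
import Cfsg.Prelude.Def_HallClasses

/-!
# HALL MODULE [CONJ-RED] (helper73, for helper15's S4310 / S1908)

Reduction steps for conjugacy of Hall subgroups in an extension: `exists_conj_sup_eq` and
`exists_conj_inf_eq`.
-/

set_option autoImplicit false

universe u

namespace Cfsg.Agent.Lib.Helper73.Hall

variable {G : Type u} [Group G]

theorem mem_map_conj_iff (S : Subgroup G) (g x : G) :
    x ∈ S.map (MulAut.conj g).toMonoidHom ↔ g⁻¹ * x * g ∈ S := by
  rw [Subgroup.mem_map]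
  constructor
  · rintro ⟨s, hs, rfl⟩
    simp only [MulEquiv.coe_toMonoidHom, MulAut.conj_apply]
    have : g⁻¹ * (g * s * g⁻¹) * g = s := by group
    rw [this]; exact hs
  · intro h
    refine ⟨g⁻¹ * x * g, h, ?_⟩
    simp only [MulEquiv.coe_toMonoidHom, MulAut.conj_apply]
    group

theorem map_conj_of_normal (A : Subgroup G) [hA : A.Normal] (g : G) :
    A.map (MulAut.conj g).toMonoidHom = A := by
  ext x
  rw [mem_map_conj_iff]
  constructor
  · intro h
    have := hA.conj_mem _ h g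
    have e : g * (g⁻¹ * x * g) * g⁻¹ = x := by group
    rwa [e] at this
  · intro h
    have := hA.conj_mem _ h g⁻¹
    simpa using this

theorem map_conj_of_mem (S : Subgroup G) {a : G} (ha : a ∈ S) :
    S.map (MulAut.conj a).toMonoidHom = S := by
  ext x
  rw [mem_map_conj_iff]
  constructor
  · intro h
    have := S.mul_mem (S.mul_mem ha h) (S.inv_mem ha)
    have e : a * (a⁻¹ * x * a) * a⁻¹ = x := by group
    rwa [e] at this
  · intro h
    exact S.mul_mem (S.mul_mem (S.inv_mem ha) h) ha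

theorem map_conj_map_conj_inv (S : Subgroup G) (g : G) :
    (S.map (MulAut.conj g).toMonoidHom).map (MulAut.conj g⁻¹).toMonoidHom = S := by
  ext x
  rw [mem_map_conj_iff, mem_map_conj_iff]
  have e : g⁻¹ * (g⁻¹⁻¹ * x * g⁻¹) * g = x := by group
  rw [e]

theorem map_conj_inf (S T : Subgroup G) (g : G) :
    (S ⊓ T).map (MulAut.conj g).toMonoidHom =
      S.map (MulAut.conj g).toMonoidHom ⊓ T.map (MulAut.conj g).toMonoidHom :=
  Subgroup.map_inf S T _ (MulAut.conj g).injective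

theorem relIndex_mul_card_of_le' {H K : Subgroup G} (h : H ≤ K) :
    H.relIndex K * Nat.card H = Nat.card K := by
  rw [Subgroup.relIndex, ← Nat.card_congr (Subgroup.subgroupOfEquivOfLe h).toEquiv]
  exact Subgroup.index_mul_card _

/-- `|HA : H| = |A : H ∩ A|` for `A` normal. -/
theorem relIndex_sup_normal' [Finite G] (H A : Subgroup G) [A.Normal] :
    H.relIndex (H ⊔ A) = H.relIndex A := by
  have h1 : A.relIndex (H ⊔ A) = A.relIndex H := Subgroup.relIndex_sup_right H A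
  have h2 := relIndex_mul_card_of_le' (le_sup_right : A ≤ H ⊔ A)
  have h3 := relIndex_mul_card_of_le' (inf_le_left : H ⊓ A ≤ H)
  rw [Subgroup.inf_relIndex_left] at h3
  have h4 := relIndex_mul_card_of_le' (le_sup_left : H ≤ H ⊔ A)
  have h5 := relIndex_mul_card_of_le' (inf_le_right : H ⊓ A ≤ A)
  rw [Subgroup.inf_relIndex_right] at h5
  have hi : 0 < Nat.card (H ⊓ A : Subgroup G) := Nat.card_pos
  have hr : 0 < A.relIndex H := by
    rcases Nat.eq_zero_or_pos (A.relIndex H) with h0 | h0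
    · rw [h0, zero_mul] at h3
      exact absurd h3.symm (Nat.card_pos (α := H)).ne'
    · exact h0
  -- x * h = s = r * a = r * y * i ; h = r * i
  have key : H.relIndex (H ⊔ A) * (A.relIndex H * Nat.card (H ⊓ A : Subgroup G)) =
      H.relIndex A * (A.relIndex H * Nat.card (H ⊓ A : Subgroup G)) := by
    calc H.relIndex (H ⊔ A) * (A.relIndex H * Nat.card (H ⊓ A : Subgroup G))
        = H.relIndex (H ⊔ A) * Nat.card H := by rw [h3]
      _ = Nat.card (H ⊔ A : Subgroup G) := h4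
      _ = A.relIndex H * Nat.card A := by rw [← h2, h1]
      _ = A.relIndex H * (H.relIndex A * Nat.card (H ⊓ A : Subgroup G)) := by rw [h5]
      _ = H.relIndex A * (A.relIndex H * Nat.card (H ⊓ A : Subgroup G)) := by ring
  exact Nat.eq_of_mul_eq_mul_right (Nat.mul_pos hr hi) key

theorem piHall_map_mk [Finite G] {π : Set ℕ} (A : Subgroup G) [A.Normal] {H : Subgroup G}
    (hH : Cfsg.IsPiHall π H) : Cfsg.IsPiHall π (H.map (QuotientGroup.mk' A)) := by
  refine ⟨fun p hp hdvd => hH.1 p hp (hdvd.trans (Subgroup.card_map_dvd H _)), ?_⟩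
  intro p hp hpπ hdvd
  exact hH.2 p hp hpπ (hdvd.trans (Subgroup.index_map_dvd H (QuotientGroup.mk'_surjective A)))

theorem piHall_subgroupOf [Finite G] {π : Set ℕ} (A : Subgroup G) [A.Normal] {H : Subgroup G}
    (hH : Cfsg.IsPiHall π H) : Cfsg.IsPiHall π (H.subgroupOf A) := by
  refine ⟨?_, ?_⟩
  · intro p hp hdvd
    apply hH.1 p hp
    have h1 : Nat.card (H.subgroupOf A) = Nat.card (H ⊓ A : Subgroup G) := by
      rw [← Subgroup.subgroupOf_map_subtype H A]
      exact (Subgroup.card_map_of_injective (Subgroup.subtype_injective A)).symm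
    rw [h1] at hdvd
    exact hdvd.trans (Subgroup.card_dvd_of_le inf_le_left)
  · intro p hp hpπ hdvd
    apply hH.2 p hp hpπ
    have h1 : (H.subgroupOf A).index = H.relIndex A := rfl
    rw [h1, ← relIndex_sup_normal' H A] at hdvd
    exact hdvd.trans (Subgroup.relIndex_dvd_index_of_le le_sup_left)

/-- HALL MODULE [CONJ-RED] (a) -/
theorem exists_conj_sup_eq [Finite G] (π : Set ℕ) (A : Subgroup G) [A.Normal]
    (hQ : Cfsg.IsCPiGroup π (G ⧸ A)) {H K : Subgroup G} (hH : Cfsg.IsPiHall π H)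
    (hK : Cfsg.IsPiHall π K) :
    ∃ g : G, K.map (MulAut.conj g).toMonoidHom ⊔ A = H ⊔ A := by
  obtain ⟨gbar, hg⟩ := hQ.2 _ _ (piHall_map_mk A hH) (piHall_map_mk A hK)
  obtain ⟨g0, rfl⟩ := QuotientGroup.mk'_surjective A gbar
  -- (H.map conj g0).map mk = K.map mk
  have h1 : (H.map (MulAut.conj g0).toMonoidHom).map (QuotientGroup.mk' A) =
      K.map (QuotientGroup.mk' A) := by
    rw [hg]
    ext x
    simp only [Subgroup.mem_map]
    constructor
    · rintro ⟨y, ⟨h, hh, rfl⟩, rfl⟩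
      refine ⟨QuotientGroup.mk' A h, ⟨h, hh, rfl⟩, ?_⟩
      simp
    · rintro ⟨y, ⟨h, hh, rfl⟩, rfl⟩
      refine ⟨g0 * h * g0⁻¹, ⟨h, hh, by simp⟩, ?_⟩
      simp
  have h2 : H.map (MulAut.conj g0).toMonoidHom ⊔ A = K ⊔ A := by
    have := congrArg (Subgroup.comap (QuotientGroup.mk' A)) h1
    rwa [Subgroup.comap_map_eq, Subgroup.comap_map_eq, QuotientGroup.ker_mk'] at this
  refine ⟨g0⁻¹, ?_⟩
  have h3 := congrArg (Subgroup.map (MulAut.conj g0⁻¹).toMonoidHom) h2
  rw [Subgroup.map_sup, Subgroup.map_sup, map_conj_map_conj_inv, map_conj_of_normal A] at h3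
  exact h3.symm

/-- HALL MODULE [CONJ-RED] (b) -/
theorem exists_conj_inf_eq [Finite G] (π : Set ℕ) (A : Subgroup G) [A.Normal]
    (hA : Cfsg.IsCPiGroup π ↥A) {H K : Subgroup G} (hH : Cfsg.IsPiHall π H)
    (hK : Cfsg.IsPiHall π K) (hsup : K ⊔ A = H ⊔ A) :
    ∃ a : G, a ∈ A ∧ K.map (MulAut.conj a).toMonoidHom ⊓ A = H ⊓ A ∧
      K.map (MulAut.conj a).toMonoidHom ⊔ A = H ⊔ A := by
  obtain ⟨a0, ha0⟩ := hA.2 _ _ (piHall_subgroupOf A hH) (piHall_subgroupOf A hK)
  -- K ⊓ A = (H ⊓ A).map (conj a0)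
  have h1 : K ⊓ A = (H ⊓ A).map (MulAut.conj (a0 : G)).toMonoidHom := by
    have := congrArg (Subgroup.map A.subtype) ha0
    rw [Subgroup.subgroupOf_map_subtype] at this
    rw [this]
    ext x
    rw [mem_map_conj_iff]
    simp only [Subgroup.mem_map, Subgroup.mem_subgroupOf, Subgroup.mem_inf]
    constructor
    · rintro ⟨y, ⟨z, hz, rfl⟩, rfl⟩
      simp only [MulEquiv.coe_toMonoidHom, MulAut.conj_apply, Subgroup.subtype_apply,
        Subgroup.coe_mul, Subgroup.coe_inv]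
      have e : (a0 : G)⁻¹ * ((a0 : G) * (z : G) * (a0 : G)⁻¹) * (a0 : G) = z := by group
      rw [e]
      exact ⟨hz, z.2⟩
    · rintro ⟨hxH, hxA⟩
      refine ⟨a0 * ⟨(a0 : G)⁻¹ * x * a0, hxA⟩ * a0⁻¹, ⟨⟨(a0 : G)⁻¹ * x * a0, hxA⟩, hxH, ?_⟩, ?_⟩
      · simp
      · simp only [Subgroup.subtype_apply, Subgroup.coe_mul, Subgroup.coe_inv]
        group
  refine ⟨(a0 : G)⁻¹, A.inv_mem a0.2, ?_, ?_⟩
  · have h2 : K.map (MulAut.conj (a0 : G)⁻¹).toMonoidHom ⊓ A =
        (K ⊓ A).map (MulAut.conj (a0 : G)⁻¹).toMonoidHom := by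
      rw [map_conj_inf, map_conj_of_normal A]
    rw [h2, h1, map_conj_map_conj_inv]
  · have h2 : K.map (MulAut.conj (a0 : G)⁻¹).toMonoidHom ⊔ A =
        (K ⊔ A).map (MulAut.conj (a0 : G)⁻¹).toMonoidHom := by
      rw [Subgroup.map_sup, map_conj_of_normal A]
    rw [h2, hsup]
    exact map_conj_of_mem _ ((le_sup_right : A ≤ H ⊔ A) (A.inv_mem a0.2))

end Cfsg.Agent.Lib.Helper73.Hall
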