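import Mathlib
import Cfsg.Prelude.Def_HallClasses

/-!
# HALL MODULE [SERIES] (helper73, for helper15's S1908)

A normal series with `π` / `π'` factors induces one (shorter by one) on the quotient by its first
nontrivial term.
-/

set_option autoImplicit false

universe u

namespace Cfsg.Agent.Lib.Helper73.Hall

variable {G : Type u} [Group G]

/-- relative index of images in a quotient `G ⧸ N` of subgroups above `N`. -/
theorem relIndex_map_mk (N : Subgroup G) [N.Normal] {S T : Subgroup G} (hNS : N ≤ S) :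
    (S.map (QuotientGroup.mk' N)).relIndex (T.map (QuotientGroup.mk' N)) = S.relIndex T := by
  rw [← Subgroup.relIndex_comap, Subgroup.comap_map_eq_self]
  rw [QuotientGroup.ker_mk']
  exact hNS

/-- HALL MODULE [SERIES] -/
theorem series_quotient [Finite G] (π : Set ℕ) {n : ℕ} (H : Fin (n + 2) → Subgroup G)
    (hlast : H (Fin.last (n + 1)) = ⊤) (hmono : Monotone H) (hnorm : ∀ i, (H i).Normal)
    (hfac : ∀ i : Fin (n + 1),
      (∀ q : ℕ, q.Prime → q ∣ (H i.castSucc).relIndex (H i.succ) → q ∈ π) ∨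
        (∀ q : ℕ, q.Prime → q ∣ (H i.castSucc).relIndex (H i.succ) → q ∉ π))
    (N : Subgroup G) [N.Normal] (hN : H 1 = N) :
    ∃ H' : Fin (n + 1) → Subgroup (G ⧸ N), H' 0 = ⊥ ∧ H' (Fin.last n) = ⊤ ∧ Monotone H' ∧
      (∀ i, (H' i).Normal) ∧
      ∀ i : Fin n,
        (∀ q : ℕ, q.Prime → q ∣ (H' i.castSucc).relIndex (H' i.succ) → q ∈ π) ∨
          (∀ q : ℕ, q.Prime → q ∣ (H' i.castSucc).relIndex (H' i.succ) → q ∉ π) := by
  refine ⟨fun i => (H i.succ).map (QuotientGroup.mk' N), ?_, ?_, ?_, ?_, ?_⟩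
  · show (H (Fin.succ 0)).map (QuotientGroup.mk' N) = ⊥
    have : (Fin.succ 0 : Fin (n + 2)) = 1 := rfl
    rw [this, hN]
    exact QuotientGroup.map_mk'_self N
  · show (H (Fin.succ (Fin.last n))).map (QuotientGroup.mk' N) = ⊤
    rw [Fin.succ_last, hlast, ← MonoidHom.range_eq_map]
    exact MonoidHom.range_eq_top.mpr (QuotientGroup.mk'_surjective N)
  · intro i j hij
    exact Subgroup.map_mono (hmono (Fin.succ_le_succ_iff.mpr hij))
  · intro i
    exact (hnorm i.succ).map _ (QuotientGroup.mk'_surjective N)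
  · intro i
    have hN1 : N ≤ H (i.castSucc).succ := by
      rw [← hN]
      apply hmono
      rw [Fin.le_def]
      simp
    have e : ((H (i.castSucc).succ).map (QuotientGroup.mk' N)).relIndex
        ((H (i.succ).succ).map (QuotientGroup.mk' N)) =
        (H (i.succ).castSucc).relIndex (H (i.succ).succ) := by
      rw [relIndex_map_mk N hN1, Fin.succ_castSucc]
    show (∀ q : ℕ, q.Prime → q ∣ ((H (i.castSucc).succ).map (QuotientGroup.mk' N)).relIndex
        ((H (i.succ).succ).map (QuotientGroup.mk' N)) → q ∈ π) ∨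
      (∀ q : ℕ, q.Prime → q ∣ ((H (i.castSucc).succ).map (QuotientGroup.mk' N)).relIndex
        ((H (i.succ).succ).map (QuotientGroup.mk' N)) → q ∉ π)
    rw [e]
    exact hfac i.succ

end Cfsg.Agent.Lib.Helper73.Hall
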