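import Mathlib
import Cfsg.Agent.Lib.Helper74.PF127Defs
import Cfsg.Agent.S1525

/-!
# MODULE [MASS] for Peterfalvi (12.7) = S1540 (helper73, for helper74)

`mass_two_supports`: the Dade mass inequality S1525 applied to two Dade data with disjoint
supports.
-/

set_option autoImplicit false

namespace Cfsg.Agent.Lib.Helper73.PF127Mass

open Cfsg
open scoped ComplexConjugate
open Cfsg.Agent.Lib.Helper74.PF127

/-- `classInner ν ν` is the average of `‖ν g‖ ^ 2`. -/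
theorem classInner_self_re {G : Type*} [Group G] [Fintype G] (ν : G → ℂ) :
    (classInner ν ν).re = (Nat.card G : ℝ)⁻¹ * ∑ g : G, ‖ν g‖ ^ 2 := by
  unfold classInner
  have h1 : ∀ g : G, ν g * conj (ν g) = ((‖ν g‖ ^ 2 : ℝ) : ℂ) := by
    intro g
    rw [Complex.mul_conj, Complex.normSq_eq_norm_sq]
  simp only [h1]
  rw [← Complex.ofReal_sum]
  have h2 : ((Nat.card G : ℂ))⁻¹ = (((Nat.card G : ℝ))⁻¹ : ℝ) := by
    push_cast
    rfl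
  rw [h2, ← Complex.ofReal_mul, Complex.ofReal_re]

/-- MODULE [MASS] -/
theorem mass_two_supports {G : Type*} [Group G] [Fintype G] (A₁ A₂ : Set G) (L₁ L₂ : Subgroup G)
    [Fintype L₁] [Fintype L₂] (R₁ R₂ : G → Subgroup G)
    (hD₁ : DadeHypothesis A₁ L₁ R₁) (hD₂ : DadeHypothesis A₂ L₂ R₂)
    (hdisj : ∀ g : G, g ∈ dadeSupp A₁ R₁ → g ∉ dadeSupp A₂ R₂)
    (ν : G → ℂ) (hν : IsClassFunction G ν) :
    (Nat.card L₁ : ℝ)⁻¹ * ∑ᶠ a ∈ {a : L₁ | (a : G) ∈ A₁}, ‖dadeAvg R₁ ν (a : G)‖ ^ 2 +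
      (Nat.card L₂ : ℝ)⁻¹ * ∑ᶠ a ∈ {a : L₂ | (a : G) ∈ A₂}, ‖dadeAvg R₂ ν (a : G)‖ ^ 2 ≤
      (classInner ν ν).re := by
  classical
  have h1 := Cfsg.Agent.S1525.result A₁ L₁ R₁ hD₁ ν hν (fun a => dadeAvg R₁ ν (a : G))
    (fun a _ => rfl)
  have h2 := Cfsg.Agent.S1525.result A₂ L₂ R₂ hD₂ ν hν (fun a => dadeAvg R₂ ν (a : G))
    (fun a _ => rfl)
  rw [classInner_self_re]
  have hG : (0 : ℝ) ≤ (Nat.card G : ℝ)⁻¹ := by positivity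
  have e1 : {g : G | ∃ a ∈ A₁, ∃ u ∈ R₁ a, ∃ x : G, x * g * x⁻¹ = a * u} = dadeSupp A₁ R₁ := rfl
  have e2 : {g : G | ∃ a ∈ A₂, ∃ u ∈ R₂ a, ∃ x : G, x * g * x⁻¹ = a * u} = dadeSupp A₂ R₂ := rfl
  rw [e1] at h1
  rw [e2] at h2
  have hs1 : ∑ᶠ g ∈ dadeSupp A₁ R₁, ‖ν g‖ ^ 2 =
      ∑ g ∈ Finset.univ.filter (fun g => g ∈ dadeSupp A₁ R₁), ‖ν g‖ ^ 2 := by
    rw [finsum_mem_eq_finite_toFinset_sum _ (Set.toFinite _)]
    apply Finset.sum_congr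
    · ext g; simp
    · intros; rfl
  have hs2 : ∑ᶠ g ∈ dadeSupp A₂ R₂, ‖ν g‖ ^ 2 =
      ∑ g ∈ Finset.univ.filter (fun g => g ∈ dadeSupp A₂ R₂), ‖ν g‖ ^ 2 := by
    rw [finsum_mem_eq_finite_toFinset_sum _ (Set.toFinite _)]
    apply Finset.sum_congr
    · ext g; simp
    · intros; rfl
  rw [hs1] at h1
  rw [hs2] at h2
  have hdis : Disjoint (Finset.univ.filter (fun g => g ∈ dadeSupp A₁ R₁))
      (Finset.univ.filter (fun g => g ∈ dadeSupp A₂ R₂)) := by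
    rw [Finset.disjoint_left]
    intro g hg1 hg2
    simp only [Finset.mem_filter, Finset.mem_univ, true_and] at hg1 hg2
    exact hdisj g hg1 hg2
  have hle : ∑ g ∈ Finset.univ.filter (fun g => g ∈ dadeSupp A₁ R₁), ‖ν g‖ ^ 2 +
      ∑ g ∈ Finset.univ.filter (fun g => g ∈ dadeSupp A₂ R₂), ‖ν g‖ ^ 2 ≤
      ∑ g : G, ‖ν g‖ ^ 2 := by
    rw [← Finset.sum_union hdis]
    apply Finset.sum_le_sum_of_subset_of_nonneg (Finset.subset_univ _)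
    intros
    positivity
  calc _ ≤ (Nat.card G : ℝ)⁻¹ *
          ∑ g ∈ Finset.univ.filter (fun g => g ∈ dadeSupp A₁ R₁), ‖ν g‖ ^ 2 +
        (Nat.card G : ℝ)⁻¹ *
          ∑ g ∈ Finset.univ.filter (fun g => g ∈ dadeSupp A₂ R₂), ‖ν g‖ ^ 2 := add_le_add h1 h2
    _ = (Nat.card G : ℝ)⁻¹ *
          (∑ g ∈ Finset.univ.filter (fun g => g ∈ dadeSupp A₁ R₁), ‖ν g‖ ^ 2 +
            ∑ g ∈ Finset.univ.filter (fun g => g ∈ dadeSupp A₂ R₂), ‖ν g‖ ^ 2) := by ring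
    _ ≤ _ := mul_le_mul_of_nonneg_left hle hG

end Cfsg.Agent.Lib.Helper73.PF127Mass
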