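import Mathlib
import Cfsg.Agent.Lib.Helper66.StemDihedral

set_option autoImplicit false

namespace Cfsg.Agent.Lib.Helper73

/-- If `S = ⟨h, z, g⟩` with `z` central and `g h g⁻¹ = h ^ r * z ^ e`, then the commutator subgroup is
contained in the cyclic group generated by `[h, g] = h g h⁻¹ g⁻¹`. -/
theorem commutator_le_zpowers_of_conj {S : Type*} [Group S] [Finite S] (h z g : S) (r e : ℤ)
    (hz : ∀ x : S, z * x = x * z) (hconj : g * h * g⁻¹ = h ^ r * z ^ e)
    (hgen : Subgroup.closure {h, z, g} = ⊤) :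
    commutator S ≤ Subgroup.zpowers (h * g * h⁻¹ * g⁻¹) := by
  set c := h * g * h⁻¹ * g⁻¹ with hc
  have hhz : Commute h z := (hz h).symm
  have hhy : Commute h (h ^ r * z ^ e) :=
    (Commute.zpow_right (Commute.refl h) r).mul_right (hhz.zpow_right e)
  have hc' : c = h * (h ^ r * z ^ e)⁻¹ := by
    rw [← hconj, hc]; group
  -- h commutes with c
  have hhc : h * c * h⁻¹ = c := by
    have : Commute h c := by
      rw [hc']
      exact (Commute.refl h).mul_right hhy.inv_right
    rw [this.eq, mul_inv_cancel_right]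
  have hzc : z * c * z⁻¹ = c := by rw [hz c, mul_inv_cancel_right]
  have hgc : g * c * g⁻¹ = c ^ r := by
    have h1 : g * (h ^ r * z ^ e) * g⁻¹ = (h ^ r * z ^ e) ^ r * z ^ e := by
      have h2 : g * (h ^ r * z ^ e) * g⁻¹ = (g * h * g⁻¹) ^ r * (g * z * g⁻¹) ^ e := by
        rw [conj_zpow, conj_zpow]; group
      have h3 : g * z * g⁻¹ = z := by rw [← hz g, mul_inv_cancel_right]
      rw [h2, h3, hconj]
    have h4 : g * c * g⁻¹ = (g * h * g⁻¹) * (g * (h ^ r * z ^ e) * g⁻¹)⁻¹ := by
      rw [hc']; group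
    rw [h4, h1, hconj, hc']
    -- everything commutes now
    set y := h ^ r * z ^ e with hy
    have hyz : Commute y z := by
      rw [hy]
      exact (hhz.zpow_left r).mul_left (Commute.zpow_left (Commute.refl z) e)
    have hyze : Commute y (z ^ e) := hyz.zpow_right e
    rw [(hhy.inv_right).mul_zpow, mul_inv_rev, inv_zpow]
    have h5 : h ^ r = y * (z ^ e)⁻¹ := by rw [hy, mul_inv_cancel_right]
    clear_value y
    rw [h5, mul_assoc]
  have hnorm : (Subgroup.zpowers c).Normal := by
    have h1 : Subgroup.closure {h, z, g} ≤ Subgroup.normalizer (Subgroup.zpowers c : Set S) := by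
      rw [Subgroup.closure_le]
      have key : ∀ x : S, x * c * x⁻¹ ∈ Subgroup.zpowers c → x ∈ Subgroup.normalizer (Subgroup.zpowers c : Set S) := by
        intro x hx
        apply Subgroup.mem_normalizer_fintype
        rintro _ ⟨k, rfl⟩
        have : x * c ^ k * x⁻¹ = (x * c * x⁻¹) ^ k := by rw [conj_zpow]
        rw [SetLike.mem_coe]
        rw [this]
        exact Subgroup.zpow_mem _ hx k
      rintro x (rfl | rfl | rfl)
      · exact key _ (by rw [hhc]; exact Subgroup.mem_zpowers c)
      · exact key _ (by rw [hzc]; exact Subgroup.mem_zpowers c)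
      · exact key _ (by rw [hgc]; exact Subgroup.zpow_mem_zpowers c r)
    rw [hgen] at h1
    exact Subgroup.normalizer_eq_top_iff.mp (top_le_iff.mp h1)
  apply Cfsg.Agent.Lib.Helper66.commutator_le_of_generators _ _ hgen
  have hone : ∀ s : S, s * s * s⁻¹ * s⁻¹ ∈ Subgroup.zpowers c := by
    intro s
    have : s * s * s⁻¹ * s⁻¹ = 1 := by group
    rw [this]; exact Subgroup.one_mem _
  have hzl : ∀ t : S, z * t * z⁻¹ * t⁻¹ ∈ Subgroup.zpowers c := by
    intro t
    have : z * t * z⁻¹ * t⁻¹ = 1 := by rw [hz t]; group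
    rw [this]; exact Subgroup.one_mem _
  have hzr : ∀ t : S, t * z * t⁻¹ * z⁻¹ ∈ Subgroup.zpowers c := by
    intro t
    have : t * z * t⁻¹ * z⁻¹ = 1 := by rw [← hz t]; group
    rw [this]; exact Subgroup.one_mem _
  rintro s (rfl | rfl | rfl) t (rfl | rfl | rfl)
  · exact hone _
  · exact hzr _
  · exact Subgroup.mem_zpowers c
  · exact hzl _
  · exact hone _
  · exact hzl _
  · have : s * t * s⁻¹ * t⁻¹ = c⁻¹ := by rw [hc]; group
    rw [this]; exact Subgroup.inv_mem _ (Subgroup.mem_zpowers c)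
  · exact hzr _
  · exact hone _

end Cfsg.Agent.Lib.Helper73
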