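import Mathlib
import Cfsg.Agent.Lib.Helper73.TwoGroup
import Cfsg.Agent.Lib.Helper73.QuatIso
import Cfsg.Agent.Lib.Helper73.CommutatorConj

set_option autoImplicit false

namespace Cfsg.Agent.Lib.Helper73

universe u

open scoped commutatorElement

theorem mem_zpowers_of_orderOf_two {G : Type*} [Group G] {z x : G} (hz : z ^ 2 = 1)
    (hx : x ∈ Subgroup.zpowers z) : x = 1 ∨ x = z := by
  obtain ⟨j, rfl⟩ := Subgroup.mem_zpowers_iff.mp hx
  rcases Int.even_or_odd' j with ⟨k, rfl | rfl⟩
  · left
    rw [zpow_mul, zpow_ofNat, hz, one_zpow]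
  · right
    rw [zpow_add, zpow_mul, zpow_ofNat, hz, one_zpow, one_mul, zpow_one]

theorem zpow_eq_one_or_self_of_sq {G : Type*} [Group G] {t : G} (ht : t ^ 2 = 1) (r : ℤ) :
    t ^ r = 1 ∨ t ^ r = t :=
  mem_zpowers_of_orderOf_two ht (Subgroup.zpow_mem_zpowers t r)

theorem commutator_ne_bot_of_not_comm {S : Type*} [Group S] (hna : ∃ x y : S, x * y ≠ y * x) :
    commutator S ≠ ⊥ := by
  intro h
  obtain ⟨x, y, hxy⟩ := hna
  apply hxy
  have h1 : ⁅x, y⁆ ∈ commutator S := by
    rw [commutator_def]
    exact Subgroup.commutator_mem_commutator (Subgroup.mem_top x) (Subgroup.mem_top y)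
  rw [h, Subgroup.mem_bot, commutatorElement_def] at h1
  calc x * y = (x * y * x⁻¹ * y⁻¹) * y * x := by group
    _ = y * x := by rw [h1, one_mul]

theorem commutator_eq_bot_of_comm {S : Type*} [Group S] (h : ∀ x y : S, x * y = y * x) :
    commutator S = ⊥ := by
  rw [commutator_def, Subgroup.commutator_eq_bot_iff_le_centralizer]
  intro x _
  rw [Subgroup.mem_centralizer_iff]
  intro y _
  exact h y x

/-- A nonabelian 2-group with `|S : S'| = 4` has a cyclic subgroup of index `2`. -/
theorem exists_orderOf_of_index_commutator_four :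
    ∀ (n : ℕ) (S : Type u) [Group S] [Finite S], Nat.card S = 2 ^ n →
      (∃ x y : S, x * y ≠ y * x) → (commutator S).index = 4 → ∃ a : S, 2 * orderOf a = 2 ^ n := by
  intro n
  induction n with
  | zero =>
    intro S _ _ hS hna _
    exfalso
    obtain ⟨x, y, hxy⟩ := hna
    rw [pow_zero] at hS
    have : Subsingleton S := (Nat.card_eq_one_iff_unique.mp hS).1
    exact hxy (Subsingleton.elim _ _)
  | succ n ih =>
    intro S _ _ hS hna hidx
    have : Fact (Nat.Prime 2) := ⟨Nat.prime_two⟩
    have h2 : IsPGroup 2 S := IsPGroup.of_card hS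
    have hcne : commutator S ≠ ⊥ := commutator_ne_bot_of_not_comm hna
    -- central involution in the commutator subgroup
    obtain ⟨z, hzc, hz2, hzcen⟩ : ∃ z : S, z ∈ commutator S ∧ orderOf z = 2 ∧ z ∈ Subgroup.center S := by
      obtain ⟨z₀, hz₀c, hz₀1, hz₀cen⟩ := exists_ne_one_mem_center_of_normal' h2 (commutator S) hcne
      set T := commutator S ⊓ Subgroup.center S with hT
      have hTne : Nontrivial T := ⟨⟨⟨z₀, hz₀c, hz₀cen⟩, 1, fun h => hz₀1 (congrArg Subtype.val h)⟩⟩
      have hTp : IsPGroup 2 T := h2.to_subgroup T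
      obtain ⟨k, hk0, hk⟩ := hTp.nontrivial_iff_card.mp hTne
      have hdvd : 2 ∣ Nat.card T := by rw [hk]; exact dvd_pow_self 2 hk0.ne'
      obtain ⟨t, ht⟩ := exists_prime_orderOf_dvd_card' 2 hdvd
      exact ⟨t.1, t.2.1, by rw [← ht, Subgroup.orderOf_coe], t.2.2⟩
    have hzz : z ^ 2 = 1 := by rw [← hz2]; exact pow_orderOf_eq_one z
    have hz1 : z ≠ 1 := by
      intro h; rw [h, orderOf_one] at hz2; omega
    have hzcomm : ∀ x : S, z * x = x * z := fun x => ((Subgroup.mem_center_iff.mp hzcen) x).symm
    set Z := Subgroup.zpowers z with hZ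
    have hZn : Z.Normal := by
      constructor
      rintro _ ⟨k, rfl⟩ g
      have : g * z ^ k * g⁻¹ = z ^ k := by
        have hc : Commute g (z ^ k) := (Commute.zpow_right (hzcomm g).symm k)
        rw [hc.eq, mul_inv_cancel_right]
      rw [this]; exact Subgroup.zpow_mem_zpowers z k
    have hZcard : Nat.card Z = 2 := by rw [hZ, Nat.card_zpowers, hz2]
    have hQcard : Nat.card (S ⧸ Z) = 2 ^ n := by
      have := Subgroup.card_eq_card_quotient_mul_card_subgroup Z
      rw [hS, hZcard, pow_succ] at this
      exact (Nat.eq_of_mul_eq_mul_right (by norm_num) this).symm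
    set π := QuotientGroup.mk' Z with hπ
    have hπs : Function.Surjective π := QuotientGroup.mk'_surjective Z
    have hker : ∀ x : S, π x = 1 → x = 1 ∨ x = z := by
      intro x hx
      have : x ∈ Z := by rwa [hπ, QuotientGroup.mk'_apply, QuotientGroup.eq_one_iff] at hx
      exact mem_zpowers_of_orderOf_two hzz this
    have hπz : π z = 1 := by
      rw [hπ, QuotientGroup.mk'_apply, QuotientGroup.eq_one_iff]; exact Subgroup.mem_zpowers z
    have hQidx : (commutator (S ⧸ Z)).index = 4 := by
      have h1 : (commutator S).map π = commutator (S ⧸ Z) := by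
        rw [commutator_def, commutator_def, Subgroup.map_commutator,
          ← MonoidHom.range_eq_map, MonoidHom.range_eq_top.mpr hπs]
      rw [← h1, Subgroup.index_map_eq _ hπs, hidx]
      rw [hπ, QuotientGroup.ker_mk']
      rw [hZ, Subgroup.zpowers_le]; exact hzc
    by_cases hQab : ∀ x y : S ⧸ Z, x * y = y * x
    · -- `S ⧸ Z` abelian: order 8
      have h1 : commutator (S ⧸ Z) = ⊥ := commutator_eq_bot_of_comm hQab
      rw [h1, Subgroup.index_bot, hQcard] at hQidx
      have hn2 : n = 2 := by
        have : (2 : ℕ) ^ n = 2 ^ 2 := by rw [hQidx]; norm_num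
        exact Nat.pow_right_injective (le_refl 2) this
      subst hn2
      -- an element of order 4
      have hex : ∃ x : S, x ^ 2 ≠ 1 := by
        by_contra hcon
        push Not at hcon
        obtain ⟨x, y, hxy⟩ := hna
        exact hxy (comm_of_sq_eq_one hcon x y)
      obtain ⟨x, hx⟩ := hex
      have hxo : orderOf x ∣ 2 ^ 3 := by rw [← hS]; exact orderOf_dvd_natCard x
      obtain ⟨j, hj, hjo⟩ := (Nat.dvd_prime_pow Nat.prime_two).mp hxo
      have hj1 : j ≠ 0 := by
        rintro rfl
        rw [pow_zero, orderOf_eq_one_iff] at hjo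
        rw [hjo, one_pow] at hx; exact hx rfl
      have hj2 : j ≠ 1 := by
        rintro rfl
        rw [pow_one] at hjo
        apply hx; rw [← hjo]; exact pow_orderOf_eq_one x
      have hj3 : j ≠ 3 := by
        rintro rfl
        have hcyc : IsCyclic S := isCyclic_of_orderOf_eq_card x (by rw [hjo, hS])
        obtain ⟨a, b, hab⟩ := hna
        obtain ⟨g, hg⟩ := hcyc.exists_generator
        obtain ⟨k, rfl⟩ := Subgroup.mem_zpowers_iff.mp (hg a)
        obtain ⟨l, rfl⟩ := Subgroup.mem_zpowers_iff.mp (hg b)
        exact hab ((Commute.zpow_zpow (Commute.refl g) k l).eq)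
      have hj4 : j = 2 := by omega
      subst hj4
      exact ⟨x, by rw [hjo]; norm_num⟩
    · -- `S ⧸ Z` nonabelian: induction
      push Not at hQab
      obtain ⟨ā, hā⟩ := ih (S ⧸ Z) hQcard hQab hQidx
      obtain ⟨h, rfl⟩ := hπs ā
      -- n ≥ 3
      have hn3 : 3 ≤ n := by
        have hne := commutator_ne_bot_of_not_comm hQab
        have h1 := Subgroup.index_mul_card (commutator (S ⧸ Z))
        rw [hQidx, hQcard] at h1
        have h3 : 2 ≤ Nat.card (commutator (S ⧸ Z)) := by
          by_contra hlt
          push Not at hlt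
          exact hne (Subgroup.eq_bot_of_card_le _ (by omega))
        by_contra hlt
        push Not at hlt
        have : (2 : ℕ) ^ n ≤ 2 ^ 2 := Nat.pow_le_pow_right (by norm_num) (by omega)
        omega
      obtain ⟨m, rfl⟩ : ∃ m, n = m + 3 := ⟨n - 3, by omega⟩
      have hoh : orderOf (π h) = 4 * 2 ^ m := by
        have : (2 : ℕ) ^ (m + 3) = 2 * (4 * 2 ^ m) := by ring
        rw [this] at hā
        exact Nat.eq_of_mul_eq_mul_left (by norm_num) hā
      -- w := h ^ (4 * 2 ^ m) lies in Z
      have hw : h ^ (4 * 2 ^ m) = 1 ∨ h ^ (4 * 2 ^ m) = z := by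
        apply hker
        rw [map_pow, ← hoh]; exact pow_orderOf_eq_one _
      have hw2 : h ^ (2 * 2 ^ m) ≠ 1 := by
        intro hcon
        have h1 : (π h) ^ (2 * 2 ^ m) = 1 := by rw [← map_pow, hcon, map_one]
        have h3 := orderOf_dvd_of_pow_eq_one h1
        rw [hoh] at h3
        have := Nat.le_of_dvd (by positivity) h3
        have : 0 < 2 ^ m := by positivity
        omega
      by_cases hzh : z ∈ Subgroup.zpowers h
      · -- cyclic case
        refine ⟨h, ?_⟩
        obtain ⟨k, hk⟩ := Subgroup.mem_zpowers_iff.mp hzh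
        have h1 : (π h) ^ k = 1 := by rw [← map_zpow, hk, hπz]
        have h3 := (orderOf_dvd_iff_zpow_eq_one).mpr h1
        rw [hoh] at h3
        obtain ⟨k', rfl⟩ := h3
        have hwz : h ^ (4 * 2 ^ m) = z := by
          rcases hw with hw | hw
          · exfalso
            apply hz1
            rw [← hk]
            have : ((4 * 2 ^ m : ℕ) : ℤ) * k' = ((4 * 2 ^ m : ℕ) : ℤ) * k' := rfl
            rw [zpow_mul, zpow_natCast, hw, one_zpow]
          · exact hw
        have h4 : orderOf h = 2 ^ (m + 3) := by
          have e1 : 4 * 2 ^ m = 2 ^ (m + 2) := by ring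
          apply orderOf_eq_prime_pow
          · rw [← e1, hwz]; exact hz1
          · have : 2 ^ (m + 2 + 1) = (4 * 2 ^ m) * 2 := by ring
            rw [this, pow_mul, hwz, hzz]
        rw [h4]; ring
      · -- noncyclic case: contradiction
        exfalso
        have hw1 : h ^ (4 * 2 ^ m) = 1 := by
          rcases hw with hw | hw
          · exact hw
          · exfalso; apply hzh; rw [← hw]; exact Subgroup.pow_mem _ (Subgroup.mem_zpowers h) _
        -- g outside
        have hne : Subgroup.zpowers (π h) ≠ ⊤ := by
          intro h1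
          have := (Subgroup.card_eq_iff_eq_top _).mpr h1
          rw [Nat.card_zpowers, hoh, hQcard] at this
          have e : (2 : ℕ) ^ (m + 3) = 8 * 2 ^ m := by ring
          have : 0 < 2 ^ m := by positivity
          omega
        obtain ⟨gq, hgq⟩ : ∃ gq : S ⧸ Z, gq ∉ Subgroup.zpowers (π h) := by
          by_contra hcon
          push Not at hcon
          exact hne (eq_top_iff.mpr fun x _ => hcon x)
        obtain ⟨g, rfl⟩ := hπs gq
        have hQcard' : Nat.card (S ⧸ Z) = 2 * orderOf (π h) := by rw [hQcard, hoh]; ring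
        have hidx2 : (Subgroup.zpowers (π h)).index = 2 := by
          have h1 := Subgroup.index_mul_card (Subgroup.zpowers (π h))
          rw [Nat.card_zpowers, hQcard'] at h1
          exact Nat.eq_of_mul_eq_mul_right (orderOf_pos _) h1
        have hnorm : (Subgroup.zpowers (π h)).Normal := Subgroup.normal_of_index_eq_two hidx2
        obtain ⟨r, hr⟩ := Subgroup.mem_zpowers_iff.mp (hnorm.conj_mem _ (Subgroup.mem_zpowers (π h)) (π g))
        -- g h g⁻¹ = h ^ r * z ^ e
        obtain ⟨e, he⟩ : ∃ e : ℤ, g * h * g⁻¹ = h ^ r * z ^ e := by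
          have h1 : π (g * h * g⁻¹ * (h ^ r)⁻¹) = 1 := by
            simp only [map_mul, map_inv, map_zpow]
            rw [hr, mul_inv_cancel]
          rcases hker _ h1 with h3 | h3
          · refine ⟨0, ?_⟩
            rw [zpow_zero, mul_one]
            exact mul_inv_eq_one.mp h3
          · refine ⟨1, ?_⟩
            rw [zpow_one, mul_inv_eq_iff_eq_mul.mp h3]
            exact hzcomm (h ^ r)
        -- generation
        have hgen : Subgroup.closure {h, z, g} = ⊤ := by
          set L := Subgroup.closure {h, z, g} with hL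
          have hsup := zpowers_sup_zpowers_eq_top (π h) (π g) hQcard' hgq
          have hmap : Subgroup.map π L = ⊤ := by
            rw [eq_top_iff, ← hsup, sup_le_iff]
            constructor
            · rw [Subgroup.zpowers_le]
              exact ⟨h, Subgroup.subset_closure (by simp), rfl⟩
            · rw [Subgroup.zpowers_le]
              exact ⟨g, Subgroup.subset_closure (by simp), rfl⟩
          rw [eq_top_iff]
          intro s _
          have h1 : π s ∈ Subgroup.map π L := by rw [hmap]; trivial
          obtain ⟨l, hl, hls⟩ := h1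
          have h3 : π (l⁻¹ * s) = 1 := by rw [map_mul, map_inv, hls, inv_mul_cancel]
          have h4 : l⁻¹ * s ∈ L := by
            rcases hker _ h3 with h5 | h5
            · rw [h5]; exact one_mem _
            · rw [h5]; exact Subgroup.subset_closure (by simp)
          have : s = l * (l⁻¹ * s) := by group
          rw [this]; exact mul_mem hl h4
        have hcomm := commutator_le_zpowers_of_conj h z g r e hzcomm he hgen
        set c := h * g * h⁻¹ * g⁻¹ with hc
        -- c ^ (2 * 2 ^ m) = 1
        set P := 2 * 2 ^ m with hP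
        set t := h ^ P with ht
        have ht2 : t ^ 2 = 1 := by
          rw [ht, ← pow_mul, hP]
          have : 2 * 2 ^ m * 2 = 4 * 2 ^ m := by ring
          rw [this, hw1]
        have hhz : Commute h z := (hzcomm h).symm
        have hyP : (h ^ r * z ^ e) ^ P = t ^ r := by
          have hc1 : Commute (h ^ r) (z ^ e) := (hhz.zpow_left r).zpow_right e
          rw [hc1.mul_pow]
          have h1 : (z ^ e) ^ P = 1 := by
            rw [← zpow_natCast, ← zpow_mul, mul_comm, zpow_mul, zpow_natCast, hP, pow_mul, hzz, one_pow,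
              one_zpow]
          rw [h1, mul_one, ht, ← zpow_natCast, ← zpow_mul, mul_comm, zpow_mul, zpow_natCast]
        have hconjP : g * t * g⁻¹ = t ^ r := by
          rw [← hyP, ← he, ht, conj_pow]
        have htr : t ^ r = t := by
          rcases zpow_eq_one_or_self_of_sq ht2 r with h1 | h1
          · exfalso
            rw [h1] at hconjP
            have : t = 1 := by
              have := congrArg (fun x => g⁻¹ * x * g) hconjP
              simpa [mul_assoc] using this
            exact hw2 this
          · exact h1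
        have hcP : c ^ P = 1 := by
          have hc' : c = h * (h ^ r * z ^ e)⁻¹ := by rw [← he, hc]; group
          have hhy : Commute h (h ^ r * z ^ e) :=
            (Commute.zpow_right (Commute.refl h) r).mul_right (hhz.zpow_right e)
          rw [hc', (hhy.inv_right).mul_pow, inv_pow, hyP, htr, ← ht, mul_inv_cancel]
        -- count
        have h5 : Nat.card (commutator S) ∣ P := by
          have h6 := Subgroup.card_dvd_of_le hcomm
          rw [Nat.card_zpowers] at h6
          exact h6.trans (orderOf_dvd_of_pow_eq_one hcP)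
        have h7 := Subgroup.index_mul_card (commutator S)
        rw [hidx, hS] at h7
        have e1 : (2 : ℕ) ^ (m + 3 + 1) = 4 * (4 * 2 ^ m) := by ring
        rw [e1] at h7
        have h8 : Nat.card (commutator S) = 4 * 2 ^ m := Nat.eq_of_mul_eq_mul_left (by norm_num) h7
        rw [h8, hP] at h5
        have := Nat.le_of_dvd (by positivity) h5
        have : 0 < 2 ^ m := by positivity
        omega

end Cfsg.Agent.Lib.Helper73
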