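import Cfsg.Agent.Lib.Helper73.FHHeckeC

/-!
# FH MODULE HECKE-B: `T_s T_w = T_{sw}` when `(s, w)` is good (length goes up)
-/

set_option autoImplicit false

namespace Cfsg.Agent.Lib.Helper73.FHHecke

open Matrix Cfsg Cfsg.Agent.Lib.Helper6 Cfsg.Agent.Lib.Helper19.FH

variable {G : Type*} [Group G] (P : Cfsg.BNPair G)

/-- `C(s) C(w) ⊆ C(sw)` when `(s, w)` is good. -/
theorem inDC_mul_of_good {s w g h : G} (hg : Good P s w) (h1 : InDC P s g) (h2 : InDC P w h) :
    InDC P (s * w) (g * h) := by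
  obtain ⟨x, hx, y, hy, rfl⟩ := h1
  obtain ⟨x', hx', y', hy', rfl⟩ := h2
  have key := hg (y * x') (P.B.mul_mem hy hx')
  have e : x * s * y * (x' * w * y') = x * (s * (y * x') * w) * y' := by group
  rw [e]
  exact inDC_mul_right P hy' (inDC_mul_left P hx key)

theorem adj_mul_of_good {s w : G} (hg : Good P s w) {x y z : G ⧸ P.B}
    (h1 : Adj P s x y) (h2 : Adj P w y z) : Adj P (s * w) x z := by
  unfold Adj at *
  have e : x.out⁻¹ * z.out = (x.out⁻¹ * y.out) * (y.out⁻¹ * z.out) := by group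
  rw [e]
  exact inDC_mul_of_good P hg h1 h2

theorem exists_mid_of_good {s w : G} {x z : G ⧸ P.B} (h : Adj P (s * w) x z) :
    ∃ y : G ⧸ P.B, Adj P s x y ∧ Adj P w y z := by
  unfold Adj at h
  obtain ⟨b, hb, b', hb', e⟩ := h
  refine ⟨(QuotientGroup.mk (x.out * b * s) : G ⧸ P.B), ?_, ?_⟩
  · unfold Adj
    rw [inDC_out_right P s _ _ (x.out * b * s) rfl]
    have e2 : x.out⁻¹ * (x.out * b * s) = b * s := by group
    rw [e2]
    exact inDC_mul_left P hb (inDC_self P s)
  · unfold Adj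
    rw [inDC_out_left P w _ (x.out * b * s) _ rfl]
    have e2 : (x.out * b * s)⁻¹ * z.out = s⁻¹ * b⁻¹ * (x.out⁻¹ * z.out) := by group
    rw [e2, e]
    have e3 : s⁻¹ * b⁻¹ * (b * (s * w) * b') = w * b' := by group
    rw [e3]
    exact inDC_mul_right P hb' (inDC_self P w)

theorem mid_unique_of_good {s w : G} (hs : s ∈ P.S) (hw : w ∈ P.N) (hg : Good P s w)
    {x y y' z : G ⧸ P.B} (h1 : Adj P s x y) (h2 : Adj P w y z) (h1' : Adj P s x y')
    (_h2' : Adj P w y' z) : y = y' := by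
  rcases adj_trans P hs (adj_symm P hs h1) h1' with k | k
  · exact k
  · exfalso
    -- `y⁻¹ z ∈ C(s) C(w) ⊆ C(sw)` and `y⁻¹ z ∈ C(w)`
    have h3 : Adj P (s * w) y z := adj_mul_of_good P hg k _h2'
    unfold Adj at h2 h3
    have h4 : InDC P w (s * w) := inDC_trans P h2 (inDC_symm P h3)
    exact not_inDC_mul_S P hs hw h4

variable [Fintype (G ⧸ P.B)] [DecidableEq (G ⧸ P.B)]

theorem heckeMat_mul_of_good {s w : G} (hs : s ∈ P.S) (hw : w ∈ P.N) (hg : Good P s w) :
    heckeMat P s * heckeMat P w = heckeMat P (s * w) := by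
  classical
  ext x z
  rw [Matrix.mul_apply]
  simp only [heckeMat_eq_ite]
  by_cases hA : Adj P (s * w) x z
  · obtain ⟨y0, hy1, hy2⟩ := exists_mid_of_good P hA
    rw [Finset.sum_eq_single y0]
    · simp [hy1, hy2, hA]
    · intro y _ hne
      by_cases h1 : Adj P s x y
      · by_cases h2 : Adj P w y z
        · exact absurd (mid_unique_of_good P hs hw hg h1 h2 hy1 hy2) hne
        · simp [h2]
      · simp [h1]
    · intro h; exact absurd (Finset.mem_univ y0) h
  · rw [if_neg hA]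
    apply Finset.sum_eq_zero
    intro y _
    by_cases h1 : Adj P s x y
    · by_cases h2 : Adj P w y z
      · exact absurd (adj_mul_of_good P hg h1 h2) hA
      · simp [h2]
    · simp [h1]

end Cfsg.Agent.Lib.Helper73.FHHecke
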