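import Mathlib

/-!
# FH MODULE LA-PROJ (for helper19's Feit–Higman project S1142)

Spectral projections of a real symmetric matrix, and the trace of an idempotent.
Mathlib only.
-/

set_option autoImplicit false

namespace Cfsg.Agent.Lib.Helper73.FHProj

open Matrix

variable {ι : Type*} [Fintype ι] [DecidableEq ι]

/-- Orthogonal diagonalisation of a real symmetric matrix, in plain matrix form. -/
theorem exists_orthogonal_diag (z : Matrix ι ι ℝ) (hz : z.IsSymm) :
    ∃ (U : Matrix ι ι ℝ) (d : ι → ℝ), Uᵀ * U = 1 ∧ U * Uᵀ = 1 ∧ z = U * diagonal d * Uᵀ := by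
  have hH : z.IsHermitian := by
    unfold Matrix.IsHermitian
    rw [conjTranspose_eq_transpose_of_trivial]
    exact hz
  refine ⟨(hH.eigenvectorUnitary : Matrix ι ι ℝ), hH.eigenvalues, ?_, ?_, ?_⟩
  · have h := Unitary.coe_star_mul_self hH.eigenvectorUnitary
    rw [star_eq_conjTranspose, conjTranspose_eq_transpose_of_trivial] at h
    exact h
  · have h := Unitary.coe_mul_star_self hH.eigenvectorUnitary
    rw [Unitary.coe_star, star_eq_conjTranspose, conjTranspose_eq_transpose_of_trivial] at h
    exact h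
  · have h := hH.spectral_theorem
    rw [Unitary.conjStarAlgAut_apply, star_eq_conjTranspose,
      conjTranspose_eq_transpose_of_trivial] at h
    have h2 : (RCLike.ofReal ∘ hH.eigenvalues : ι → ℝ) = hH.eigenvalues := by
      funext i; simp
    rw [h2] at h
    exact h

/-- The diagonal 0/1 matrix selecting the indices with `d i = y`. -/
noncomputable def sel (d : ι → ℝ) (y : ℝ) : Matrix ι ι ℝ :=
  diagonal (fun i => if d i = y then (1 : ℝ) else 0)

theorem sel_mul_sel (d : ι → ℝ) (y : ℝ) : sel d y * sel d y = sel d y := by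
  unfold sel
  rw [diagonal_mul_diagonal]
  congr 1
  funext i
  split_ifs <;> simp

theorem diagonal_mul_sel (d : ι → ℝ) (y : ℝ) : diagonal d * sel d y = y • sel d y := by
  unfold sel
  rw [diagonal_mul_diagonal, ← diagonal_smul]
  congr 1
  funext i
  by_cases h : d i = y
  · simp [h]
  · simp [h]

theorem sum_sel (d : ι → ℝ) : ∑ y ∈ Finset.univ.image d, sel d y = 1 := by
  ext i j
  rw [Matrix.sum_apply]
  by_cases hij : i = j
  · subst hij
    simp only [sel, diagonal_apply_eq, one_apply_eq]
    rw [Finset.sum_ite_eq]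
    simp
  · simp [sel, diagonal_apply_ne _ hij, one_apply_ne hij]

theorem comm_sel (d : ι → ℝ) (y : ℝ) (M : Matrix ι ι ℝ)
    (hM : M * diagonal d = diagonal d * M) : M * sel d y = sel d y * M := by
  ext i j
  have h := congrFun (congrFun hM i) j
  rw [mul_diagonal, diagonal_mul] at h
  unfold sel
  rw [mul_diagonal, diagonal_mul]
  by_cases hij : d i = d j
  · rw [hij]; ring
  · have h0 : M i j = 0 := by
      have : M i j * (d j - d i) = 0 := by linarith
      rcases mul_eq_zero.mp this with h1 | h1
      · exact h1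
      · exact absurd (by linarith) hij
    rw [h0]; ring

theorem exists_spectral_projections
    (z : Matrix ι ι ℝ) (hz : z.IsSymm) :
    ∃ (Y : Finset ℝ) (pr : ℝ → Matrix ι ι ℝ),
      (∀ y ∈ Y, (pr y).IsSymm ∧ pr y * pr y = pr y ∧ pr y ≠ 0 ∧ z * pr y = y • pr y ∧
        ∀ M : Matrix ι ι ℝ, M * z = z * M → M * pr y = pr y * M) ∧
      ∑ y ∈ Y, pr y = 1 := by
  obtain ⟨U, d, hU1, hU2, hzU⟩ := exists_orthogonal_diag z hz
  refine ⟨Finset.univ.image d, fun y => U * sel d y * Uᵀ, ?_, ?_⟩
  · intro y hy
    beta_reduce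
    refine ⟨?_, ?_, ?_, ?_, ?_⟩
    · unfold Matrix.IsSymm
      rw [transpose_mul, transpose_mul, transpose_transpose, ← mul_assoc]
      congr 2
      unfold sel
      rw [diagonal_transpose]
    · calc U * sel d y * Uᵀ * (U * sel d y * Uᵀ)
          = U * sel d y * (Uᵀ * U) * sel d y * Uᵀ := by simp only [mul_assoc]
        _ = U * (sel d y * sel d y) * Uᵀ := by rw [hU1]; simp only [mul_assoc, mul_one]
        _ = U * sel d y * Uᵀ := by rw [sel_mul_sel]
    · intro h0
      have h1 : sel d y = 0 := by
        calc sel d y = (Uᵀ * U) * sel d y * (Uᵀ * U) := by rw [hU1]; simp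
          _ = Uᵀ * (U * sel d y * Uᵀ) * U := by simp only [mul_assoc]
          _ = 0 := by rw [h0]; simp
      obtain ⟨i, -, hi⟩ := Finset.mem_image.mp hy
      have h2 := congrFun (congrFun h1 i) i
      simp [sel, hi] at h2
    · calc z * (U * sel d y * Uᵀ)
          = U * diagonal d * (Uᵀ * U) * sel d y * Uᵀ := by rw [hzU]; simp only [mul_assoc]
        _ = U * (diagonal d * sel d y) * Uᵀ := by rw [hU1]; simp only [mul_assoc, mul_one]
        _ = y • (U * sel d y * Uᵀ) := by
            rw [diagonal_mul_sel]; simp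
    · intro M hM
      -- `M' = Uᵀ M U` commutes with `diagonal d`
      have hM' : (Uᵀ * M * U) * diagonal d = diagonal d * (Uᵀ * M * U) := by
        calc (Uᵀ * M * U) * diagonal d
            = Uᵀ * M * (U * diagonal d * Uᵀ) * U := by
              calc (Uᵀ * M * U) * diagonal d = (Uᵀ * M * U) * diagonal d * (Uᵀ * U) := by
                    rw [hU1, mul_one]
                _ = Uᵀ * M * (U * diagonal d * Uᵀ) * U := by simp only [mul_assoc]
          _ = Uᵀ * (M * z) * U := by rw [← hzU]; simp only [mul_assoc]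
          _ = Uᵀ * (z * M) * U := by rw [hM]
          _ = Uᵀ * (U * diagonal d * Uᵀ) * M * U := by rw [← hzU]; simp only [mul_assoc]
          _ = (Uᵀ * U) * diagonal d * (Uᵀ * M * U) := by simp only [mul_assoc]
          _ = diagonal d * (Uᵀ * M * U) := by rw [hU1, one_mul]
      have hc := comm_sel d y _ hM'
      calc M * (U * sel d y * Uᵀ)
          = (U * Uᵀ) * M * (U * sel d y * Uᵀ) := by rw [hU2, one_mul]
        _ = U * ((Uᵀ * M * U) * sel d y) * Uᵀ := by simp only [mul_assoc]
        _ = U * (sel d y * (Uᵀ * M * U)) * Uᵀ := by rw [hc]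
        _ = (U * sel d y * Uᵀ) * M * (U * Uᵀ) := by simp only [mul_assoc]
        _ = (U * sel d y * Uᵀ) * M := by rw [hU2, mul_one]
  · rw [← Finset.sum_mul, ← Finset.mul_sum, sum_sel, mul_one, hU2]

theorem idem_trace_nat
    (e : Matrix ι ι ℝ) (he : e * e = e) : ∃ k : ℕ, e.trace = k := by
  have hidem : IsIdempotentElem (Matrix.toLin' e) := by
    unfold IsIdempotentElem
    rw [Module.End.mul_eq_comp, ← Matrix.toLin'_mul, he]
  have hproj : LinearMap.IsProj (LinearMap.range (Matrix.toLin' e)) (Matrix.toLin' e) :=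
    LinearMap.IsProj.mk
    (fun x => LinearMap.mem_range_self _ x)
    (fun x hx => by
      obtain ⟨w, rfl⟩ := hx
      have := congrArg (fun f => f w) hidem.eq
      simpa using this)
  refine ⟨Module.finrank ℝ (LinearMap.range (Matrix.toLin' e)), ?_⟩
  have h1 := LinearMap.IsProj.trace hproj
  rw [← Matrix.trace_toLin'_eq]
  exact h1

end Cfsg.Agent.Lib.Helper73.FHProj
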