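import Mathlib

set_option autoImplicit false

/-!
# Suzuki's lemma on `p`-groups of maximal class

* `card_le_of_commutator_central` : if `[g, a] ∈ Z ≤ Z(X)` for all `g ∈ D` then
  `|D| ≤ |D ∩ C(a)| * |Z|`.
* `card_eq_card_mul_card_map_mk` : `|H| = |N| * |HN/N|` for `N ≤ H`.
* `suzuki_maximal_class` : a `p`-group of order `p ^ n` with a self-centralizing subgroup of
  order `p ^ 2` has nilpotency class `n - 1`.
* `maximal_class_of_nonabelian_cube` : a `p`-group of order `p ^ n` with a nonabelian subgroup `B`
  of order `p ^ 3` with `C(B) ≤ B` has nilpotency class `n - 1`.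
-/

namespace Cfsg.Agent.Lib.Helper73

open Subgroup

theorem card_le_of_commutator_central {X : Type*} [Group X] [Finite X] (Z D : Subgroup X)
    (hZ : Z ≤ Subgroup.center X) (a : X) (hD : ∀ g ∈ D, g * a * g⁻¹ * a⁻¹ ∈ Z) :
    Nat.card D ≤ Nat.card (D ⊓ Subgroup.centralizer {a} : Subgroup X) * Nat.card Z := by
  let ψ : D →* Z :=
    { toFun := fun g => ⟨g * a * g⁻¹ * a⁻¹, hD g g.2⟩
      map_one' := by
        apply Subtype.ext
        simp
      map_mul' := by
        intro g h
        apply Subtype.ext
        have hz : (h : X) * a * (h : X)⁻¹ * a⁻¹ ∈ Subgroup.center X := hZ (hD h h.2)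
        have hzc := Subgroup.mem_center_iff.mp hz
        show ((g : X) * (h : X)) * a * ((g : X) * (h : X))⁻¹ * a⁻¹ =
          ((g : X) * a * (g : X)⁻¹ * a⁻¹) * ((h : X) * a * (h : X)⁻¹ * a⁻¹)
        calc ((g : X) * (h : X)) * a * ((g : X) * (h : X))⁻¹ * a⁻¹
            = (g : X) * ((h : X) * a * (h : X)⁻¹ * a⁻¹) * (a * (g : X)⁻¹ * a⁻¹) := by group
          _ = ((h : X) * a * (h : X)⁻¹ * a⁻¹) * (g : X) * (a * (g : X)⁻¹ * a⁻¹) := by
              rw [hzc (g : X)]
          _ = ((h : X) * a * (h : X)⁻¹ * a⁻¹) * ((g : X) * a * (g : X)⁻¹ * a⁻¹) := by group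
          _ = ((g : X) * a * (g : X)⁻¹ * a⁻¹) * ((h : X) * a * (h : X)⁻¹ * a⁻¹) :=
              (hzc _).symm }
  have h1 : Nat.card D = Nat.card ψ.ker * Nat.card ψ.range := by
    rw [← Subgroup.index_ker, Subgroup.card_mul_index]
  have h2 : Nat.card ψ.range ≤ Nat.card Z := Subgroup.card_le_card_group _
  have h3 : Nat.card ψ.ker ≤ Nat.card (D ⊓ Subgroup.centralizer {a} : Subgroup X) := by
    have hmem : ∀ g : ψ.ker, ((g : D) : X) ∈ D ⊓ Subgroup.centralizer {a} := by
      intro g
      refine ⟨(g : D).2, ?_⟩
      show ((g : D) : X) ∈ Subgroup.centralizer {a}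
      rw [Subgroup.mem_centralizer_singleton_iff]
      have hg : ψ (g : D) = 1 := g.2
      have hg' : ((g : D) : X) * a * ((g : D) : X)⁻¹ * a⁻¹ = 1 := congrArg Subtype.val hg
      have : ((g : D) : X) * a * ((g : D) : X)⁻¹ = a := by
        rw [mul_inv_eq_one] at hg'; exact hg'
      exact (mul_inv_eq_iff_eq_mul.mp this)
    apply Nat.card_le_card_of_injective (fun g : ψ.ker => (⟨((g : D) : X), hmem g⟩ :
      (D ⊓ Subgroup.centralizer {a} : Subgroup X)))
    intro g g' hgg
    have : ((g : D) : X) = ((g' : D) : X) := by
      have := congrArg Subtype.val hgg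
      exact this
    exact Subtype.ext (Subtype.ext this)
  calc Nat.card D = Nat.card ψ.ker * Nat.card ψ.range := h1
    _ ≤ Nat.card (D ⊓ Subgroup.centralizer {a} : Subgroup X) * Nat.card Z :=
        Nat.mul_le_mul h3 h2

theorem card_eq_card_mul_card_map_mk {X : Type*} [Group X] [Finite X] (N H : Subgroup X)
    [N.Normal] (hNH : N ≤ H) :
    Nat.card H = Nat.card N * Nat.card (H.map (QuotientGroup.mk' N)) := by
  have h1 := Subgroup.card_mul_index H
  have h2 := Subgroup.card_mul_index (H.map (QuotientGroup.mk' N))
  have h3 : (H.map (QuotientGroup.mk' N)).index = H.index := by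
    rw [← Subgroup.index_comap_of_surjective (H.map (QuotientGroup.mk' N))
      (QuotientGroup.mk'_surjective N), Subgroup.comap_map_eq, QuotientGroup.ker_mk',
      sup_of_le_left hNH]
  have h4 := Subgroup.card_eq_card_quotient_mul_card_subgroup N
  have h5 : H.index ≠ 0 := Subgroup.index_ne_zero_of_finite
  rw [h3] at h2
  apply Nat.eq_of_mul_eq_mul_right (Nat.pos_of_ne_zero h5)
  rw [h1, h4, ← h2]
  ring

theorem comm_of_card_prime_pow_le_two {G : Type*} [Group G] {p : ℕ} [hp : Fact p.Prime] {k : ℕ}
    (hk : k ≤ 2) (hG : Nat.card G = p ^ k) : ∀ a b : G, a * b = b * a := by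
  interval_cases k
  · rw [pow_zero] at hG
    have := (Nat.card_eq_one_iff_unique.mp hG).1
    intro a b
    rw [Subsingleton.elim a 1, Subsingleton.elim b 1]
  · rw [pow_one] at hG
    have hc : IsCyclic G := isCyclic_of_prime_card hG
    exact hc.commGroup.mul_comm
  · exact (IsPGroup.isMulCommutative_of_card_eq_prime_sq hG).is_comm.comm

theorem nilpotencyClass_eq_one_of_comm {G : Type*} [Group G] [Nontrivial G]
    (h : ∀ a b : G, a * b = b * a) : Group.nilpotencyClass G = 1 := by
  let _ : CommGroup G := { (inferInstance : Group G) with mul_comm := h }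
  have h1 := CommGroup.nilpotencyClass_le_one (G := G)
  have h2 : Group.nilpotencyClass G ≠ 0 := by
    intro h0
    rw [Group.nilpotencyClass_zero_iff_subsingleton] at h0
    exact not_subsingleton G h0
  omega

universe u

/-- **Suzuki's lemma.** A `p`-group of order `p ^ n` with a self-centralizing subgroup of order
`p ^ 2` has nilpotency class `n - 1`. -/
theorem suzuki_maximal_class {p : ℕ} [hp : Fact p.Prime] :
    ∀ (n : ℕ) (X : Type u) [Group X] [Finite X], Nat.card X = p ^ n →
      ∀ A : Subgroup X, Nat.card A = p ^ 2 → Subgroup.centralizer (A : Set X) ≤ A →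
        Group.nilpotencyClass X = n - 1 := by
  intro n
  induction n with
  | zero =>
    intro X _ _ hX A hA _
    exfalso
    have h1 : Nat.card A ≤ Nat.card X := Subgroup.card_le_card_group A
    rw [hA, hX, pow_zero] at h1
    have := hp.out.one_lt
    nlinarith
  | succ n ih =>
    intro X _ _ hX A hA hCA
    have hXp : IsPGroup p X := IsPGroup.of_card hX
    have hnil : Group.IsNilpotent X := hXp.isNilpotent
    have hp1 := hp.out.one_lt
    have hXnt : Nontrivial X := by
      apply (Finite.one_lt_card_iff_nontrivial).mp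
      rw [hX]; exact Nat.one_lt_pow (by omega) hp1
    have hAcomm : ∀ a b : A, a * b = b * a := comm_of_card_prime_pow_le_two (le_refl 2) hA
    by_cases hAtop : A = ⊤
    · -- X = A is abelian of order p^2
      have hcX : Nat.card X = p ^ 2 := by
        rw [← hA, hAtop]; exact (Subgroup.card_top).symm
      have hn1 : n + 1 = 2 := Nat.pow_right_injective hp1 (by show p ^ (n + 1) = p ^ 2; rw [← hX, hcX])
      have hcomm : ∀ a b : X, a * b = b * a := comm_of_card_prime_pow_le_two (le_refl 2) hcX
      rw [nilpotencyClass_eq_one_of_comm hcomm]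
      omega
    · -- the center
      have hZA : Subgroup.center X ≤ A := (Subgroup.center_le_centralizer _).trans hCA
      have hZne : Subgroup.center X ≠ A := by
        intro h
        apply hAtop
        rw [eq_top_iff]
        refine le_trans ?_ hCA
        rw [← h, Subgroup.centralizer_center]
      have hZnt := hXp.center_nontrivial
      have hZcard : Nat.card (Subgroup.center X) = p := by
        have h1 : Nat.card (Subgroup.center X) ∣ p ^ 2 := by
          rw [← hA]; exact Subgroup.card_dvd_of_le hZA
        obtain ⟨k, hk, hkc⟩ := (Nat.dvd_prime_pow hp.out).mp h1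
        interval_cases k
        · exfalso
          rw [pow_zero] at hkc
          have := (Nat.card_eq_one_iff_unique.mp hkc).1
          exact not_subsingleton _ this
        · rw [hkc, pow_one]
        · exfalso
          apply hZne
          exact Subgroup.eq_of_le_of_card_ge hZA (by rw [hA, hkc])
      have hn2 : 2 ≤ n + 1 := by
        have h1 : Nat.card A ≤ Nat.card X := Subgroup.card_le_card_group A
        rw [hA, hX] at h1
        exact (Nat.pow_le_pow_iff_right hp1).mp h1
      have hn3 : 3 ≤ n + 1 := by
        by_contra hlt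
        have h2 : n + 1 = 2 := by omega
        apply hAtop
        exact Subgroup.eq_top_of_card_eq A (by rw [hA, hX, h2])
      have hQcard : Nat.card (X ⧸ Subgroup.center X) = p ^ n := by
        have h1 := Subgroup.card_eq_card_quotient_mul_card_subgroup (Subgroup.center X)
        rw [hX, hZcard, pow_succ] at h1
        exact (Nat.eq_of_mul_eq_mul_right hp.out.pos h1).symm
      obtain ⟨a, haA, haZ⟩ : ∃ a ∈ A, a ∉ Subgroup.center X := by
        by_contra hcon
        push Not at hcon
        exact hZne (le_antisymm hZA hcon)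
      have hsle : Subgroup.zpowers a ⊔ Subgroup.center X ≤ A :=
        sup_le (by rwa [Subgroup.zpowers_le]) hZA
      have hAgen : Subgroup.zpowers a ⊔ Subgroup.center X = A := by
        apply Subgroup.eq_of_le_of_card_ge hsle
        have h1 : Nat.card ↥(Subgroup.zpowers a ⊔ Subgroup.center X) ∣ p ^ 2 := by
          rw [← hA]; exact Subgroup.card_dvd_of_le hsle
        obtain ⟨k, hk, hkc⟩ := (Nat.dvd_prime_pow hp.out).mp h1
        have h2 : ¬ Nat.card ↥(Subgroup.zpowers a ⊔ Subgroup.center X) ≤
            Nat.card (Subgroup.center X) := by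
          intro hle
          have := Subgroup.eq_of_le_of_card_ge (le_sup_right :
            Subgroup.center X ≤ Subgroup.zpowers a ⊔ Subgroup.center X) hle
          apply haZ
          rw [this]
          exact Subgroup.mem_sup_left (Subgroup.mem_zpowers a)
        rw [hkc, hZcard] at h2
        have hk2 : k = 2 := by
          interval_cases k
          · exfalso; apply h2; rw [pow_zero]; omega
          · exfalso; apply h2; rw [pow_one]
          · rfl
        rw [hA, hkc, hk2]
      let π := QuotientGroup.mk' (Subgroup.center X)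
      have hπsurj : Function.Surjective π := QuotientGroup.mk'_surjective _
      let Abar := A.map π
      let Dbar := Subgroup.centralizer (Abar : Set (X ⧸ Subgroup.center X))
      let D := Dbar.comap π
      have hZD : Subgroup.center X ≤ D := by
        intro z hz
        show π z ∈ Dbar
        have : π z = 1 := (QuotientGroup.eq_one_iff z).mpr hz
        rw [this]; exact one_mem _
      have hDmap : D.map π = Dbar := Subgroup.map_comap_eq_self_of_surjective hπsurj Dbar
      have hAbarcard : Nat.card Abar = p := by
        have := card_eq_card_mul_card_map_mk (Subgroup.center X) A hZA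
        rw [hA, hZcard, pow_two] at this
        exact (Nat.eq_of_mul_eq_mul_left hp.out.pos this).symm
      have hDcard : Nat.card D = p * Nat.card Dbar := by
        have := card_eq_card_mul_card_map_mk (Subgroup.center X) D hZD
        rw [hDmap, hZcard] at this; exact this
      have hAbarD : Abar ≤ Dbar := by
        intro x hx
        show x ∈ Subgroup.centralizer (Abar : Set (X ⧸ Subgroup.center X))
        rw [Subgroup.mem_centralizer_iff]
        intro y hy
        obtain ⟨x', hx', rfl⟩ := hx
        obtain ⟨y', hy', rfl⟩ := hy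
        rw [← map_mul, ← map_mul]
        congr 1
        exact congrArg Subtype.val (hAcomm ⟨y', hy'⟩ ⟨x', hx'⟩)
      have hDcomm : ∀ g ∈ D, g * a * g⁻¹ * a⁻¹ ∈ Subgroup.center X := by
        intro g hg
        have h1 : π g ∈ Subgroup.centralizer (Abar : Set (X ⧸ Subgroup.center X)) := hg
        rw [Subgroup.mem_centralizer_iff] at h1
        have h2 := h1 (π a) (Subgroup.mem_map_of_mem π haA)
        rw [← QuotientGroup.eq_one_iff]
        show π (g * a * g⁻¹ * a⁻¹) = 1
        rw [map_mul, map_mul, map_mul, map_inv, map_inv, ← h2]; group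
      have hub := card_le_of_commutator_central (Subgroup.center X) D le_rfl a hDcomm
      have hker : D ⊓ Subgroup.centralizer {a} ≤ A := by
        intro g hg
        apply hCA
        have h1 : a ∈ Subgroup.centralizer {g} := by
          have : g ∈ Subgroup.centralizer {a} := hg.2
          rw [Subgroup.mem_centralizer_singleton_iff] at this ⊢
          exact this.symm
        have h2 : A ≤ Subgroup.centralizer {g} := by
          rw [← hAgen]
          exact sup_le (by rw [Subgroup.zpowers_le]; exact h1) (Subgroup.center_le_centralizer _)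
        rw [Subgroup.mem_centralizer_iff]
        intro h hh
        have := h2 hh
        rw [Subgroup.mem_centralizer_singleton_iff] at this
        exact this
      have hDle : Nat.card D ≤ p ^ 3 := by
        calc Nat.card D ≤ Nat.card ↥(D ⊓ Subgroup.centralizer {a}) *
              Nat.card (Subgroup.center X) := hub
          _ ≤ Nat.card A * p := by
              rw [hZcard]; exact Nat.mul_le_mul_right _ (Subgroup.card_le_of_le hker)
          _ = p ^ 3 := by rw [hA]; ring
      have hDbarle : Nat.card Dbar ≤ p ^ 2 := by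
        rw [hDcard] at hDle
        have : p * Nat.card Dbar ≤ p * p ^ 2 := by rw [← pow_succ']; exact hDle
        exact Nat.le_of_mul_le_mul_left this hp.out.pos
      have hDbardvd : Nat.card Dbar ∣ p ^ n := by
        rw [← hQcard]; exact Subgroup.card_subgroup_dvd_card _
      obtain ⟨k, hk, hkc⟩ := (Nat.dvd_prime_pow hp.out).mp hDbardvd
      have hk2 : k ≤ 2 := by
        rw [hkc] at hDbarle; exact (Nat.pow_le_pow_iff_right hp1).mp hDbarle
      have hk1 : 1 ≤ k := by
        have h1 := Subgroup.card_le_of_le hAbarD
        rw [hAbarcard, hkc] at h1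
        by_contra h0
        have h00 : k = 0 := by omega
        subst h00
        rw [pow_zero] at h1; omega
      have hkne1 : k ≠ 1 := by
        intro hk1'
        rw [hk1', pow_one] at hkc
        have hDA : Abar = Dbar := Subgroup.eq_of_le_of_card_ge hAbarD (by rw [hkc, hAbarcard])
        have hXbarp : IsPGroup p (X ⧸ Subgroup.center X) := IsPGroup.of_card hQcard
        have hXbarnt : Nontrivial (X ⧸ Subgroup.center X) := by
          apply (Finite.one_lt_card_iff_nontrivial).mp
          rw [hQcard]; exact Nat.one_lt_pow (by omega) hp1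
        have hZbarnt := hXbarp.center_nontrivial
        have hZbarle : Subgroup.center (X ⧸ Subgroup.center X) ≤ Dbar :=
          Subgroup.center_le_centralizer _
        have hZbareq : Subgroup.center (X ⧸ Subgroup.center X) = Dbar := by
          apply Subgroup.eq_of_le_of_card_ge hZbarle
          have h1 : Nat.card (Subgroup.center (X ⧸ Subgroup.center X)) ∣ p := by
            rw [← hkc]; exact Subgroup.card_dvd_of_le hZbarle
          rcases (Nat.dvd_prime hp.out).mp h1 with h | h
          · exfalso
            have := (Nat.card_eq_one_iff_unique.mp h).1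
            exact not_subsingleton _ this
          · rw [hkc, h]
        have hDtop : Dbar = ⊤ := by
          show Subgroup.centralizer (Abar : Set (X ⧸ Subgroup.center X)) = ⊤
          rw [hDA, ← hZbareq, Subgroup.centralizer_center]
        rw [hDtop, Subgroup.card_top, hQcard] at hkc
        have : n = 1 := Nat.pow_right_injective hp1 (by show p ^ n = p ^ 1; rw [hkc, pow_one])
        omega
      have hk_eq : k = 2 := by omega
      have hcent : Subgroup.centralizer (Dbar : Set (X ⧸ Subgroup.center X)) ≤ Dbar :=
        Subgroup.centralizer_le hAbarD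
      have hih := ih (X ⧸ Subgroup.center X) hQcard Dbar (by rw [hkc, hk_eq]) hcent
      rw [Group.nilpotencyClass_eq_quotient_center_plus_one, hih]
      omega

/-- A subgroup of a group of order `p ^ 3` containing two noncommuting elements is everything. -/
theorem eq_of_noncomm_of_card_cube {p : ℕ} [hp : Fact p.Prime] {X : Type*} [Group X] [Finite X]
    {B H : Subgroup X} (hB : Nat.card B = p ^ 3) (hHB : H ≤ B) {b₁ b₂ : X} (h₁ : b₁ ∈ H)
    (h₂ : b₂ ∈ H) (hne : b₁ * b₂ ≠ b₂ * b₁) : H = B := by
  apply Subgroup.eq_of_le_of_card_ge hHB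
  have h1 : Nat.card H ∣ p ^ 3 := by rw [← hB]; exact Subgroup.card_dvd_of_le hHB
  obtain ⟨k, hk, hkc⟩ := (Nat.dvd_prime_pow hp.out).mp h1
  by_cases hk2 : k ≤ 2
  · exfalso
    have := comm_of_card_prime_pow_le_two hk2 hkc ⟨b₁, h₁⟩ ⟨b₂, h₂⟩
    exact hne (congrArg Subtype.val this)
  · have : k = 3 := by omega
    rw [hB, hkc, this]

/-- A `p`-group of order `p ^ n` with a nonabelian subgroup `B` of order `p ^ 3` with
`C(B) ≤ B` has nilpotency class `n - 1`. -/
theorem maximal_class_of_nonabelian_cube {p : ℕ} [hp : Fact p.Prime] {X : Type u} [Group X]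
    [Finite X] (n : ℕ) (hX : Nat.card X = p ^ n) (B : Subgroup X) (hB : Nat.card B = p ^ 3)
    (hBna : ∃ b₁ ∈ B, ∃ b₂ ∈ B, b₁ * b₂ ≠ b₂ * b₁)
    (hC : Subgroup.centralizer (B : Set X) ≤ B) :
    Group.nilpotencyClass X = n - 1 := by
  obtain ⟨b₁, hb₁, b₂, hb₂, hne⟩ := hBna
  have hp1 := hp.out.one_lt
  have hn3 : 3 ≤ n := by
    have h1 : Nat.card B ≤ Nat.card X := Subgroup.card_le_card_group B
    rw [hB, hX] at h1
    exact (Nat.pow_le_pow_iff_right hp1).mp h1
  obtain ⟨m, rfl⟩ : ∃ m, n = m + 1 := ⟨n - 1, by omega⟩
  have hXp : IsPGroup p X := IsPGroup.of_card hX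
  have hnil : Group.IsNilpotent X := hXp.isNilpotent
  have hXnt : Nontrivial X := by
    apply (Finite.one_lt_card_iff_nontrivial).mp
    rw [hX]; exact Nat.one_lt_pow (by omega) hp1
  have hZnt := hXp.center_nontrivial
  have hZC : Subgroup.center X ≤ Subgroup.centralizer (B : Set X) :=
    Subgroup.center_le_centralizer _
  -- |C_X(B)| = p
  have hCcard : Nat.card (Subgroup.centralizer (B : Set X)) ∣ p := by
    have h1 : Nat.card (Subgroup.centralizer (B : Set X)) ∣ p ^ 3 := by
      rw [← hB]; exact Subgroup.card_dvd_of_le hC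
    obtain ⟨k, hk, hkc⟩ := (Nat.dvd_prime_pow hp.out).mp h1
    by_cases hk1 : k ≤ 1
    · rw [hkc]
      interval_cases k
      · simp
      · simp
    · exfalso
      -- E = C ⊔ ⟨b₁⟩ is B, but commutes with b₁
      have hEle : Subgroup.centralizer (B : Set X) ⊔ Subgroup.zpowers b₁ ≤ B :=
        sup_le hC (by rwa [Subgroup.zpowers_le])
      have hb₁C : b₁ ∉ Subgroup.centralizer (B : Set X) := by
        intro h
        rw [Subgroup.mem_centralizer_iff] at h
        exact hne (h b₂ hb₂).symm
      have hEB : Subgroup.centralizer (B : Set X) ⊔ Subgroup.zpowers b₁ = B := by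
        apply Subgroup.eq_of_le_of_card_ge hEle
        have h2 : Nat.card ↥(Subgroup.centralizer (B : Set X) ⊔ Subgroup.zpowers b₁) ∣ p ^ 3 := by
          rw [← hB]; exact Subgroup.card_dvd_of_le hEle
        obtain ⟨j, hj, hjc⟩ := (Nat.dvd_prime_pow hp.out).mp h2
        have h3 : ¬ Nat.card ↥(Subgroup.centralizer (B : Set X) ⊔ Subgroup.zpowers b₁) ≤
            Nat.card (Subgroup.centralizer (B : Set X)) := by
          intro hle
          have := Subgroup.eq_of_le_of_card_ge (le_sup_left :
            Subgroup.centralizer (B : Set X) ≤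
              Subgroup.centralizer (B : Set X) ⊔ Subgroup.zpowers b₁) hle
          apply hb₁C
          rw [this]
          exact Subgroup.mem_sup_right (Subgroup.mem_zpowers b₁)
        rw [hjc, hkc] at h3
        have hjk : k < j := by
          by_contra hjk
          apply h3
          exact Nat.pow_le_pow_right hp.out.pos (by omega)
        have hj3 : j = 3 := by omega
        rw [hB, hjc, hj3]
      have hEcent : Subgroup.centralizer (B : Set X) ⊔ Subgroup.zpowers b₁ ≤
          Subgroup.centralizer {b₁} := by
        apply sup_le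
        · intro c hc
          rw [Subgroup.mem_centralizer_iff] at hc
          rw [Subgroup.mem_centralizer_singleton_iff]
          exact (hc b₁ hb₁).symm
        · rw [Subgroup.zpowers_le, Subgroup.mem_centralizer_singleton_iff]
      have : b₂ ∈ Subgroup.centralizer {b₁} := hEcent (by rw [hEB]; exact hb₂)
      rw [Subgroup.mem_centralizer_singleton_iff] at this
      exact hne this.symm
  have hCcard' : Nat.card (Subgroup.centralizer (B : Set X)) = p := by
    rcases (Nat.dvd_prime hp.out).mp hCcard with h | h
    · exfalso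
      have h1 := Subgroup.card_le_of_le hZC
      rw [h] at h1
      have h2 : Nat.card (Subgroup.center X) = 1 := by
        have : 0 < Nat.card (Subgroup.center X) := Nat.card_pos
        omega
      have := (Nat.card_eq_one_iff_unique.mp h2).1
      exact not_subsingleton _ this
    · exact h
  have hZcard : Nat.card (Subgroup.center X) = p := by
    have h1 : Nat.card (Subgroup.center X) ∣ p := by
      rw [← hCcard']; exact Subgroup.card_dvd_of_le hZC
    rcases (Nat.dvd_prime hp.out).mp h1 with h | h
    · exfalso
      have := (Nat.card_eq_one_iff_unique.mp h).1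
      exact not_subsingleton _ this
    · exact h
  have hZB : Subgroup.center X ≤ B := hZC.trans hC
  have hQcard : Nat.card (X ⧸ Subgroup.center X) = p ^ m := by
    have h1 := Subgroup.card_eq_card_quotient_mul_card_subgroup (Subgroup.center X)
    rw [hX, hZcard, pow_succ] at h1
    exact (Nat.eq_of_mul_eq_mul_right hp.out.pos h1).symm
  let π := QuotientGroup.mk' (Subgroup.center X)
  have hπsurj : Function.Surjective π := QuotientGroup.mk'_surjective _
  let Bbar := B.map π
  let Dbar := Subgroup.centralizer (Bbar : Set (X ⧸ Subgroup.center X))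
  let D := Dbar.comap π
  have hDmap : D.map π = Dbar := Subgroup.map_comap_eq_self_of_surjective hπsurj Dbar
  have hBbarcard : Nat.card Bbar = p ^ 2 := by
    have := card_eq_card_mul_card_map_mk (Subgroup.center X) B hZB
    rw [hB, hZcard, pow_succ'] at this
    exact (Nat.eq_of_mul_eq_mul_left hp.out.pos this).symm
  have hBbarcomm : ∀ a b : Bbar, a * b = b * a :=
    comm_of_card_prime_pow_le_two (le_refl 2) hBbarcard
  have hBbarD : Bbar ≤ Dbar := by
    intro x hx
    show x ∈ Subgroup.centralizer (Bbar : Set (X ⧸ Subgroup.center X))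
    rw [Subgroup.mem_centralizer_iff]
    intro y hy
    exact congrArg Subtype.val (hBbarcomm ⟨y, hy⟩ ⟨x, hx⟩)
  have hBD : B ≤ D := by
    intro b hb
    show π b ∈ Dbar
    exact hBbarD (Subgroup.mem_map_of_mem π hb)
  have hDcomm : ∀ b ∈ B, ∀ g ∈ D, g * b * g⁻¹ * b⁻¹ ∈ Subgroup.center X := by
    intro b hb g hg
    have h1 : π g ∈ Subgroup.centralizer (Bbar : Set (X ⧸ Subgroup.center X)) := hg
    rw [Subgroup.mem_centralizer_iff] at h1
    have h2 := h1 (π b) (Subgroup.mem_map_of_mem π hb)
    rw [← QuotientGroup.eq_one_iff]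
    show π (g * b * g⁻¹ * b⁻¹) = 1
    rw [map_mul, map_mul, map_mul, map_inv, map_inv, ← h2]; group
  have hub1 := card_le_of_commutator_central (Subgroup.center X) D le_rfl b₁ (hDcomm b₁ hb₁)
  have hub2 := card_le_of_commutator_central (Subgroup.center X)
    (D ⊓ Subgroup.centralizer {b₁}) le_rfl b₂ (fun g hg => hDcomm b₂ hb₂ g hg.1)
  have hker : D ⊓ Subgroup.centralizer {b₁} ⊓ Subgroup.centralizer {b₂} ≤
      Subgroup.centralizer (B : Set X) := by
    intro g hg
    have hg1 : g ∈ Subgroup.centralizer {b₁} := hg.1.2
    have hg2 : g ∈ Subgroup.centralizer {b₂} := hg.2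
    rw [Subgroup.mem_centralizer_singleton_iff] at hg1 hg2
    have hE : B ⊓ Subgroup.centralizer {g} = B := by
      apply eq_of_noncomm_of_card_cube hB inf_le_left (b₁ := b₁) (b₂ := b₂) _ _ hne
      · exact ⟨hb₁, Subgroup.mem_centralizer_singleton_iff.mpr hg1.symm⟩
      · exact ⟨hb₂, Subgroup.mem_centralizer_singleton_iff.mpr hg2.symm⟩
    rw [Subgroup.mem_centralizer_iff]
    intro h hh
    have h3 : h ∈ B ⊓ Subgroup.centralizer {g} := by rw [hE]; exact hh
    have h4 : h ∈ Subgroup.centralizer {g} := h3.2
    rw [Subgroup.mem_centralizer_singleton_iff] at h4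
    exact h4
  have hDle : Nat.card D ≤ p ^ 3 := by
    calc Nat.card D ≤ Nat.card ↥(D ⊓ Subgroup.centralizer {b₁}) *
          Nat.card (Subgroup.center X) := hub1
      _ ≤ (Nat.card ↥(D ⊓ Subgroup.centralizer {b₁} ⊓ Subgroup.centralizer {b₂}) *
          Nat.card (Subgroup.center X)) * Nat.card (Subgroup.center X) :=
          Nat.mul_le_mul_right _ hub2
      _ ≤ (Nat.card (Subgroup.centralizer (B : Set X)) * p) * p := by
          rw [hZcard]
          exact Nat.mul_le_mul_right _ (Nat.mul_le_mul_right _ (Subgroup.card_le_of_le hker))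
      _ = p ^ 3 := by rw [hCcard']; ring
  have hDB : B = D := Subgroup.eq_of_le_of_card_ge hBD (by rw [hB]; exact hDle)
  have hcent : Subgroup.centralizer (Bbar : Set (X ⧸ Subgroup.center X)) ≤ Bbar := by
    show Dbar ≤ Bbar
    rw [← hDmap, ← hDB]
  have hs := suzuki_maximal_class (p := p) m (X ⧸ Subgroup.center X) hQcard Bbar hBbarcard hcent
  rw [Group.nilpotencyClass_eq_quotient_center_plus_one, hs]
  omega

end Cfsg.Agent.Lib.Helper73
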