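import Mathlib
import Cfsg.Prelude.Def_GeometricClasses
import Cfsg.Agent.Lib.Helper99.AschDefs
import Cfsg.Agent.Lib.Helper23.AschSpDefs

/-!
# ASCHSP transport helpers (helper73): reindexing `GL ι F ≃* GL κ F` along `e : ι ≃ κ`
(own namespace; overlaps ASCHSP-[TR-KIT], used by ASCHSP-[TR-2], [TR-8])
-/

set_option autoImplicit false
set_option linter.unusedSectionVars false
set_option linter.unusedVariables false

namespace Cfsg.Agent.Lib.Helper73.AschSpTr

open Cfsg Cfsg.Geo Cfsg.Agent.Lib.Helper23.AschSp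
open scoped MatrixGroups Matrix

variable {ι κ : Type} [Fintype ι] [DecidableEq ι] [Fintype κ] [DecidableEq κ] (e : ι ≃ κ)
variable {F : Type*} [Field F]

/-- `v ↦ v ∘ e.symm` -/
noncomputable abbrev tr : (ι → F) ≃ₗ[F] (κ → F) := LinearEquiv.funCongrLeft F F e.symm

theorem tr_apply (v : ι → F) : tr (F := F) e v = v ∘ e.symm := rfl

theorem tr_symm_apply (v : κ → F) : (tr (F := F) e).symm v = v ∘ e := rfl

theorem glReindex_mulVec (g : GL ι F) (v : κ → F) :
    ((glReindex e g : GL κ F) : Matrix κ κ F) *ᵥ v = ((g : Matrix ι ι F) *ᵥ (v ∘ e)) ∘ e.symm := by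
  change (Matrix.reindex e e (g : Matrix ι ι F)) *ᵥ v = _
  rw [Matrix.reindex_apply, Matrix.submatrix_mulVec_equiv]
  simp

theorem glReindex_symm_apply (g' : GL κ F) : (glReindex e).symm g' = glReindex e.symm g' := by
  apply Units.ext
  rfl

theorem mem_map_glReindex (S : Subgroup (GL ι F)) (g' : GL κ F) :
    g' ∈ S.map (glReindex e).toMonoidHom ↔ glReindex e.symm g' ∈ S := by
  rw [← glReindex_symm_apply]
  constructor
  · rintro ⟨g, hg, rfl⟩
    simpa using hg
  · intro h
    exact ⟨(glReindex e).symm g', h, by simp⟩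

theorem glReindex_symm_mulVec (g' : GL κ F) (u : ι → F) :
    ((glReindex e.symm g' : GL ι F) : Matrix ι ι F) *ᵥ u =
      ((g' : Matrix κ κ F) *ᵥ (u ∘ e.symm)) ∘ e := by
  have := glReindex_mulVec (F := F) e.symm g' u
  simpa using this

theorem formReindex_tr (f : (ι → F) → (ι → F) → F) (u v : ι → F) :
    formReindex e f (tr e u) (tr e v) = f u v := by
  unfold formReindex
  rw [tr_apply, tr_apply]
  have h1 : (u ∘ e.symm) ∘ e = u := by ext i; simp
  have h2 : (v ∘ e.symm) ∘ e = v := by ext i; simp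
  rw [h1, h2]

theorem map_isoGL (f : (ι → F) → (ι → F) → F) :
    (isoGL f).map (glReindex e).toMonoidHom = isoGL (formReindex e f) := by
  ext g'
  rw [mem_map_glReindex, mem_isoGL, mem_isoGL]
  constructor
  · intro h u' v'
    have := h (u' ∘ e) (v' ∘ e)
    rw [glReindex_symm_mulVec, glReindex_symm_mulVec] at this
    have h1 : (u' ∘ e) ∘ e.symm = u' := by ext i; simp
    have h2 : (v' ∘ e) ∘ e.symm = v' := by ext i; simp
    rw [h1, h2] at this
    exact this
  · intro h u v
    have := h (u ∘ e.symm) (v ∘ e.symm)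
    unfold formReindex at this
    rw [glReindex_symm_mulVec, glReindex_symm_mulVec, this]
    have h1 : (u ∘ e.symm) ∘ e = u := by ext i; simp
    have h2 : (v ∘ e.symm) ∘ e = v := by ext i; simp
    rw [h1, h2]

theorem map_quadSimilarityGroup (Q : (ι → F) → F) :
    (quadSimilarityGroup Q).map (glReindex e).toMonoidHom =
      quadSimilarityGroup (fun v : κ → F => Q (v ∘ e)) := by
  ext g'
  rw [mem_map_glReindex]
  constructor
  · rintro ⟨c, hc⟩
    refine ⟨c, fun v' => ?_⟩
    have := hc (v' ∘ e)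
    rw [glReindex_symm_mulVec] at this
    have h1 : (v' ∘ e) ∘ e.symm = v' := by ext i; simp
    rw [h1] at this
    exact this
  · rintro ⟨c, hc⟩
    refine ⟨c, fun v => ?_⟩
    have := hc (v ∘ e.symm)
    simp only at this
    rw [glReindex_symm_mulVec, this]
    have h1 : (v ∘ e.symm) ∘ e = v := by ext i; simp
    rw [h1]

theorem toLin'_glReindex_symm (g' : GL κ F) :
    Matrix.toLin' ((glReindex e.symm g' : GL ι F) : Matrix ι ι F) =
      (tr (F := F) e).symm.toLinearMap ∘ₗ Matrix.toLin' (g' : Matrix κ κ F) ∘ₗ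
        (tr (F := F) e).toLinearMap := by
  apply LinearMap.ext
  intro u
  rw [Matrix.toLin'_apply, glReindex_symm_mulVec]
  rfl

theorem map_decompositionStabilizer {t : ℕ} (D : Fin t → Submodule F (ι → F)) :
    (decompositionStabilizer D).map (glReindex e).toMonoidHom =
      decompositionStabilizer (fun i => (D i).map (tr (F := F) e).toLinearMap) := by
  ext g'
  rw [mem_map_glReindex]
  have key : ∀ (i j : Fin t),
      (D i).map (Matrix.toLin' ((glReindex e.symm g' : GL ι F) : Matrix ι ι F)) = D j ↔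
      ((D i).map (tr (F := F) e).toLinearMap).map (Matrix.toLin' (g' : Matrix κ κ F)) =
        (D j).map (tr (F := F) e).toLinearMap := by
    intro i j
    rw [toLin'_glReindex_symm, Submodule.map_comp, Submodule.map_comp]
    rw [Submodule.map_symm_eq_iff]
    exact eq_comm
  constructor
  · rintro ⟨σ, hσ⟩
    exact ⟨σ, fun i => (key i (σ i)).mp (hσ i)⟩
  · rintro ⟨σ, hσ⟩
    exact ⟨σ, fun i => (key i (σ i)).mpr (hσ i)⟩

theorem map_inf_glReindex (S T : Subgroup (GL ι F)) :
    (S ⊓ T).map (glReindex e).toMonoidHom =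
      S.map (glReindex e).toMonoidHom ⊓ T.map (glReindex e).toMonoidHom :=
  Subgroup.map_inf S T _ (glReindex e).injective

theorem isMDecomposition_tr {t m : ℕ} (D : Fin t → Submodule F (ι → F)) (h : IsMDecomposition m D) :
    IsMDecomposition m (fun i => (D i).map (tr (F := F) e).toLinearMap) := by
  refine ⟨h.two_le, h.pos, fun i => ?_, ?_, ?_⟩
  · rw [← h.finrank_eq i]
    exact LinearEquiv.finrank_map_eq (tr (F := F) e) (D i)
  · have := h.indep
    exact (iSupIndep_map_orderIso_iff (Submodule.orderIsoMapComap (tr (F := F) e))).mpr this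
  · have := h.iSup_eq_top
    rw [← Submodule.map_iSup, this, Submodule.map_top]
    exact LinearMap.range_eq_top.mpr (tr (F := F) e).surjective

theorem isTotallySingularFor_tr (f : (ι → F) → (ι → F) → F) (W : Submodule F (ι → F))
    (h : IsTotallySingularFor f W) :
    IsTotallySingularFor (formReindex e f) (W.map (tr (F := F) e).toLinearMap) := by
  rintro _ ⟨u, hu, rfl⟩ _ ⟨v, hv, rfl⟩
  change formReindex e f (tr e u) (tr e v) = 0
  rw [formReindex_tr]
  exact h u hu v hv

theorem areOrthogonalFor_tr (f : (ι → F) → (ι → F) → F) (W W' : Submodule F (ι → F))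
    (h : AreOrthogonalFor f W W') :
    AreOrthogonalFor (formReindex e f) (W.map (tr (F := F) e).toLinearMap)
      (W'.map (tr (F := F) e).toLinearMap) := by
  rintro _ ⟨u, hu, rfl⟩ _ ⟨v, hv, rfl⟩
  change formReindex e f (tr e u) (tr e v) = 0
  rw [formReindex_tr]
  exact h u hu v hv

theorem isNondegenerateOn_tr (f : (ι → F) → (ι → F) → F) (W : Submodule F (ι → F))
    (h : IsNondegenerateOn f W) :
    IsNondegenerateOn (formReindex e f) (W.map (tr (F := F) e).toLinearMap) := by
  rintro _ ⟨w, hw, rfl⟩ hne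
  have hw0 : w ≠ 0 := by
    rintro rfl
    exact hne (map_zero _)
  obtain ⟨⟨x, hx, hx'⟩, ⟨y, hy, hy'⟩⟩ := h w hw hw0
  refine ⟨⟨tr e x, ⟨x, hx, rfl⟩, ?_⟩, ⟨tr e y, ⟨y, hy, rfl⟩, ?_⟩⟩
  · change formReindex e f (tr e x) (tr e w) ≠ 0
    rw [formReindex_tr]; exact hx'
  · change formReindex e f (tr e w) (tr e y) ≠ 0
    rw [formReindex_tr]; exact hy'

end Cfsg.Agent.Lib.Helper73.AschSpTr
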