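import Mathlib
import Cfsg.Prelude.Def_GeometricClasses
import Cfsg.Agent.Lib.Helper99.AschDefs
import Cfsg.Agent.Lib.Helper23.AschSpDefs
import Cfsg.Agent.Lib.Helper73.AschSpTrAux

/-!
# ASCHSP-[TR-2] and ASCHSP-[TR-8] (helper73): transport of the classes 2 and 8 along a reindexing
-/

set_option autoImplicit false
set_option linter.unusedSectionVars false
set_option linter.unusedVariables false

namespace Cfsg.Agent.Lib.Helper23.AschSp

open Cfsg Cfsg.Geo Cfsg.Agent.Lib.Helper99.Asch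
open scoped MatrixGroups Matrix Kronecker

variable {F : Type*} [Field F] [Fintype F]
variable {ι κ : Type} [Fintype ι] [DecidableEq ι] [Fintype κ] [DecidableEq κ] (e : ι ≃ κ)

/-- ASCHSP-[TR-2], first half -/
theorem spC2n_reindex (f : (ι → F) → (ι → F) → F) (M : Subgroup (GL ι F)) (h : SpC2n f M) :
    SpC2n (formReindex e f) (M.map (glReindex e).toMonoidHom) := by
  obtain ⟨t, k, D, hD, rfl⟩ := h
  refine ⟨t, k, fun i => (D i).map (Cfsg.Agent.Lib.Helper73.AschSpTr.tr (F := F) e).toLinearMap,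
    ⟨Cfsg.Agent.Lib.Helper73.AschSpTr.isMDecomposition_tr e D hD.decomp, fun i => ?_, fun i j hij => ?_⟩, ?_⟩
  · exact Cfsg.Agent.Lib.Helper73.AschSpTr.isNondegenerateOn_tr e f (D i) (hD.nondegenerate i)
  · exact Cfsg.Agent.Lib.Helper73.AschSpTr.areOrthogonalFor_tr e f (D i) (D j) (hD.orthogonal i j hij)
  · rw [Cfsg.Agent.Lib.Helper73.AschSpTr.map_inf_glReindex,
      Cfsg.Agent.Lib.Helper73.AschSpTr.map_decompositionStabilizer,
      Cfsg.Agent.Lib.Helper73.AschSpTr.map_isoGL]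

/-- ASCHSP-[TR-2], second half -/
theorem spC2s_reindex (m : ℕ) (f : (ι → F) → (ι → F) → F) (M : Subgroup (GL ι F)) (h : SpC2s m f M) :
    SpC2s m (formReindex e f) (M.map (glReindex e).toMonoidHom) := by
  obtain ⟨D, hodd, hD, hsing, rfl⟩ := h
  refine ⟨fun i => (D i).map (Cfsg.Agent.Lib.Helper73.AschSpTr.tr (F := F) e).toLinearMap, hodd,
    Cfsg.Agent.Lib.Helper73.AschSpTr.isMDecomposition_tr e D hD, fun i => ?_, ?_⟩
  · exact Cfsg.Agent.Lib.Helper73.AschSpTr.isTotallySingularFor_tr e f (D i) (hsing i)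
  · rw [Cfsg.Agent.Lib.Helper73.AschSpTr.map_inf_glReindex,
      Cfsg.Agent.Lib.Helper73.AschSpTr.map_decompositionStabilizer,
      Cfsg.Agent.Lib.Helper73.AschSpTr.map_isoGL]

/-- ASCHSP-[TR-8] -/
theorem spC8_reindex (f : (ι → F) → (ι → F) → F) (M : Subgroup (GL ι F)) (h : SpC8 f M) :
    SpC8 (formReindex e f) (M.map (glReindex e).toMonoidHom) := by
  obtain ⟨Q, heven, hQ, hpol, rfl⟩ := h
  have hpol' : ∀ u v : κ → F,
      QuadraticMap.polar (fun v : κ → F => Q (v ∘ e)) u v = formReindex e f u v := by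
    intro u v
    unfold QuadraticMap.polar formReindex
    have := hpol (u ∘ e) (v ∘ e)
    unfold QuadraticMap.polar at this
    exact this
  have hpolfun : QuadraticMap.polar (fun v : κ → F => Q (v ∘ e)) = formReindex e f := by
    funext u v; exact hpol' u v
  have hpolfun0 : QuadraticMap.polar Q = f := by
    funext u v; exact hpol u v
  refine ⟨fun v : κ → F => Q (v ∘ e), heven, ⟨fun c v => ?_, ?_, ?_⟩, hpol', ?_⟩
  · have : (c • v) ∘ e = c • (v ∘ e) := rfl
    rw [this, hQ.smul]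
  · rw [hpolfun]
    have hb := hQ.polar_bilinear
    rw [hpolfun0] at hb
    refine ⟨fun x y v => ?_, fun c x v => ?_, fun v x y => ?_, fun c v x => ?_⟩
    · exact hb.add_left (x ∘ e) (y ∘ e) (v ∘ e)
    · exact hb.smul_left c (x ∘ e) (v ∘ e)
    · exact hb.add_right (v ∘ e) (x ∘ e) (y ∘ e)
    · exact hb.smul_right c (v ∘ e) (x ∘ e)
  · rw [hpolfun]
    have hn := hQ.nondegenerate
    rw [hpolfun0] at hn
    intro v hv
    have hv' : v ∘ e ≠ 0 := by
      intro h0
      apply hv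
      funext i
      have := congrFun h0 (e.symm i)
      simpa using this
    obtain ⟨⟨x, hx⟩, ⟨y, hy⟩⟩ := hn (v ∘ e) hv'
    refine ⟨⟨x ∘ e.symm, ?_⟩, ⟨y ∘ e.symm, ?_⟩⟩
    · unfold formReindex
      have h1 : (x ∘ e.symm) ∘ e = x := by ext i; simp
      rw [h1]; exact hx
    · unfold formReindex
      have h1 : (y ∘ e.symm) ∘ e = y := by ext i; simp
      rw [h1]; exact hy
  · rw [Cfsg.Agent.Lib.Helper73.AschSpTr.map_inf_glReindex,
      Cfsg.Agent.Lib.Helper73.AschSpTr.map_quadSimilarityGroup,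
      Cfsg.Agent.Lib.Helper73.AschSpTr.map_isoGL]

end Cfsg.Agent.Lib.Helper23.AschSp
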