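import Mathlib
import Cfsg.Prelude.Def_GeometricClasses
import Cfsg.Agent.Lib.Helper99.AschDefs
import Cfsg.Agent.Lib.Helper23.AschSpDefs
import Cfsg.Agent.Lib.Helper73.AschSpTrAux

/-!
# ASCHSP-[TR-6] (helper73): transport of class 6 along a reindexing
-/

set_option autoImplicit false
set_option linter.unusedSectionVars false
set_option linter.unusedVariables false

namespace Cfsg.Agent.Lib.Helper73.AschSpTr

open Cfsg Cfsg.Geo Cfsg.Agent.Lib.Helper23.AschSp
open scoped MatrixGroups Matrix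

section abstractGroup

variable {G₁ G₂ : Type*} [Group G₁] [Group G₂]

theorem characteristic_map_symm (ψ : G₁ ≃* G₂) (A : Subgroup G₂) (hA : A.Characteristic) :
    (A.map ψ.symm.toMonoidHom).Characteristic := by
  rw [Subgroup.characteristic_iff_map_eq]
  intro ϕ
  have h := Subgroup.characteristic_iff_map_eq.mp hA ((ψ.symm.trans ϕ).trans ψ)
  rw [Subgroup.map_map]
  conv_rhs => rw [← h]
  rw [Subgroup.map_map]
  congr 1
  apply MonoidHom.ext
  intro x
  simp

theorem isMulCommutative_of_mulEquiv {M N : Type*} [Mul M] [Mul N] (α : M ≃* N)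
    (h : IsMulCommutative M) : IsMulCommutative N := by
  refine ⟨⟨fun a b => ?_⟩⟩
  have := h.is_comm.comm (α.symm a) (α.symm b)
  have h2 := congrArg α this
  simpa using h2

/-- transport of "every characteristic abelian subgroup is cyclic" -/
theorem cyclic_of_characteristic_transport (ψ : G₁ ≃* G₂)
    (h : ∀ A : Subgroup G₁, A.Characteristic → IsMulCommutative A → IsCyclic A) :
    ∀ A : Subgroup G₂, A.Characteristic → IsMulCommutative A → IsCyclic A := by
  intro A hA hcomm
  let α : A ≃* A.map ψ.symm.toMonoidHom := ψ.symm.subgroupMap A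
  have h1 := h (A.map ψ.symm.toMonoidHom) (characteristic_map_symm ψ A hA)
    (isMulCommutative_of_mulEquiv α hcomm)
  exact (MulEquiv.isCyclic α).mpr h1

/-- transport of the minus-type condition -/
theorem minusType_transport (ψ : G₁ ≃* G₂) (N : ℕ)
    (h : ∀ A : Subgroup G₁, IsMulCommutative A → (∀ x ∈ A, x * x = 1) → Nat.card A < N) :
    ∀ A : Subgroup G₂, IsMulCommutative A → (∀ x ∈ A, x * x = 1) → Nat.card A < N := by
  intro A hcomm hsq
  let α : A ≃* A.map ψ.symm.toMonoidHom := ψ.symm.subgroupMap A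
  have h1 := h (A.map ψ.symm.toMonoidHom) (isMulCommutative_of_mulEquiv α hcomm) (by
    rintro _ ⟨x, hx, rfl⟩
    have := hsq x hx
    change ψ.symm x * ψ.symm x = 1
    rw [← map_mul, this, map_one])
  rwa [Nat.card_congr α.toEquiv]

end abstractGroup

variable {ι κ : Type} [Fintype ι] [DecidableEq ι] [Fintype κ] [DecidableEq κ] (e : ι ≃ κ)
variable {F : Type*} [Field F]

/-- the isomorphism `R ≃* R.map (glReindex e)` -/
noncomputable def mapEquiv (R : Subgroup (GL ι F)) : R ≃* R.map (glReindex e).toMonoidHom :=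
  R.equivMapOfInjective (glReindex e).toMonoidHom (glReindex e).injective

theorem isSymplecticTypeGroup_map (r : ℕ) (R : Subgroup (GL ι F)) (h : IsSymplecticTypeGroup r R) :
    IsSymplecticTypeGroup r (R.map (glReindex e).toMonoidHom) := by
  refine ⟨h.prime, h.pGroup.of_equiv (mapEquiv e R),
    cyclic_of_characteristic_transport (mapEquiv e R) h.cyclic_of_characteristic, ?_⟩
  rw [← Monoid.exponent_eq_of_mulEquiv (mapEquiv e R)]
  exact h.exponent_eq

theorem isOfMinusType_map (k : ℕ) (R : Subgroup (GL ι F)) (h : IsOfMinusType k R) :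
    IsOfMinusType k (R.map (glReindex e).toMonoidHom) :=
  minusType_transport (mapEquiv e R) (2 ^ (k + 1)) h

theorem card_map (R : Subgroup (GL ι F)) :
    Nat.card (R.map (glReindex e).toMonoidHom) = Nat.card R :=
  (Nat.card_congr (mapEquiv e R).toEquiv).symm

theorem card_center_map (R : Subgroup (GL ι F)) :
    Nat.card (Subgroup.center (R.map (glReindex e).toMonoidHom)) = Nat.card (Subgroup.center R) :=
  (Nat.card_congr (Subgroup.centerCongr (mapEquiv e R)).toEquiv).symm

theorem map_subgroupNormalizer (R : Subgroup (GL ι F)) :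
    (subgroupNormalizer R).map (glReindex e).toMonoidHom =
      subgroupNormalizer (R.map (glReindex e).toMonoidHom) :=
  Subgroup.map_equiv_normalizer_eq R (glReindex e)

theorem map_similarityGroup (f : (ι → F) → (ι → F) → F) :
    (similarityGroup f).map (glReindex e).toMonoidHom = similarityGroup (formReindex e f) := by
  ext g'
  rw [mem_map_glReindex]
  constructor
  · rintro ⟨c, hc⟩
    refine ⟨c, fun u' v' => ?_⟩
    have := hc (u' ∘ e) (v' ∘ e)
    rw [glReindex_symm_mulVec, glReindex_symm_mulVec] at this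
    have h1 : (u' ∘ e) ∘ e.symm = u' := by ext i; simp
    have h2 : (v' ∘ e) ∘ e.symm = v' := by ext i; simp
    rw [h1, h2] at this
    exact this
  · rintro ⟨c, hc⟩
    refine ⟨c, fun u v => ?_⟩
    have := hc (u ∘ e.symm) (v ∘ e.symm)
    unfold formReindex at this
    rw [glReindex_symm_mulVec, glReindex_symm_mulVec, this]
    have h1 : (u ∘ e.symm) ∘ e = u := by ext i; simp
    have h2 : (v ∘ e.symm) ∘ e = v := by ext i; simp
    rw [h1, h2]

theorem matrixSet_map (R : Subgroup (GL ι F)) :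
    matrixSet (R.map (glReindex e).toMonoidHom) = (Matrix.reindex e e) '' matrixSet R := by
  ext s
  constructor
  · rintro ⟨_, ⟨g, hg, rfl⟩, rfl⟩
    exact ⟨(g : Matrix ι ι F), ⟨g, hg, rfl⟩, rfl⟩
  · rintro ⟨_, ⟨g, hg, rfl⟩, rfl⟩
    exact ⟨glReindex e g, ⟨g, hg, rfl⟩, rfl⟩

theorem reindex_mulVec (s : Matrix ι ι F) (v : κ → F) :
    (Matrix.reindex e e s) *ᵥ v = (s *ᵥ (v ∘ e)) ∘ e.symm := by
  rw [Matrix.reindex_apply, Matrix.submatrix_mulVec_equiv]
  simp

theorem actsIrreducibly_reindex_of (S : Set (Matrix ι ι F)) (h : ActsIrreducibly S) :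
    ActsIrreducibly ((Matrix.reindex e e) '' S) := by
  intro W' hW'
  have hW : ∀ s ∈ S, ((W'.map (tr (F := F) e).symm.toLinearMap).map (Matrix.toLin' s)) ≤
      W'.map (tr (F := F) e).symm.toLinearMap := by
    intro s hs
    rintro _ ⟨_, ⟨w', hw', rfl⟩, rfl⟩
    have h1 := hW' (Matrix.reindex e e s) ⟨s, hs, rfl⟩
    have h2 : Matrix.toLin' (Matrix.reindex e e s) w' ∈ W' := h1 ⟨w', hw', rfl⟩
    refine ⟨Matrix.toLin' (Matrix.reindex e e s) w', h2, ?_⟩
    change (Matrix.toLin' (Matrix.reindex e e s) w') ∘ e = Matrix.toLin' s (w' ∘ e)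
    rw [Matrix.toLin'_apply, Matrix.toLin'_apply, reindex_mulVec]
    ext i; simp
  rcases h _ hW with h0 | h0
  · left
    exact (Submodule.map_eq_bot_iff (e := (tr (F := F) e).symm)).mp h0
  · right
    exact (Submodule.map_eq_top_iff (e := (tr (F := F) e).symm)).mp h0

theorem actsAbsolutelyIrreducibly_reindex_of (S : Set (Matrix ι ι F))
    (h : ActsAbsolutelyIrreducibly S) :
    ActsAbsolutelyIrreducibly ((Matrix.reindex e e) '' S) := by
  refine ⟨actsIrreducibly_reindex_of e S h.1, fun M' hM' => ?_⟩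
  have hcomm : ∀ s ∈ S, (Matrix.reindexAlgEquiv F F e).symm M' * s =
      s * (Matrix.reindexAlgEquiv F F e).symm M' := by
    intro s hs
    have h1 := hM' (Matrix.reindex e e s) ⟨s, hs, rfl⟩
    have h2 := congrArg (Matrix.reindexAlgEquiv F F e).symm h1
    rw [map_mul, map_mul] at h2
    have h3 : (Matrix.reindexAlgEquiv F F e).symm (Matrix.reindex e e s) = s :=
      (Matrix.reindexAlgEquiv F F e).symm_apply_apply s
    rw [h3] at h2
    exact h2
  obtain ⟨c, hc⟩ := h.2 _ hcomm
  refine ⟨c, ?_⟩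
  have := congrArg (Matrix.reindexAlgEquiv F F e) hc
  rw [AlgEquiv.apply_symm_apply, map_smul, map_one] at this
  exact this

end Cfsg.Agent.Lib.Helper73.AschSpTr

namespace Cfsg.Agent.Lib.Helper23.AschSp

open Cfsg Cfsg.Geo Cfsg.Agent.Lib.Helper99.Asch
open scoped MatrixGroups Matrix Kronecker

variable {F : Type*} [Field F] [Fintype F]
variable {ι κ : Type} [Fintype ι] [DecidableEq ι] [Fintype κ] [DecidableEq κ] (e : ι ≃ κ)

/-- ASCHSP-[TR-6] -/
theorem spC6_reindex (m : ℕ) (f : (ι → F) → (ι → F) → F) (M : Subgroup (GL ι F)) (h : SpC6 m f M) :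
    SpC6 m (formReindex e f) (M.map (glReindex e).toMonoidHom) := by
  obtain ⟨R, p, k, hsymp, habs, hsim, hp, hodd, hcard, hR, hZ, hminus, hkm, rfl⟩ := h
  refine ⟨R.map (glReindex e).toMonoidHom, p, k,
    Cfsg.Agent.Lib.Helper73.AschSpTr.isSymplecticTypeGroup_map e 2 R hsymp, ?_, ?_, hp, hodd, hcard,
    ?_, ?_, Cfsg.Agent.Lib.Helper73.AschSpTr.isOfMinusType_map e k R hminus, hkm, ?_⟩
  · rw [Cfsg.Agent.Lib.Helper73.AschSpTr.matrixSet_map]
    exact Cfsg.Agent.Lib.Helper73.AschSpTr.actsAbsolutelyIrreducibly_reindex_of e _ habs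
  · rw [← Cfsg.Agent.Lib.Helper73.AschSpTr.map_similarityGroup]
    exact Subgroup.map_mono hsim
  · rw [Cfsg.Agent.Lib.Helper73.AschSpTr.card_map]; exact hR
  · rw [Cfsg.Agent.Lib.Helper73.AschSpTr.card_center_map]; exact hZ
  · rw [Cfsg.Agent.Lib.Helper73.AschSpTr.map_inf_glReindex,
      Cfsg.Agent.Lib.Helper73.AschSpTr.map_subgroupNormalizer,
      Cfsg.Agent.Lib.Helper73.AschSpTr.map_isoGL]

end Cfsg.Agent.Lib.Helper23.AschSp
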