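import Mathlib
import Cfsg.Prelude.Def_GeometricClasses
import Cfsg.Agent.Lib.Helper99.AschDefs
import Cfsg.Agent.Lib.Helper23.AschSpDefs
import Cfsg.Agent.Lib.Helper73.AschSpTrAux

/-!
# ASCHSP-[TR-7] (helper73): transport of class 7 along a reindexing
-/

set_option autoImplicit false
set_option linter.unusedSectionVars false
set_option linter.unusedVariables false

namespace Cfsg.Agent.Lib.Helper73.AschSpTr

open Cfsg Cfsg.Geo Cfsg.Agent.Lib.Helper23.AschSp
open scoped MatrixGroups Matrix

variable {ι κ : Type} [Fintype ι] [DecidableEq ι] [Fintype κ] [DecidableEq κ] (e : ι ≃ κ)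
variable {F : Type*} [Field F]

theorem glReindex_trans {μ : Type} [Fintype μ] [DecidableEq μ] (a : μ ≃ ι) (g : GL μ F) :
    glReindex (a.trans e) g = glReindex e (glReindex a g) := by
  apply Units.ext
  change Matrix.reindex (a.trans e) (a.trans e) (g : Matrix μ μ F) =
    Matrix.reindex e e (Matrix.reindex a a (g : Matrix μ μ F))
  ext i j
  simp [Matrix.reindex_apply, Matrix.submatrix_apply]

/-- transport of a conjugated, reindexed standard subgroup -/
theorem map_conj_reindex {μ : Type} [Fintype μ] [DecidableEq μ] (S : Subgroup (GL μ F))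
    (idx : ι ≃ μ) (P : GL ι F) :
    ((S.map (glReindex idx.symm).toMonoidHom).map (MulAut.conj P).toMonoidHom).map
        (glReindex e).toMonoidHom =
      (S.map (glReindex (e.symm.trans idx).symm).toMonoidHom).map
        (MulAut.conj (glReindex e P)).toMonoidHom := by
  rw [Subgroup.map_map, Subgroup.map_map, Subgroup.map_map]
  congr 1
  apply MonoidHom.ext
  intro g
  have hsymm : (e.symm.trans idx).symm = idx.symm.trans e := by
    ext x; simp
  simp only [MonoidHom.coe_comp, MulEquiv.coe_toMonoidHom, Function.comp_apply, MulAut.conj_apply,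
    map_mul, map_inv, hsymm, glReindex_trans]

theorem map_tensorWreathSubgroup (k t : ℕ) (idx : ι ≃ (Fin t → Fin k)) (P : GL ι F) :
    (tensorWreathSubgroup k t idx P).map (glReindex e).toMonoidHom =
      tensorWreathSubgroup k t (e.symm.trans idx) (glReindex e P) :=
  map_conj_reindex e (tensorWreathStandard k t F) idx P

theorem map_tensorProductSubgroup (n₁ n₂ : ℕ) (idx : ι ≃ Fin n₁ × Fin n₂) (P : GL ι F) :
    (tensorProductSubgroup n₁ n₂ idx P).map (glReindex e).toMonoidHom =
      tensorProductSubgroup n₁ n₂ (e.symm.trans idx) (glReindex e P) :=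
  map_conj_reindex e (kroneckerSubgroup n₁ n₂ F) idx P

/-- the value of the transported form on transported base-change vectors -/
theorem formReindex_glReindex_mulVec {μ : Type} (f : (ι → F) → (ι → F) → F) (idx : ι ≃ μ)
    (P : GL ι F) (x y : μ → F) :
    formReindex e f (((glReindex e P : GL κ F) : Matrix κ κ F) *ᵥ (x ∘ (e.symm.trans idx)))
        (((glReindex e P : GL κ F) : Matrix κ κ F) *ᵥ (y ∘ (e.symm.trans idx))) =
      f ((P : Matrix ι ι F) *ᵥ (x ∘ idx)) ((P : Matrix ι ι F) *ᵥ (y ∘ idx)) := by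
  rw [glReindex_mulVec, glReindex_mulVec]
  have hx : (x ∘ (e.symm.trans idx)) ∘ e = x ∘ idx := by ext i; simp
  have hy : (y ∘ (e.symm.trans idx)) ∘ e = y ∘ idx := by ext i; simp
  rw [hx, hy]
  exact formReindex_tr e f ((P : Matrix ι ι F) *ᵥ (x ∘ idx)) ((P : Matrix ι ι F) *ᵥ (y ∘ idx))

end Cfsg.Agent.Lib.Helper73.AschSpTr

namespace Cfsg.Agent.Lib.Helper23.AschSp

open Cfsg Cfsg.Geo Cfsg.Agent.Lib.Helper99.Asch
open scoped MatrixGroups Matrix Kronecker

variable {F : Type*} [Field F] [Fintype F]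
variable {ι κ : Type} [Fintype ι] [DecidableEq ι] [Fintype κ] [DecidableEq κ] (e : ι ≃ κ)

/-- ASCHSP-[TR-7] -/
theorem spC7_reindex (f : (ι → F) → (ι → F) → F) (M : Subgroup (GL ι F)) (h : SpC7 f M) :
    SpC7 (formReindex e f) (M.map (glReindex e).toMonoidHom) := by
  obtain ⟨k, t, idx, P, f₁, hodd, hot, h3, hne, hf₁, ⟨c, hc, hform⟩, rfl⟩ := h
  refine ⟨k, t, e.symm.trans idx, glReindex e P, f₁, hodd, hot, h3, hne, hf₁, ⟨c, hc, ?_⟩, ?_⟩
  · intro x y
    rw [Cfsg.Agent.Lib.Helper73.AschSpTr.formReindex_glReindex_mulVec]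
    exact hform x y
  · rw [Cfsg.Agent.Lib.Helper73.AschSpTr.map_inf_glReindex,
      Cfsg.Agent.Lib.Helper73.AschSpTr.map_tensorWreathSubgroup,
      Cfsg.Agent.Lib.Helper73.AschSpTr.map_isoGL]

end Cfsg.Agent.Lib.Helper23.AschSp
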