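import Mathlib
import Cfsg.Agent.Lib.Helper30.BSW.CharDefs
import Cfsg.Agent.Lib.Helper79.ClassCount

/-!
# S3282 module [C3a] (helper73, for helper30): the class multiplication count for two involutions.
-/

set_option autoImplicit false

open Cfsg Cfsg.Agent.Lib.Helper30.BSW Cfsg.Agent.Lib.Helper78
open scoped ComplexConjugate IsMulCommutative

namespace Cfsg.Agent.Lib.Helper73.BSW

variable {G : Type*} [Group G] [Fintype G] {t s : G} {K : Subgroup G} [IsMulCommutative ↥K]
  [Fintype ↥K] [Fintype (↥K →* ℂˣ)]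

omit [Fintype G] in
theorem c3a_mem_cent (u g : G) : g ∈ Subgroup.centralizer ({u} : Set G) ↔ g * u = u * g := by
  rw [Subgroup.mem_centralizer_iff]
  constructor
  · intro h; exact (h u rfl).symm
  · intro h x hx
    rw [Set.mem_singleton_iff] at hx
    subst hx
    exact h.symm

omit [Fintype G] in
theorem c3a_orderOf_conj (a u : G) : orderOf (a * u * a⁻¹) = orderOf u := by
  have := orderOf_injective (MulAut.conj a).toMonoidHom (MulAut.conj a).injective u
  simpa using this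

/-- the elements conjugating `t` to a given conjugate form a coset of the centralizer -/
theorem c3a_card_fibre [DecidableEq G] (t u : G) (hc : IsConj t u) :
    (Finset.univ.filter (fun a : G => a * t * a⁻¹ = u)).card =
      Nat.card (Subgroup.centralizer ({t} : Set G)) := by
  obtain ⟨c, hc⟩ := isConj_iff.mp hc
  rw [← Fintype.card_subtype, ← Nat.card_eq_fintype_card]
  refine Nat.card_congr ⟨fun a => ⟨c⁻¹ * a.1, ?_⟩, fun z => ⟨c * z.1, ?_⟩, ?_, ?_⟩
  · rw [c3a_mem_cent]
    have h1 : a.1 * t * a.1⁻¹ = c * t * c⁻¹ := by rw [a.2, hc]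
    calc c⁻¹ * a.1 * t = c⁻¹ * (a.1 * t * a.1⁻¹) * a.1 := by group
      _ = c⁻¹ * (c * t * c⁻¹) * a.1 := by rw [h1]
      _ = t * (c⁻¹ * a.1) := by group
  · have h1 := (c3a_mem_cent t z.1).mp z.2
    calc c * z.1 * t * (c * z.1)⁻¹ = c * (z.1 * t) * z.1⁻¹ * c⁻¹ := by group
      _ = c * (t * z.1) * z.1⁻¹ * c⁻¹ := by rw [h1]
      _ = c * t * c⁻¹ := by group
      _ = u := hc
  · intro a; apply Subtype.ext; simp
  · intro z; apply Subtype.ext; simp

theorem sum_sq_invol (h : Hyp t s K) (b : Basic t s K) (x : G) :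
    (Nat.card G : ℂ) * ∑ χ : IrrCharacter G,
        (χ : G → ℂ) t * (χ : G → ℂ) t * (χ : G → ℂ) x⁻¹ / (χ : G → ℂ) 1 =
      4 * (Nat.card K : ℂ) ^ 2 *
        (Nat.card {p : G × G // orderOf p.1 = 2 ∧ orderOf p.2 = 2 ∧ p.1 * p.2 = x} : ℂ) := by
  classical
  rw [← Cfsg.Agent.Lib.Helper79.card_conj_pairs t t x]
  have hfib : ∀ u : G, orderOf u = 2 →
      (Finset.univ.filter (fun a : G => a * t * a⁻¹ = u)).card = 2 * Nat.card K := by
    intro u hu
    rw [c3a_card_fibre t u (h.hconj t u h.ht hu), b.card_H]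
  have hT : Nat.card {p : G × G // orderOf p.1 = 2 ∧ orderOf p.2 = 2 ∧ p.1 * p.2 = x} =
      (Finset.univ.filter
        (fun p : G × G => orderOf p.1 = 2 ∧ orderOf p.2 = 2 ∧ p.1 * p.2 = x)).card := by
    rw [Nat.card_eq_fintype_card, Fintype.card_subtype]
  have hsum : ∀ p ∈ Finset.univ.filter
      (fun p : G × G => orderOf p.1 = 2 ∧ orderOf p.2 = 2 ∧ p.1 * p.2 = x),
      ((Finset.univ.filter (fun ab : G × G =>
          ab.1 * t * ab.1⁻¹ * (ab.2 * t * ab.2⁻¹) = x)).filter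
          (fun ab => (ab.1 * t * ab.1⁻¹, ab.2 * t * ab.2⁻¹) = p)).card = (2 * Nat.card K) ^ 2 := by
    intro p hp
    rw [Finset.mem_filter] at hp
    obtain ⟨-, hp1, hp2, hp3⟩ := hp
    have : (Finset.univ.filter (fun ab : G × G =>
        ab.1 * t * ab.1⁻¹ * (ab.2 * t * ab.2⁻¹) = x)).filter
        (fun ab => (ab.1 * t * ab.1⁻¹, ab.2 * t * ab.2⁻¹) = p) =
        (Finset.univ.filter (fun a : G => a * t * a⁻¹ = p.1)) ×ˢ
          (Finset.univ.filter (fun a : G => a * t * a⁻¹ = p.2)) := by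
      ext ab
      simp only [Finset.mem_filter, Finset.mem_univ, true_and, Finset.mem_product]
      constructor
      · rintro ⟨-, h2⟩
        rw [Prod.ext_iff] at h2
        exact h2
      · rintro ⟨h1, h2⟩
        refine ⟨?_, Prod.ext h1 h2⟩
        rw [h1, h2, hp3]
    rw [this, Finset.card_product, hfib p.1 hp1, hfib p.2 hp2, pow_two]
  have hcount : (Finset.univ.filter (fun ab : G × G =>
      ab.1 * t * ab.1⁻¹ * (ab.2 * t * ab.2⁻¹) = x)).card =
      (2 * Nat.card K) ^ 2 *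
        Nat.card {p : G × G // orderOf p.1 = 2 ∧ orderOf p.2 = 2 ∧ p.1 * p.2 = x} := by
    rw [hT]
    rw [Finset.card_eq_sum_card_fiberwise (f := fun ab : G × G =>
      (ab.1 * t * ab.1⁻¹, ab.2 * t * ab.2⁻¹))
      (t := Finset.univ.filter (fun p : G × G => orderOf p.1 = 2 ∧ orderOf p.2 = 2 ∧ p.1 * p.2 = x))]
    · rw [Finset.sum_congr rfl hsum, Finset.sum_const, smul_eq_mul, mul_comm]
    · intro ab hab
      simp only [Finset.coe_filter, Finset.mem_univ, true_and, Set.mem_ofPred_eq] at hab ⊢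
      refine ⟨?_, ?_, hab⟩
      · rw [c3a_orderOf_conj, h.ht]
      · rw [c3a_orderOf_conj, h.ht]
  rw [hcount]
  push_cast
  ring

end Cfsg.Agent.Lib.Helper73.BSW
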