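import Mathlib
import Cfsg.Agent.Lib.Helper30.BSW.Defs
import Cfsg.Agent.Lib.Helper4.Conj
import Cfsg.Agent.S3277

/-!
# S3282 module [F3] (helper73, for helper30): the small case `|K| = 2` of the abstract
Brauer-Suzuki-Wall theorem (`G ≅ A₄` or `A₅`).
-/

set_option autoImplicit false

open Cfsg Cfsg.Agent.Lib.Helper30.BSW

namespace Cfsg.Agent.Lib.Helper73.BSW

variable {G : Type*} [Group G] {t s : G} {K : Subgroup G}

theorem mem_cent_iff (u g : G) : g ∈ Subgroup.centralizer ({u} : Set G) ↔ g * u = u * g := by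
  rw [Subgroup.mem_centralizer_iff]
  constructor
  · intro h; exact (h u rfl).symm
  · intro h x hx
    rw [Set.mem_singleton_iff] at hx
    subst hx
    exact h.symm

/-- conjugate elements have centralizers of the same order -/
theorem card_centralizer_conj [Finite G] (u g : G) :
    Nat.card (Subgroup.centralizer ({g * u * g⁻¹} : Set G)) =
      Nat.card (Subgroup.centralizer ({u} : Set G)) := by
  refine Nat.card_congr ⟨fun c => ⟨g⁻¹ * c * g, ?_⟩, fun c => ⟨g * c * g⁻¹, ?_⟩, ?_, ?_⟩
  · rw [mem_cent_iff]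
    have h1 := (mem_cent_iff _ _).mp c.2
    calc g⁻¹ * c * g * u = g⁻¹ * (c * (g * u * g⁻¹)) * g := by group
      _ = g⁻¹ * ((g * u * g⁻¹) * c) * g := by rw [h1]
      _ = u * (g⁻¹ * c * g) := by group
  · rw [mem_cent_iff]
    have h1 := (mem_cent_iff _ _).mp c.2
    calc g * c * g⁻¹ * (g * u * g⁻¹) = g * (c * u) * g⁻¹ := by group
      _ = g * (u * c) * g⁻¹ := by rw [h1]
      _ = g * u * g⁻¹ * (g * c * g⁻¹) := by group
  · intro c; apply Subtype.ext; simp only; group
  · intro c; apply Subtype.ext; simp only; group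

section two
variable [Finite G] (h : Hyp t s K) (b : Basic t s K) (hk : Nat.card K = 2)
include h b hk

theorem card_V : Nat.card (Subgroup.centralizer ({t} : Set G)) = 4 := by
  rw [b.card_H, hk]

theorem sq_V : ∀ c ∈ Subgroup.centralizer ({t} : Set G), c ^ 2 = 1 := by
  intro c hc
  rcases (b.mem_H c).mp hc with hcK | ⟨x, hx, rfl⟩
  · have h1 : (⟨c, hcK⟩ : K) ^ Nat.card K = 1 := pow_card_eq_one'
    rw [hk] at h1
    have := congrArg Subtype.val h1
    simpa using this
  · have := b.invol_coset x hx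
    rw [← this]; exact pow_orderOf_eq_one _

/-- every involution has a centralizer of order `4` and exponent `2` -/
theorem invol_cent (u : G) (hu : orderOf u = 2) :
    Nat.card (Subgroup.centralizer ({u} : Set G)) = 4 ∧
      ∀ c ∈ Subgroup.centralizer ({u} : Set G), c ^ 2 = 1 := by
  obtain ⟨g, hg⟩ := isConj_iff.mp (h.hconj t u h.ht hu)
  subst hg
  refine ⟨by rw [card_centralizer_conj, card_V h b hk], ?_⟩
  intro c hc
  have h1 : g⁻¹ * c * g ∈ Subgroup.centralizer ({t} : Set G) := by
    rw [mem_cent_iff]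
    have h2 := (mem_cent_iff _ _).mp hc
    calc g⁻¹ * c * g * t = g⁻¹ * (c * (g * t * g⁻¹)) * g := by group
      _ = g⁻¹ * ((g * t * g⁻¹) * c) * g := by rw [h2]
      _ = t * (g⁻¹ * c * g) := by group
  have h3 := sq_V h b hk _ h1
  have h4 : c ^ 2 = g * (g⁻¹ * c * g) ^ 2 * g⁻¹ := by
    rw [pow_two, pow_two]; group
  rw [h4, h3]; group

/-- an element commuting with an involution has square one -/
theorem sq_of_commute_invol (x u : G) (hu : orderOf u = 2) (hxu : x * u = u * x) : x ^ 2 = 1 :=
  (invol_cent h b hk u hu).2 x ((mem_cent_iff u x).mpr hxu)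

/-- an element of odd prime order commutes with no involution -/
theorem not_commute_invol (x u : G) (hu : orderOf u = 2) (r : ℕ) (hr : r.Prime) (hr2 : r ≠ 2)
    (hx : orderOf x = r) : x * u ≠ u * x := by
  intro hxu
  have h1 := sq_of_commute_invol h b hk x u hu hxu
  have h2 := orderOf_dvd_of_pow_eq_one h1
  rw [hx] at h2
  exact hr2 ((Nat.prime_dvd_prime_iff_eq hr Nat.prime_two).mp h2)


/-- the centralizer of an involution is commutative -/
theorem comm_of_commute_invol (u : G) (hu : orderOf u = 2) (x y : G) (hx : x * u = u * x)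
    (hy : y * u = u * y) : x * y = y * x := by
  have hx2 := sq_of_commute_invol h b hk x u hu hx
  have hy2 := sq_of_commute_invol h b hk y u hu hy
  have hxy : (x * y) * u = u * (x * y) := by
    rw [mul_assoc, hy, ← mul_assoc, hx, mul_assoc]
  have hxy2 := sq_of_commute_invol h b hk (x * y) u hu hxy
  have hxi : x⁻¹ = x := by
    rw [pow_two] at hx2
    exact inv_eq_of_mul_eq_one_left hx2
  have hyi : y⁻¹ = y := by
    rw [pow_two] at hy2
    exact inv_eq_of_mul_eq_one_left hy2
  rw [pow_two] at hxy2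
  calc x * y = (x * y)⁻¹ := (inv_eq_of_mul_eq_one_left hxy2).symm
    _ = y⁻¹ * x⁻¹ := mul_inv_rev x y
    _ = y * x := by rw [hxi, hyi]

/-- case (a): no normal `2`-complement -/
theorem not_hasNormalPComplement : ¬ Cfsg.HasNormalPComplement 2 G := by
  rintro ⟨P, N, hN, hNP⟩
  have h2G : 2 ∣ Nat.card G := by rw [← h.ht]; exact orderOf_dvd_natCard t
  have hP1 : (P : Subgroup G) ≠ ⊥ := P.ne_bot_of_dvd_card h2G
  have hnt : Nontrivial ↥(P : Subgroup G) := (Subgroup.nontrivial_iff_ne_bot _).2 hP1
  have hcn : Nontrivial (Subgroup.center ↥(P : Subgroup G)) :=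
    IsPGroup.center_nontrivial P.isPGroup'
  obtain ⟨k, hkc⟩ := IsPGroup.iff_card.mp
    (P.isPGroup'.to_subgroup (Subgroup.center ↥(P : Subgroup G)))
  have hk0 : k ≠ 0 := by
    intro h0
    rw [h0, pow_zero] at hkc
    have := Finite.one_lt_card (α := Subgroup.center ↥(P : Subgroup G))
    omega
  obtain ⟨z, hz⟩ := exists_prime_orderOf_dvd_card' (G := Subgroup.center ↥(P : Subgroup G)) 2
    (by rw [hkc]; exact dvd_pow_self 2 hk0)
  have hz'o : orderOf (((z : ↥(P : Subgroup G)) : G)) = 2 := by
    rw [Subgroup.orderOf_coe, Subgroup.orderOf_coe]; exact hz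
  have hPc : ∀ x ∈ (P : Subgroup G), x * ((z : ↥(P : Subgroup G)) : G) =
      ((z : ↥(P : Subgroup G)) : G) * x := by
    intro x hx
    have := Subgroup.mem_center_iff.mp z.2 ⟨x, hx⟩
    exact congrArg Subtype.val this
  have hPcomm : ∀ x ∈ (P : Subgroup G), ∀ y ∈ (P : Subgroup G), x * y = y * x := by
    intro x hx y hy
    exact comm_of_commute_invol h b hk _ hz'o x y (hPc x hx) (hPc y hy)
  have := hN
  let e : G ⧸ N ≃* ↥(P : Subgroup G) := hNP.symm.QuotientMulEquiv
  have hq : ∀ x y : G ⧸ N, x * y = y * x := by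
    intro x y
    apply e.injective
    rw [map_mul, map_mul]
    exact Subtype.ext (hPcomm _ (e x).2 _ (e y).2)
  obtain ⟨c, hc⟩ := isConj_iff.mp (h.hconj t s h.ht h.hs)
  have hts : (QuotientGroup.mk t : G ⧸ N) = QuotientGroup.mk s := by
    rw [← hc, QuotientGroup.mk_mul, QuotientGroup.mk_mul, QuotientGroup.mk_inv,
      hq (QuotientGroup.mk c) (QuotientGroup.mk t), mul_assoc, mul_inv_cancel, mul_one]
  rw [QuotientGroup.eq] at hts
  have hti : t⁻¹ = t := by
    have h1 : t ^ 2 = 1 := by rw [← h.ht]; exact pow_orderOf_eq_one t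
    rw [pow_two] at h1
    exact inv_eq_of_mul_eq_one_left h1
  have ho : orderOf (t⁻¹ * s) = 2 := by rw [hti]; exact b.invol_coset t h.htK
  have hdvd : 2 ∣ Nat.card N := by
    rw [← ho]
    have := orderOf_dvd_natCard (⟨t⁻¹ * s, hts⟩ : N)
    rwa [Subgroup.orderOf_mk] at this
  have hidx : Nat.card N = (P : Subgroup G).index := by
    have h1 := hNP.card_mul_card
    have h2 := (P : Subgroup G).card_mul_index
    have hpos : 0 < Nat.card (P : Subgroup G) := Nat.card_pos
    have h3 : Nat.card (P : Subgroup G) * Nat.card N =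
        Nat.card (P : Subgroup G) * (P : Subgroup G).index := by
      rw [h2, ← h1, mul_comm]
    exact Nat.eq_of_mul_eq_mul_left hpos h3
  exact P.not_dvd_index (hidx ▸ hdvd)

/-- case (b): no normal subgroup of order `2` -/
theorem no_normal_two (E : Subgroup G) (hE : E.Normal) (hcard : Nat.card E = 2) : False := by
  obtain ⟨z, hz1, huniq⟩ := (Nat.card_eq_two_iff' (1 : E)).mp hcard
  have hzo : orderOf (z : G) = 2 := by
    rw [Subgroup.orderOf_coe]
    have h1 : z ^ Nat.card E = 1 := pow_card_eq_one'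
    rw [hcard] at h1
    exact orderOf_eq_prime h1 hz1
  -- the elements of `E` are `1` and `z`
  have hE2 : ∀ x ∈ E, x = 1 ∨ x = (z : G) := by
    intro x hx
    by_cases hx1 : x = 1
    · exact Or.inl hx1
    · right
      have := huniq ⟨x, hx⟩ (fun hh => hx1 (congrArg Subtype.val hh))
      exact congrArg Subtype.val this
  -- `z` is central
  have hzc : ∀ g : G, g * (z : G) * g⁻¹ = (z : G) := by
    intro g
    rcases hE2 _ (hE.conj_mem _ z.2 g) with h1 | h1
    · exfalso
      apply hz1
      apply Subtype.ext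
      have : (z : G) = g⁻¹ * (g * (z : G) * g⁻¹) * g := by group
      rw [this, h1]; simp
    · exact h1
  obtain ⟨c, hc⟩ := isConj_iff.mp (h.hconj (z : G) t hzo h.ht)
  have htz : t = (z : G) := by rw [← hc]; exact hzc c
  obtain ⟨d, hd⟩ := isConj_iff.mp (h.hconj t s h.ht h.hs)
  have hst : s = t := by rw [← hd, htz]; exact hzc d
  exact h.hsK (hst ▸ h.htK)


/-- centralizers of elements of odd prime order `r` in a subgroup of order `r` -/
theorem cent_eq (r : ℕ) [hr : Fact r.Prime] (hr2 : r ≠ 2) (P : Subgroup G) (hP : Nat.card P = r)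
    (x : G) (hxP : x ∈ P) (hx1 : x ≠ 1) (M : Subgroup G) (j : ℕ) (hM : Nat.card M = r * 2 ^ j)
    (hCM : Subgroup.centralizer ({x} : Set G) ≤ M) :
    Subgroup.centralizer ({x} : Set G) = P := by
  have hxo : orderOf x = r := by
    have h1 : (⟨x, hxP⟩ : P) ^ Nat.card P = 1 := pow_card_eq_one'
    rw [hP] at h1
    have h2 : x ^ r = 1 := by
      have := congrArg Subtype.val h1
      simpa using this
    exact orderOf_eq_prime h2 hx1
  have hPC : P ≤ Subgroup.centralizer ({x} : Set G) := by
    intro y hy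
    rw [mem_cent_iff]
    have hx1' : (⟨x, hxP⟩ : P) ≠ 1 := fun hh => hx1 (congrArg Subtype.val hh)
    have hmem : (⟨y, hy⟩ : P) ∈ Subgroup.zpowers (⟨x, hxP⟩ : P) := mem_zpowers_of_prime_card hP hx1'
    obtain ⟨k, hk⟩ := Subgroup.mem_zpowers_iff.mp hmem
    have hyk : y = x ^ k := by
      have := congrArg Subtype.val hk
      simpa using this.symm
    rw [hyk]
    exact ((Commute.refl x).zpow_left k).eq
  have hdvd : Nat.card (Subgroup.centralizer ({x} : Set G)) ∣ r * 2 ^ j := by
    rw [← hM]; exact Subgroup.card_dvd_of_le hCM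
  have hodd : ¬ 2 ∣ Nat.card (Subgroup.centralizer ({x} : Set G)) := by
    intro h2
    obtain ⟨u, hu⟩ := exists_prime_orderOf_dvd_card' (G := Subgroup.centralizer ({x} : Set G)) 2 h2
    have huo : orderOf (u : G) = 2 := by rw [Subgroup.orderOf_coe]; exact hu
    have hux : (u : G) * x = x * (u : G) := (mem_cent_iff x _).mp u.2
    exact not_commute_invol h b hk x (u : G) huo r hr.out hr2 hxo hux.symm
  have hcop : Nat.Coprime (Nat.card (Subgroup.centralizer ({x} : Set G))) (2 ^ j) :=
    Nat.Coprime.pow_right j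
      ((Nat.coprime_comm).mp ((Nat.Prime.coprime_iff_not_dvd Nat.prime_two).mpr hodd))
  have hdr : Nat.card (Subgroup.centralizer ({x} : Set G)) ∣ r := hcop.dvd_of_dvd_mul_right hdvd
  have hrd : r ∣ Nat.card (Subgroup.centralizer ({x} : Set G)) := by
    rw [← hP]; exact Subgroup.card_dvd_of_le hPC
  have hcard : Nat.card (Subgroup.centralizer ({x} : Set G)) = r := Nat.dvd_antisymm hdr hrd
  exact (Subgroup.eq_of_le_of_card_ge hPC (by rw [hcard, hP])).symm


omit h b hk in
theorem card_sylow_prime {p n : ℕ} [hp : Fact p.Prime] (hG : Nat.card G = p * n) (hn : ¬ p ∣ n)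
    (P : Sylow p G) : Nat.card P = p := by
  rw [P.card_eq_multiplicity, hG]
  have hn0 : n ≠ 0 := fun h0 => hn (h0 ▸ dvd_zero p)
  rw [Nat.factorization_mul hp.out.ne_zero hn0, Finsupp.add_apply, hp.out.factorization_self,
    Nat.factorization_eq_zero_of_not_dvd hn, pow_one]

/-- case (c): a normal elementary abelian subgroup of order `4` -/
theorem concl_of_normal_four (E : Subgroup G) (hE : E.Normal)
    (hEab : Cfsg.IsElementaryAbelian 2 E) (hcard : Nat.card E = 4) : Concl G := by
  classical
  have hnt : Nontrivial E := by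
    rw [← Finite.one_lt_card_iff_nontrivial, hcard]; norm_num
  obtain ⟨e, he1⟩ := exists_ne (1 : E)
  have heo : orderOf (e : G) = 2 :=
    orderOf_eq_prime (hEab.2 e e.2) (fun hh => he1 (Subtype.ext hh))
  obtain ⟨c, hc⟩ := isConj_iff.mp (h.hconj (e : G) t heo h.ht)
  have htE : t ∈ E := hc ▸ hE.conj_mem _ e.2 c
  have hEcomm : ∀ x ∈ E, ∀ y ∈ E, x * y = y * x := by
    intro x hx y hy
    have := hEab.1.is_comm.comm (⟨x, hx⟩ : E) ⟨y, hy⟩
    exact congrArg Subtype.val this
  have hEV : E ≤ Subgroup.centralizer ({t} : Set G) :=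
    fun x hx => (mem_cent_iff t x).mpr (hEcomm x hx t htE)
  have hEeqV : E = Subgroup.centralizer ({t} : Set G) :=
    Subgroup.eq_of_le_of_card_ge hEV (by rw [card_V h b hk, hcard])
  have ht1 : t ≠ 1 := by
    intro h0
    have := h.ht
    rw [h0, orderOf_one] at this
    omega
  -- the conjugates of `t` are the non-identity elements of `E`
  have hclass : Nat.card {v : G // IsConj t v} = 3 := by
    have e1 : {v : G // IsConj t v} ≃ {x : E // x ≠ 1} :=
      { toFun := fun v => ⟨⟨v.1, by
            obtain ⟨g, hg⟩ := isConj_iff.mp v.2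
            rw [← hg]; exact hE.conj_mem _ htE g⟩, by
            intro hh
            obtain ⟨g, hg⟩ := isConj_iff.mp v.2
            have hv1 : v.1 = 1 := congrArg Subtype.val hh
            rw [hv1] at hg
            have : t = 1 := by
              have : t = g⁻¹ * (g * t * g⁻¹) * g := by group
              rw [this, hg]; group
            exact ht1 this⟩
        invFun := fun x => ⟨(x.1 : G), by
            apply h.hconj t _ h.ht
            exact orderOf_eq_prime (hEab.2 _ x.1.2) (fun hh => x.2 (Subtype.ext hh))⟩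
        left_inv := fun v => rfl
        right_inv := fun x => rfl }
    rw [Nat.card_congr e1]
    have := Fintype.ofFinite E
    rw [Nat.card_eq_fintype_card, Fintype.card_subtype_compl, Fintype.card_subtype_eq,
      ← Nat.card_eq_fintype_card, hcard]
  have hG12 : Nat.card G = 12 := by
    have h1 := Cfsg.Agent.Lib.Helper4.card_isConj_mul_card_centralizer t
    rw [card_V h b hk, hclass] at h1
    omega
  have : Fact (Nat.Prime 3) := ⟨Nat.prime_three⟩
  let P : Sylow 3 G := default
  have hP3 : Nat.card (P : Subgroup G) = 3 :=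
    card_sylow_prime (p := 3) (n := 4) (by rw [hG12]) (by norm_num) P
  have hcent : ∀ x ∈ (P : Subgroup G), x ≠ 1 → Subgroup.centralizer ({x} : Set G) = P := by
    intro x hx hx1
    exact cent_eq h b hk 3 (by norm_num) (P : Subgroup G) hP3 x hx hx1 ⊤ 2
      (by rw [Subgroup.card_top, hG12]; norm_num) le_top
  -- `P` is not normal
  have hPnn : ¬ (P : Subgroup G).Normal := by
    intro hPn
    have hnt' : Nontrivial (P : Subgroup G) := by
      rw [← Finite.one_lt_card_iff_nontrivial, hP3]; norm_num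
    obtain ⟨x, hx1⟩ := exists_ne (1 : (P : Subgroup G))
    have hdisj : Disjoint (P : Subgroup G) E :=
      Subgroup.disjoint_of_coprime_natCard (by rw [hP3, hcard]; norm_num)
    have hcomm := Subgroup.commute_of_normal_of_disjoint _ _ hPn hE hdisj (x : G) t x.2 htE
    have hxo : orderOf (x : G) = 3 := by
      rw [Subgroup.orderOf_coe]
      have h1 : x ^ Nat.card (P : Subgroup G) = 1 := pow_card_eq_one'
      rw [hP3] at h1
      exact orderOf_eq_prime h1 hx1
    exact not_commute_invol h b hk (x : G) t h.ht 3 Nat.prime_three (by norm_num) hxo hcomm.eq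
  have hN : Subgroup.normalizer ((P : Subgroup G) : Set G) = P := by
    have h1 : Nat.card (Sylow 3 G) ≡ 1 [MOD 3] := card_sylow_modEq_one 3 G
    have h2 : Nat.card (Sylow 3 G) ∣ (P : Subgroup G).index := P.card_dvd_index
    have hidx : (P : Subgroup G).index = 4 := by
      have := (P : Subgroup G).card_mul_index
      rw [hP3, hG12] at this
      omega
    rw [hidx] at h2
    have h3 : Nat.card (Sylow 3 G) = 1 ∨ Nat.card (Sylow 3 G) = 4 := by
      have hle : Nat.card (Sylow 3 G) ≤ 4 := Nat.le_of_dvd (by norm_num) h2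
      have hmod : Nat.card (Sylow 3 G) % 3 = 1 := h1
      interval_cases hn : Nat.card (Sylow 3 G) <;> simp_all
    rw [P.card_eq_index_normalizer] at h3
    rcases h3 with h3 | h3
    · exfalso
      apply hPnn
      rw [Subgroup.index_eq_one] at h3
      exact Subgroup.normalizer_eq_top_iff.mp h3
    · have h4 := (Subgroup.normalizer ((P : Subgroup G) : Set G)).card_mul_index
      have h3' : (Subgroup.normalizer ((P : Subgroup G) : Set G)).index = 4 := h3
      rw [h3', hG12] at h4
      have h5 : Nat.card (Subgroup.normalizer ((P : Subgroup G) : Set G)) = 3 := by omega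
      exact (Subgroup.eq_of_le_of_card_ge Subgroup.le_normalizer (by rw [h5, hP3])).symm
  refine ⟨(P : Subgroup G), ⊥, ?_, hcent, ?_, ?_, ?_, ?_, ?_⟩
  · rw [hG12, hP3]
  · exact ⟨⟨fun a b => Subsingleton.elim _ _⟩⟩
  · rw [Subgroup.card_bot, hP3]
  · exact inf_bot_eq _
  · rw [sup_bot_eq]; exact hN
  · intro X hX hX1
    exact absurd (le_bot_iff.mp hX) hX1

omit h b hk in
/-- in a subgroup of prime order, every element is a power of any non-identity element -/
theorem exists_zpow_of_prime_card {r : ℕ} [hr : Fact r.Prime] (P : Subgroup G)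
    (hP : Nat.card P = r) (x : G) (hxP : x ∈ P) (hx1 : x ≠ 1) (y : G) (hy : y ∈ P) :
    ∃ k : ℤ, y = x ^ k := by
  have hx1' : (⟨x, hxP⟩ : P) ≠ 1 := fun hh => hx1 (congrArg Subtype.val hh)
  have hmem : (⟨y, hy⟩ : P) ∈ Subgroup.zpowers (⟨x, hxP⟩ : P) := mem_zpowers_of_prime_card hP hx1'
  obtain ⟨k, hk⟩ := Subgroup.mem_zpowers_iff.mp hmem
  refine ⟨k, ?_⟩
  have := congrArg Subtype.val hk
  simpa using this.symm

omit h b hk in
/-- the elements of `⟨u⟩`, `u` an involution -/
theorem mem_zpowers_invol (u : G) (hu : orderOf u = 2) (y : G) (hy : y ∈ Subgroup.zpowers u) :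
    y = 1 ∨ y = u := by
  obtain ⟨k, rfl⟩ := Subgroup.mem_zpowers_iff.mp hy
  rw [← zpow_mod_orderOf, hu]
  rcases Int.emod_two_eq_zero_or_one k with h0 | h0
  · left; rw [show ((2 : ℕ) : ℤ) = 2 from rfl, h0, zpow_zero]
  · right; rw [show ((2 : ℕ) : ℤ) = 2 from rfl, h0, zpow_one]

/-- case (d): `G ≅ A₅` -/
theorem concl_of_alt5 (e : G ≃* alternatingGroup (Fin 5)) : Concl G := by
  classical
  have hG60 : Nat.card G = 60 := by
    rw [Nat.card_congr e.toEquiv, nat_card_alternatingGroup]
    simp [Nat.factorial]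
  have hsimple : IsSimpleGroup G := e.isSimpleGroup
  have : Fact (Nat.Prime 5) := ⟨by norm_num⟩
  let P : Sylow 5 G := default
  have hP5 : Nat.card (P : Subgroup G) = 5 :=
    card_sylow_prime (p := 5) (n := 12) (by rw [hG60]) (by norm_num) P
  -- `P` is not normal
  have hPnn : ¬ (P : Subgroup G).Normal := by
    intro hPn
    rcases hPn.eq_bot_or_eq_top with h1 | h1
    · rw [h1, Subgroup.card_bot] at hP5; omega
    · rw [h1, Subgroup.card_top, hG60] at hP5; omega
  have hN10 : Nat.card (Subgroup.normalizer ((P : Subgroup G) : Set G)) = 10 := by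
    have h1 : Nat.card (Sylow 5 G) ≡ 1 [MOD 5] := card_sylow_modEq_one 5 G
    have h2 : Nat.card (Sylow 5 G) ∣ (P : Subgroup G).index := P.card_dvd_index
    have hidx : (P : Subgroup G).index = 12 := by
      have := (P : Subgroup G).card_mul_index
      rw [hP5, hG60] at this
      omega
    rw [hidx] at h2
    have h3 : Nat.card (Sylow 5 G) = 1 ∨ Nat.card (Sylow 5 G) = 6 := by
      have hle : Nat.card (Sylow 5 G) ≤ 12 := Nat.le_of_dvd (by norm_num) h2
      have hmod : Nat.card (Sylow 5 G) % 5 = 1 := h1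
      interval_cases hn : Nat.card (Sylow 5 G) <;> simp_all
    rw [P.card_eq_index_normalizer] at h3
    rcases h3 with h3 | h3
    · exfalso
      apply hPnn
      rw [Subgroup.index_eq_one] at h3
      exact Subgroup.normalizer_eq_top_iff.mp h3
    · have h4 := (Subgroup.normalizer ((P : Subgroup G) : Set G)).card_mul_index
      have h3' : (Subgroup.normalizer ((P : Subgroup G) : Set G)).index = 6 := h3
      rw [h3', hG60] at h4
      omega
  -- centralizers of the elements of `P`
  have hCN : ∀ x ∈ (P : Subgroup G), x ≠ 1 →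
      Subgroup.centralizer ({x} : Set G) ≤ Subgroup.normalizer ((P : Subgroup G) : Set G) := by
    intro x hx hx1 c hc
    have hcx : c * x = x * c := (mem_cent_iff x c).mp hc
    have hcomm : ∀ k : ℤ, c * x ^ k * c⁻¹ = x ^ k := by
      intro k
      have : c * x ^ k = x ^ k * c := ((Commute.zpow_right (show Commute c x from hcx)) k).eq
      rw [this, mul_assoc, mul_inv_cancel, mul_one]
    rw [Subgroup.mem_normalizer_iff]
    intro y
    constructor
    · intro hy
      obtain ⟨k, rfl⟩ := exists_zpow_of_prime_card (P : Subgroup G) hP5 x hx hx1 y hy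
      rw [hcomm k]; exact hy
    · intro hy
      obtain ⟨k, hk'⟩ := exists_zpow_of_prime_card (P : Subgroup G) hP5 x hx hx1 _ hy
      have : y = x ^ k := by
        have h1 : y = c⁻¹ * (c * y * c⁻¹) * c := by group
        rw [h1, hk']
        have h2 := hcomm k
        calc c⁻¹ * x ^ k * c = c⁻¹ * (c * x ^ k * c⁻¹) * c := by rw [h2]
          _ = x ^ k := by group
      rw [this]; exact Subgroup.zpow_mem _ hx k
  have hcent : ∀ x ∈ (P : Subgroup G), x ≠ 1 → Subgroup.centralizer ({x} : Set G) = P := by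
    intro x hx hx1
    exact cent_eq h b hk 5 (by norm_num) (P : Subgroup G) hP5 x hx hx1 _ 1
      (by rw [hN10]; norm_num) (hCN x hx hx1)
  -- an involution of `N(P)`
  obtain ⟨t', ht'⟩ := exists_prime_orderOf_dvd_card'
    (G := Subgroup.normalizer ((P : Subgroup G) : Set G)) 2 (by rw [hN10]; norm_num)
  have hu2 : orderOf (t' : G) = 2 := by rw [Subgroup.orderOf_coe]; exact ht'
  have hD2 : Nat.card (Subgroup.zpowers (t' : G)) = 2 := by rw [Nat.card_zpowers, hu2]
  have hu1 : (t' : G) ≠ 1 := by
    intro h0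
    rw [h0, orderOf_one] at hu2
    omega
  obtain ⟨hC4, hCsq⟩ := invol_cent h b hk (t' : G) hu2
  have hDC : Subgroup.zpowers (t' : G) ≤ Subgroup.centralizer ({(t' : G)} : Set G) := by
    rw [Subgroup.zpowers_le, mem_cent_iff]
  have hDlt : Subgroup.zpowers (t' : G) < Subgroup.centralizer ({(t' : G)} : Set G) := by
    refine lt_of_le_of_ne hDC ?_
    intro heq
    rw [heq, hC4] at hD2
    omega
  obtain ⟨u, huC, huD⟩ := SetLike.exists_of_lt hDlt
  have hu1' : u ≠ 1 := fun h0 => huD (h0 ▸ Subgroup.one_mem _)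
  have huo : orderOf u = 2 := orderOf_eq_prime (hCsq u huC) hu1'
  have hut : u * (t' : G) = (t' : G) * u := (mem_cent_iff _ u).mp huC
  -- the normalizer of `D`
  have hND : Subgroup.normalizer ((Subgroup.zpowers (t' : G) : Subgroup G) : Set G) ≤
      Subgroup.centralizer ({(t' : G)} : Set G) := by
    intro g hg
    have h1 := (Subgroup.mem_normalizer_iff.mp hg (t' : G)).mp (Subgroup.mem_zpowers _)
    rcases mem_zpowers_invol (t' : G) hu2 _ h1 with h2 | h2
    · exfalso
      apply hu1
      have : (t' : G) = g⁻¹ * (g * (t' : G) * g⁻¹) * g := by group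
      rw [this, h2]; group
    · rw [mem_cent_iff]
      calc g * (t' : G) = (g * (t' : G) * g⁻¹) * g := by group
        _ = (t' : G) * g := by rw [h2]
  have hCND : ∀ c : G, c * (t' : G) = (t' : G) * c →
      c ∈ Subgroup.normalizer ((Subgroup.zpowers (t' : G) : Subgroup G) : Set G) := by
    intro c hc
    have hcomm : ∀ k : ℤ, c * (t' : G) ^ k * c⁻¹ = (t' : G) ^ k := by
      intro k
      have : c * (t' : G) ^ k = (t' : G) ^ k * c :=
        ((Commute.zpow_right (show Commute c (t' : G) from hc)) k).eq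
      rw [this, mul_assoc, mul_inv_cancel, mul_one]
    rw [Subgroup.mem_normalizer_iff]
    intro y
    constructor
    · intro hy
      obtain ⟨k, rfl⟩ := Subgroup.mem_zpowers_iff.mp hy
      rw [hcomm k]; exact hy
    · intro hy
      obtain ⟨k, hk'⟩ := Subgroup.mem_zpowers_iff.mp hy
      have : y = (t' : G) ^ k := by
        have h1 : y = c⁻¹ * (c * y * c⁻¹) * c := by group
        rw [h1, ← hk']
        have h2 := hcomm k
        calc c⁻¹ * (t' : G) ^ k * c = c⁻¹ * (c * (t' : G) ^ k * c⁻¹) * c := by rw [h2]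
          _ = (t' : G) ^ k := by group
      rw [this]; exact Subgroup.zpow_mem _ (Subgroup.mem_zpowers _) k
  have hNDeq : Subgroup.normalizer ((Subgroup.zpowers (t' : G) : Subgroup G) : Set G) =
      Subgroup.zpowers (t' : G) ⊔ Subgroup.zpowers u := by
    have hle : Subgroup.zpowers (t' : G) ⊔ Subgroup.zpowers u ≤
        Subgroup.normalizer ((Subgroup.zpowers (t' : G) : Subgroup G) : Set G) := by
      refine sup_le Subgroup.le_normalizer ?_
      rw [Subgroup.zpowers_le]
      exact hCND u hut
    refine (Subgroup.eq_of_le_of_card_ge hle ?_).symm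
    have h1 : Nat.card (Subgroup.normalizer ((Subgroup.zpowers (t' : G) : Subgroup G) : Set G)) ≤ 4 := by
      rw [← hC4]; exact Subgroup.card_le_of_le hND
    have h2 : 2 ∣ Nat.card ↥(Subgroup.zpowers (t' : G) ⊔ Subgroup.zpowers u) := by
      rw [← hD2]; exact Subgroup.card_dvd_of_le le_sup_left
    have h3 : Nat.card ↥(Subgroup.zpowers (t' : G) ⊔ Subgroup.zpowers u) ≠ 2 := by
      intro h3
      have h4 : Subgroup.zpowers (t' : G) = Subgroup.zpowers (t' : G) ⊔ Subgroup.zpowers u :=
        Subgroup.eq_of_le_of_card_ge le_sup_left (by rw [h3, hD2])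
      apply huD
      rw [h4]
      exact (le_sup_right : Subgroup.zpowers u ≤ _) (Subgroup.mem_zpowers u)
    have h4 : 0 < Nat.card ↥(Subgroup.zpowers (t' : G) ⊔ Subgroup.zpowers u) := Nat.card_pos
    omega
  have hdisj : (P : Subgroup G) ⊓ Subgroup.zpowers (t' : G) = ⊥ :=
    (Subgroup.disjoint_of_coprime_natCard (by rw [hP5, hD2]; norm_num)).eq_bot
  have hNP : Subgroup.normalizer ((P : Subgroup G) : Set G) =
      (P : Subgroup G) ⊔ Subgroup.zpowers (t' : G) := by
    have hle : (P : Subgroup G) ⊔ Subgroup.zpowers (t' : G) ≤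
        Subgroup.normalizer ((P : Subgroup G) : Set G) := by
      refine sup_le Subgroup.le_normalizer ?_
      rw [Subgroup.zpowers_le]
      exact t'.2
    refine (Subgroup.eq_of_le_of_card_ge hle ?_).symm
    have h1 : 5 ∣ Nat.card ↥((P : Subgroup G) ⊔ Subgroup.zpowers (t' : G)) := by
      have h0 := Subgroup.card_dvd_of_le
        (le_sup_left : (P : Subgroup G) ≤ (P : Subgroup G) ⊔ Subgroup.zpowers (t' : G))
      rwa [hP5] at h0
    have h2 : 2 ∣ Nat.card ↥((P : Subgroup G) ⊔ Subgroup.zpowers (t' : G)) := by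
      rw [← hD2]; exact Subgroup.card_dvd_of_le le_sup_right
    have h4 : 0 < Nat.card ↥((P : Subgroup G) ⊔ Subgroup.zpowers (t' : G)) := Nat.card_pos
    rw [hN10]
    omega
  refine ⟨(P : Subgroup G), Subgroup.zpowers (t' : G), ?_, hcent, inferInstance, ?_, hdisj, hNP, ?_⟩
  · rw [hG60, hP5]
  · rw [hD2, hP5]
  · intro X hX hX1
    have hXD : X = Subgroup.zpowers (t' : G) := by
      refine Subgroup.eq_of_le_of_card_ge hX ?_
      have h1 : Nat.card X ∣ 2 := by rw [← hD2]; exact Subgroup.card_dvd_of_le hX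
      have h2 : Nat.card X ≠ 1 := fun h2 => hX1 (Subgroup.card_eq_one.mp h2)
      have h3 : Nat.card X = 1 ∨ Nat.card X = 2 := (Nat.dvd_prime Nat.prime_two).mp h1
      rw [hD2]
      omega
    subst hXD
    refine ⟨rfl, u, huo, huD, ?_, hNDeq⟩
    intro d hd
    have hdC := hDC hd
    have hd2 := hCsq d hdC
    have hdi : d⁻¹ = d := by
      rw [pow_two] at hd2
      exact inv_eq_of_mul_eq_one_left hd2
    obtain ⟨k, rfl⟩ := Subgroup.mem_zpowers_iff.mp hd
    rw [hdi]
    have : u * (t' : G) ^ k = (t' : G) ^ k * u :=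
      ((Commute.zpow_right (show Commute u (t' : G) from hut)) k).eq
    rw [this, mul_assoc, mul_inv_cancel, mul_one]

/-- **Module [F3]**: the case `|K| = 2` of the abstract Brauer-Suzuki-Wall theorem. -/
theorem concl_of_two : Concl G := by
  have ha := not_hasNormalPComplement h b hk
  have hne : ∀ E : Subgroup G, E.Normal → Cfsg.IsElementaryAbelian 2 E →
      (Nat.card E = 2 ∨ Nat.card E = 4) → Concl G := by
    intro E hE hEab hc
    rcases hc with hc | hc
    · exact (no_normal_two h b hk E hE hc).elim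
    · exact concl_of_normal_four h b hk E hE hEab hc
  by_cases hex : ∃ E : Subgroup G, E.Normal ∧ Cfsg.IsElementaryAbelian 2 E ∧
      (Nat.card E = 2 ∨ Nat.card E = 4)
  · obtain ⟨E, hE, hEab, hc⟩ := hex
    exact hne E hE hEab hc
  · have hne' : ∀ E : Subgroup G, E.Normal → Cfsg.IsElementaryAbelian 2 E →
        Nat.card ↥E ≠ 2 ∧ Nat.card ↥E ≠ 4 := by
      intro E hE hEab
      constructor
      · intro hc; exact hex ⟨E, hE, hEab, Or.inl hc⟩
      · intro hc; exact hex ⟨E, hE, hEab, Or.inr hc⟩
    obtain ⟨e⟩ := Cfsg.Agent.S3277.result t h.ht (card_V h b hk) (sq_V h b hk) ha hne'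
    exact concl_of_alt5 h b hk e

end two

end Cfsg.Agent.Lib.Helper73.BSW
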