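import Mathlib

set_option autoImplicit false
open Pointwise

namespace Cfsg.Agent.Lib.Helper73

/-- Membership in a conjugate subgroup, in elementwise form. -/
theorem mem_conj_smul_iff {G : Type*} [Group G] (M : Subgroup G) (c x : G) :
    x ∈ MulAut.conj c • M ↔ c⁻¹ * x * c ∈ M := by
  rw [Subgroup.mem_pointwise_smul_iff_inv_smul_mem]
  simp [MulAut.smul_def]

/-- In a finite group, the conjugates of a proper subgroup do not cover the group. -/
theorem exists_not_mem_conj_of_ne_top {G : Type*} [Group G] [Finite G] (M : Subgroup G)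
    (hM : M ≠ ⊤) : ∃ g : G, ∀ c : G, g ∉ MulAut.conj c • M := by
  by_contra hcon
  push Not at hcon
  -- the map (q, m) ↦ q.out * m * q.out⁻¹ is surjective
  let f : (G ⧸ M) × M → G := fun qm => qm.1.out * (qm.2 : G) * (qm.1.out)⁻¹
  have hsurj : Function.Surjective f := by
    intro g
    obtain ⟨c, hc⟩ := hcon g
    rw [mem_conj_smul_iff] at hc
    -- q = [c]; q.out = c * m0 with m0 ∈ M
    have hout : c⁻¹ * (QuotientGroup.mk c : G ⧸ M).out ∈ M := by
      have := QuotientGroup.mk_out_eq_mul M c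
      obtain ⟨h, hh⟩ := this
      rw [hh]
      simp
    set d := (QuotientGroup.mk c : G ⧸ M).out with hd
    refine ⟨(QuotientGroup.mk c, ⟨d⁻¹ * g * d, ?_⟩), ?_⟩
    · have h1 : d⁻¹ * g * d = (c⁻¹ * d)⁻¹ * (c⁻¹ * g * c) * (c⁻¹ * d) := by group
      rw [h1]
      exact M.mul_mem (M.mul_mem (M.inv_mem hout) hc) hout
    · simp only [f]
      rw [← hd]
      group
  have hcard : Nat.card ((G ⧸ M) × M) ≤ Nat.card G := by
    rw [Nat.card_congr (Subgroup.groupEquivQuotientProdSubgroup (s := M))]
  have hbij := hsurj.bijective_of_nat_card_le hcard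
  -- but f (q, 1) = 1 for all q
  have hsub : Subsingleton (G ⧸ M) := by
    constructor
    intro q₁ q₂
    have : f (q₁, 1) = f (q₂, 1) := by simp [f]
    have := hbij.1 this
    exact (Prod.mk.inj this).1
  apply hM
  rw [← Subgroup.index_eq_one, Subgroup.index, Nat.card_eq_one_iff_unique]
  exact ⟨hsub, ⟨QuotientGroup.mk 1⟩⟩

end Cfsg.Agent.Lib.Helper73
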