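import Cfsg.Agent.Lib.Helper53.SUReg.Gram

set_option autoImplicit false
set_option linter.unusedSectionVars false
set_option linter.unusedVariables false

/-!
helper73, S2282, modules [REC] and [SPANZ]: the linear recurrence of the orbit `a_k = uvec q u a k`
coming from `(u - 1)^n = 0`, and the orbit window `a_{-m}, …, a_m` spans.
-/

namespace Cfsg.Agent.Lib.Helper73.SUReg

open Matrix Cfsg.Agent.S0837 Cfsg.Agent.S0781 Cfsg.Agent.S2644 Cfsg.Agent.Lib.Helper53.SUReg

variable {n : ℕ} {F : Type*} [Field F] {σ : F →+* F} {q : ℕ}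
variable {m : ℕ} {u : ↥(Cfsg.SU n F q)} {a : Fin n → F} {φ : F}

local notation "SLn" => Matrix.SpecialLinearGroup (Fin n) F
local notation "Mn" => Matrix (Fin n) (Fin n) F

theorem negOne_pow_mulVec' {ι : Type*} [Fintype ι] [DecidableEq ι] (j : ℕ) (v : ι → F) :
    ((-1 : Matrix ι ι F) ^ j) *ᵥ v = ((-1 : F) ^ j) • v := by
  induction j with
  | zero => simp
  | succ j ih =>
    rw [pow_succ, ← Matrix.mulVec_mulVec, Matrix.neg_mulVec, Matrix.one_mulVec, Matrix.mulVec_neg, ih,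
      pow_succ]
    simp

theorem pow_mulVec_uvec (k : ℕ) (j : ℤ) :
    (((u : SLn) : Mn) ^ k) *ᵥ uvec q u a j = uvec q u a (j + k) := by
  have h := uvec_zpow (u := u) (a := a) (k : ℤ) j
  rw [zpow_natCast] at h
  rw [← h]
  congr 1

/-- binomial expansion of `(u - 1)^N` along the orbit, starting at `a_j` -/
theorem sub_one_pow_mulVec_uvec (N : ℕ) (j : ℤ) :
    ((((u : SLn) : Mn) - 1) ^ N) *ᵥ uvec q u a j =
      ∑ k ∈ Finset.range (N + 1), ((-1 : F) ^ (N - k) * ((N.choose k : ℕ) : F)) •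
        uvec q u a (j + k) := by
  have hexp : (((u : SLn) : Mn) - 1) ^ N =
      ∑ k ∈ Finset.range (N + 1), ((u : SLn) : Mn) ^ k * (-1) ^ (N - k) *
        ((N.choose k : ℕ) : Mn) := by
    rw [sub_eq_add_neg]
    exact (Commute.neg_one_right _).add_pow N
  rw [hexp, Matrix.sum_mulVec]
  apply Finset.sum_congr rfl
  intro k _
  rw [← Matrix.mulVec_mulVec, ← Matrix.mulVec_mulVec, Matrix.natCast_mulVec, Matrix.mulVec_smul,
    negOne_pow_mulVec', Matrix.mulVec_smul, Matrix.mulVec_smul, pow_mulVec_uvec, smul_smul, mul_comm]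

/-- S2282-[REC] -/
theorem uvec_rec (hn : n = 2 * m + 1) (hg : UGood σ q m u a φ) :
    ∃ ν : ℤ → F, uvec q u a (-(m : ℤ) - 1) =
      uvec q u a m + ∑ k ∈ Finset.Ico (-(m : ℤ)) m, ν k • uvec q u a k := by
  have hnil : (((u : SLn) : Mn) - 1) ^ (2 * m + 1) = 0 := by
    rw [← hn]; exact hg.nil
  have h1 := sub_one_pow_mulVec_uvec (u := u) (a := a) (2 * m + 1) (-(m : ℤ) - 1)
  rw [hnil, Matrix.zero_mulVec, Finset.sum_range_succ, Finset.sum_range_succ'] at h1
  refine ⟨fun j => ((-1 : F) ^ (2 * m + 1 - ((j + m).toNat + 1)) *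
    (((2 * m + 1).choose ((j + m).toNat + 1) : ℕ) : F)), ?_⟩
  have hmid : ∑ i ∈ Finset.range (2 * m),
      ((-1 : F) ^ (2 * m + 1 - (i + 1)) * (((2 * m + 1).choose (i + 1) : ℕ) : F)) •
        uvec q u a (-(m : ℤ) - 1 + ((i + 1 : ℕ) : ℤ)) =
      ∑ j ∈ Finset.Ico (-(m : ℤ)) m,
        ((-1 : F) ^ (2 * m + 1 - ((j + m).toNat + 1)) *
          (((2 * m + 1).choose ((j + m).toNat + 1) : ℕ) : F)) • uvec q u a j := by
    refine Finset.sum_nbij' (fun i => (i : ℤ) - m) (fun j => (j + m).toNat) ?_ ?_ ?_ ?_ ?_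
    · intro i hi
      rw [Finset.mem_range] at hi
      rw [Finset.mem_Ico]
      constructor <;> omega
    · intro j hj
      rw [Finset.mem_Ico] at hj
      rw [Finset.mem_range]
      omega
    · intro i hi
      simp
    · intro j hj
      rw [Finset.mem_Ico] at hj
      have : 0 ≤ j + m := by omega
      rw [Int.toNat_of_nonneg this]
      ring
    · intro i hi
      have h1 : ((i : ℤ) - m + m).toNat = i := by simp
      rw [h1]
      congr 2
      push_cast
      ring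
  rw [hmid] at h1
  have h0 : ((-1 : F) ^ (2 * m + 1 - 0) * (((2 * m + 1).choose 0 : ℕ) : F)) •
      uvec q u a (-(m : ℤ) - 1 + ((0 : ℕ) : ℤ)) = - uvec q u a (-(m : ℤ) - 1) := by
    have : (-1 : F) ^ (2 * m + 1 - 0) = -1 := by
      rw [Nat.sub_zero, pow_succ, pow_mul]; simp
    rw [this]
    simp
  have hlast : ((-1 : F) ^ (2 * m + 1 - (2 * m + 1)) *
      (((2 * m + 1).choose (2 * m + 1) : ℕ) : F)) •
      uvec q u a (-(m : ℤ) - 1 + ((2 * m + 1 : ℕ) : ℤ)) = uvec q u a m := by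
    have h2 : (-(m : ℤ) - 1 + ((2 * m + 1 : ℕ) : ℤ)) = m := by push_cast; ring
    rw [h2]
    simp
  rw [h0, hlast] at h1
  -- h1 : 0 = Σ_mid + (-a_{-m-1}) + a_m
  have := h1
  rw [eq_comm, add_assoc, add_comm, add_assoc] at this
  have h4 := eq_neg_of_add_eq_zero_left this
  exact neg_injective h4

/-- S2282-[SPANZ] -/
theorem uvec_spanZ (hn : n = 2 * m + 1) (hg : UGood σ q m u a φ) (v : Fin n → F) :
    ∃ c : ℤ → F, v = ∑ k ∈ Finset.Icc (-(m : ℤ)) m, c k • uvec q u a k := by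
  have hspan := hg.span ((((u ^ (m : ℤ) : ↥(Cfsg.SU n F q)) : SLn) : Mn) *ᵥ v)
  rw [Submodule.mem_span_range_iff_exists_fun] at hspan
  obtain ⟨c, hc⟩ := hspan
  -- apply u^(-m)
  have hv : v = ∑ i : Fin n, c i • uvec q u a (((i : ℕ) : ℤ) - m) := by
    have h1 := congrArg (fun w => (((u ^ (-(m : ℤ)) : ↥(Cfsg.SU n F q)) : SLn) : Mn) *ᵥ w) hc
    beta_reduce at h1
    rw [← mul_mulVec, ← _root_.zpow_add, neg_add_cancel, zpow_zero, one_mulVec',
      Matrix.mulVec_sum] at h1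
    rw [← h1]
    apply Finset.sum_congr rfl
    intro i _
    rw [Matrix.mulVec_smul, uvec_zpow]
    rfl
  let c' : ℕ → F := fun i => if h : i < n then c ⟨i, h⟩ else 0
  refine ⟨fun k => c' (k + m).toNat, ?_⟩
  rw [hv]
  have h2 : ∑ i : Fin n, c i • uvec q u a (((i : ℕ) : ℤ) - m) =
      ∑ i ∈ Finset.range n, c' i • uvec q u a ((i : ℤ) - m) := by
    rw [← Fin.sum_univ_eq_sum_range (fun i => c' i • uvec q u a ((i : ℤ) - m)) n]
    apply Finset.sum_congr rfl
    intro i _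
    have : c' (i : ℕ) = c i := by
      simp only [c', i.isLt, dif_pos]
    rw [this]
  rw [h2]
  refine Finset.sum_nbij' (fun i => (i : ℤ) - m) (fun j => (j + m).toNat) ?_ ?_ ?_ ?_ ?_
  · intro i hi
    rw [Finset.mem_range] at hi
    rw [Finset.mem_Icc]
    constructor <;> omega
  · intro j hj
    rw [Finset.mem_Icc] at hj
    rw [Finset.mem_range]
    omega
  · intro i hi
    simp
  · intro j hj
    rw [Finset.mem_Icc] at hj
    have : 0 ≤ j + m := by omega
    rw [Int.toNat_of_nonneg this]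
    ring
  · intro i hi
    have h1 : ((i : ℤ) - m + m).toNat = i := by simp
    simp only [h1]

end Cfsg.Agent.Lib.Helper73.SUReg
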