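/-
helper73: BHRSU5-[C-FACTS] (project BHRSU5 = S5796, sheet of helper37): the concrete facts about `Zc, Pc, Sc, Tc, Cc`.
-/
import Mathlib
import Cfsg.Prelude.Def_GeometricClasses
import Cfsg.Prelude.Def_ClassicalGeometry
import Cfsg.Agent.Lib.Helper56.F4
import Cfsg.Agent.Lib.Helper5.UnitaryGroup
import Cfsg.Agent.Lib.Helper37.BHRSU.Defs
import Cfsg.Agent.Lib.Helper37.BHRSU5.Defs

set_option autoImplicit false

namespace Cfsg.Agent.Lib.Helper73.Bhrsu5CF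

open Cfsg.Agent.Lib.Helper37.BHRSU5

set_option maxRecDepth 100000

theorem cf_eq_one_of_pow_eleven : ∀ x : F4c, x ^ 11 = 1 → x = 1 := by decide
theorem cf_eq_one_of_pow_five : ∀ x : F4c, x ^ 5 = 1 → x = 1 := by decide
theorem cf_eq_one_of_sq : ∀ x : F4c, x * x = 1 → x = 1 := by decide
theorem cf_Tc_mul_Tc : Tc * Tc = 1 := by decide

end Cfsg.Agent.Lib.Helper73.Bhrsu5CF

namespace Cfsg.Agent.Lib.Helper37.BHRSU5

open Cfsg Cfsg.Geo Cfsg.Agent.Lib.Helper37.BHRSU Cfsg.Agent.Lib.Helper70.AschU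
open Cfsg.Agent.Lib.Helper56.F4 (w v)
open scoped MatrixGroups Matrix
open Cfsg.Agent.Lib.Helper73.Bhrsu5CF

set_option maxRecDepth 100000

theorem isU_Zc : IsU Zc := by decide
theorem isU_Pc : IsU Pc := by decide
theorem isU_Sc : IsU Sc := by decide
theorem isU_Tc : IsU Tc := by decide
theorem Zc_pow_eleven : Zc ^ 11 = 1 := by decide
theorem g1_Zc : g1 Zc = 0 := by decide
/-- the roots of `g₁` in `K0` -/
theorem g1_Zc_pow : g1 (Zc ^ 3) = 0 ∧ g1 (Zc ^ 4) = 0 ∧ g1 (Zc ^ 5) = 0 ∧ g1 (Zc ^ 9) = 0 := by decide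
theorem Zc_pow_injOn : ∀ a b : Fin 11, Zc ^ (a : ℕ) = Zc ^ (b : ℕ) → a = b := by decide
theorem Pc_mul_Zc : Pc * Zc = Zc ^ 4 * Pc := by decide
theorem Pc_pow_five : Pc ^ 5 = 1 := by decide
theorem Sc_mul_Sc : Sc * Sc = 1 := by decide
/-- `Sc Zc Sc⁻¹` does not commute with `Zc` -/
theorem Sc_conj_not_commute : Sc * Zc * Sc * Zc ≠ Zc * (Sc * Zc * Sc) := by decide
/-- `e₀` is a cyclic vector of `Zc` -/
theorem Cc_col (j : Fin 5) : (fun i => Cc i j) = (Zc ^ (j : ℕ)) *ᵥ (Pi.single 0 1 : Fin 5 → F4c) := by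
  revert j; decide
theorem Cci_mul_Cc : Cci * Cc = 1 := by decide

/-! ### Determinants -/


/-- determinants -/
theorem det_Zc : Zc.det = 1 := by
  apply cf_eq_one_of_pow_eleven
  rw [← Matrix.det_pow, Zc_pow_eleven, Matrix.det_one]
theorem det_Pc : Pc.det = 1 := by
  apply cf_eq_one_of_pow_five
  rw [← Matrix.det_pow, Pc_pow_five, Matrix.det_one]
theorem det_Sc : Sc.det = 1 := by
  apply cf_eq_one_of_sq
  rw [← Matrix.det_mul, Sc_mul_Sc, Matrix.det_one]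
theorem det_Tc : Tc.det = 1 := by
  apply cf_eq_one_of_sq
  rw [← Matrix.det_mul, cf_Tc_mul_Tc, Matrix.det_one]
/-- the scalar `w` is not of determinant 1 -/
theorem det_w : ((w : F4c) • (1 : M5)).det ≠ 1 ∧ ((v : F4c) • (1 : M5)).det ≠ 1 := by
  rw [Matrix.det_smul, Matrix.det_smul, Matrix.det_one, mul_one, mul_one, Fintype.card_fin]
  decide

end Cfsg.Agent.Lib.Helper37.BHRSU5
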