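import Mathlib

/-!
# MODULE [DG-DICH] for S4811 (helper73, for helper80)

Group part of Isaacs 12.3: a finite solvable nonabelian group `Q` in which every nontrivial
normal subgroup contains `Q'` is a `p`-group, or `Q'` is an abelian `q`-group on which every
element outside `Q'` acts fixed-point-freely.
-/

set_option autoImplicit false

namespace Cfsg.Agent.Lib.Helper73.DGDich

open Subgroup
open scoped commutatorElement

variable {Q : Type*} [Group Q]

theorem mem_cent_singleton (g k : Q) : k ∈ Subgroup.centralizer ({g} : Set Q) ↔ k * g = g * k := by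
  rw [Subgroup.mem_centralizer_iff]
  constructor
  · intro h; exact (h g rfl).symm
  · intro h y hy
    rw [Set.mem_singleton_iff] at hy
    subst hy
    exact h.symm

theorem mem_cent_set (A : Subgroup Q) (k : Q) :
    k ∈ Subgroup.centralizer (A : Set Q) ↔ ∀ a ∈ A, k * a = a * k := by
  rw [Subgroup.mem_centralizer_iff]
  constructor
  · intro h a ha; exact (h a ha).symm
  · intro h a ha; exact (h a ha).symm

/-- every commutator lies in `commutator Q` -/
theorem comm_mem (a b : Q) : a * b * a⁻¹ * b⁻¹ ∈ commutator Q := by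
  have h : ⁅a, b⁆ ∈ ⁅(⊤ : Subgroup Q), (⊤ : Subgroup Q)⁆ :=
    Subgroup.commutator_mem_commutator (Subgroup.mem_top a) (Subgroup.mem_top b)
  rw [commutatorElement_def] at h
  exact h

/-- the centraliser of `g` in an abelian normal subgroup `A ≥ Q'`, extended by any subgroup `C`
centralising `A`, is normal. Here in the form: `K = C ⊓ C(g)` with `C` normal centralising `A`. -/
theorem conj_mem_cent (A : Subgroup Q) (hA : commutator Q ≤ A) (g k x : Q)
    (hkA : ∀ a ∈ A, k * a = a * k) (hkg : k * g = g * k) :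
    (x * k * x⁻¹) * g = g * (x * k * x⁻¹) := by
  -- g' = x⁻¹ g x = g * c, c ∈ A
  have hc : g⁻¹ * x⁻¹ * g * x ∈ A := by
    have := comm_mem g⁻¹ x⁻¹
    simp only [inv_inv] at this
    exact hA this
  have h1 := hkA _ hc
  -- k commutes with g * c = x⁻¹ g x
  have h2 : k * (x⁻¹ * g * x) = (x⁻¹ * g * x) * k := by
    have e : x⁻¹ * g * x = g * (g⁻¹ * x⁻¹ * g * x) := by group
    rw [e]
    generalize g⁻¹ * x⁻¹ * g * x = c at h1
    calc k * (g * c) = (k * g) * c := (mul_assoc k g c).symm
      _ = (g * k) * c := by rw [hkg]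
      _ = g * (k * c) := mul_assoc g k c
      _ = g * (c * k) := by rw [h1]
      _ = g * c * k := (mul_assoc g c k).symm
  calc (x * k * x⁻¹) * g = x * (k * (x⁻¹ * g * x)) * x⁻¹ := by group
    _ = x * ((x⁻¹ * g * x) * k) * x⁻¹ := by rw [h2]
    _ = g * (x * k * x⁻¹) := by group

/-- MODULE [DG-DICH] -/
theorem dichotomy_of_commutator_minimal {Q : Type*} [Group Q] [Finite Q] [Group.IsSolvable Q]
    (hnonab : ∃ a b : Q, a * b ≠ b * a)
    (hmin : ∀ L : Subgroup Q, L.Normal → L ≠ ⊥ → commutator Q ≤ L) :
    (∃ p : ℕ, p.Prime ∧ IsPGroup p Q) ∨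
    ((∀ a ∈ commutator Q, ∀ b ∈ commutator Q, a * b = b * a) ∧
     (∃ q : ℕ, q.Prime ∧ IsPGroup q (commutator Q)) ∧
     ∀ g : Q, g ∉ commutator Q → ∀ a ∈ commutator Q, g * a = a * g → a = 1) := by
  classical
  set A : Subgroup Q := commutator Q with hAdef
  have hAn : A.Normal := by rw [hAdef]; infer_instance
  -- A ≠ ⊥
  have hAne : A ≠ ⊥ := by
    intro h
    obtain ⟨a, b, hab⟩ := hnonab
    have := comm_mem a b
    rw [← hAdef, h, Subgroup.mem_bot] at this
    apply hab
    calc a * b = (a * b * a⁻¹ * b⁻¹) * b * a := by group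
      _ = b * a := by rw [this, one_mul]
  -- (1) A abelian
  have hAab : ∀ a ∈ A, ∀ b ∈ A, a * b = b * a := by
    have hAA : ⁅A, A⁆ = ⊥ := by
      by_contra hne
      have hn : (⁅A, A⁆).Normal := Subgroup.commutator_normal A A
      have hle : A ≤ ⁅A, A⁆ := hmin _ hn hne
      have : Nontrivial A := by
        rw [Subgroup.nontrivial_iff_ne_bot]; exact hAne
      have hlt := Group.IsSolvable.commutator_lt_top_of_nontrivial (↥A)
      have hmap := Subgroup.map_subtype_commutator A
      have : commutator ↥A = ⊤ := by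
        rw [eq_top_iff]
        intro a _
        have ha : (a : Q) ∈ ⁅A, A⁆ := hle a.2
        rw [← hmap] at ha
        obtain ⟨b, hb, hba⟩ := ha
        have : b = a := Subtype.ext hba
        rw [← this]; exact hb
      exact absurd this (ne_of_lt hlt)
    intro a ha b hb
    have h1 : ⁅a, b⁆ ∈ ⁅A, A⁆ := Subgroup.commutator_mem_commutator ha hb
    rw [hAA, Subgroup.mem_bot, commutatorElement_def] at h1
    calc a * b = (a * b * a⁻¹ * b⁻¹) * b * a := by group
      _ = b * a := by rw [h1, one_mul]
  -- (2) A is a q-group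
  have hAcard : 1 < Nat.card A := by
    rw [Subgroup.one_lt_card_iff_ne_bot]; exact hAne
  obtain ⟨q, hq, hqdvd⟩ := Nat.exists_prime_and_dvd (ne_of_gt hAcard)
  haveI : Fact q.Prime := ⟨hq⟩
  have hAq : IsPGroup q A := by
    -- S = q-torsion of A
    let S : Subgroup Q :=
      { carrier := {a | a ∈ A ∧ ∃ n : ℕ, a ^ q ^ n = 1}
        one_mem' := ⟨A.one_mem, 0, by simp⟩
        mul_mem' := by
          rintro a b ⟨ha, n, hn⟩ ⟨hb, m, hm⟩
          refine ⟨A.mul_mem ha hb, n + m, ?_⟩
          have hc : Commute a b := hAab a ha b hb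
          rw [hc.mul_pow, pow_add, pow_mul, hn, one_pow, mul_comm (q ^ n), pow_mul, hm, one_pow,
            one_mul]
        inv_mem' := by
          rintro a ⟨ha, n, hn⟩
          exact ⟨A.inv_mem ha, n, by rw [inv_pow, hn, inv_one]⟩ }
    have hSn : S.Normal := by
      constructor
      rintro a ⟨ha, n, hn⟩ x
      refine ⟨hAn.conj_mem a ha x, n, ?_⟩
      rw [conj_pow, hn, mul_one, mul_inv_cancel]
    have hSne : S ≠ ⊥ := by
      obtain ⟨x, hx⟩ := exists_prime_orderOf_dvd_card' (G := A) q hqdvd
      intro h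
      have hxS : (x : Q) ∈ S := by
        refine ⟨x.2, 1, ?_⟩
        rw [pow_one]
        have : x ^ q = 1 := by rw [← hx]; exact pow_orderOf_eq_one x
        have := congrArg (Subtype.val) this
        simpa using this
      rw [h, Subgroup.mem_bot] at hxS
      have : x = 1 := Subtype.ext hxS
      rw [this, orderOf_one] at hx
      exact hq.one_lt.ne hx
    have hAS : A ≤ S := hmin S hSn hSne
    intro a
    obtain ⟨_, n, hn⟩ := hAS a.2
    exact ⟨n, Subtype.ext (by simpa using hn)⟩
  -- (3) C_A(g) is trivial or everything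
  have h3 : ∀ g : Q, (∀ a ∈ A, g * a = a * g → a = 1) ∨ (∀ a ∈ A, g * a = a * g) := by
    intro g
    let K : Subgroup Q := A ⊓ Subgroup.centralizer {g}
    have hKn : K.Normal := by
      constructor
      intro k hk x
      rw [Subgroup.mem_inf] at hk ⊢
      obtain ⟨hkA, hkg⟩ := hk
      rw [mem_cent_singleton] at hkg ⊢
      exact ⟨hAn.conj_mem k hkA x,
        conj_mem_cent A le_rfl g k x (fun a ha => hAab k hkA a ha) hkg⟩
    by_cases hK : K = ⊥
    · left
      intro a ha hga
      have : a ∈ K := by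
        rw [Subgroup.mem_inf, mem_cent_singleton]
        exact ⟨ha, hga.symm⟩
      rw [hK, Subgroup.mem_bot] at this
      exact this
    · right
      intro a ha
      have : a ∈ K := hmin K hKn hK ha
      rw [Subgroup.mem_inf, mem_cent_singleton] at this
      exact this.2.symm
  -- case split: A central or not
  by_cases hAZ : ∀ a ∈ A, ∀ g : Q, g * a = a * g
  · -- central case: Q is a q-group
    left
    refine ⟨q, hq, ?_⟩
    have hprime : ∀ {r : ℕ}, r.Prime → r ∣ Nat.card Q → r = q := by
      intro r hr hrdvd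
      by_contra hrq
      haveI : Fact r.Prime := ⟨hr⟩
      obtain ⟨x, hx⟩ := exists_prime_orderOf_dvd_card' (G := Q) r hrdvd
      -- x is central
      have hxc : ∀ y : Q, x * y = y * x := by
        intro y
        have hcA : x * y * x⁻¹ * y⁻¹ ∈ A := comm_mem x y
        set c := x * y * x⁻¹ * y⁻¹ with hc
        have hcZ : ∀ g : Q, g * c = c * g := hAZ c hcA
        -- x^n y x^-n y^-1 = c^n
        have hpow : ∀ n : ℕ, x ^ n * y * (x ^ n)⁻¹ * y⁻¹ = c ^ n := by
          intro n
          induction n with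
          | zero => simp
          | succ n ih =>
            calc x ^ (n + 1) * y * (x ^ (n + 1))⁻¹ * y⁻¹
                = x ^ n * (x * y * x⁻¹ * y⁻¹) * y * (x ^ n)⁻¹ * y⁻¹ := by
                  rw [pow_succ]; group
              _ = x ^ n * c * y * (x ^ n)⁻¹ * y⁻¹ := by rw [hc]
              _ = c * (x ^ n * y * (x ^ n)⁻¹ * y⁻¹) := by
                  rw [hcZ (x ^ n)]; group
              _ = c ^ (n + 1) := by rw [ih, pow_succ']
        have hcr : c ^ r = 1 := by
          rw [← hpow r, ← hx, pow_orderOf_eq_one]; group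
        obtain ⟨n, hn⟩ := hAq ⟨c, hcA⟩
        have hcq : c ^ q ^ n = 1 := by
          have := congrArg Subtype.val hn
          simpa using this
        have hcop : Nat.Coprime r (q ^ n) :=
          Nat.Coprime.pow_right n ((Nat.coprime_primes hr hq).mpr hrq)
        have hc1 : c = 1 := by
          have h1 : orderOf c ∣ r := orderOf_dvd_of_pow_eq_one hcr
          have h2 : orderOf c ∣ q ^ n := orderOf_dvd_of_pow_eq_one hcq
          have : orderOf c ∣ 1 := by
            have := Nat.dvd_gcd h1 h2
            rwa [hcop] at this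
          exact orderOf_eq_one_iff.mp (Nat.dvd_one.mp this)
        calc x * y = (x * y * x⁻¹ * y⁻¹) * y * x := by group
          _ = y * x := by rw [← hc, hc1, one_mul]
      -- zpowers x is normal, nontrivial
      have hZn : (Subgroup.zpowers x).Normal := by
        constructor
        intro z hz g
        obtain ⟨k, rfl⟩ := hz
        have : g * x ^ k * g⁻¹ = x ^ k := by
          have hcomm : Commute g x := (hxc g).symm
          have := (hcomm.zpow_right k).eq
          rw [this]; group
        rw [this]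
        exact ⟨k, rfl⟩
      have hZne : Subgroup.zpowers x ≠ ⊥ := by
        intro h
        rw [Subgroup.zpowers_eq_bot] at h
        rw [h, orderOf_one] at hx
        exact hr.one_lt.ne hx
      have hAZp : A ≤ Subgroup.zpowers x := hmin _ hZn hZne
      -- element of order q in A has order dividing r
      obtain ⟨a, ha⟩ := exists_prime_orderOf_dvd_card' (G := A) q hqdvd
      have haz : (a : Q) ∈ Subgroup.zpowers x := hAZp a.2
      have h1 : orderOf (a : Q) ∣ r := by
        rw [← hx]
        exact orderOf_dvd_of_mem_zpowers haz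
      rw [Subgroup.orderOf_coe, ha] at h1
      exact hrq ((Nat.prime_dvd_prime_iff_eq hq hr).mp h1).symm
    have hcard := Nat.eq_prime_pow_of_unique_prime_dvd (Nat.card_pos (α := Q)).ne' hprime
    exact IsPGroup.of_card hcard
  · -- noncentral case
    right
    refine ⟨hAab, ⟨q, hq, hAq⟩, ?_⟩
    push Not at hAZ
    obtain ⟨a₀, ha₀, h, hh⟩ := hAZ
    -- C_A(h) = 1
    have hCAh : ∀ a ∈ A, h * a = a * h → a = 1 := by
      rcases h3 h with h' | h'
      · exact h'
      · exact absurd (h' a₀ ha₀) hh
    -- f : A → A, a ↦ h a h⁻¹ a⁻¹ is injective hence surjective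
    let f : A → A := fun a => ⟨h * a * h⁻¹ * (a : Q)⁻¹, comm_mem h a⟩
    have hfinj : Function.Injective f := by
      intro a b hab
      have hab' : h * a * h⁻¹ * (a : Q)⁻¹ = h * b * h⁻¹ * (b : Q)⁻¹ := congrArg Subtype.val hab
      have hd : ((b : Q)⁻¹ * a) ∈ A := A.mul_mem (A.inv_mem b.2) a.2
      have hfa : h * a * h⁻¹ * (a : Q)⁻¹ ∈ A := comm_mem h a
      have hfb : h * b * h⁻¹ * (b : Q)⁻¹ ∈ A := comm_mem h b
      have key : h * ((b : Q)⁻¹ * a) = ((b : Q)⁻¹ * a) * h := by
        -- h d h⁻¹ = (f b * b)⁻¹ (f a * a) = b⁻¹ (f b)⁻¹ (f a) a = b⁻¹ a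
        have e1 : h * ((b : Q)⁻¹ * a) * h⁻¹ =
            (b : Q)⁻¹ * (h * b * h⁻¹ * (b : Q)⁻¹)⁻¹ * (h * a * h⁻¹ * (a : Q)⁻¹) * a := by group
        rw [hab'] at e1
        have e2 : h * ((b : Q)⁻¹ * a) * h⁻¹ = (b : Q)⁻¹ * a := by
          rw [e1]; group
        calc h * ((b : Q)⁻¹ * a) = (h * ((b : Q)⁻¹ * a) * h⁻¹) * h := by group
          _ = ((b : Q)⁻¹ * a) * h := by rw [e2]
      have := hCAh _ hd key
      have : (a : Q) = b := by
        calc (a : Q) = b * ((b : Q)⁻¹ * a) := by group
          _ = b := by rw [this, mul_one]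
      exact Subtype.ext this
    have hfsurj : Function.Surjective f := Finite.injective_iff_surjective.mp hfinj
    -- C = C_Q(A) ≤ A
    have hCA : ∀ c : Q, (∀ a ∈ A, c * a = a * c) → c ∈ A := by
      intro c hc
      obtain ⟨a, ha⟩ := hfsurj ⟨h * c * h⁻¹ * c⁻¹, comm_mem h c⟩
      have ha' : h * a * h⁻¹ * (a : Q)⁻¹ = h * c * h⁻¹ * c⁻¹ := congrArg Subtype.val ha
      -- k = a⁻¹ c commutes with h
      set k : Q := (a : Q)⁻¹ * c with hk
      have hkA : ∀ b ∈ A, k * b = b * k := by
        intro b hb
        rw [hk, mul_assoc, hc b hb, ← mul_assoc, ← mul_assoc]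
        congr 1
        have := hAab a a.2 b hb
        calc (a : Q)⁻¹ * b = (a : Q)⁻¹ * (b * a) * (a : Q)⁻¹ := by group
          _ = (a : Q)⁻¹ * (a * b) * (a : Q)⁻¹ := by rw [this]
          _ = b * (a : Q)⁻¹ := by group
      have hkh : k * h = h * k := by
        have e1 : h * k * h⁻¹ =
            (a : Q)⁻¹ * (h * a * h⁻¹ * (a : Q)⁻¹)⁻¹ * (h * c * h⁻¹ * c⁻¹) * c := by
          rw [hk]; group
        rw [ha'] at e1
        have e2 : h * k * h⁻¹ = k := by rw [e1, hk]; group
        calc k * h = (h * k * h⁻¹) * h := by rw [e2]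
          _ = h * k := by group
      -- K = C ⊓ C(h) is normal, meets A trivially
      let K : Subgroup Q := Subgroup.centralizer (A : Set Q) ⊓ Subgroup.centralizer {h}
      have hKn : K.Normal := by
        constructor
        intro z hz x
        rw [Subgroup.mem_inf] at hz ⊢
        obtain ⟨hzA, hzh⟩ := hz
        have hzA' : ∀ b ∈ A, z * b = b * z := (mem_cent_set A z).mp hzA
        rw [mem_cent_singleton] at hzh ⊢
        refine ⟨?_, conj_mem_cent A le_rfl h z x hzA' hzh⟩
        have := hAn
        exact (Subgroup.normal_centralizer (H := A)).conj_mem z hzA x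
      have hkK : k ∈ K := by
        rw [Subgroup.mem_inf, mem_cent_singleton, mem_cent_set]
        exact ⟨hkA, hkh⟩
      have hKbot : K = ⊥ := by
        by_contra hne
        have hAK : A ≤ K := hmin K hKn hne
        apply hAne
        rw [eq_bot_iff]
        intro b hb
        have hbK := hAK hb
        rw [Subgroup.mem_inf, mem_cent_singleton] at hbK
        rw [Subgroup.mem_bot]
        exact hCAh b hb hbK.2.symm
      rw [hKbot, Subgroup.mem_bot] at hkK
      have : c = a := by
        calc c = a * ((a : Q)⁻¹ * c) := by group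
          _ = a := by rw [← hk, hkK, mul_one]
      rw [this]; exact a.2
    intro g hg a ha hga
    rcases h3 g with h' | h'
    · exact h' a ha hga
    · exact absurd (hCA g h') hg

end Cfsg.Agent.Lib.Helper73.DGDich
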