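/-
helper73: project B2ISO (helper37, S1083), module [R-ROOT]: the action of `1 + τ A + τ² B` on the tensor model.
-/
import Mathlib
import Cfsg.Agent.Lib.Helper37.B2Iso.Defs
import Cfsg.Agent.Lib.Helper73.B2IsoRBasis

set_option autoImplicit false

namespace Cfsg.Agent.Lib.Helper73.B2Iso

open Matrix Cfsg.Lie Cfsg.Agent.Lib.Helper37.B2Iso

section ring
variable {R : Type*} [CommRing R]

theorem Dl_root (A B : Matrix I5 I5 R) (τ : R) :
    Dl (1 + τ • A + τ ^ 2 • B) = τ • (Aᵀ * NM + NM * A) + τ ^ 2 • (Bᵀ * NM + NM * B + Aᵀ * NM * A)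
      + τ ^ 3 • (Aᵀ * NM * B + Bᵀ * NM * A) + τ ^ 4 • (Bᵀ * NM * B) := by
  unfold Dl
  simp only [Matrix.transpose_add, Matrix.transpose_one, Matrix.transpose_smul, Matrix.add_mul,
    Matrix.mul_add, Matrix.one_mul, Matrix.mul_one, Matrix.smul_mul, Matrix.mul_smul, smul_add,
    smul_smul]
  have e3 : τ ^ 3 = τ * τ ^ 2 := by ring
  have e3' : τ ^ 3 = τ ^ 2 * τ := by ring
  have e4 : τ ^ 4 = τ ^ 2 * τ ^ 2 := by ring
  have e2 : τ ^ 2 = τ * τ := by ring
  rw [e3, e4]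
  rw [show τ ^ 2 * τ = τ * τ ^ 2 by ring]
  rw [← e2]
  abel

/-! ## [R-ROOT] the action of `1 + τ A + τ² B` -/
theorem actT_root (A B : Matrix I5 I5 R) (τ : R) (p : Matrix I5 I5 R × R) :
    actT (1 + τ • A + τ ^ 2 • B) p =
      p + τ • K1 A B p + τ ^ 2 • K2 A B p + τ ^ 3 • K3 A B p + τ ^ 4 • K4 A B p := by
  refine Prod.ext ?_ ?_
  · simp only [actT, K1, K2, K3, K4, Prod.fst_add, Prod.smul_fst, Matrix.transpose_add,
      Matrix.transpose_one, Matrix.transpose_smul, Matrix.add_mul, Matrix.mul_add, Matrix.one_mul,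
      Matrix.mul_one, Matrix.smul_mul, Matrix.mul_smul, smul_add, smul_smul]
    have e2 : τ * τ = τ ^ 2 := by ring
    have e3 : τ * τ ^ 2 = τ ^ 3 := by ring
    have e3' : τ ^ 2 * τ = τ ^ 3 := by ring
    have e4 : τ ^ 2 * τ ^ 2 = τ ^ 4 := by ring
    rw [e2, e3, e3', e4]
    abel
  · simp only [actT, K1, K2, K3, K4, Prod.snd_add, Prod.smul_snd, Dl_root, Matrix.mul_add,
      Matrix.mul_smul, Matrix.trace_add, Matrix.trace_smul, smul_eq_mul]
    ring

theorem rhoM_one_add (A B : Matrix I5 I5 R) (τ : R) (i j : chevB2.Idx) :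
    rhoM (1 + τ • A + τ ^ 2 • B) i j = (if i = j then 1 else 0)
      + τ * coordT (K1 A B (bT j)) i + τ ^ 2 * coordT (K2 A B (bT j)) i
      + τ ^ 3 * coordT (K3 A B (bT j)) i + τ ^ 4 * coordT (K4 A B (bT j)) i := by
  unfold rhoM
  rw [Matrix.of_apply, actT_root]
  simp only [coordT_add, coordT_smul, Pi.add_apply, Pi.smul_apply, smul_eq_mul, coordT_bT]

end ring

end Cfsg.Agent.Lib.Helper73.B2Iso
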