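/-
helper73: project B2ISO (helper37, S1083), module B2ISO-[R-ACT] (adapted from helper50 D4IsoRAct): the action on the tensor model.
-/
import Mathlib
import Cfsg.Agent.Lib.Helper37.B2Iso.Defs

set_option autoImplicit false

namespace Cfsg.Agent.Lib.Helper73.B2Iso

open Matrix Cfsg.Lie Cfsg.Agent.Lib.Helper37.B2Iso

section ring
variable {R : Type*} [CommRing R]

theorem Dl_one : Dl (1 : Matrix I5 I5 R) = 0 := by
  unfold Dl
  rw [transpose_one, Matrix.one_mul, Matrix.mul_one, sub_self]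

theorem Dl_mul (g h : Matrix I5 I5 R) : Dl (g * h) = hᵀ * Dl g * h + Dl h := by
  unfold Dl
  rw [transpose_mul, Matrix.mul_sub, Matrix.sub_mul]
  simp only [Matrix.mul_assoc]
  abel

theorem actT_one (p : Matrix I5 I5 R × R) : actT 1 p = p := by
  unfold actT
  rw [Dl_one, Matrix.mul_zero, trace_zero, sub_zero, transpose_one, Matrix.one_mul, Matrix.mul_one]

theorem actT_mul (g h : Matrix I5 I5 R) (p : Matrix I5 I5 R × R) :
    actT (g * h) p = actT g (actT h p) := by
  unfold actT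
  refine Prod.ext ?_ ?_
  · simp only [transpose_mul, Matrix.mul_assoc]
  · simp only
    rw [Dl_mul, Matrix.mul_add, trace_add]
    have e : trace (p.1ᵀ * (hᵀ * Dl g * h)) = trace ((h * p.1 * hᵀ)ᵀ * Dl g) := by
      rw [transpose_mul, transpose_mul, transpose_transpose]
      rw [← Matrix.mul_assoc, ← Matrix.mul_assoc, trace_mul_comm]
      simp only [Matrix.mul_assoc]
    rw [e]
    ring

theorem actT_add (g : Matrix I5 I5 R) (p q : Matrix I5 I5 R × R) :
    actT g (p + q) = actT g p + actT g q := by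
  unfold actT
  refine Prod.ext ?_ ?_
  · simp only [Prod.fst_add, Matrix.mul_add, Matrix.add_mul]
  · simp only [Prod.fst_add, Prod.snd_add, transpose_add, Matrix.add_mul, trace_add]
    ring

theorem actT_smul (g : Matrix I5 I5 R) (c : R) (p : Matrix I5 I5 R × R) :
    actT g (c • p) = c • actT g p := by
  unfold actT
  refine Prod.ext ?_ ?_
  · simp only [Prod.smul_fst, Matrix.mul_smul, Matrix.smul_mul]
  · simp only [Prod.smul_fst, Prod.smul_snd, transpose_smul, Matrix.smul_mul, trace_smul, smul_eq_mul]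
    ring

theorem NM_mulVec_zI (x : I5 → R) : (NM *ᵥ x) zI = x zI := by
  unfold NM mulVec dotProduct
  rw [Fintype.sum_sum_type, Fintype.sum_sum_type]
  simp

theorem NM_mulVec_eI (x : I5 → R) (i : Fin 2) : (NM *ᵥ x) (eI i) = 0 := by
  unfold NM mulVec dotProduct
  refine Finset.sum_eq_zero fun b _ => ?_
  simp

theorem NM_mulVec_fI (x : I5 → R) (i : Fin 2) : (NM *ᵥ x) (fI i) = x (eI i) := by
  unfold NM mulVec dotProduct
  rw [Fintype.sum_sum_type, Fintype.sum_sum_type]
  simp

theorem Qr_eq_dot (x : I5 → R) : Qr x = x ⬝ᵥ (NM *ᵥ x) := by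
  unfold Qr
  rw [dotProduct, Fintype.sum_sum_type, Fintype.sum_sum_type]
  simp only [NM_mulVec_eI, NM_mulVec_fI, mul_zero, Finset.sum_const_zero, zero_add,
    Finset.univ_unique, Finset.sum_singleton]
  have h0 : (NM *ᵥ x) (Sum.inl default) = x zI := NM_mulVec_zI x
  rw [h0, sq]
  have h1 : (Sum.inl default : I5) = zI := rfl
  rw [h1]
  refine congrArg (fun t => x zI * x zI + t) ?_
  refine Finset.sum_congr rfl fun i _ => ?_
  rw [mul_comm]

theorem dot_Dl (g : Matrix I5 I5 R) (x : I5 → R) :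
    x ⬝ᵥ (Dl g *ᵥ x) = Qr (g *ᵥ x) - Qr x := by
  unfold Dl
  rw [sub_mulVec, dotProduct_sub, Qr_eq_dot, Qr_eq_dot]
  congr 1
  rw [← mulVec_mulVec, ← mulVec_mulVec, dotProduct_mulVec, vecMul_transpose]

theorem alt_of_dot_eq_zero (M : Matrix I5 I5 R) (h : ∀ x : I5 → R, x ⬝ᵥ (M *ᵥ x) = 0) :
    (∀ a, M a a = 0) ∧ ∀ a b, M a b = - M b a := by
  have hd : ∀ a, M a a = 0 := by
    intro a
    have := h (Pi.single a 1)
    rwa [single_dotProduct, one_mul, mulVec_single_one, col_apply] at this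
  refine ⟨hd, fun a b => ?_⟩
  have := h (Pi.single a 1 + Pi.single b 1)
  rw [mulVec_add, add_dotProduct, dotProduct_add, dotProduct_add] at this
  simp only [single_dotProduct, one_mul, mulVec_single_one, col_apply, hd, zero_add, add_zero] at this
  exact eq_neg_of_add_eq_zero_left this

/-- for an isometry the cocycle `Δ_g = gᵀ N g − N` is alternating -/
theorem Dl_alt (g : Matrix I5 I5 R) (hg : IsIsom g) :
    (∀ a, Dl g a a = 0) ∧ ∀ a b, Dl g a b = - Dl g b a := by
  apply alt_of_dot_eq_zero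
  intro x
  rw [dot_Dl, hg x, sub_self]

theorem trace_sym_alt (S A : Matrix I5 I5 R) (hS : Sᵀ = S) (hA0 : ∀ a, A a a = 0)
    (hA : ∀ a b, A a b = - A b a) : Matrix.trace (Sᵀ * A) = 0 := by
  have hS' : ∀ a b, S a b = S b a := fun a b => by
    conv_lhs => rw [← hS]
    rfl
  rw [hS]
  unfold trace
  simp only [diag_apply, Matrix.mul_apply]
  rw [← Finset.sum_product']
  refine Finset.sum_involution (fun x _ => (x.2, x.1)) ?_ ?_ ?_ ?_
  · intro x _
    simp only
    rw [hS' x.2 x.1, hA x.2 x.1]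
    ring
  · intro x _ hx hxx
    apply hx
    have : x.2 = x.1 := congrArg Prod.fst hxx
    rw [this, hA0, mul_zero]
  · intro x _
    exact Finset.mem_product.mpr ⟨Finset.mem_univ _, Finset.mem_univ _⟩
  · intro x _
    rfl

theorem actT_sym (g : Matrix I5 I5 R) (hg : IsIsom g) (S : Matrix I5 I5 R) (hS : Sᵀ = S) :
    ∃ S' : Matrix I5 I5 R, S'ᵀ = S' ∧ actT g (S, 0) = (S', 0) := by
  refine ⟨g * S * gᵀ, ?_, ?_⟩
  · rw [transpose_mul, transpose_mul, transpose_transpose, hS, Matrix.mul_assoc]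
  · unfold actT
    refine Prod.ext rfl ?_
    simp only
    rw [trace_sym_alt S (Dl g) hS (Dl_alt g hg).1 (Dl_alt g hg).2, sub_zero]

theorem InL_actT (g : Matrix I5 I5 R) (hg : IsIsom g) (p : Matrix I5 I5 R × R) (hp : InL p) :
    InL (actT g p) := by
  unfold InL at hp ⊢
  unfold actT betaT
  simp only
  unfold betaT at hp
  have hΔ : (Dl g)ᵀ = - Dl g := by
    ext a b
    rw [transpose_apply, neg_apply, (Dl_alt g hg).2 a b, neg_neg]
  have e1 : gᵀ * (NMᵀ - NM) * g = (NMᵀ - NM) - (2 : R) • Dl g := by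
    have h1 : gᵀ * NM * g = Dl g + NM := by unfold Dl; abel
    have h2 : gᵀ * NMᵀ * g = (Dl g)ᵀ + NMᵀ := by
      rw [← transpose_add, ← h1, transpose_mul, transpose_mul, transpose_transpose, Matrix.mul_assoc]
    rw [Matrix.mul_sub, Matrix.sub_mul, h1, h2, hΔ, two_smul]
    abel
  have e2 : trace ((g * p.1 * gᵀ)ᵀ * (NMᵀ - NM)) = trace (p.1ᵀ * (gᵀ * (NMᵀ - NM) * g)) := by
    rw [transpose_mul, transpose_mul, transpose_transpose]
    rw [Matrix.mul_assoc, trace_mul_comm]
    simp only [Matrix.mul_assoc]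
  rw [e2, e1, Matrix.mul_sub, trace_sub, hp, Matrix.mul_smul, trace_smul, smul_eq_mul]
  ring

end ring

end Cfsg.Agent.Lib.Helper73.B2Iso
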