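import Mathlib
import Cfsg.Agent.Lib.Helper24.PGroupBasic

/-!
Tools for P. Hall's theorem on `p`-groups of symplectic type:
* `card_mul_le_centralizer`: a centralizer-index bound when commutators fall in a central subgroup of
  order at most `p`;
* `mem_of_pow_eq_one_of_isCyclic`: in a cyclic subgroup, a subgroup of order `p` contains all elements
  killed by `p`;
* `pow_mem_pow_center`: the key lemma on `p`-th powers in a characteristic subgroup of class two.
-/

set_option autoImplicit false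

open scoped commutatorElement

namespace Cfsg.Agent.Lib.Helper73

open Subgroup

theorem comm_mul_left' {G : Type*} [Group G] (a b c : G) :
    ⁅a * b, c⁆ = a * ⁅b, c⁆ * a⁻¹ * ⁅a, c⁆ := by
  simp only [commutatorElement_def]; group

theorem comm_mul_right' {G : Type*} [Group G] (a b c : G) :
    ⁅a, b * c⁆ = ⁅a, b⁆ * (b * ⁅a, c⁆ * b⁻¹) := by
  simp only [commutatorElement_def]; group

theorem comm_inv_swap {G : Type*} [Group G] (a b : G) : ⁅a, b⁆⁻¹ = ⁅b, a⁆ := by
  simp only [commutatorElement_def]; group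

/-- one step of the centralizer bound -/
theorem card_centralizer_step {G : Type*} [Group G] [Finite G] {p : ℕ}
    (D K : Subgroup G) (hDp : Nat.card D ≤ p)
    (hDK : ∀ d ∈ D, ∀ g ∈ K, Commute d g) (e : G)
    (hcomm : ∀ g ∈ K, ⁅e, g⁆ ∈ D) :
    Nat.card K ≤ p * Nat.card ↥(K ⊓ centralizer ({e} : Set G)) := by
  classical
  let φ : ↥K →* ↥D :=
    { toFun := fun g => ⟨⁅e, (g : G)⁆, hcomm g.1 g.2⟩
      map_one' := by
        apply Subtype.ext
        simp
      map_mul' := by
        intro g h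
        apply Subtype.ext
        simp only [Subgroup.coe_mul]
        rw [comm_mul_right']
        have h1 : Commute ⁅e, (h : G)⁆ (g : G) := hDK _ (hcomm h.1 h.2) g.1 g.2
        have h2 : (g : G) * ⁅e, (h : G)⁆ * (g : G)⁻¹ = ⁅e, (h : G)⁆ := by
          rw [← h1.eq, mul_inv_cancel_right]
        rw [h2] }
  have h1 : Nat.card φ.ker * φ.ker.index = Nat.card K := Subgroup.card_mul_index _
  have h2 : φ.ker.index ≤ p := by
    rw [Subgroup.index_ker]
    exact le_trans (Subgroup.card_le_card_group _) hDp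
  have h3 : Nat.card φ.ker ≤ Nat.card ↥(K ⊓ centralizer ({e} : Set G)) := by
    let f : ↥φ.ker → ↥(K ⊓ centralizer ({e} : Set G)) := fun g => ⟨g.1.1, by
      refine Subgroup.mem_inf.mpr ⟨g.1.2, Subgroup.mem_centralizer_iff.mpr ?_⟩
      intro h hh
      rw [Set.mem_singleton_iff] at hh
      subst hh
      have := g.2
      rw [MonoidHom.mem_ker] at this
      have h4 : ⁅h, (g.1 : G)⁆ = 1 := congrArg Subtype.val this
      rw [commutatorElement_eq_one_iff_mul_comm] at h4
      exact h4⟩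
    apply Nat.card_le_card_of_injective f
    intro x y hxy
    have : (x.1 : G) = (y.1 : G) :=
      congrArg (fun t : ↥(K ⊓ centralizer ({e} : Set G)) => (t : G)) hxy
    exact Subtype.ext (Subtype.ext this)
  calc Nat.card K = Nat.card φ.ker * φ.ker.index := h1.symm
    _ ≤ Nat.card ↥(K ⊓ centralizer ({e} : Set G)) * p := Nat.mul_le_mul h3 h2
    _ = p * Nat.card ↥(K ⊓ centralizer ({e} : Set G)) := Nat.mul_comm _ _

/-- Centralizer bound: if `B ≤ F`, `B` is centralized by `X`, and all commutators `⁅e, g⁆`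
(`e ∈ F`, `g ∈ X`) lie in a subgroup `D` of order at most `p` centralized by `X`, then
`|X| |B| ≤ |C_X(F)| |F|`. -/
theorem card_mul_le_centralizer {G : Type*} [Group G] [Finite G] {p : ℕ} [hp : Fact p.Prime]
    (hG : IsPGroup p G) (D B F X : Subgroup G) (hDp : Nat.card D ≤ p)
    (hDX : ∀ d ∈ D, ∀ g ∈ X, Commute d g)
    (hBF : B ≤ F) (hBX : ∀ b ∈ B, ∀ g ∈ X, Commute b g)
    (hcomm : ∀ e ∈ F, ∀ g ∈ X, ⁅e, g⁆ ∈ D) :
    Nat.card X * Nat.card B ≤ Nat.card ↥(X ⊓ centralizer (F : Set G)) * Nat.card F := by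
  classical
  let S : Set (Subgroup G) := {F' | B ≤ F' ∧ F' ≤ F ∧
    Nat.card X * Nat.card B ≤ Nat.card ↥(X ⊓ centralizer (F' : Set G)) * Nat.card F'}
  have hSfin : S.Finite := Set.toFinite _
  have hBS : B ∈ S := by
    refine ⟨le_rfl, hBF, ?_⟩
    have : X ⊓ centralizer (B : Set G) = X := by
      apply le_antisymm inf_le_left
      intro g hg
      refine Subgroup.mem_inf.mpr ⟨hg, Subgroup.mem_centralizer_iff.mpr ?_⟩
      intro b hb
      exact (hBX b hb g hg).eq
    rw [this]
  obtain ⟨F', hF'S, hF'max⟩ := Set.exists_max_image S (fun F' => Nat.card F') hSfin ⟨B, hBS⟩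
  obtain ⟨hBF', hF'F, hineq⟩ := hF'S
  by_cases hFF : F ≤ F'
  · have : F' = F := le_antisymm hF'F hFF
    rw [← this]; exact hineq
  · exfalso
    obtain ⟨e, heF, heF'⟩ := SetLike.not_le_iff_exists.mp hFF
    set F'' := F' ⊔ zpowers e with hF''
    have hF'F'' : F' ≤ F'' := le_sup_left
    have heF'' : e ∈ F'' := (le_sup_right : zpowers e ≤ F'') (mem_zpowers e)
    have hlt : F' < F'' := lt_of_le_of_ne hF'F'' (fun h => heF' (h ▸ heF''))
    have hF''F : F'' ≤ F := sup_le hF'F (by rw [zpowers_le]; exact heF)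
    -- card F'' ≥ p * card F'
    have hcardF : p * Nat.card F' ≤ Nat.card F'' := by
      have hdvd : Nat.card F' ∣ Nat.card F'' := Subgroup.card_dvd_of_le hF'F''
      obtain ⟨c, hc⟩ := hdvd
      have hcl : Nat.card F' < Nat.card F'' :=
        lt_of_not_ge (fun h => hlt.ne (Subgroup.eq_of_le_of_card_ge hF'F'' h))
      obtain ⟨a, ha⟩ := (hG.to_subgroup F').exists_card_eq
      obtain ⟨b, hb⟩ := (hG.to_subgroup F'').exists_card_eq
      have hab : a < b := by
        rw [ha, hb] at hcl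
        exact (Nat.pow_lt_pow_iff_right hp.out.one_lt).mp hcl
      rw [ha, hb, ← pow_succ']
      exact Nat.pow_le_pow_right hp.out.pos hab
    -- centralizers
    set K' := X ⊓ centralizer (F' : Set G) with hK'
    have hcent : K' ⊓ centralizer ({e} : Set G) ≤ X ⊓ centralizer (F'' : Set G) := by
      intro g hg
      have hg1 : g ∈ K' := hg.1
      have hg2 : g ∈ centralizer ({e} : Set G) := hg.2
      have hg11 : g ∈ X := hg1.1
      have hg12 : g ∈ centralizer (F' : Set G) := hg1.2
      refine Subgroup.mem_inf.mpr ⟨hg11, ?_⟩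
      have h1 : F' ≤ centralizer ({g} : Set G) := by
        intro f hf
        rw [Subgroup.mem_centralizer_iff]
        intro h hh
        rw [Set.mem_singleton_iff] at hh
        subst hh
        have := hg12
        rw [Subgroup.mem_centralizer_iff] at this
        exact (this f hf).symm
      have h2 : zpowers e ≤ centralizer ({g} : Set G) := by
        rw [zpowers_le, Subgroup.mem_centralizer_iff]
        intro h hh
        rw [Set.mem_singleton_iff] at hh
        subst hh
        have := hg2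
        rw [Subgroup.mem_centralizer_iff] at this
        exact (this e rfl).symm
      have h3 : F'' ≤ centralizer ({g} : Set G) := sup_le h1 h2
      rw [Subgroup.mem_centralizer_iff]
      intro f hf
      have := h3 hf
      rw [Subgroup.mem_centralizer_iff] at this
      exact (this g rfl).symm
    have hstep : Nat.card K' ≤ p * Nat.card ↥(K' ⊓ centralizer ({e} : Set G)) := by
      apply card_centralizer_step D K' hDp
      · intro d hd g hg; exact hDX d hd g hg.1
      · intro g hg; exact hcomm e heF g hg.1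
    have hle : Nat.card ↥(K' ⊓ centralizer ({e} : Set G)) ≤
        Nat.card ↥(X ⊓ centralizer (F'' : Set G)) := Subgroup.card_le_of_le hcent
    have hF''S : F'' ∈ S := by
      refine ⟨le_trans hBF' hF'F'', hF''F, ?_⟩
      calc Nat.card X * Nat.card B ≤ Nat.card K' * Nat.card F' := hineq
        _ ≤ (p * Nat.card ↥(X ⊓ centralizer (F'' : Set G))) * Nat.card F' :=
          Nat.mul_le_mul_right _ (le_trans hstep (Nat.mul_le_mul_left _ hle))
        _ = Nat.card ↥(X ⊓ centralizer (F'' : Set G)) * (p * Nat.card F') := by ring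
        _ ≤ Nat.card ↥(X ⊓ centralizer (F'' : Set G)) * Nat.card F'' :=
          Nat.mul_le_mul_left _ hcardF
    have := hF'max F'' hF''S
    have hcl : Nat.card F' < Nat.card F'' :=
        lt_of_not_ge (fun h => hlt.ne (Subgroup.eq_of_le_of_card_ge hF'F'' h))
    omega

/-- In a cyclic group `⟨a⟩`, an element `d ≠ 1` with `d ^ p = 1` generates the subgroup of all
elements killed by `p`. -/
theorem mem_zpowers_of_pow_eq_one {G : Type*} [Group G] {a u d : G} {p : ℕ} (hp : p.Prime)
    (hfin : IsOfFinOrder a) (hu : u ∈ zpowers a) (hd : d ∈ zpowers a)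
    (hd1 : d ≠ 1) (hdp : d ^ p = 1) (hup : u ^ p = 1) : u ∈ zpowers d := by
  have : Fact p.Prime := ⟨hp⟩
  have hN : 0 < orderOf a := hfin.orderOf_pos
  have hdord : orderOf d = p := orderOf_eq_prime hdp hd1
  have hpN : p ∣ orderOf a := hdord ▸ orderOf_dvd_of_mem_zpowers hd
  obtain ⟨m, hm⟩ := hpN
  have hm0 : 0 < m := by
    rcases Nat.eq_zero_or_pos m with h | h
    · rw [h, mul_zero] at hm; omega
    · exact h
  -- elements killed by p are powers of a^m
  have key : ∀ x ∈ zpowers a, x ^ p = 1 → x ∈ zpowers (a ^ m) := by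
    intro x hx hxp
    rw [← hfin.mem_powers_iff_mem_zpowers, Submonoid.mem_powers_iff] at hx
    obtain ⟨k, rfl⟩ := hx
    rw [← pow_mul] at hxp
    have h1 : orderOf a ∣ k * p := orderOf_dvd_of_pow_eq_one hxp
    rw [hm, mul_comm k p] at h1
    have h2 : m ∣ k := Nat.dvd_of_mul_dvd_mul_left hp.pos h1
    obtain ⟨c, rfl⟩ := h2
    rw [pow_mul]
    exact Subgroup.pow_mem _ (mem_zpowers _) c
  have ham1 : a ^ m ≠ 1 := by
    apply pow_ne_one_of_lt_orderOf hm0.ne'
    rw [hm]
    have := hp.one_lt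
    nlinarith
  have hamp : (a ^ m) ^ p = 1 := by
    rw [← pow_mul, mul_comm, ← hm, pow_orderOf_eq_one]
  have hamord : orderOf (a ^ m) = p := orderOf_eq_prime hamp ham1
  have hdW : d ∈ zpowers (a ^ m) := key d hd hdp
  have hle : zpowers d ≤ zpowers (a ^ m) := by rw [zpowers_le]; exact hdW
  have hfinW : Finite (zpowers (a ^ m)) := by
    apply Nat.finite_of_card_ne_zero
    rw [Nat.card_zpowers, hamord]
    exact hp.ne_zero
  have heq : zpowers d = zpowers (a ^ m) := by
    apply Subgroup.eq_of_le_of_card_ge hle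
    rw [Nat.card_zpowers, Nat.card_zpowers, hamord, hdord]
  rw [heq]
  exact key u hu hup

/-- In a cyclic subgroup, a subgroup of order `p` contains every element killed by `p`. -/
theorem mem_of_pow_eq_one_of_isCyclic {G : Type*} [Group G] [Finite G] {p : ℕ} [hp : Fact p.Prime]
    {A D : Subgroup G} (hA : IsCyclic A) (hDA : D ≤ A) (hDp : Nat.card D = p) {u : G}
    (huA : u ∈ A) (hup : u ^ p = 1) : u ∈ D := by
  obtain ⟨g, hg⟩ := hA.exists_generator
  have hmem : ∀ x ∈ A, x ∈ zpowers (g : G) := by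
    intro x hx
    obtain ⟨k, hk⟩ := Subgroup.mem_zpowers_iff.mp (hg ⟨x, hx⟩)
    rw [Subgroup.mem_zpowers_iff]
    refine ⟨k, ?_⟩
    have := congrArg Subtype.val hk
    simpa using this
  have hDnt : Nontrivial D := by
    rw [← Finite.one_lt_card_iff_nontrivial, hDp]
    exact hp.out.one_lt
  obtain ⟨d, hd1⟩ := exists_ne (1 : D)
  have hd1' : (d : G) ≠ 1 := fun h => hd1 (Subtype.ext h)
  have hdp : (d : G) ^ p = 1 := by
    have := pow_card_eq_one' (G := D) (x := d)
    rw [hDp] at this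
    have := congrArg Subtype.val this
    simpa using this
  have := mem_zpowers_of_pow_eq_one hp.out (isOfFinOrder_of_finite (g : G)) (hmem u huA)
    (hmem d (hDA d.2)) hd1' hdp hup
  exact (zpowers_le.mpr d.2) this

/-- Key lemma: in a `p`-group all of whose characteristic abelian subgroups are cyclic, let `Y` be a
characteristic subgroup whose commutators lie in a subgroup `D` of order `p` of `Z(Y)`, whose `p`-th
powers are central in `Y`, and (if `p = 2`) such that `D` consists of squares of elements of `Z(Y)`.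
Then every `p`-th power of an element of `Y` is the `p`-th power of an element of `Z(Y)`. -/
theorem pow_mem_pow_center {G : Type*} [Group G] [Finite G] {p : ℕ} [hp : Fact p.Prime]
    (hG : IsPGroup p G)
    (hsymp : ∀ A : Subgroup G, A.Characteristic → IsMulCommutative A → IsCyclic A)
    (Y : Subgroup G) [hY : Y.Characteristic] (D : Subgroup G) (hDp : Nat.card D = p)
    (hDV : D ≤ Y ⊓ centralizer (Y : Set G))
    (hcomm : ∀ x ∈ Y, ∀ y ∈ Y, ⁅x, y⁆ ∈ D)
    (hpow : ∀ x ∈ Y, x ^ p ∈ centralizer (Y : Set G))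
    (h2 : p ≠ 2 ∨ ∀ d ∈ D, ∃ v ∈ Y ⊓ centralizer (Y : Set G), d = v ^ p) :
    ∀ x ∈ Y, ∃ v ∈ Y ⊓ centralizer (Y : Set G), x ^ p = v ^ p := by
  classical
  set V := Y ⊓ centralizer (Y : Set G) with hVdef
  have hVchar : V.Characteristic := inferInstance
  have hVY : V ≤ Y := inf_le_left
  have hVcomm : ∀ v ∈ V, ∀ y ∈ Y, Commute v y := by
    intro v hv y hy
    have : v ∈ centralizer (Y : Set G) := hv.2
    rw [Subgroup.mem_centralizer_iff] at this
    exact (this y hy).symm
  have hVab : IsMulCommutative V :=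
    ⟨⟨fun a b => Subtype.ext (hVcomm a.1 a.2 b.1 (hVY b.2)).eq⟩⟩
  have hVcyc : IsCyclic V := hsymp V hVchar hVab
  have hDpow : ∀ d ∈ D, d ^ p = 1 := by
    intro d hd
    have := pow_card_eq_one' (G := D) (x := ⟨d, hd⟩)
    rw [hDp] at this
    have := congrArg Subtype.val this
    simpa using this
  -- the power formula
  have hF : ∀ x ∈ Y, ∀ y ∈ Y, ∃ w ∈ V, (x * y) ^ p = x ^ p * y ^ p * w ^ p := by
    intro x hx y hy
    have hzD : ⁅y, x⁆ ∈ D := hcomm y hy x hx
    have hz : y * x = ⁅y, x⁆ * x * y := by rw [commutatorElement_def]; group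
    have hzx : Commute ⁅y, x⁆ x := hVcomm _ (hDV hzD) x hx
    have hzy : Commute ⁅y, x⁆ y := hVcomm _ (hDV hzD) y hy
    have hform := Cfsg.Agent.Lib.Helper24.mul_pow_of_central_comm x y ⁅y, x⁆ hz hzx hzy p
    by_cases hp2 : p = 2
    · rcases h2 with h | h
      · exact absurd hp2 h
      · obtain ⟨v, hv, hv'⟩ := h _ hzD
        refine ⟨v, hv, ?_⟩
        rw [hform, ← hv']
        subst hp2
        norm_num
    · refine ⟨1, one_mem _, ?_⟩
      have h3 : 2 < p := lt_of_le_of_ne hp.out.two_le (Ne.symm hp2)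
      obtain ⟨c, hc⟩ := hp.out.dvd_choose_self (by norm_num : (2 : ℕ) ≠ 0) h3
      rw [hform, hc, pow_mul, hDpow _ hzD, one_pow, one_pow]
  -- the subgroup Y₁
  let Y₁ : Subgroup G :=
    { carrier := {x | x ∈ Y ∧ ∃ v ∈ V, x ^ p = v ^ p}
      mul_mem' := by
        rintro x y ⟨hx, v₁, hv₁, e₁⟩ ⟨hy, v₂, hv₂, e₂⟩
        obtain ⟨w, hw, e⟩ := hF x hx y hy
        refine ⟨mul_mem hx hy, v₁ * v₂ * w, mul_mem (mul_mem hv₁ hv₂) hw, ?_⟩
        have c1 : Commute v₁ v₂ := hVcomm v₁ hv₁ v₂ (hVY hv₂)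
        have c2 : Commute (v₁ * v₂) w := hVcomm _ (mul_mem hv₁ hv₂) w (hVY hw)
        rw [e, e₁, e₂, c2.mul_pow, c1.mul_pow]
      one_mem' := ⟨one_mem _, 1, one_mem _, rfl⟩
      inv_mem' := by
        rintro x ⟨hx, v, hv, e⟩
        exact ⟨inv_mem hx, v⁻¹, inv_mem hv, by rw [inv_pow, inv_pow, e]⟩ }
  have hY₁mem : ∀ x, x ∈ Y₁ ↔ x ∈ Y ∧ ∃ v ∈ V, x ^ p = v ^ p := fun x => Iff.rfl
  have hY₁Y : Y₁ ≤ Y := fun x hx => hx.1
  have hVY₁ : V ≤ Y₁ := fun v hv => ⟨hVY hv, v, hv, rfl⟩
  have hY₁char : Y₁.Characteristic := by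
    rw [Subgroup.characteristic_iff_map_le]
    intro φ x hx
    obtain ⟨x', hx', rfl⟩ := Subgroup.mem_map.mp hx
    obtain ⟨hx'Y, v, hv, e⟩ := hx'
    have h1 : φ.toMonoidHom x' ∈ Y :=
      (Subgroup.characteristic_iff_map_le.mp hY φ) (Subgroup.mem_map_of_mem _ hx'Y)
    have h2 : φ.toMonoidHom v ∈ V :=
      (Subgroup.characteristic_iff_map_le.mp hVchar φ) (Subgroup.mem_map_of_mem _ hv)
    exact ⟨h1, _, h2, by rw [← map_pow, ← map_pow, e]⟩
  suffices hall : ∀ x ∈ Y, x ∈ Y₁ by
    intro x hx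
    exact (hall x hx).2
  by_contra hcon
  push Not at hcon
  obtain ⟨x₀, hx₀Y, hx₀⟩ := hcon
  have hlt : Nat.card Y₁ < Nat.card Y := by
    apply lt_of_not_ge
    intro h
    have := Subgroup.eq_of_le_of_card_ge hY₁Y h
    exact hx₀ (this ▸ hx₀Y)
  have hINV := card_mul_le_centralizer hG D V Y₁ Y hDp.le
    (fun d hd g hg => hVcomm d (hDV hd) g hg) hVY₁ hVcomm
    (fun e he g hg => hcomm e (hY₁Y he) g hg)
  obtain ⟨y, hy, hyV⟩ : ∃ y ∈ Y ⊓ centralizer (Y₁ : Set G), y ∉ V := by
    by_contra hcon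
    push Not at hcon
    have hle : Y ⊓ centralizer (Y₁ : Set G) ≤ V := hcon
    have hc := Subgroup.card_le_of_le hle
    have hVpos : 0 < Nat.card V := Nat.card_pos
    have : Nat.card Y * Nat.card V ≤ Nat.card V * Nat.card Y₁ :=
      le_trans hINV (Nat.mul_le_mul_right _ hc)
    rw [mul_comm] at this
    have := Nat.le_of_mul_le_mul_left this hVpos
    omega
  have hyY : y ∈ Y := hy.1
  have hyc : ∀ t ∈ Y₁, Commute y t := by
    intro t ht
    have : y ∈ centralizer (Y₁ : Set G) := hy.2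
    rw [Subgroup.mem_centralizer_iff] at this
    exact (this t ht).symm
  by_cases hyY₁ : y ∈ Y₁
  · -- the centre of Y₁ is cyclic
    have := hY₁char
    set A := Y₁ ⊓ centralizer (Y₁ : Set G) with hAdef
    have hAchar : A.Characteristic := inferInstance
    have hAcomm : ∀ a ∈ A, ∀ t ∈ Y₁, Commute a t := by
      intro a ha t ht
      have : a ∈ centralizer (Y₁ : Set G) := ha.2
      rw [Subgroup.mem_centralizer_iff] at this
      exact (this t ht).symm
    have hAab : IsMulCommutative A :=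
      ⟨⟨fun a b => Subtype.ext (hAcomm a.1 a.2 b.1 b.2.1).eq⟩⟩
    have hAcyc : IsCyclic A := hsymp A hAchar hAab
    obtain ⟨-, v, hv, e⟩ := id hyY₁
    have hcyv : Commute y v⁻¹ := ((hVcomm v hv y hyY).symm).inv_right
    have huA : y * v⁻¹ ∈ A := by
      refine Subgroup.mem_inf.mpr ⟨mul_mem hyY₁ (inv_mem (hVY₁ hv)), ?_⟩
      rw [Subgroup.mem_centralizer_iff]
      intro t ht
      have c1 : Commute t y := (hyc t ht).symm
      have c2 : Commute t v⁻¹ := ((hVcomm v hv t (hY₁Y ht)).symm).inv_right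
      exact (c1.mul_right c2).eq
    have hup : (y * v⁻¹) ^ p = 1 := by
      rw [hcyv.mul_pow, e, inv_pow, mul_inv_cancel]
    have hDA : D ≤ A := by
      intro d hd
      have hdV : d ∈ V := hDV hd
      refine Subgroup.mem_inf.mpr ⟨hVY₁ hdV, ?_⟩
      rw [Subgroup.mem_centralizer_iff]
      intro t ht
      exact (hVcomm d hdV t (hY₁Y ht)).symm.eq
    have huD : y * v⁻¹ ∈ D := mem_of_pow_eq_one_of_isCyclic hAcyc hDA hDp huA hup
    apply hyV
    have : y = (y * v⁻¹) * v := by group
    rw [this]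
    exact mul_mem (hDV huD) hv
  · -- y outside Y₁: y is central in Y
    apply hyV
    refine Subgroup.mem_inf.mpr ⟨hyY, ?_⟩
    rw [Subgroup.mem_centralizer_iff]
    intro x hx
    by_cases hxY₁ : x ∈ Y₁
    · exact (hyc x hxY₁).symm.eq
    · -- find i with x * y^i ∈ Y₁
      obtain ⟨g, hg⟩ := hVcyc.exists_generator
      have hgen : ∀ v ∈ V, ∃ k : ℕ, v = (g : G) ^ k := by
        intro v hv
        have h1 : (⟨v, hv⟩ : V) ∈ zpowers g := hg ⟨v, hv⟩
        rw [← (isOfFinOrder_of_finite g).mem_powers_iff_mem_zpowers,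
          Submonoid.mem_powers_iff] at h1
        obtain ⟨k, hk⟩ := h1
        refine ⟨k, ?_⟩
        have := congrArg Subtype.val hk
        simpa using this.symm
      have hpV : ∀ t ∈ Y, t ^ p ∈ V := fun t ht =>
        Subgroup.mem_inf.mpr ⟨pow_mem ht p, hpow t ht⟩
      obtain ⟨k, hk⟩ := hgen _ (hpV x hx)
      obtain ⟨l, hl⟩ := hgen _ (hpV y hyY)
      have hpl : ¬ p ∣ l := by
        rintro ⟨l', rfl⟩
        apply hyY₁
        refine ⟨hyY, (g : G) ^ l', pow_mem g.2 l', ?_⟩
        rw [hl, ← pow_mul, mul_comm]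
      have hl0 : (l : ZMod p) ≠ 0 := by
        rw [Ne, ZMod.natCast_eq_zero_iff]
        exact hpl
      set i : ℕ := (-(k : ZMod p) / (l : ZMod p)).val with hi
      have hdiv : p ∣ k + l * i := by
        rw [← ZMod.natCast_eq_zero_iff]
        push_cast
        rw [hi, ZMod.natCast_zmod_val]
        field_simp
        ring
      obtain ⟨c, hc⟩ := hdiv
      obtain ⟨w, hw, e⟩ := hF x hx (y ^ i) (pow_mem hyY i)
      have hxyi : x * y ^ i ∈ Y₁ := by
        refine ⟨mul_mem hx (pow_mem hyY i), (g : G) ^ c * w, mul_mem (pow_mem g.2 c) hw, ?_⟩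
        have c1 : Commute ((g : G) ^ c) w := hVcomm _ (pow_mem g.2 c) w (hVY hw)
        rw [e, c1.mul_pow, hk, ← pow_mul y i p, mul_comm i p, pow_mul y p i, hl, ← pow_mul,
          ← pow_add, hc, pow_mul']
      have c1 : Commute y (x * y ^ i) := hyc _ hxyi
      have c2 : Commute y (y ^ i) := (Commute.refl y).pow_right i
      have c3 : Commute y ((x * y ^ i) * (y ^ i)⁻¹) := c1.mul_right c2.inv_right
      rw [mul_inv_cancel_right] at c3
      exact c3.symm.eq

end Cfsg.Agent.Lib.Helper73
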