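import Mathlib
import Cfsg.Agent.Lib.Helper73.SympCentral
import Cfsg.Agent.Lib.Helper73.TwoGroup
import Cfsg.Agent.Lib.Helper9.CoprimeIndex2

/-!
Central factors for P. Hall's theorem on `p`-groups of symplectic type:
* `exists_central_factor`: a maximal subgroup `E` of `C` with `E ∩ Z = D` satisfies `C = E Z`;
* `exists_mul_centralizer`: `G = E C_G(E)` when `[E, G] ≤ D = Z(E)`, `|D| ≤ p`.
-/

set_option autoImplicit false

open scoped commutatorElement Pointwise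

namespace Cfsg.Agent.Lib.Helper73

open Subgroup

/-- conjugation from commutator: `c e c⁻¹ = ⁅c, e⁆ e` -/
theorem conj_eq_comm_mul {G : Type*} [Group G] (c e : G) : c * e * c⁻¹ = ⁅c, e⁆ * e := by
  rw [commutatorElement_def]; group

theorem exists_central_factor {G : Type*} [Group G] [Finite G] {p : ℕ} (hp : p.Prime)
    (C Z D : Subgroup G) (hDZ : D ≤ Z) (hZC : Z ≤ C)
    (hZcent : ∀ z ∈ Z, ∀ c ∈ C, Commute z c)
    (hcomm : ∀ x ∈ C, ∀ y ∈ C, ⁅x, y⁆ ∈ D)
    (hstar : ∀ x ∈ C, ∃ z ∈ Z, (x * z) ^ p ∈ D) :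
    ∃ E : Subgroup G, D ≤ E ∧ E ≤ C ∧ E ⊓ Z ≤ D ∧ ∀ c ∈ C, ∃ e ∈ E, ∃ z ∈ Z, c = e * z := by
  classical
  let S : Set (Subgroup G) := {E | D ≤ E ∧ E ≤ C ∧ E ⊓ Z ≤ D}
  have hSfin : S.Finite := Set.toFinite _
  have hDS : D ∈ S := ⟨le_rfl, le_trans hDZ hZC, inf_le_left⟩
  obtain ⟨E, hES, hEmax⟩ := Set.exists_max_image S (fun E => Nat.card E) hSfin ⟨D, hDS⟩
  obtain ⟨hDE, hEC, hEZ⟩ := hES
  refine ⟨E, hDE, hEC, hEZ, ?_⟩
  by_contra hcon
  push Not at hcon
  obtain ⟨c, hcC, hc⟩ := hcon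
  obtain ⟨z₁, hz₁, hxp⟩ := hstar c hcC
  set x := c * z₁ with hx
  have hxC : x ∈ C := mul_mem hcC (hZC hz₁)
  -- conjugation by elements of C preserves E
  have hconj : ∀ g ∈ C, ∀ e ∈ E, g * e * g⁻¹ ∈ E := by
    intro g hg e he
    rw [conj_eq_comm_mul]
    exact mul_mem (hDE (hcomm g hg e (hEC he))) he
  have hnorm : ∀ g ∈ C, g ∈ normalizer (E : Set G) := by
    intro g hg
    rw [Subgroup.mem_normalizer_iff]
    intro h
    constructor
    · exact hconj g hg h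
    · intro hh
      have := hconj g⁻¹ (inv_mem hg) _ hh
      simpa [mul_assoc] using this
  -- L = Z ⊔ E
  have hZnorm : Z ≤ normalizer (E : Set G) := fun z hz => hnorm z (hZC hz)
  have hL : ∀ g ∈ Z ⊔ E, ∃ e ∈ E, ∃ z ∈ Z, g = e * z := by
    intro g hg
    have := Subgroup.coe_mul_of_left_le_normalizer_right Z E hZnorm
    rw [← SetLike.mem_coe, this, Set.mem_mul] at hg
    obtain ⟨z, hz, e, he, rfl⟩ := hg
    exact ⟨e, he, z, hz, (hZcent z hz e (hEC he)).eq⟩
  have hxL : x ∉ Z ⊔ E := by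
    intro h
    obtain ⟨e, he, z, hz, hxe⟩ := hL x h
    apply hc e he (z * z₁⁻¹) (mul_mem hz (inv_mem hz₁))
    have : c = x * z₁⁻¹ := by rw [hx]; group
    rw [this, hxe]; group
  -- E' = zpowers x ⊔ E
  have hxnorm : zpowers x ≤ normalizer (E : Set G) := by
    rw [zpowers_le]; exact hnorm x hxC
  have hE'S : zpowers x ⊔ E ∈ S := by
    refine ⟨le_trans hDE le_sup_right, sup_le (by rw [zpowers_le]; exact hxC) hEC, ?_⟩
    intro g hg
    have hgE' : g ∈ zpowers x ⊔ E := hg.1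
    have hgZ : g ∈ Z := hg.2
    have := Subgroup.coe_mul_of_left_le_normalizer_right (zpowers x) E hxnorm
    rw [← SetLike.mem_coe, this, Set.mem_mul] at hgE'
    obtain ⟨y, hy, e, he, hye⟩ := hgE'
    rw [SetLike.mem_coe, ← (isOfFinOrder_of_finite x).mem_powers_iff_mem_zpowers,
      Submonoid.mem_powers_iff] at hy
    obtain ⟨i, rfl⟩ := hy
    have hyL : x ^ i ∈ Z ⊔ E := by
      have : x ^ i = g * e⁻¹ := by rw [← hye]; group
      rw [this]
      exact mul_mem ((le_sup_left : Z ≤ Z ⊔ E) hgZ) (inv_mem ((le_sup_right : E ≤ Z ⊔ E) he))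
    have hpi : p ∣ i := by
      by_contra hpi
      have hcop : Nat.Coprime i p := ((Nat.Prime.coprime_iff_not_dvd hp).mpr hpi).symm
      obtain ⟨m, -, hm⟩ := Nat.exists_mul_mod_eq_one_of_coprime hcop hp.one_lt
      have hdiv := Nat.div_add_mod (i * m) p
      rw [hm] at hdiv
      apply hxL
      have h1 : x ^ (i * m) = (x ^ p) ^ (i * m / p) * x := by
        rw [← pow_mul, ← pow_succ, hdiv]
      have h1' : (x ^ i) ^ m = (x ^ p) ^ (i * m / p) * x := by
        rw [← pow_mul x i m]; exact h1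
      have h2 : x = ((x ^ p) ^ (i * m / p))⁻¹ * (x ^ i) ^ m := by
        rw [h1']; group
      rw [h2]
      exact mul_mem (inv_mem (pow_mem ((le_sup_right : E ≤ Z ⊔ E) (hDE hxp)) _)) (pow_mem hyL m)
    obtain ⟨j, rfl⟩ := hpi
    have hgE : g ∈ E := by
      rw [← hye, pow_mul]
      exact mul_mem (pow_mem (hDE hxp) j) he
    exact hEZ ⟨hgE, hgZ⟩
  have hle : E ≤ zpowers x ⊔ E := le_sup_right
  have hxE' : x ∈ zpowers x ⊔ E := (le_sup_left : zpowers x ≤ _) (mem_zpowers x)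
  have hxE : x ∉ E := fun h => hxL ((le_sup_right : E ≤ Z ⊔ E) h)
  have hcard : Nat.card E < Nat.card ↥(zpowers x ⊔ E) := by
    apply lt_of_not_ge
    intro h
    have := Subgroup.eq_of_le_of_card_ge hle h
    exact hxE (this ▸ hxE')
  have := hEmax _ hE'S
  omega

/-- `G = E C_G(E)` when all commutators `⁅e, g⁆` lie in a central subgroup `D` of order at most `p`
which is the centre of `E`. -/
theorem exists_mul_centralizer {G : Type*} [Group G] [Finite G] {p : ℕ} [hp : Fact p.Prime]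
    (hG : IsPGroup p G) (D E : Subgroup G) (hDp : Nat.card D ≤ p)
    (hDcent : ∀ d ∈ D, ∀ g : G, Commute d g) (hDE : D ≤ E)
    (hEcomm : ∀ e ∈ E, ∀ g : G, ⁅e, g⁆ ∈ D)
    (hEcenter : ∀ e ∈ E, (∀ e' ∈ E, Commute e e') → e ∈ D) :
    E.Normal ∧ ∀ g : G, ∃ e ∈ E, ∃ r ∈ centralizer (E : Set G), g = e * r := by
  have hEn : E.Normal := by
    constructor
    intro e he g
    rw [conj_eq_comm_mul, ← comm_inv_swap]
    exact mul_mem (hDE (inv_mem (hEcomm e he g))) he
  refine ⟨hEn, ?_⟩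
  set R := centralizer (E : Set G) with hR
  have hINV := card_mul_le_centralizer hG D D E ⊤ hDp (fun d hd g _ => hDcent d hd g) hDE
    (fun d hd g _ => hDcent d hd g) (fun e he g _ => hEcomm e he g)
  rw [top_inf_eq, Subgroup.card_top] at hINV
  have hprod := Cfsg.Agent.Lib.Helper9.card_sup_mul_card_inf R E
  have hinf : R ⊓ E ≤ D := by
    intro e he
    have heR : e ∈ R := he.1
    have heE : e ∈ E := he.2
    apply hEcenter e heE
    intro e' he'
    rw [hR, Subgroup.mem_centralizer_iff] at heR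
    exact (heR e' he').symm
  have hinfc : Nat.card ↥(R ⊓ E) ≤ Nat.card D := Subgroup.card_le_of_le hinf
  have hDpos : 0 < Nat.card D := Nat.card_pos
  have h1 : Nat.card G * Nat.card D ≤ Nat.card ↥(R ⊔ E) * Nat.card D := by
    calc Nat.card G * Nat.card D ≤ Nat.card R * Nat.card E := hINV
      _ = Nat.card ↥(R ⊔ E) * Nat.card ↥(R ⊓ E) := hprod.symm
      _ ≤ Nat.card ↥(R ⊔ E) * Nat.card D := Nat.mul_le_mul_left _ hinfc
  have h2 : Nat.card G ≤ Nat.card ↥(R ⊔ E) := Nat.le_of_mul_le_mul_right h1 hDpos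
  have htop : R ⊔ E = ⊤ := Subgroup.eq_top_of_le_card _ h2
  intro g
  have hg : g ∈ R ⊔ E := htop ▸ Subgroup.mem_top g
  rw [mem_sup_normal_iff] at hg
  obtain ⟨r, hr, e, he, hre⟩ := hg
  refine ⟨e, he, r, hr, ?_⟩
  rw [← hre]
  rw [hR, Subgroup.mem_centralizer_iff] at hr
  exact (hr e he).symm

end Cfsg.Agent.Lib.Helper73
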