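import Mathlib
import Cfsg.Prelude.Def_Transfer
import Cfsg.Agent.Lib.Helper73.SympCentral
import Cfsg.Agent.Lib.Helper9.ESCrit
import Cfsg.Agent.Lib.Helper9.CoprimeIndex2

/-!
The last step of P. Hall's theorem on `p`-groups of symplectic type: if the centralizer in `R = C_G(E)` of
the `p`-th powers of the cyclic subgroup `Z` is `p` times as large as `Z`, then `p = 2`, `|Z| = 4`
and `G` is extraspecial.
-/

set_option autoImplicit false

open scoped commutatorElement

namespace Cfsg.Agent.Lib.Helper73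

open Subgroup

/-- The elements commuting with `m` modulo a central subgroup `D`. -/
def commModSub {G : Type*} [Group G] (D : Subgroup G) (hD : ∀ d ∈ D, ∀ g : G, Commute d g) (m : G) :
    Subgroup G where
  carrier := {y | ⁅m, y⁆ ∈ D}
  one_mem' := by
    show ⁅m, (1 : G)⁆ ∈ D
    rw [commutatorElement_one_right]; exact one_mem _
  mul_mem' := by
    intro y y' hy hy'
    show ⁅m, y * y'⁆ ∈ D
    rw [comm_mul_right']
    have h1 : y * ⁅m, y'⁆ * y⁻¹ = ⁅m, y'⁆ := by
      rw [← (hD _ hy' y).eq, mul_inv_cancel_right]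
    rw [h1]
    exact mul_mem hy hy'
  inv_mem' := by
    intro y hy
    show ⁅m, y⁻¹⁆ ∈ D
    have h1 : ⁅m, y⁻¹⁆ = y⁻¹ * ⁅m, y⁆⁻¹ * y := by
      simp only [commutatorElement_def]; group
    have h2 : y⁻¹ * ⁅m, y⁆⁻¹ * y = ⁅m, y⁆⁻¹ := by
      have hc := (hD _ (inv_mem hy) y⁻¹).eq
      rw [← hc, inv_mul_cancel_right]
    rw [h1, h2]
    exact inv_mem hy

theorem mem_commModSub {G : Type*} [Group G] (D : Subgroup G)
    (hD : ∀ d ∈ D, ∀ g : G, Commute d g) (m y : G) : y ∈ commModSub D hD m ↔ ⁅m, y⁆ ∈ D :=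
  Iff.rfl

theorem symp_final {G : Type*} [Group G] [Finite G] {p : ℕ} [hp : Fact p.Prime]
    (hG : IsPGroup p G)
    (hsymp : ∀ A : Subgroup G, A.Characteristic → IsMulCommutative A → IsCyclic A)
    (Z D E : Subgroup G) [hZchar : Z.Characteristic] (a : G) (n : ℕ) (hn : 2 ≤ n)
    (haZ : a ∈ Z) (hZa : ∀ z ∈ Z, ∃ k : ℕ, z = a ^ k) (horda : orderOf a = p ^ n)
    (hDp : Nat.card D = p) (hDZ : D ≤ Z) (hDcent : ∀ d ∈ D, ∀ g : G, Commute d g)
    (hDomega : ∀ z ∈ Z, z ^ p = 1 → z ∈ D)
    (hEcomm : ∀ e ∈ E, ∀ g : G, ⁅e, g⁆ ∈ D) (hEpow : ∀ e ∈ E, e ^ p ∈ D)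
    (hEZ : ∀ e ∈ E, ∀ z ∈ Z, Commute e z)
    (hGER : ∀ g : G, ∃ e ∈ E, ∃ r ∈ centralizer (E : Set G), g = e * r)
    (hCRZ : ∀ r ∈ centralizer (E : Set G), (∀ z ∈ Z, Commute r z) → r ∈ Z)
    (hM : Nat.card ↥(centralizer (E : Set G) ⊓ centralizer {y : G | ∃ z ∈ Z, y = z ^ p}) =
      p * Nat.card Z) :
    (p = 2 ∧ n = 2) ∧ Cfsg.IsExtraspecial p ↥(⊤ : Subgroup G) := by
  classical
  have hp0 : 0 < p := hp.out.pos
  set R := centralizer (E : Set G) with hRdef
  set X := centralizer {y : G | ∃ z ∈ Z, y = z ^ p} with hXdef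
  set M := R ⊓ X with hMdef
  have hRmem : ∀ r, r ∈ R ↔ ∀ e ∈ E, Commute r e := by
    intro r
    rw [hRdef, Subgroup.mem_centralizer_iff]
    exact ⟨fun h e he => (h e he).symm, fun h e he => (h e he).symm.eq⟩
  have hXmem : ∀ x, x ∈ X ↔ ∀ z ∈ Z, Commute x (z ^ p) := by
    intro x
    rw [hXdef, Subgroup.mem_centralizer_iff]
    constructor
    · intro h z hz
      exact (h (z ^ p) ⟨z, hz, rfl⟩).symm
    · rintro h y ⟨z, hz, rfl⟩
      exact (h z hz).symm.eq
  have hZab : ∀ z ∈ Z, ∀ z' ∈ Z, Commute z z' := by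
    intro z hz z' hz'
    obtain ⟨k, rfl⟩ := hZa z hz
    obtain ⟨l, rfl⟩ := hZa z' hz'
    exact (Commute.refl a).pow_pow k l
  have hZX : Z ≤ X := fun z hz => (hXmem z).mpr (fun z' hz' => hZab z hz _ (pow_mem hz' p))
  have hZR : Z ≤ R := fun z hz => (hRmem z).mpr (fun e he => (hEZ e he z hz).symm)
  have hZM : Z ≤ M := le_inf hZR hZX
  have hEX : E ≤ X := fun e he => (hXmem e).mpr (fun z hz => hEZ e he _ (pow_mem hz p))
  have hMR : M ≤ R := inf_le_left
  have hMX : M ≤ X := inf_le_right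
  -- card Z
  have hZeq : Z = zpowers a := by
    apply le_antisymm
    · intro z hz
      obtain ⟨k, rfl⟩ := hZa z hz
      exact pow_mem (mem_zpowers a) k
    · rw [zpowers_le]; exact haZ
  have hZcard : Nat.card Z = p ^ n := by rw [hZeq, Nat.card_zpowers, horda]
  have hMcard : Nat.card M = p ^ (n + 1) := by rw [hM, hZcard, pow_succ']
  -- an element outside Z
  obtain ⟨b, hbM, hbZ⟩ : ∃ b ∈ M, b ∉ Z := by
    by_contra hcon
    push Not at hcon
    have hle : M ≤ Z := hcon
    have := Subgroup.card_le_of_le hle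
    rw [hMcard, hZcard, pow_succ] at this
    have h1 : 0 < p ^ n := pow_pos hp0 n
    have h2 := hp.out.one_lt
    nlinarith
  -- generation
  have hgen : ∀ m ∈ M, m ∉ Z → M ≤ Z ⊔ zpowers m := by
    intro m hm hmZ
    have hle : Z ⊔ zpowers m ≤ M := sup_le hZM (by rw [zpowers_le]; exact hm)
    have hlt : Nat.card Z < Nat.card ↥(Z ⊔ zpowers m) := by
      apply lt_of_not_ge
      intro h
      have := Subgroup.eq_of_le_of_card_ge (le_sup_left : Z ≤ Z ⊔ zpowers m) h
      exact hmZ (this ▸ (le_sup_right : zpowers m ≤ Z ⊔ zpowers m) (mem_zpowers m))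
    obtain ⟨k, hk⟩ := (hG.to_subgroup (Z ⊔ zpowers m)).exists_card_eq
    rw [hZcard, hk] at hlt
    have hnk : n < k := (Nat.pow_lt_pow_iff_right hp.out.one_lt).mp hlt
    have hge : Nat.card M ≤ Nat.card ↥(Z ⊔ zpowers m) := by
      rw [hMcard, hk]
      exact Nat.pow_le_pow_right hp0 hnk
    exact (Subgroup.eq_of_le_of_card_ge hle hge).ge
  -- commutators of M with Z
  have hZn : Z.Normal := inferInstance
  have hM0 : ∀ m ∈ M, ∀ z ∈ Z, ⁅m, z⁆ ∈ D := by
    intro m hm z hz
    have h1 : ⁅m, z⁆ ∈ Z := by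
      rw [commutatorElement_def]
      exact mul_mem (hZn.conj_mem z hz m) (inv_mem hz)
    apply hDomega _ h1
    have h2 : Commute ⁅m, z⁆ z := hZab _ h1 z hz
    rw [← Cfsg.Agent.Lib.Helper24.commutatorElement_pow_right_of_commute z m h2 p,
      commutatorElement_eq_one_iff_commute]
    exact (hXmem m).mp (hMX hm) z hz
  have hM1 : ∀ m ∈ M, ∀ m' ∈ M, ⁅m, m'⁆ ∈ D := by
    intro m hm m' hm'
    by_cases hmZ : m ∈ Z
    · rw [← comm_inv_swap]
      exact inv_mem (hM0 m' hm' m hmZ)
    · have h1 : Z ≤ commModSub D hDcent m := fun z hz => hM0 m hm z hz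
      have h2 : zpowers m ≤ commModSub D hDcent m := by
        rw [zpowers_le, mem_commModSub, commutatorElement_self]
        exact one_mem _
      exact (le_trans (hgen m hm hmZ) (sup_le h1 h2)) hm'
  -- p-th powers in M
  have hrel : Z.relIndex M = p := by
    have h1 := Cfsg.Agent.Lib.Helper9.relIndex_mul_card_of_le hZM
    rw [hMcard, hZcard, pow_succ'] at h1
    exact Nat.eq_of_mul_eq_mul_right (pow_pos hp0 n) h1
  have hM2a : ∀ m ∈ M, m ^ p ∈ Z := by
    intro m hm
    have hnorm : (Z.subgroupOf M).Normal := hZn.subgroupOf M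
    have := Subgroup.pow_index_mem (Z.subgroupOf M) (⟨m, hm⟩ : M)
    rw [← Subgroup.relIndex, hrel, Subgroup.mem_subgroupOf] at this
    simpa using this
  have hM2 : ∀ m ∈ M, ∀ m' ∈ M, Commute (m ^ p) m' := by
    intro m hm m' hm'
    by_cases hmZ : m ∈ Z
    · exact ((hXmem m').mp (hMX hm') m hmZ).symm
    · have h1 : Z ≤ centralizer ({m ^ p} : Set G) := by
        intro z hz
        rw [Subgroup.mem_centralizer_iff]
        intro h hh
        rw [Set.mem_singleton_iff] at hh
        subst hh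
        exact (hZab _ (hM2a m hm) z hz).eq
      have h2 : zpowers m ≤ centralizer ({m ^ p} : Set G) := by
        rw [zpowers_le, Subgroup.mem_centralizer_iff]
        intro h hh
        rw [Set.mem_singleton_iff] at hh
        subst hh
        exact ((Commute.refl m).pow_left p).eq
      have h3 := (le_trans (hgen m hm hmZ) (sup_le h1 h2)) hm'
      rw [Subgroup.mem_centralizer_iff] at h3
      exact (h3 _ rfl)
  -- decomposition of X
  have hXdec : ∀ x ∈ X, ∃ e ∈ E, ∃ m ∈ M, x = e * m := by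
    intro x hx
    obtain ⟨e, he, r, hr, rfl⟩ := hGER x
    refine ⟨e, he, r, Subgroup.mem_inf.mpr ⟨hr, ?_⟩, rfl⟩
    have : r = e⁻¹ * (e * r) := by group
    rw [this]
    exact mul_mem (inv_mem (hEX he)) hx
  have hDconj : ∀ d ∈ D, ∀ g : G, g * d * g⁻¹ = d := by
    intro d hd g
    rw [← (hDcent d hd g).eq, mul_inv_cancel_right]
  have hX1 : ∀ x ∈ X, ∀ y ∈ X, ⁅x, y⁆ ∈ D := by
    intro x hx y hy
    obtain ⟨e, he, m, hm, rfl⟩ := hXdec x hx
    obtain ⟨e', he', m', hm', rfl⟩ := hXdec y hy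
    have h1 : ⁅m, e' * m'⁆ ∈ D := by
      rw [comm_mul_right']
      have h2 : ⁅m, e'⁆ ∈ D := by
        rw [← comm_inv_swap]; exact inv_mem (hEcomm e' he' m)
      have h3 := hM1 m hm m' hm'
      rw [hDconj _ h3]
      exact mul_mem h2 h3
    rw [comm_mul_left', hDconj _ h1]
    exact mul_mem h1 (hEcomm e he _)
  have hX2 : ∀ x ∈ X, x ^ p ∈ centralizer (X : Set G) := by
    intro x hx
    obtain ⟨e, he, m, hm, rfl⟩ := hXdec x hx
    have hem : Commute e m := ((hRmem m).mp (hMR hm) e he).symm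
    rw [hem.mul_pow, Subgroup.mem_centralizer_iff]
    intro y hy
    obtain ⟨e', he', m', hm', rfl⟩ := hXdec y hy
    have c1 : Commute (e ^ p) (e' * m') := hDcent _ (hEpow e he) _
    have c2 : Commute (m ^ p) e' := ((hRmem m).mp (hMR hm) e' he').pow_left p
    have c3 : Commute (m ^ p) m' := hM2 m hm m' hm'
    exact ((c1.mul_left (c2.mul_right c3))).symm.eq
  have hX3 : ∀ v ∈ X ⊓ centralizer (X : Set G), ∃ j : ℕ, v = a ^ (p * j) := by
    intro v hv
    have hvX : v ∈ X := hv.1
    have hvc : ∀ x ∈ X, Commute v x := by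
      intro x hx
      have : v ∈ centralizer (X : Set G) := hv.2
      rw [Subgroup.mem_centralizer_iff] at this
      exact (this x hx).symm
    have hvR : v ∈ R := (hRmem v).mpr (fun e he => hvc e (hEX he))
    have hvZ : v ∈ Z := hCRZ v hvR (fun z hz => hvc z (hZX hz))
    obtain ⟨k, hk⟩ := hZa v hvZ
    by_cases hpk : p ∣ k
    · obtain ⟨j, rfl⟩ := hpk
      exact ⟨j, hk⟩
    · exfalso
      have hcop : Nat.Coprime k (p ^ n) :=
        Nat.Coprime.pow_right n ((Nat.Prime.coprime_iff_not_dvd hp.out).mpr hpk).symm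
      have h1n : 1 < p ^ n := Nat.one_lt_pow (by omega) hp.out.one_lt
      obtain ⟨k', -, hk'⟩ := Nat.exists_mul_mod_eq_one_of_coprime hcop h1n
      have ha : a = v ^ k' := by
        rw [hk, ← pow_mul, ← pow_mod_orderOf, horda, hk', pow_one]
      have hba : Commute b a := by
        rw [ha]
        exact ((hvc b (hMX hbM)).symm).pow_right k'
      apply hbZ
      apply hCRZ b (hMR hbM)
      intro z hz
      obtain ⟨l, rfl⟩ := hZa z hz
      exact hba.pow_right l
  -- b does not commute with a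
  have hba : ¬ Commute b a := by
    intro h
    apply hbZ
    apply hCRZ b (hMR hbM)
    intro z hz
    obtain ⟨l, rfl⟩ := hZa z hz
    exact h.pow_right l
  by_cases h22 : p = 2 ∧ n = 2
  · refine ⟨h22, ?_⟩
    obtain ⟨hp2, hn2⟩ := h22
    have hXtop : ∀ x : G, x ∈ X := by
      intro x
      rw [hXmem]
      intro z hz
      apply (hDcent _ _ x).symm
      apply hDomega _ (pow_mem hz p)
      obtain ⟨k, rfl⟩ := hZa z hz
      have hpp : p * p = orderOf a := by rw [horda, hn2, sq]
      rw [← pow_mul, ← pow_mul, mul_comm k, pow_mul, hpp, pow_orderOf_eq_one, one_pow]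
    have hcenter : Subgroup.center G = D := by
      apply le_antisymm
      · intro v hv
        rw [Subgroup.mem_center_iff] at hv
        have hvXc : v ∈ X ⊓ centralizer (X : Set G) := by
          refine Subgroup.mem_inf.mpr ⟨hXtop v, ?_⟩
          rw [Subgroup.mem_centralizer_iff]
          intro x _
          exact hv x
        obtain ⟨j, hj⟩ := hX3 v hvXc
        have hvZ : v ∈ Z := by rw [hj]; exact pow_mem haZ _
        apply hDomega v hvZ
        have hpp : p * p = orderOf a := by rw [horda, hn2, sq]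
        have hjp : p * j * p = (p * p) * j := by ring
        rw [hj, ← pow_mul, hjp, pow_mul, hpp, pow_orderOf_eq_one, one_pow]
      · intro d hd
        rw [Subgroup.mem_center_iff]
        intro g
        exact (hDcent d hd g).symm.eq
    apply Cfsg.Agent.Lib.Helper9.isExtraspecial_of_equiv Subgroup.topEquiv.symm p hG
    · rw [hcenter, hDp]
    · intro x y
      rw [hcenter, ← commutatorElement_def]
      exact hX1 x (hXtop x) y (hXtop y)
    · intro x
      rw [Subgroup.mem_center_iff]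
      intro g
      have := hX2 x (hXtop x)
      rw [Subgroup.mem_centralizer_iff] at this
      exact this g (hXtop g)
    · exact ⟨b, a, fun h => hba h⟩
  · exfalso
    -- X is characteristic
    have hXchar : X.Characteristic := by
      rw [Subgroup.characteristic_iff_map_le]
      intro φ x hx
      obtain ⟨x', hx', rfl⟩ := Subgroup.mem_map.mp hx
      rw [hXmem]
      intro z hz
      have hz' : φ.symm z ∈ Z := by
        have := (Subgroup.characteristic_iff_map_le.mp hZchar φ.symm)
          (Subgroup.mem_map_of_mem _ hz)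
        simpa using this
      have h1 := (hXmem x').mp hx' _ hz'
      have h2 : Commute (φ x') (φ ((φ.symm z) ^ p)) := h1.map φ
      rw [map_pow, MulEquiv.apply_symm_apply] at h2
      exact h2
    have hDV : D ≤ X ⊓ centralizer (X : Set G) := by
      intro d hd
      refine Subgroup.mem_inf.mpr ⟨hZX (hDZ hd), ?_⟩
      rw [Subgroup.mem_centralizer_iff]
      intro x _
      exact (hDcent d hd x).symm.eq
    have h2 : p ≠ 2 ∨ ∀ d ∈ D, ∃ v ∈ X ⊓ centralizer (X : Set G), d = v ^ p := by
      by_cases hp2 : p = 2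
      · right
        have hn3 : 3 ≤ n := by
          rcases Nat.lt_or_ge n 3 with h | h
          · exact absurd ⟨hp2, by omega⟩ h22
          · exact h
        intro d hd
        obtain ⟨k, hk⟩ := hZa d (hDZ hd)
        have hdp : d ^ p = 1 := by
          have := pow_card_eq_one' (G := D) (x := ⟨d, hd⟩)
          rw [hDp] at this
          have := congrArg Subtype.val this
          simpa using this
        rw [hk, ← pow_mul] at hdp
        have h1 : p ^ n ∣ k * p := horda ▸ orderOf_dvd_of_pow_eq_one hdp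
        have h3 : p ^ (n - 1) ∣ k := by
          have : p ^ n = p ^ (n - 1) * p := by rw [← pow_succ]; congr 1; omega
          rw [this] at h1
          exact Nat.dvd_of_mul_dvd_mul_right hp0 h1
        obtain ⟨c, hc⟩ := h3
        have h4 : k = (p ^ (n - 3) * c * p) * p := by
          have : p ^ (n - 1) = p ^ (n - 3) * p * p := by
            rw [← pow_succ, ← pow_succ]; congr 1; omega
          rw [hc, this]; ring
        refine ⟨(a ^ (p ^ (n - 3) * c)) ^ p, ?_, ?_⟩
        · refine Subgroup.mem_inf.mpr ⟨hZX (pow_mem (pow_mem haZ _) p), ?_⟩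
          rw [Subgroup.mem_centralizer_iff]
          intro x hx
          exact ((hXmem x).mp hx _ (pow_mem haZ _)).eq
        · rw [hk, h4, pow_mul, pow_mul]
      · exact Or.inl hp2
    have hK := pow_mem_pow_center hG hsymp X D hDp hDV hX1 hX2 h2 a (hZX haZ)
    obtain ⟨v, hv, hav⟩ := hK
    obtain ⟨j, hj⟩ := hX3 v hv
    rw [hj, ← pow_mul] at hav
    have hmod := (pow_eq_pow_iff_modEq (x := a)).mp hav
    rw [horda] at hmod
    have hdvd : p ^ 2 ∣ p ^ n := pow_dvd_pow p hn
    have hmod2 : p ≡ p * j * p [MOD p ^ 2] := hmod.of_dvd hdvd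
    have h0 : (p * j * p) % p ^ 2 = 0 := by
      have : p * j * p = p ^ 2 * j := by ring
      rw [this]; exact Nat.mul_mod_right _ _
    have hlt : p < p ^ 2 := by
      have := hp.out.one_lt
      nlinarith
    unfold Nat.ModEq at hmod2
    rw [h0, Nat.mod_eq_of_lt hlt] at hmod2
    omega

end Cfsg.Agent.Lib.Helper73
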