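import Mathlib
import Cfsg.Prelude.Def_Transfer
import Cfsg.Prelude.Def_PLocal
import Cfsg.Prelude.Def_CaseTheorems
import Cfsg.Agent.S3761
import Cfsg.Agent.Lib.Helper73.SympCentral
import Cfsg.Agent.Lib.Helper73.SympFactor
import Cfsg.Agent.Lib.Helper73.SympFinal
import Cfsg.Agent.Lib.Helper73.TwoGroup
import Cfsg.Agent.Lib.Helper9.ESCrit
import Cfsg.Agent.Lib.Helper9.CoprimeIndex2

/-!
P. Hall's theorem on `p`-groups of symplectic type, from a critical subgroup `C`.
-/

set_option autoImplicit false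

open scoped commutatorElement

namespace Cfsg.Agent.Lib.Helper73

open Subgroup

theorem symp_main {G : Type*} [Group G] [Finite G] [Nontrivial G] {p : ℕ} [hp : Fact p.Prime]
    (hG : IsPGroup p G)
    (hsymp : ∀ A : Subgroup G, A.Characteristic → IsMulCommutative A → IsCyclic A)
    (C : Subgroup G) [hCchar : C.Characteristic]
    (hCpow : ∀ x ∈ C, x ^ p ∈ centralizer (C : Set G))
    (hCcommG : ∀ x ∈ C, ∀ g : G, ⁅x, g⁆ ∈ centralizer (C : Set G))
    (hC4 : centralizer (C : Set G) ≤ C) :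
    ∃ E R : Subgroup G, (∀ e ∈ E, ∀ r ∈ R, e * r = r * e) ∧ E ⊔ R = ⊤ ∧
      (E = ⊥ ∨ Cfsg.IsExtraspecial p ↥E) ∧
      (IsCyclic R ∨ (p = 2 ∧ 16 ≤ Nat.card R ∧ ((∃ m : ℕ, Nonempty (↥R ≃* DihedralGroup m)) ∨
        (∃ m : ℕ, Nonempty (↥R ≃* QuaternionGroup m)) ∨ Cfsg.IsQuasiDihedral ↥R))) := by
  classical
  have hp0 : 0 < p := hp.out.pos
  set Z := centralizer (C : Set G) with hZdef
  have hZchar : Z.Characteristic := inferInstance
  have hZn : Z.Normal := inferInstance
  have hZmem : ∀ z, z ∈ Z ↔ ∀ c ∈ C, Commute z c := by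
    intro z
    rw [hZdef, Subgroup.mem_centralizer_iff]
    exact ⟨fun h c hc => (h c hc).symm, fun h c hc => (h c hc).symm.eq⟩
  have hZcentC : ∀ z ∈ Z, ∀ c ∈ C, Commute z c := fun z hz => (hZmem z).mp hz
  have hZabel : ∀ z ∈ Z, ∀ z' ∈ Z, Commute z z' := fun z hz z' hz' => hZcentC z hz z' (hC4 hz')
  have hZab : IsMulCommutative Z :=
    ⟨⟨fun x y => Subtype.ext (hZabel x.1 x.2 y.1 y.2).eq⟩⟩
  have hZcyc : IsCyclic Z := hsymp Z hZchar hZab
  obtain ⟨g, hg⟩ := hZcyc.exists_generator
  set a : G := (g : G) with ha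
  have haZ : a ∈ Z := g.2
  have hZa : ∀ z ∈ Z, ∃ k : ℕ, z = a ^ k := by
    intro z hz
    have h1 : (⟨z, hz⟩ : Z) ∈ zpowers g := hg ⟨z, hz⟩
    rw [← (isOfFinOrder_of_finite g).mem_powers_iff_mem_zpowers, Submonoid.mem_powers_iff] at h1
    obtain ⟨k, hk⟩ := h1
    refine ⟨k, ?_⟩
    have := congrArg Subtype.val hk
    simpa using this.symm
  obtain ⟨n, hn⟩ := (hG.to_subgroup Z).exists_card_eq
  have horda : orderOf a = p ^ n := by
    rw [ha, Subgroup.orderOf_coe, orderOf_eq_card_of_forall_mem_zpowers hg, hn]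
  have hcenterZ : Subgroup.center G ≤ Z := by
    intro z hz
    rw [hZmem]
    intro c _
    rw [Subgroup.mem_center_iff] at hz
    exact (hz c).symm
  have hn1 : 1 ≤ n := by
    by_contra h
    have h0 : n = 0 := by omega
    rw [h0, pow_zero] at hn
    have hnt : Nontrivial (Subgroup.center G) := hG.center_nontrivial
    obtain ⟨z, hz1⟩ := exists_ne (1 : Subgroup.center G)
    have hzZ : (z : G) ∈ Z := hcenterZ z.2
    have hsub : Subsingleton Z := (Nat.card_eq_one_iff_unique.mp hn).1
    have h1 : (⟨z, hzZ⟩ : Z) = 1 := Subsingleton.elim _ _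
    apply hz1
    apply Subtype.ext
    exact congrArg (fun t : ↥Z => (t : G)) h1
  set d₀ : G := a ^ p ^ (n - 1) with hd₀
  have hd₀p : d₀ ^ p = 1 := by
    rw [hd₀, ← pow_mul, ← pow_succ, Nat.sub_add_cancel hn1, ← horda, pow_orderOf_eq_one]
  have hd₀1 : d₀ ≠ 1 := by
    apply pow_ne_one_of_lt_orderOf (pow_pos hp0 _).ne'
    rw [horda]
    exact Nat.pow_lt_pow_right hp.out.one_lt (by omega)
  have hd₀ord : orderOf d₀ = p := orderOf_eq_prime hd₀p hd₀1
  set D := zpowers d₀ with hDdef
  have hDp : Nat.card D = p := by rw [hDdef, Nat.card_zpowers, hd₀ord]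
  have hd₀Z : d₀ ∈ Z := pow_mem haZ _
  have hDZ : D ≤ Z := by rw [hDdef, zpowers_le]; exact hd₀Z
  have hZzp : ∀ z ∈ Z, z ∈ zpowers a := by
    intro z hz
    obtain ⟨k, rfl⟩ := hZa z hz
    exact pow_mem (mem_zpowers a) k
  have hDomega : ∀ z ∈ Z, z ^ p = 1 → z ∈ D := by
    intro z hz hzp
    exact mem_zpowers_of_pow_eq_one hp.out (isOfFinOrder_of_finite a) (hZzp z hz)
      (hZzp d₀ hd₀Z) hd₀1 hd₀p hzp
  have hDpow : ∀ d ∈ D, d ^ p = 1 := by
    intro d hd
    obtain ⟨k, rfl⟩ := mem_zpowers_iff.mp hd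
    rw [← zpow_natCast, ← zpow_mul, mul_comm, zpow_mul, zpow_natCast, hd₀p, one_zpow]
  have hDn : D.Normal := by
    constructor
    intro d hd g
    apply hDomega _ (hZn.conj_mem d (hDZ hd) g)
    rw [conj_pow, hDpow d hd, mul_one, mul_inv_cancel]
  have hDcent : ∀ d ∈ D, ∀ g : G, Commute d g := by
    have hDne : D ≠ ⊥ := by
      intro h
      apply hd₀1
      have : d₀ ∈ D := mem_zpowers d₀
      rw [h, Subgroup.mem_bot] at this
      exact this
    obtain ⟨z, hzD, hz1, hzc⟩ := exists_ne_one_mem_center_of_normal' hG D hDne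
    intro d hd g
    have hdz : d ∈ zpowers z := mem_zpowers_of_pow_eq_one hp.out (isOfFinOrder_of_finite a)
      (hZzp d (hDZ hd)) (hZzp z (hDZ hzD)) hz1 (hDpow z hzD) (hDpow d hd)
    obtain ⟨k, rfl⟩ := mem_zpowers_iff.mp hdz
    rw [Subgroup.mem_center_iff] at hzc
    exact Commute.zpow_left (show Commute z g from (hzc g).symm) k
  have hCcomm : ∀ x ∈ C, ∀ y ∈ C, ⁅x, y⁆ ∈ D := by
    intro x hx y hy
    have h1 : ⁅x, y⁆ ∈ Z := hCcommG x hx y
    apply hDomega _ h1
    have h2 : Commute ⁅x, y⁆ y := hZcentC _ h1 y hy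
    rw [← Cfsg.Agent.Lib.Helper24.commutatorElement_pow_right_of_commute y x h2 p,
      commutatorElement_eq_one_iff_commute]
    exact (hZcentC _ (hCpow y hy) x hx).symm
  -- every coset of Z in C contains an element with p-th power in D
  have hstar : ∀ x ∈ C, ∃ z ∈ Z, (x * z) ^ p ∈ D := by
    by_cases h21 : p = 2 ∧ n = 1
    · intro x hx
      refine ⟨1, one_mem _, ?_⟩
      rw [mul_one]
      have hZD : D = Z := by
        apply Subgroup.eq_of_le_of_card_ge hDZ
        rw [hn, hDp, h21.2, pow_one]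
      rw [hZD]
      exact hCpow x hx
    · have hDV : D ≤ C ⊓ centralizer (C : Set G) :=
        fun d hd => Subgroup.mem_inf.mpr ⟨hC4 (hDZ hd), hDZ hd⟩
      have h2 : p ≠ 2 ∨ ∀ d ∈ D, ∃ v ∈ C ⊓ centralizer (C : Set G), d = v ^ p := by
        by_cases hp2 : p = 2
        · right
          have hn2 : 2 ≤ n := by
            rcases Nat.lt_or_ge n 2 with h | h
            · exact absurd ⟨hp2, by omega⟩ h21
            · exact h
          intro d hd
          obtain ⟨k, rfl⟩ := mem_zpowers_iff.mp hd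
          have hmemZ : (a ^ p ^ (n - 2)) ^ k ∈ Z := zpow_mem (pow_mem haZ _) k
          refine ⟨(a ^ p ^ (n - 2)) ^ k, Subgroup.mem_inf.mpr ⟨hC4 hmemZ, hmemZ⟩, ?_⟩
          rw [← zpow_natCast ((a ^ p ^ (n - 2)) ^ k) p, ← zpow_mul, mul_comm, zpow_mul,
            zpow_natCast, ← pow_mul, ← pow_succ]
          have : n - 2 + 1 = n - 1 := by omega
          rw [this]
        · exact Or.inl hp2
      intro x hx
      obtain ⟨v, hv, hxv⟩ := pow_mem_pow_center hG hsymp C D hDp hDV hCcomm hCpow h2 x hx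
      have hvZ : v ∈ Z := hv.2
      refine ⟨v⁻¹, inv_mem hvZ, ?_⟩
      have hc : Commute x v⁻¹ := ((hZcentC v hvZ x hx).symm).inv_right
      rw [hc.mul_pow, hxv, inv_pow, mul_inv_cancel]
      exact one_mem _
  obtain ⟨E, hDE, hEC, hEZ, hCEZ⟩ :=
    exists_central_factor hp.out C Z D hDZ hC4 hZcentC hCcomm hstar
  have hEpow : ∀ e ∈ E, e ^ p ∈ D := fun e he =>
    hEZ (Subgroup.mem_inf.mpr ⟨pow_mem he p, hCpow e (hEC he)⟩)
  have hEcommG : ∀ e ∈ E, ∀ g : G, ⁅e, g⁆ ∈ D := by
    intro e he g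
    have h1 : ⁅g, e⁆ ∈ Z := by
      rw [← comm_inv_swap]; exact inv_mem (hCcommG e (hEC he) g)
    have h2 : Commute ⁅g, e⁆ e := hZcentC _ h1 e (hEC he)
    have h3 : ⁅g, e⁆ ∈ D := by
      apply hDomega _ h1
      rw [← Cfsg.Agent.Lib.Helper24.commutatorElement_pow_right_of_commute e g h2 p,
        commutatorElement_eq_one_iff_commute]
      exact (hDcent _ (hEpow e he) g).symm
    rw [← comm_inv_swap]; exact inv_mem h3
  have hEZc : ∀ e ∈ E, ∀ z ∈ Z, Commute e z :=
    fun e he z hz => (hZcentC z hz e (hEC he)).symm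
  have hEcenter : ∀ e ∈ E, (∀ e' ∈ E, Commute e e') → e ∈ D := by
    intro e he hcen
    apply hEZ
    refine Subgroup.mem_inf.mpr ⟨he, ?_⟩
    rw [hZmem]
    intro c hc
    obtain ⟨e', he', z, hz, rfl⟩ := hCEZ c hc
    exact (hcen e' he').mul_right (hEZc e he z hz)
  obtain ⟨hEn, hGER⟩ := exists_mul_centralizer hG D E hDp.le hDcent hDE hEcommG hEcenter
  set R := centralizer (E : Set G) with hRdef
  have hRmem : ∀ r, r ∈ R ↔ ∀ e ∈ E, Commute r e := by
    intro r
    rw [hRdef, Subgroup.mem_centralizer_iff]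
    exact ⟨fun h e he => (h e he).symm, fun h e he => (h e he).symm.eq⟩
  have hZR : Z ≤ R := fun z hz => (hRmem z).mpr (fun e he => (hEZc e he z hz).symm)
  have hCRZ : ∀ r ∈ R, (∀ z ∈ Z, Commute r z) → r ∈ Z := by
    intro r hr hrz
    rw [hZmem]
    intro c hc
    obtain ⟨e', he', z, hz, rfl⟩ := hCEZ c hc
    exact ((hRmem r).mp hr e' he').mul_right (hrz z hz)
  -- the extraspecial factor
  obtain ⟨E', hE'comm, hE'sup, hE'es⟩ : ∃ E' : Subgroup G, (∀ e ∈ E', ∀ r ∈ R, e * r = r * e) ∧
      E' ⊔ R = ⊤ ∧ (E' = ⊥ ∨ Cfsg.IsExtraspecial p ↥E') := by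
    by_cases hEab : ∀ e ∈ E, ∀ e' ∈ E, Commute e e'
    · refine ⟨⊥, ?_, ?_, Or.inl rfl⟩
      · intro e he r _
        rw [Subgroup.mem_bot] at he
        subst he
        simp
      · rw [bot_sup_eq, eq_top_iff]
        intro x _
        obtain ⟨e, he, r, hr, rfl⟩ := hGER x
        exact mul_mem ((hRmem e).mpr (fun e' he' => hEab e he e' he')) hr
    · refine ⟨E, ?_, ?_, Or.inr ?_⟩
      · intro e he r hr
        exact ((hRmem r).mp hr e he).symm.eq
      · rw [eq_top_iff]
        intro x _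
        obtain ⟨e, he, r, hr, rfl⟩ := hGER x
        exact mul_mem ((le_sup_left : E ≤ E ⊔ R) he) ((le_sup_right : R ≤ E ⊔ R) hr)
      · apply Cfsg.Agent.Lib.Helper9.isExtraspecial_of_center_card p (hG.to_subgroup E)
        · have hmap : (Subgroup.center ↥E).map E.subtype = D := by
            ext x
            constructor
            · rintro ⟨e, he, rfl⟩
              rw [SetLike.mem_coe, Subgroup.mem_center_iff] at he
              apply hEcenter e.1 e.2
              intro e' he'
              have := he ⟨e', he'⟩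
              exact (congrArg Subtype.val this).symm
            · intro hx
              refine ⟨⟨x, hDE hx⟩, ?_, rfl⟩
              rw [SetLike.mem_coe, Subgroup.mem_center_iff]
              intro g
              apply Subtype.ext
              exact (hDcent x hx g.1).symm.eq
          rw [← hDp, ← hmap, Subgroup.card_map_of_injective E.subtype_injective]
        · intro x y
          rw [Subgroup.mem_center_iff]
          intro g
          apply Subtype.ext
          have hxy : ((x * y * x⁻¹ * y⁻¹ : E) : G) = ⁅(x : G), (y : G)⁆ := by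
            simp [commutatorElement_def]
          have hxy' : ((x * y * x⁻¹ * y⁻¹ : E) : G) ∈ D := by
            rw [hxy]; exact hEcommG x.1 x.2 y.1
          show (g : G) * ((x * y * x⁻¹ * y⁻¹ : E) : G) = ((x * y * x⁻¹ * y⁻¹ : E) : G) * (g : G)
          exact (hDcent _ hxy' g.1).symm.eq
        · intro x
          rw [Subgroup.mem_center_iff]
          intro g
          apply Subtype.ext
          simp only [Subgroup.coe_mul, Subgroup.coe_pow]
          exact (hDcent _ (hEpow x.1 x.2) g.1).symm.eq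
        · push Not at hEab
          obtain ⟨e, he, e', he', hne⟩ := hEab
          exact ⟨⟨e, he⟩, ⟨e', he'⟩, fun h => hne (congrArg Subtype.val h)⟩
  have hfinal : Cfsg.IsExtraspecial p ↥(⊤ : Subgroup G) →
      ∃ E R : Subgroup G, (∀ e ∈ E, ∀ r ∈ R, e * r = r * e) ∧ E ⊔ R = ⊤ ∧
      (E = ⊥ ∨ Cfsg.IsExtraspecial p ↥E) ∧
      (IsCyclic R ∨ (p = 2 ∧ 16 ≤ Nat.card R ∧ ((∃ m : ℕ, Nonempty (↥R ≃* DihedralGroup m)) ∨
        (∃ m : ℕ, Nonempty (↥R ≃* QuaternionGroup m)) ∨ Cfsg.IsQuasiDihedral ↥R))) := by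
    intro hES
    refine ⟨⊤, ⊥, ?_, ?_, Or.inr hES, Or.inl ?_⟩
    · intro e _ r hr
      rw [Subgroup.mem_bot] at hr
      subst hr
      simp
    · simp
    · exact isCyclic_of_subsingleton
  by_cases hRab : ∀ r ∈ R, ∀ s ∈ R, Commute r s
  · have hRZ : R = Z :=
      le_antisymm (fun r hr => hCRZ r hr (fun z hz => hRab r hr z (hZR hz))) hZR
    exact ⟨E', R, hE'comm, hE'sup, hE'es, Or.inl (by rw [hRZ]; exact hZcyc)⟩
  · have hn2 : 2 ≤ n := by
      by_contra h
      have h1 : n = 1 := by omega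
      apply hRab
      have hZD : D = Z := by
        apply Subgroup.eq_of_le_of_card_ge hDZ
        rw [hn, hDp, h1, pow_one]
      intro r hr s _
      have hrZ : r ∈ Z := hCRZ r hr (fun z hz => (hDcent z (hZD ▸ hz) r).symm)
      exact hDcent r (hZD ▸ hrZ) s
    have hZX : Z ≤ centralizer {y : G | ∃ z ∈ Z, y = z ^ p} := by
      intro z hz
      rw [Subgroup.mem_centralizer_iff]
      rintro y ⟨z', hz', rfl⟩
      exact (hZabel _ (pow_mem hz' p) z hz).eq
    set U : Subgroup ↥R := Z.subgroupOf R with hUdef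
    have hUn : U.Normal := hZn.subgroupOf R
    have eU : ↥U ≃* ↥Z := Subgroup.subgroupOfEquivOfLe hZR
    have hUcyc : IsCyclic U :=
      isCyclic_of_surjective eU.symm.toMonoidHom eU.symm.surjective
    have hUcard : Nat.card U = p ^ n := by rw [Nat.card_congr eU.toEquiv, hn]
    have hUcent : centralizer (U : Set ↥R) = U := by
      ext r
      rw [Subgroup.mem_centralizer_iff, hUdef, Subgroup.mem_subgroupOf]
      constructor
      · intro h
        apply hCRZ r.1 r.2
        intro z hz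
        have := h ⟨z, hZR hz⟩ (by rw [SetLike.mem_coe, Subgroup.mem_subgroupOf]; exact hz)
        exact (congrArg Subtype.val this).symm
      · intro hr u hu
        rw [SetLike.mem_coe, Subgroup.mem_subgroupOf] at hu
        apply Subtype.ext
        exact (hZabel u.1 hu r.1 hr).eq
    have hna : ¬ IsMulCommutative ↥R := by
      intro h
      apply hRab
      intro r hr s hs
      have := h.is_comm.comm ⟨r, hr⟩ ⟨s, hs⟩
      exact congrArg Subtype.val this
    rcases Cfsg.Agent.S3761.result (hG.to_subgroup R) hna U hUcyc n hUcard hUcent with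
      ⟨hp2, hRcard, hiso⟩ | ⟨hrel, -, -, -⟩
    · by_cases hn3 : 3 ≤ n
      · refine ⟨E', R, hE'comm, hE'sup, hE'es, Or.inr ⟨hp2, ?_, hiso⟩⟩
        rw [hRcard]
        calc 16 = 2 ^ 4 := by norm_num
          _ ≤ 2 ^ (n + 1) := Nat.pow_le_pow_right (by norm_num) (by omega)
      · have hn2' : n = 2 := by omega
        have hM : Nat.card ↥(R ⊓ centralizer {y : G | ∃ z ∈ Z, y = z ^ p}) = p * Nat.card Z := by
          have hRX : R ⊓ centralizer {y : G | ∃ z ∈ Z, y = z ^ p} = R := by
            apply inf_eq_left.mpr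
            intro r _
            rw [Subgroup.mem_centralizer_iff]
            rintro y ⟨z, hz, rfl⟩
            have hzD : z ^ p ∈ D := by
              apply hDomega _ (pow_mem hz p)
              obtain ⟨k, rfl⟩ := hZa z hz
              have hpp : p * p = orderOf a := by rw [horda, hn2', sq]
              rw [← pow_mul, ← pow_mul, mul_comm k, pow_mul, hpp, pow_orderOf_eq_one, one_pow]
            exact (hDcent _ hzD r).eq
          rw [hRX, hRcard, hn, hn2', hp2]
          norm_num
        obtain ⟨-, hES⟩ := symp_final hG hsymp Z D E a n hn2 haZ hZa horda hDp hDZ hDcent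
          hDomega hEcommG hEpow hEZc hGER hCRZ hM
        exact hfinal hES
    · have hMr : centralizer (Cfsg.powerClosure p 1 U : Set ↥R) =
          (R ⊓ centralizer {y : G | ∃ z ∈ Z, y = z ^ p}).subgroupOf R := by
        ext r
        rw [Subgroup.mem_subgroupOf, Subgroup.mem_inf, Subgroup.mem_centralizer_iff]
        constructor
        · intro h
          refine ⟨r.2, ?_⟩
          rw [Subgroup.mem_centralizer_iff]
          rintro y ⟨z, hz, rfl⟩
          have hmem : (⟨z, hZR hz⟩ : ↥R) ^ p ^ 1 ∈ (Cfsg.powerClosure p 1 U : Set ↥R) := by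
            apply Subgroup.subset_closure
            exact ⟨⟨z, hZR hz⟩, by rw [hUdef, Subgroup.mem_subgroupOf]; exact hz, rfl⟩
          have h1 := h _ hmem
          have h2 := congrArg Subtype.val h1
          simpa using h2
        · rintro ⟨-, h⟩ y hy
          rw [Subgroup.mem_centralizer_iff] at h
          have hle : Cfsg.powerClosure p 1 U ≤ centralizer ({r} : Set ↥R) := by
            unfold Cfsg.powerClosure
            rw [Subgroup.closure_le]
            rintro y ⟨u, hu, rfl⟩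
            rw [SetLike.mem_coe, Subgroup.mem_centralizer_iff]
            intro s hs
            rw [Set.mem_singleton_iff] at hs
            subst hs
            apply Subtype.ext
            have h1 := h ((u : G) ^ p) ⟨u.1, Subgroup.mem_subgroupOf.mp hu, rfl⟩
            simp only [Subgroup.coe_mul, Subgroup.coe_pow, pow_one]
            exact h1.symm
          have h3 := hle hy
          rw [Subgroup.mem_centralizer_iff] at h3
          exact (h3 r rfl).symm
      rw [hMr] at hrel
      have hULe : U ≤ (R ⊓ centralizer {y : G | ∃ z ∈ Z, y = z ^ p}).subgroupOf R := by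
        intro u hu
        rw [Subgroup.mem_subgroupOf]
        exact Subgroup.mem_inf.mpr ⟨u.2, hZX (Subgroup.mem_subgroupOf.mp hu)⟩
      have hM : Nat.card ↥(R ⊓ centralizer {y : G | ∃ z ∈ Z, y = z ^ p}) = p * Nat.card Z := by
        have h1 := Cfsg.Agent.Lib.Helper9.relIndex_mul_card_of_le hULe
        rw [hrel, hUcard] at h1
        have h2 : Nat.card ↥((R ⊓ centralizer {y : G | ∃ z ∈ Z, y = z ^ p}).subgroupOf R) =
            Nat.card ↥(R ⊓ centralizer {y : G | ∃ z ∈ Z, y = z ^ p}) :=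
          Nat.card_congr (Subgroup.subgroupOfEquivOfLe inf_le_left).toEquiv
        rw [← h2, ← h1, hn]
      obtain ⟨-, hES⟩ := symp_final hG hsymp Z D E a n hn2 haZ hZa horda hDp hDZ hDcent
        hDomega hEcommG hEpow hEZc hGER hCRZ hM
      exact hfinal hES

end Cfsg.Agent.Lib.Helper73
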