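import Mathlib
import Cfsg.Agent.Lib.Helper73.Suzuki

set_option autoImplicit false

/-!
# `p`-groups of maximal class: `|G : G'| = p ^ 2`

* `nilpotencyClass_le_of_card_prime_pow` : a group of order `p ^ m`, `m ≥ 2`, has class `≤ m - 1`.
* `center_le_commutator_of_card_center` : in a nilpotent group of class `≥ 2` whose center has
  prime order, the center lies in the commutator subgroup.
* `index_commutator_of_maximal_class` : order `p ^ n`, `n ≥ 2`, class `n - 1` implies
  `(commutator G).index = p ^ 2`.
-/

namespace Cfsg.Agent.Lib.Helper73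

open Subgroup

universe u

theorem nilpotencyClass_le_one_of_comm {G : Type*} [Group G]
    (h : ∀ a b : G, a * b = b * a) : Group.nilpotencyClass G ≤ 1 := by
  let _ : CommGroup G := { (inferInstance : Group G) with mul_comm := h }
  exact CommGroup.nilpotencyClass_le_one (G := G)

theorem card_quotient_center_of_card {p : ℕ} [hp : Fact p.Prime] {X : Type*} [Group X] [Finite X]
    {m j : ℕ} (hX : Nat.card X = p ^ m) (hZ : Nat.card (Subgroup.center X) = p ^ j) :
    j ≤ m ∧ Nat.card (X ⧸ Subgroup.center X) = p ^ (m - j) := by
  have hp1 := hp.out.one_lt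
  have hjm : j ≤ m := by
    have h1 : Nat.card (Subgroup.center X) ≤ Nat.card X := Subgroup.card_le_card_group _
    rw [hX, hZ] at h1
    exact (Nat.pow_le_pow_iff_right hp1).mp h1
  refine ⟨hjm, ?_⟩
  have h1 := Subgroup.card_eq_card_quotient_mul_card_subgroup (Subgroup.center X)
  rw [hX, hZ] at h1
  have h2 : p ^ m = p ^ (m - j) * p ^ j := by rw [← pow_add]; congr 1; omega
  rw [h2] at h1
  exact (Nat.eq_of_mul_eq_mul_right (pow_pos hp.out.pos j) h1).symm

/-- A group of order `p ^ m` with `m ≥ 2` has nilpotency class at most `m - 1`. -/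
theorem nilpotencyClass_le_of_card_prime_pow {p : ℕ} [hp : Fact p.Prime] :
    ∀ (m : ℕ) (Y : Type u) [Group Y] [Finite Y], Nat.card Y = p ^ m → 2 ≤ m →
      Group.nilpotencyClass Y ≤ m - 1 := by
  intro m
  induction m using Nat.strong_induction_on with
  | _ m ih =>
    intro Y _ _ hY hm
    have hp1 := hp.out.one_lt
    have hYp : IsPGroup p Y := IsPGroup.of_card hY
    have hnil : Group.IsNilpotent Y := hYp.isNilpotent
    have hYnt : Nontrivial Y := by
      apply (Finite.one_lt_card_iff_nontrivial).mp
      rw [hY]; exact Nat.one_lt_pow (by omega) hp1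
    by_cases hm2 : m = 2
    · subst hm2
      exact nilpotencyClass_le_one_of_comm (comm_of_card_prime_pow_le_two (le_refl 2) hY)
    · obtain ⟨j, hj0, hj⟩ := IsPGroup.card_center_eq_prime_pow hY (by omega : 0 < m)
      obtain ⟨hjm, hQ⟩ := card_quotient_center_of_card hY hj
      rw [Group.nilpotencyClass_eq_quotient_center_plus_one]
      by_cases h2 : 2 ≤ m - j
      · have := ih (m - j) (by omega) (Y ⧸ Subgroup.center Y) hQ h2
        omega
      · have := nilpotencyClass_le_one_of_comm
          (comm_of_card_prime_pow_le_two (by omega : m - j ≤ 2) hQ)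
        omega

/-- In a nilpotent group of class at least 2 whose center has prime order, the center lies in the
commutator subgroup. -/
theorem center_le_commutator_of_card_center {p : ℕ} [hp : Fact p.Prime] {X : Type*} [Group X]
    [Finite X] [hnil : Group.IsNilpotent X] (hc : 2 ≤ Group.nilpotencyClass X)
    (hZ : Nat.card (Subgroup.center X) = p) : Subgroup.center X ≤ commutator X := by
  obtain ⟨c, hc'⟩ : ∃ c, Group.nilpotencyClass X = c + 2 := ⟨Group.nilpotencyClass X - 2, by omega⟩
  have hbot : (⊤ : Subgroup X).lowerCentralSeries (c + 2) = ⊥ := by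
    rw [Subgroup.lowerCentralSeries_eq_bot_iff_nilpotencyClass_le, hc']
  have hne : (⊤ : Subgroup X).lowerCentralSeries (c + 1) ≠ ⊥ := by
    intro h
    rw [Subgroup.lowerCentralSeries_eq_bot_iff_nilpotencyClass_le, hc'] at h
    omega
  have hle1 : (⊤ : Subgroup X).lowerCentralSeries (c + 1) ≤ Subgroup.center X := by
    rw [Subgroup.lowerCentralSeries_succ, Subgroup.commutator_eq_bot_iff_le_centralizer] at hbot
    intro x hx
    have := hbot hx
    rw [Subgroup.coe_top, Subgroup.centralizer_univ] at this
    exact this
  have hle2 : (⊤ : Subgroup X).lowerCentralSeries (c + 1) ≤ commutator X := by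
    rw [← Subgroup.top_lowerCentralSeries_one]
    exact Subgroup.lowerCentralSeries_antitone (S := (⊤ : Subgroup X)) (show 1 ≤ c + 1 by omega)
  have heq : (⊤ : Subgroup X).lowerCentralSeries (c + 1) = Subgroup.center X := by
    apply Subgroup.eq_of_le_of_card_ge hle1
    have h1 : Nat.card ((⊤ : Subgroup X).lowerCentralSeries (c + 1)) ∣ p := by
      rw [← hZ]; exact Subgroup.card_dvd_of_le hle1
    rcases (Nat.dvd_prime hp.out).mp h1 with h | h
    · exfalso
      exact hne (Subgroup.card_eq_one.mp h)
    · rw [hZ, h]
  rw [← heq]; exact hle2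

/-- A `p`-group of order `p ^ n` (`n ≥ 2`) and class `n - 1` has `|G : G'| = p ^ 2`. -/
theorem index_commutator_of_maximal_class {p : ℕ} [hp : Fact p.Prime] :
    ∀ (n : ℕ) (X : Type u) [Group X] [Finite X], Nat.card X = p ^ n → 2 ≤ n →
      Group.nilpotencyClass X = n - 1 → (commutator X).index = p ^ 2 := by
  intro n
  induction n with
  | zero => intro X _ _ _ h; omega
  | succ n ih =>
    intro X _ _ hX hn hcl
    have hp1 := hp.out.one_lt
    have hXp : IsPGroup p X := IsPGroup.of_card hX
    have hnil : Group.IsNilpotent X := hXp.isNilpotent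
    by_cases hn2 : n + 1 = 2
    · rw [hn2] at hX
      have hcomm := comm_of_card_prime_pow_le_two (le_refl 2) hX
      have : commutator X = ⊥ := by
        rw [commutator_def, Subgroup.commutator_eq_bot_iff_le_centralizer]
        intro x _
        rw [Subgroup.mem_centralizer_iff]
        intro y _
        exact hcomm y x
      rw [this, Subgroup.index_bot, hX]
    · have hn3 : 2 ≤ n := by omega
      obtain ⟨j, hj0, hj⟩ := IsPGroup.card_center_eq_prime_pow hX (by omega : 0 < n + 1)
      obtain ⟨hjm, hQ⟩ := card_quotient_center_of_card hX hj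
      have hclQ : Group.nilpotencyClass (X ⧸ Subgroup.center X) = n - 1 := by
        rw [Group.nilpotencyClass_quotient_center, hcl]; omega
      have hj1 : j = 1 := by
        by_cases h2 : 2 ≤ n + 1 - j
        · have := nilpotencyClass_le_of_card_prime_pow (p := p) (n + 1 - j)
            (X ⧸ Subgroup.center X) hQ h2
          rw [hclQ] at this
          omega
        · exfalso
          have hcyc : IsCyclic (X ⧸ Subgroup.center X) := by
            have h01 : n + 1 - j = 0 ∨ n + 1 - j = 1 := by omega
            rcases h01 with h | h
            · rw [h, pow_zero] at hQ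
              have := (Nat.card_eq_one_iff_unique.mp hQ).1
              exact isCyclic_of_subsingleton
            · rw [h, pow_one] at hQ
              exact isCyclic_of_prime_card hQ
          have hcomm := (MonoidHom.isMulCommutative_of_isCyclic_of_ker_le_center
            (QuotientGroup.mk' (Subgroup.center X)) (by rw [QuotientGroup.ker_mk'])).is_comm.comm
          have := nilpotencyClass_le_one_of_comm hcomm
          rw [hcl] at this; omega
      subst hj1
      rw [pow_one] at hj
      have hQ' : Nat.card (X ⧸ Subgroup.center X) = p ^ n := by simpa using hQ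
      have hih := ih (X ⧸ Subgroup.center X) hQ' hn3 hclQ
      have hZle := center_le_commutator_of_card_center (p := p) (X := X) (by rw [hcl]; omega) hj
      have hmap : (commutator X).map (QuotientGroup.mk' (Subgroup.center X)) =
          commutator (X ⧸ Subgroup.center X) := by
        rw [commutator_def, commutator_def, Subgroup.map_commutator, ← MonoidHom.range_eq_map,
          MonoidHom.range_eq_top.mpr (QuotientGroup.mk'_surjective _)]
      rw [← hih, ← hmap]
      symm
      exact Subgroup.index_map_eq _ (QuotientGroup.mk'_surjective _)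
        (by rw [QuotientGroup.ker_mk']; exact hZle)

end Cfsg.Agent.Lib.Helper73
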