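import Mathlib
import Cfsg.Agent.Lib.Helper40.OrthModel
import Cfsg.Agent.Lib.Helper40.PSLOrders

/-!
# S2474 MODULE [TORUS+] (helper73, for helper40)

The split torus: `GL_d(q) ≤ O⁺_{2d}(q)` gives isometries of every order `t ∣ q ^ d - 1`.
-/

set_option autoImplicit false

namespace Cfsg.Agent.Lib.Helper73.OrthTorus

open Matrix

/-- the embedding `g ↦ diag(g, g⁻ᵀ)` of `GL_d` into the matrices of size `2d`. -/
noncomputable def hypHom {F : Type*} [Field F] (d : ℕ) :
    GL (Fin d) F →* Matrix (Fin d ⊕ Fin d) (Fin d ⊕ Fin d) F where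
  toFun g := fromBlocks (g : Matrix (Fin d) (Fin d) F) 0 0
    ((g⁻¹ : GL (Fin d) F) : Matrix (Fin d) (Fin d) F)ᵀ
  map_one' := by
    simp [fromBlocks_one]
  map_mul' g h := by
    rw [fromBlocks_multiply]
    simp only [Matrix.mul_zero, Matrix.zero_mul, add_zero, zero_add]
    rw [_root_.mul_inv_rev, Units.val_mul, Units.val_mul, transpose_mul]

theorem hypHom_injective {F : Type*} [Field F] (d : ℕ) : Function.Injective (hypHom (F := F) d) := by
  intro g h hgh
  have := (fromBlocks_inj.mp hgh).1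
  exact Units.ext this

/-- S2474 MODULE [TORUS+] -/
theorem orthModel_torus_plus {F : Type*} [Field F] [Fintype F] (d : ℕ) (hd : 1 ≤ d) (t : ℕ)
    (ht : t ∣ Fintype.card F ^ d - 1) : Cfsg.Agent.Lib.Helper40.OrthModel F (2 * d) t := by
  classical
  obtain ⟨p, hp⟩ := CharP.exists F
  have := hp
  have : Fact p.Prime := ⟨CharP.char_is_prime F p⟩
  obtain ⟨g, hg⟩ := Cfsg.Agent.Lib.Helper40.exists_orderOf_GL (F := F) p d d hd le_rfl t ht
  let B : Matrix (Fin d ⊕ Fin d) (Fin d ⊕ Fin d) F := fromBlocks 0 1 1 0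
  have hBB : B * B = 1 := by
    show fromBlocks 0 1 1 0 * fromBlocks 0 1 1 0 = (1 : Matrix (Fin d ⊕ Fin d) (Fin d ⊕ Fin d) F)
    rw [fromBlocks_multiply]
    simp [fromBlocks_one]
  refine Cfsg.Agent.Lib.Helper40.orthModel_of_fintype (κ := Fin d ⊕ Fin d) (by simp; ring) B
    (hypHom d g) ?_ ?_ ?_ ?_
  · show (fromBlocks 0 1 1 0 : Matrix (Fin d ⊕ Fin d) (Fin d ⊕ Fin d) F)ᵀ = fromBlocks 0 1 1 0
    rw [fromBlocks_transpose]
    simp
  · intro h
    have := congrArg Matrix.det hBB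
    rw [det_mul, h, zero_mul, det_one] at this
    exact zero_ne_one this
  · show (fromBlocks (g : Matrix (Fin d) (Fin d) F) 0 0
        ((g⁻¹ : GL (Fin d) F) : Matrix (Fin d) (Fin d) F)ᵀ)ᵀ * fromBlocks 0 1 1 0 *
        fromBlocks (g : Matrix (Fin d) (Fin d) F) 0 0
        ((g⁻¹ : GL (Fin d) F) : Matrix (Fin d) (Fin d) F)ᵀ = fromBlocks 0 1 1 0
    rw [fromBlocks_transpose, fromBlocks_multiply, fromBlocks_multiply]
    have h1 : ((g⁻¹ : GL (Fin d) F) : Matrix (Fin d) (Fin d) F) * (g : Matrix (Fin d) (Fin d) F)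
        = 1 := by
      rw [← Units.val_mul, inv_mul_cancel, Units.val_one]
    have h2 : (g : Matrix (Fin d) (Fin d) F)ᵀ *
        ((g⁻¹ : GL (Fin d) F) : Matrix (Fin d) (Fin d) F)ᵀ = 1 := by
      rw [← transpose_mul, h1, transpose_one]
    simp only [Matrix.mul_zero, Matrix.zero_mul, add_zero, zero_add, Matrix.mul_one, Matrix.one_mul,
      transpose_zero, transpose_transpose]
    rw [h1, h2]
  · rw [orderOf_injective (hypHom (F := F) d) (hypHom_injective d) g, hg]

end Cfsg.Agent.Lib.Helper73.OrthTorus
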