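import Mathlib
import Cfsg.Agent.Lib.Helper40.OrthModel

/-!
# S2474 MODULE [UNIP] (helper73, for helper40)

A unipotent isometry of order `p` of a nondegenerate symmetric form in dimension 3, `p` odd.
-/

set_option autoImplicit false

namespace Cfsg.Agent.Lib.Helper73.OrthTorus

open Matrix

/-- S2474 MODULE [UNIP] -/
theorem orthModel_unip {F : Type*} [Field F] (p : ℕ) [Fact p.Prime] [CharP F p] (hp2 : p ≠ 2) :
    Cfsg.Agent.Lib.Helper40.OrthModel F 3 p := by
  have hp : p.Prime := Fact.out
  have h2 : (2 : F) ≠ 0 := by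
    intro h
    have h' : ((2 : ℕ) : F) = 0 := by exact_mod_cast h
    rw [CharP.cast_eq_zero_iff F p] at h'
    exact hp2 ((Nat.prime_dvd_prime_iff_eq hp Nat.prime_two).mp h')
  let B : Matrix (Fin 3) (Fin 3) F := !![0, 0, 1; 0, 2, 0; 1, 0, 0]
  let u : Matrix (Fin 3) (Fin 3) F := !![1, 2, -1; 0, 1, -1; 0, 0, 1]
  let N : Matrix (Fin 3) (Fin 3) F := !![0, 2, -1; 0, 0, -1; 0, 0, 0]
  have hBs : Bᵀ = B := by
    ext i j
    fin_cases i <;> fin_cases j <;> simp [B]
  have hBdet : B.det ≠ 0 := by
    have : B.det = -2 := by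
      simp [B, Matrix.det_fin_three]
    rw [this]
    exact neg_ne_zero.mpr h2
  have hu : uᵀ * B * u = B := by
    ext i j
    fin_cases i <;> fin_cases j <;>
      simp [B, u, Matrix.mul_apply, Fin.sum_univ_three] <;> ring
  have huN : u = 1 + N := by
    ext i j
    fin_cases i <;> fin_cases j <;> simp [u, N]
  have hN3 : N ^ 3 = 0 := by
    rw [pow_succ, pow_two]
    ext i j
    fin_cases i <;> fin_cases j <;>
      simp [N, Matrix.mul_apply, Fin.sum_univ_three]
  have hp3 : 3 ≤ p := by
    have := hp.two_le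
    omega
  have hNp : N ^ p = 0 := by
    have : p = 3 + (p - 3) := by omega
    rw [this, pow_add, hN3, zero_mul]
  have hup : u ^ p = 1 := by
    rw [huN, add_pow_char_of_commute p (Commute.one_left N), one_pow, hNp,
      add_zero]
  have hu1 : u ≠ 1 := by
    intro h
    have := congrFun (congrFun h 0) 1
    simp [u] at this
    exact h2 this
  exact ⟨B, u, hBs, hBdet, hu, orderOf_eq_prime hup hu1⟩

end Cfsg.Agent.Lib.Helper73.OrthTorus
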