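import Mathlib
import Cfsg.Agent.Lib.Helper41.N22.Defs
import Cfsg.Agent.Lib.Helper12.PrimeDegree2

/-!
# S4346 module [C42-TRANS] (helper73, for helper41): a subgroup of `Sym(7)` containing an element of
order `7` is transitive.
-/

set_option autoImplicit false

namespace Cfsg.Agent.Lib.Helper73.N22
open Cfsg.Agent.Lib.Helper41.N22

/-- [C42-TRANS] -/
theorem isPretransitive_of_order_seven {X : Type*} [Fintype X] [DecidableEq X]
    (hX : Fintype.card X = 7) (T : Subgroup (Equiv.Perm X)) (t : Equiv.Perm X) (ht : t ∈ T)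
    (hot : orderOf t = 7) : MulAction.IsPretransitive T X := by
  have : Fact (Nat.Prime 7) := ⟨by norm_num⟩
  obtain ⟨ι, hι⟩ := Cfsg.Agent.Lib.Helper12.cycle_param (p := 7) hX t hot
  refine ⟨fun a b => ?_⟩
  obtain ⟨i, rfl⟩ := ι.surjective a
  obtain ⟨j, rfl⟩ := ι.surjective b
  refine ⟨⟨t ^ (j - i).val, T.pow_mem ht _⟩, ?_⟩
  show (t ^ (j - i).val) (ι i) = ι j
  rw [Cfsg.Agent.Lib.Helper12.cycle_param_pow t ι hι, ZMod.natCast_zmod_val]
  congr 1
  ring

end Cfsg.Agent.Lib.Helper73.N22
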