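import Mathlib
import Cfsg.Agent.Lib.Helper48.FL.Defs

/-!
# Project FL (S2863), module FL-[BASIC] (helper73): a vector fixed by `Yh` lies in `W1`
-/

set_option autoImplicit false

namespace Cfsg.Agent.Lib.Helper73.FL

open Cfsg Cfsg.Agent.Lib.Helper48 Cfsg.Agent.Lib.Helper48.FL

universe u

/-- the stabilizer of a vector, as a subgroup of `K` -/
def stabOf {K : Type*} [Group K] {W : Type*} [CommGroup W] (φ : K →* MulAut W) (x : W) :
    Subgroup K where
  carrier := {g | φ g x = x}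
  one_mem' := by simp
  mul_mem' := by
    intro a b ha hb
    simp only [Set.mem_ofPred_eq] at ha hb ⊢
    rw [map_mul, MulAut.mul_apply, hb, ha]
  inv_mem' := by
    intro a ha
    simp only [Set.mem_ofPred_eq] at ha ⊢
    rw [map_inv, MulAut.inv_apply, MulEquiv.symm_apply_eq, ha]

theorem mem_stabOf {K : Type*} [Group K] {W : Type*} [CommGroup W] (φ : K →* MulAut W) (x : W)
    (g : K) : g ∈ stabOf φ x ↔ φ g x = x := Iff.rfl

/-- FL-[BASIC] -/
theorem fix_Yh_mem {K : Type u} [Group K] {W : Type u} [CommGroup W] (φ : K →* MulAut W)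
    {Yh R : Subgroup K} {W1 : Subgroup W} (hM : LMod φ Yh R W1) (hR : R ≠ ⊤)
    (hgen : ∀ k : K, k ∉ R → Yh ⊔ Yh.map (MulAut.conj k).toMonoidHom = ⊤)
    (x : W) (hx : ∀ y ∈ Yh, φ y x = x) : x ∈ W1 := by
  obtain ⟨k, hk⟩ : ∃ k : K, k ∉ R := by
    by_contra h
    push Not at h
    exact hR (top_le_iff.mp fun g _ => h g)
  obtain ⟨a, ha, b, hb, rfl⟩ := hM.span k hk x
  -- `Yh` fixes `φ k b`
  have h1 : Yh ≤ stabOf φ (φ k b) := by
    intro y hy
    rw [mem_stabOf]
    have := hx y hy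
    rw [map_mul, hM.cent y hy a ha] at this
    exact mul_left_cancel this
  have h2 : Yh.map (MulAut.conj k).toMonoidHom ≤ stabOf φ (φ k b) := by
    rintro _ ⟨y, hy, rfl⟩
    rw [mem_stabOf]
    show φ (k * y * k⁻¹) (φ k b) = φ k b
    rw [← MulAut.mul_apply, ← map_mul, inv_mul_cancel_right, map_mul, MulAut.mul_apply,
      hM.cent y hy b hb]
  have h3 : stabOf φ (φ k b) = ⊤ := top_le_iff.mp ((hgen k hk).symm ▸ sup_le h1 h2)
  have h4 : k⁻¹ ∈ stabOf φ (φ k b) := h3 ▸ Subgroup.mem_top _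
  rw [mem_stabOf, ← MulAut.mul_apply, ← map_mul, inv_mul_cancel, map_one, MulAut.one_apply] at h4
  have hb1 : b = 1 := hM.disj k hk b hb (h4 ▸ hb)
  rw [hb1, map_one, mul_one]
  exact ha

end Cfsg.Agent.Lib.Helper73.FL
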