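import Mathlib
import Cfsg.Agent.Lib.Helper48.FL.Defs
import Cfsg.Agent.Lib.Helper73.FLBasic
import Cfsg.Agent.Lib.Helper31.FLDih
import Cfsg.Agent.Lib.Helper31.FLInv
import Cfsg.Agent.Lib.Helper46.FLPow
import Cfsg.Agent.Lib.Helper31.FLKGen2

/-!
# Project FL (S2863), module FL-[TWO] (helper73): the case `|Yh| = 2`

`fpf_two_of` takes the statement of FL-[KGEN2] (`sup_conj_eq_top`) as the hypothesis `hgen`.
-/

set_option autoImplicit false

namespace Cfsg.Agent.Lib.Helper73.FL

open Cfsg Cfsg.Agent.Lib.Helper48 Cfsg.Agent.Lib.Helper48.FL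

universe u

/-- FL-[TWO], with FL-[KGEN2] as a hypothesis -/
theorem fpf_two_of {K : Type u} [Group K] [Finite K] {W : Type u} [CommGroup W] (φ : K →* MulAut W)
    {Yh R : Subgroup K} {W1 : Subgroup W} (hQ : LQuot 2 Yh R) (hM : LMod φ Yh R W1)
    (hgen : ∀ k : K, k ∉ R → Yh ⊔ Yh.map (MulAut.conj k).toMonoidHom = ⊤)
    (hcard : Nat.card Yh = 2) (k : K) (hk : ¬ ∃ n : ℕ, orderOf k = 2 ^ n) : Fpf φ k := by
  classical
  -- `Yh = {1, y}`
  have : Nontrivial Yh := by
    rw [← Finite.one_lt_card_iff_nontrivial, hcard]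
    norm_num
  obtain ⟨⟨y, hyY⟩, hy1⟩ := exists_ne (1 : Yh)
  have hy1' : y ≠ 1 := fun h => hy1 (Subtype.ext h)
  have hall : ∀ z ∈ Yh, z = 1 ∨ z = y := by
    intro z hz
    by_contra hcon
    push Not at hcon
    have h3 : 3 ≤ Nat.card Yh := by
      have : Finite Yh := inferInstance
      let _ : Fintype Yh := Fintype.ofFinite Yh
      rw [Nat.card_eq_fintype_card]
      have hsub : ({1, ⟨y, hyY⟩, ⟨z, hz⟩} : Finset Yh).card = 3 := by
        rw [Finset.card_insert_of_notMem, Finset.card_insert_of_notMem, Finset.card_singleton]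
        · simp only [Finset.mem_singleton, Subtype.mk.injEq]
          exact fun h => hcon.2 h.symm
        · simp only [Finset.mem_insert, Finset.mem_singleton, not_or]
          exact ⟨fun h => hy1 h.symm, fun h => hcon.1 (by simpa using congrArg Subtype.val h.symm)⟩
      rw [← hsub]
      exact Finset.card_le_univ _
    omega
  have hyy : y * y = 1 := by
    rcases hall (y * y) (Yh.mul_mem hyY hyY) with h | h
    · exact h
    · exact absurd (by simpa using h : y = 1) hy1'
  have hY2 : IsPGroup 2 Yh := IsPGroup.of_card (n := 1) (by rw [hcard, pow_one])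
  -- `K` is generated by `y` and a conjugate
  obtain ⟨k0, hk0⟩ : ∃ k0 : K, k0 ∉ R := by
    by_contra h
    push Not at h
    exact hQ.ne_top (top_le_iff.mp fun g _ => h g)
  have hy'y' : (k0 * y * k0⁻¹) * (k0 * y * k0⁻¹) = 1 := by
    have : (k0 * y * k0⁻¹) * (k0 * y * k0⁻¹) = k0 * (y * y) * k0⁻¹ := by group
    rw [this, hyy]
    group
  have hcl : Subgroup.closure ({y, k0 * y * k0⁻¹} : Set K) = ⊤ := by
    rw [← top_le_iff, ← hgen k0 hk0]
    apply sup_le
    · intro z hz
      rcases hall z hz with rfl | rfl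
      · exact Subgroup.one_mem _
      · exact Subgroup.subset_closure (by simp)
    · rintro _ ⟨z, hz, rfl⟩
      show k0 * z * k0⁻¹ ∈ _
      rcases hall z hz with rfl | rfl
      · simp
      · exact Subgroup.subset_closure (by simp)
  -- `hstar`
  have hstar : ∀ x : W, φ y x = x → x ∈ W1 := by
    intro x hx
    apply fix_Yh_mem φ hM hQ.ne_top hgen x
    intro z hz
    rcases hall z hz with rfl | rfl
    · simp
    · exact hx
  apply Cfsg.Agent.Lib.Helper46.FL.fpf_of_odd φ _ k hk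
  intro h h1 hodd
  have hinv := Cfsg.Agent.Lib.Helper31.FL.dihedral_inverts y (k0 * y * k0⁻¹) hyy hy'y' h
    (hcl ▸ Subgroup.mem_top h) hodd
  exact Cfsg.Agent.Lib.Helper31.FL.fpf_of_inverted φ hM hQ.norm hY2 y hyY hstar 1 h hodd h1
    (by simpa using hinv)

/-- FL-[TWO] (exact stub statement) -/
theorem fpf_two {K : Type u} [Group K] [Finite K] {W : Type u} [CommGroup W] (φ : K →* MulAut W)
    {Yh R : Subgroup K} {W1 : Subgroup W} (hQ : LQuot 2 Yh R) (hM : LMod φ Yh R W1)
    (hcard : Nat.card Yh = 2) (k : K) (hk : ¬ ∃ n : ℕ, orderOf k = 2 ^ n) : Fpf φ k :=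
  fpf_two_of φ hQ hM (fun k hk => Cfsg.Agent.Lib.Helper31.FL.sup_conj_eq_top hQ k hk) hcard k hk

end Cfsg.Agent.Lib.Helper73.FL
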