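import Mathlib
import Cfsg.Prelude.Def_CaseTheorems
import Cfsg.Prelude.Def_OddOrderLocal
import Cfsg.Agent.Lib.Helper24.Metacyclic

/-!
# Helper73: metacyclic groups have sectional `p`-rank at most 2

* `isMetacyclic_of_surjective`: homomorphic images of metacyclic groups are metacyclic.
* `pRankLE_two_of_isMetacyclic`: a metacyclic group has `p`-rank at most 2.
* `sectionalPRankLE_two_of_isMetacyclic`: a metacyclic group has sectional `p`-rank at most 2.
-/

set_option autoImplicit false

namespace Cfsg.Agent.Lib.Helper73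

open Cfsg

/-- A homomorphic image of a metacyclic group is metacyclic. -/
theorem isMetacyclic_of_surjective {G K : Type*} [Group G] [Group K] (f : G →* K)
    (hf : Function.Surjective f) (hG : IsMetacyclic G) : IsMetacyclic K := by
  obtain ⟨N, hN, hNc, hQc⟩ := hG
  have hN' : (N.map f).Normal := Subgroup.Normal.map hN f hf
  refine ⟨N.map f, hN', ?_, ?_⟩
  · exact isCyclic_of_surjective (f.subgroupMap N) (f.subgroupMap_surjective N)
  · have : IsCyclic (G ⧸ N) := hQc
    let g : G ⧸ N →* K ⧸ N.map f := QuotientGroup.map N (N.map f) f (Subgroup.le_comap_map f N)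
    refine isCyclic_of_surjective g ?_
    intro y
    obtain ⟨k, rfl⟩ := QuotientGroup.mk_surjective y
    obtain ⟨x, rfl⟩ := hf k
    exact ⟨QuotientGroup.mk x, rfl⟩

/-- A cyclic group of exponent dividing `p` has order at most `p`. -/
theorem card_le_of_isCyclic_of_pow_eq_one {C : Type*} [Group C] [IsCyclic C] (p : ℕ) (hp : 0 < p)
    (h : ∀ x : C, x ^ p = 1) : Nat.card C ≤ p := by
  obtain ⟨g, hg⟩ := IsCyclic.exists_generator (α := C)
  have : orderOf g = Nat.card C := orderOf_eq_card_of_forall_mem_zpowers hg
  rw [← this]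
  exact Nat.le_of_dvd hp (orderOf_dvd_of_pow_eq_one (h g))

/-- A metacyclic group has `p`-rank at most 2. -/
theorem pRankLE_two_of_isMetacyclic {M : Type*} [Group M] (p : ℕ) (hp : 0 < p)
    (hM : IsMetacyclic M) : PRankLE p 2 M := by
  obtain ⟨C, hC, hCc, hQc⟩ := hM
  intro A hA hexp
  let ψ : A →* M ⧸ C := (QuotientGroup.mk' C).comp A.subtype
  have h1 : Nat.card A = Nat.card ψ.ker * Nat.card ψ.range := by
    rw [← Subgroup.card_mul_index ψ.ker, Subgroup.index_ker]
  have hk : Nat.card ψ.ker ≤ p := by
    have : IsCyclic ψ.ker := by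
      let θ : ψ.ker →* C := (A.subtype.comp ψ.ker.subtype).codRestrict C (fun x => by
        have h := x.2
        rw [MonoidHom.mem_ker] at h
        exact (QuotientGroup.eq_one_iff _).mp h)
      exact isCyclic_of_injective θ (by
        intro a b hab
        apply Subtype.ext; apply Subtype.ext
        have h := congrArg (fun x : C => (x : M)) hab
        exact h)
    apply card_le_of_isCyclic_of_pow_eq_one p hp
    intro x
    apply Subtype.ext; apply Subtype.ext
    have := hexp x.1.1 x.1.2
    simpa using this
  have hr : Nat.card ψ.range ≤ p := by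
    have : IsCyclic (M ⧸ C) := hQc
    have : IsCyclic ψ.range := inferInstance
    apply card_le_of_isCyclic_of_pow_eq_one p hp
    rintro ⟨_, ⟨a, rfl⟩⟩
    apply Subtype.ext
    show (ψ a) ^ p = 1
    rw [← map_pow]
    have : a ^ p = 1 := Subtype.ext (by simpa using hexp a.1 a.2)
    rw [this, map_one]
  calc Nat.card A = Nat.card ψ.ker * Nat.card ψ.range := h1
    _ ≤ p * p := Nat.mul_le_mul hk hr
    _ = p ^ 2 := (sq p).symm

/-- A metacyclic group has sectional `p`-rank at most 2. -/
theorem sectionalPRankLE_two_of_isMetacyclic {G : Type*} [Group G] (p : ℕ) (hp : 0 < p)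
    (hG : IsMetacyclic G) : SectionalPRankLE p 2 G := by
  intro H N _
  apply pRankLE_two_of_isMetacyclic p hp
  apply isMetacyclic_of_surjective (QuotientGroup.mk' N) (QuotientGroup.mk'_surjective N)
  exact Helper24.isMetacyclic_of_injective H.subtype H.subtype_injective hG

end Cfsg.Agent.Lib.Helper73
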