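import Mathlib
import Cfsg.Prelude.Def_Transfer
import Cfsg.Agent.Lib.Helper86.P4Two
import Cfsg.Agent.Lib.Helper86.CenterIndexFinal

/-!
# MODULE (Y1) for S2135 (helper73, for helper93)

Recognition of an extraspecial group of order 32 (with no elementary abelian subgroup of order 8)
from element-wise data.
-/

set_option autoImplicit false

namespace Cfsg.Agent.Lib.Helper73.ES32

open scoped commutatorElement

/-- MODULE (Y1) -/
theorem extraspecial_of_table {Q : Type*} [Group Q] [Finite Q] (hcard : Nat.card Q = 32) (z : Q)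
    (hz1 : z ≠ 1) (hz2 : z * z = 1) (hzc : ∀ x : Q, x * z = z * x)
    (hcen : ∀ x : Q, (∀ y : Q, x * y = y * x) → x = 1 ∨ x = z)
    (hcomm : ∀ x y : Q, x * y = y * x ∨ x * y = z * (y * x))
    (hnc : ∃ x y : Q, x * y ≠ y * x)
    (hsq : ∀ x : Q, x * x = 1 ∨ x * x = z)
    (htri : ∀ a b c : Q, a * a = 1 → b * b = 1 → c * c = 1 → a * b = b * a → a * c = c * a →
      b * c = c * b → a = 1 ∨ b = 1 ∨ a = b ∨ c = 1 ∨ c = a ∨ c = b ∨ c = a * b) :
    Cfsg.IsExtraspecial 2 Q ∧ ∀ E : Subgroup Q, Cfsg.IsElementaryAbelian 2 E → Nat.card E ≤ 2 ^ 2 := by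
  classical
  have : Fact (Nat.Prime 2) := ⟨Nat.prime_two⟩
  have hP : IsPGroup 2 Q := IsPGroup.of_card (n := 5) (by rw [hcard]; norm_num)
  -- Z = {1, z}
  have hZmem : ∀ x : Q, x ∈ Subgroup.zpowers z ↔ x = 1 ∨ x = z := by
    intro x
    constructor
    · intro hx
      rw [Subgroup.mem_zpowers_iff] at hx
      obtain ⟨k, rfl⟩ := hx
      have hz2' : z ^ 2 = 1 := by rw [pow_two]; exact hz2
      rcases Int.emod_two_eq_zero_or_one k with h | h
      · left
        have : k = 2 * (k / 2) := by omega
        rw [this, zpow_mul, zpow_ofNat, hz2', one_zpow]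
      · right
        have : k = 2 * (k / 2) + 1 := by omega
        rw [this, zpow_add, zpow_mul, zpow_ofNat, hz2', one_zpow, one_mul, zpow_one]
    · rintro (h | h)
      · rw [h]; exact Subgroup.one_mem _
      · rw [h]; exact Subgroup.mem_zpowers z
  have hZcenter : Subgroup.center Q = Subgroup.zpowers z := by
    ext x
    rw [hZmem, Subgroup.mem_center_iff]
    constructor
    · intro h
      exact hcen x (fun y => (h y).symm)
    · rintro (h | h)
      · intro g; rw [h]; simp
      · intro g; rw [h]; exact hzc g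
  have hZcard : Nat.card (Subgroup.zpowers z) = 2 := by
    rw [Nat.card_zpowers]
    apply orderOf_eq_prime
    · rw [pow_two]; exact hz2
    · exact hz1
  -- commutators
  have hcommval : ∀ x y : Q, ⁅x, y⁆ = 1 ∨ ⁅x, y⁆ = z := by
    intro x y
    rw [commutatorElement_def]
    rcases hcomm x y with h | h
    · left; rw [h]; group
    · right; rw [h]; group
  have hcommZ : commutator Q = Subgroup.zpowers z := by
    apply le_antisymm
    · rw [commutator_def, Subgroup.commutator_le]
      intro x _ y _
      rw [hZmem]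
      exact hcommval x y
    · rw [Subgroup.zpowers_le]
      obtain ⟨x, y, hxy⟩ := hnc
      have : ⁅x, y⁆ = z := by
        rcases hcommval x y with h | h
        · exfalso
          apply hxy
          rw [commutatorElement_def] at h
          calc x * y = (x * y * x⁻¹ * y⁻¹) * y * x := by group
            _ = y * x := by rw [h, one_mul]
        · exact h
      rw [← this, commutator_def]
      exact Subgroup.commutator_mem_commutator (Subgroup.mem_top x) (Subgroup.mem_top y)
  have hZn : (Subgroup.zpowers z).Normal := by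
    rw [← hZcenter]; infer_instance
  have hfrat : frattini Q = Subgroup.zpowers z := by
    apply le_antisymm
    · apply Cfsg.Agent.Lib.Helper86.frattini_le_of_quotient_elemAb 2 (Subgroup.zpowers z)
        (le_of_eq hcommZ)
      intro x
      rw [hZmem, pow_two]
      exact hsq x
    · rw [Subgroup.zpowers_le]
      obtain ⟨x, y, hxy⟩ := hnc
      have : ⁅x, y⁆ = z := by
        rcases hcommval x y with h | h
        · exfalso
          apply hxy
          rw [commutatorElement_def] at h
          calc x * y = (x * y * x⁻¹ * y⁻¹) * y * x := by group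
            _ = y * x := by rw [h, one_mul]
        · exact h
      rw [← this]
      exact Cfsg.Agent.Lib.Helper86.comm_mem_frattini_of_isPGroup hP x y
  refine ⟨⟨⟨hP, by rw [hfrat, hZcenter], by rw [hcommZ, hZcenter]⟩, by rw [hZcenter, hZcard]⟩, ?_⟩
  -- elementary abelian bound
  intro E hE
  by_contra hlt
  push Not at hlt
  have hEcomm : ∀ a ∈ E, ∀ b ∈ E, a * b = b * a := by
    intro a ha b hb
    have := hE.1.is_comm.comm ⟨a, ha⟩ ⟨b, hb⟩
    exact congrArg Subtype.val this
  have hEsq : ∀ a ∈ E, a * a = 1 := by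
    intro a ha
    have := hE.2 a ha
    rwa [pow_two] at this
  -- picking elements outside small finsets
  have pick : ∀ S : Finset Q, S.card ≤ 4 → ∃ c ∈ E, c ∉ S := by
    intro S hS
    by_contra hno
    push Not at hno
    have hsub : (E : Set Q) ⊆ (S : Set Q) := fun c hc => hno c hc
    have h1 : Nat.card (E : Set Q) ≤ Nat.card (S : Set Q) := Nat.card_mono S.finite_toSet hsub
    have h2 : Nat.card (S : Set Q) = S.card := by
      rw [Nat.card_coe_set_eq, Set.ncard_coe_finset]
    have h3 : Nat.card (E : Set Q) = Nat.card E := rfl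
    omega
  obtain ⟨a, haE, ha⟩ := pick {1} (by simp)
  obtain ⟨b, hbE, hb⟩ := pick {1, a} (Finset.card_le_two.trans (by norm_num))
  obtain ⟨c, hcE, hc⟩ := pick {1, a, b, a * b} (Finset.card_le_four.trans (by norm_num))
  simp only [Finset.mem_insert, Finset.mem_singleton, not_or] at ha hb hc
  rcases htri a b c (hEsq a haE) (hEsq b hbE) (hEsq c hcE) (hEcomm a haE b hbE)
    (hEcomm a haE c hcE) (hEcomm b hbE c hcE) with h | h | h | h | h | h | h
  · exact ha h
  · exact hb.1 h
  · exact hb.2 h.symm
  · exact hc.1 h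
  · exact hc.2.1 h
  · exact hc.2.2.1 h
  · exact hc.2.2.2 h

end Cfsg.Agent.Lib.Helper73.ES32
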