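import Mathlib
import Cfsg.Agent.Lib.Helper14.A5PresCard

/-!
# MODULE (Y2) for S2135 (helper73, for helper93)

A group of order 1920 with a subgroup `Q` of order 32 normalized by a `(3,5,2)`-pair is a split
extension of `Q` by `A₅`.
-/

set_option autoImplicit false

namespace Cfsg.Agent.Lib.Helper73.ES32

/-- an element of finite order mapping `Q` into itself by conjugation normalizes `Q`. -/
theorem mem_normalizer_of_pow_eq_one {C : Type*} [Group C] (Q : Subgroup C) (g : C) (n : ℕ)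
    (hn : g ^ (n + 1) = 1) (hg : ∀ q ∈ Q, g * q * g⁻¹ ∈ Q) :
    g ∈ Subgroup.normalizer (Q : Set C) := by
  have hpow : ∀ k : ℕ, ∀ q ∈ Q, g ^ k * q * (g ^ k)⁻¹ ∈ Q := by
    intro k
    induction k with
    | zero => intro q hq; simpa using hq
    | succ k ih =>
      intro q hq
      have := hg _ (ih q hq)
      have e : g ^ (k + 1) * q * (g ^ (k + 1))⁻¹ = g * (g ^ k * q * (g ^ k)⁻¹) * g⁻¹ := by
        rw [pow_succ']; group
      rw [e]; exact this
  rw [Subgroup.mem_normalizer_iff]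
  intro x
  constructor
  · exact hg x
  · intro hx
    have := hpow n _ hx
    have e : g ^ n * (g * x * g⁻¹) * (g ^ n)⁻¹ = x := by
      have h1 : g ^ n * g = 1 := by rw [← pow_succ, hn]
      have h2 : g⁻¹ * (g ^ n)⁻¹ = 1 := by rw [← mul_inv_rev, h1, inv_one]
      calc g ^ n * (g * x * g⁻¹) * (g ^ n)⁻¹ = (g ^ n * g) * x * (g⁻¹ * (g ^ n)⁻¹) := by group
        _ = x := by rw [h1, h2, one_mul, mul_one]
    rwa [e] at this

/-- MODULE (Y2) -/
theorem split_shape_A5 {C : Type*} [Group C] [Finite C] (hC : Nat.card C = 1920)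
    (Q : Subgroup C) (hQ : Nat.card Q = 32) (a b : C)
    (ha : a ^ 3 = 1) (hb : b ^ 5 = 1) (hab : (a * b) ^ 2 = 1) (ha1 : a ≠ 1)
    (hna : ∀ q ∈ Q, a * q * a⁻¹ ∈ Q) (hnb : ∀ q ∈ Q, b * q * b⁻¹ ∈ Q) :
    ∃ (_ : Q.Normal), (∃ H : Subgroup C, Q.IsComplement' H) ∧
      Nonempty (C ⧸ Q ≃* ↥(alternatingGroup (Fin 5))) := by
  classical
  obtain ⟨e⟩ := Cfsg.Agent.Lib.Helper14.closure_pair_equiv_alt5 a b ha hb hab ha1
  set H : Subgroup C := Subgroup.closure ({a, b} : Set C) with hHdef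
  have hHcard : Nat.card H = 60 := by
    rw [Nat.card_congr e.toEquiv]
    have h5 : Nat.card (alternatingGroup (Fin 5)) = 60 := by
      rw [nat_card_alternatingGroup]
      simp [Nat.factorial]
    exact h5
  have hHsimple : IsSimpleGroup H := by
    have : IsSimpleGroup (alternatingGroup (Fin 5)) := alternatingGroup.isSimpleGroup_five
    exact e.isSimpleGroup
  -- H normalizes Q
  have hHN : H ≤ Subgroup.normalizer (Q : Set C) := by
    rw [hHdef, Subgroup.closure_le]
    intro x hx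
    rcases hx with rfl | hx
    · exact mem_normalizer_of_pow_eq_one Q x 2 ha hna
    · rw [Set.mem_singleton_iff] at hx
      subst hx
      exact mem_normalizer_of_pow_eq_one Q x 4 hb hnb
  have hconj : ∀ h ∈ H, ∀ q ∈ Q, h * q * h⁻¹ ∈ Q := by
    intro h hh q hq
    exact (Subgroup.mem_normalizer_iff.mp (hHN hh) q).mp hq
  -- Q ⊓ H = ⊥
  have hdisj : Q ⊓ H = ⊥ := by
    have hn : (Q.subgroupOf H).Normal := by
      constructor
      intro n hn g
      rw [Subgroup.mem_subgroupOf] at hn ⊢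
      simpa using hconj g g.2 n hn
    rcases hHsimple.eq_bot_or_eq_top_of_normal _ hn with h | h
    · rw [Subgroup.subgroupOf_eq_bot] at h
      exact disjoint_iff.mp h
    · exfalso
      rw [Subgroup.subgroupOf_eq_top] at h
      have := Subgroup.card_dvd_of_le h
      rw [hHcard, hQ] at this
      norm_num at this
  -- the product map is bijective
  let f : Q × H → C := fun p => (p.1 : C) * (p.2 : C)
  have hfinj : Function.Injective f := by
    rintro ⟨q1, h1⟩ ⟨q2, h2⟩ heq
    have heq' : (q1 : C) * h1 = q2 * h2 := heq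
    have hmem : (q2 : C)⁻¹ * q1 ∈ Q ⊓ H := by
      refine ⟨Q.mul_mem (Q.inv_mem q2.2) q1.2, ?_⟩
      have : (q2 : C)⁻¹ * q1 = h2 * (h1 : C)⁻¹ := by
        calc (q2 : C)⁻¹ * q1 = (q2 : C)⁻¹ * (q1 * h1) * (h1 : C)⁻¹ := by group
          _ = (q2 : C)⁻¹ * (q2 * h2) * (h1 : C)⁻¹ := by rw [heq']
          _ = h2 * (h1 : C)⁻¹ := by group
      rw [SetLike.mem_coe, this]
      exact H.mul_mem h2.2 (H.inv_mem h1.2)
    rw [hdisj, Subgroup.mem_bot] at hmem
    have hq : (q1 : C) = q2 := by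
      calc (q1 : C) = q2 * ((q2 : C)⁻¹ * q1) := by group
        _ = q2 := by rw [hmem, mul_one]
    have hh : (h1 : C) = h2 := by
      rw [hq] at heq'
      exact mul_left_cancel heq'
    exact Prod.ext (Subtype.ext hq) (Subtype.ext hh)
  have hfbij : Function.Bijective f := by
    apply hfinj.bijective_of_nat_card_le
    rw [Nat.card_prod, hQ, hHcard, hC]
  -- Q is normal
  have hQn : Q.Normal := by
    constructor
    intro n hn g
    obtain ⟨⟨q, h⟩, rfl⟩ := hfbij.2 g
    have h1 := hconj h h.2 n hn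
    have h2 := Q.mul_mem (Q.mul_mem q.2 h1) (Q.inv_mem q.2)
    have e' : f (q, h) * n * (f (q, h))⁻¹ = (q : C) * ((h : C) * n * (h : C)⁻¹) * (q : C)⁻¹ := by
      show (q : C) * h * n * ((q : C) * h)⁻¹ = _
      group
    rw [e']; exact h2
  have hcompl : Q.IsComplement' H := by
    apply Subgroup.isComplement'_of_card_mul_and_disjoint
    · rw [hQ, hHcard, hC]
    · exact disjoint_iff.mpr hdisj
  refine ⟨hQn, ⟨H, hcompl⟩, ?_⟩
  have := hQn
  exact ⟨(hcompl.symm.QuotientMulEquiv).trans e⟩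

end Cfsg.Agent.Lib.Helper73.ES32
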