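import Cfsg.Agent.Lib.Helper69.Aut.Defs
import Cfsg.Agent.Lib.Helper18.NConj
import Cfsg.Agent.Lib.Helper18.Order1
import Cfsg.Agent.S1030

/-!
# S2156 module [RANK1] (helper73, for helper69): an automorphism carrying `X_r` to `X_{r'}` and
`X_{-r}` to `X_{-r'}` respects the `SL₂`-relation `f(t) · g(-t⁻¹) = -1`.
-/

set_option autoImplicit false

namespace Cfsg.Agent.Lib.Helper73.Aut

open Cfsg Cfsg.Lie Cfsg.Agent.Lib.Helper18 Cfsg.Agent.Lib.Helper91.ChevGen Cfsg.Agent.Lib.Helper69.Aut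

universe u

variable {F : Type u} [Field F] {D : ChevalleyDatum}

/-- the upper unitriangular matrix of `SL₂` -/
def sx (t : F) : Matrix.SpecialLinearGroup (Fin 2) F :=
  ⟨!![1, t; 0, 1], by simp [Matrix.det_fin_two_of]⟩

/-- the lower unitriangular matrix of `SL₂` -/
def sy (t : F) : Matrix.SpecialLinearGroup (Fin 2) F :=
  ⟨!![1, 0; t, 1], by simp [Matrix.det_fin_two_of]⟩

theorem coe_sx (t : F) :
    ((sx t : Matrix.SpecialLinearGroup (Fin 2) F) : Matrix (Fin 2) (Fin 2) F) = !![1, t; 0, 1] := rfl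

theorem coe_sy (t : F) :
    ((sy t : Matrix.SpecialLinearGroup (Fin 2) F) : Matrix (Fin 2) (Fin 2) F) = !![1, 0; t, 1] := rfl

theorem sl2_rel_one (t : F) (ht : t ≠ 0) :
    (sx t * sy (-t⁻¹) * sx t) * sx 1 = sy (-(t⁻¹) ^ 2) * (sx t * sy (-t⁻¹) * sx t) := by
  apply Subtype.ext
  simp only [Matrix.SpecialLinearGroup.coe_mul, coe_sx, coe_sy, Matrix.mul_fin_two]
  congr 1
  ext i j
  fin_cases i <;> fin_cases j <;>
    simp only [Matrix.cons_val', Matrix.cons_val_zero, Matrix.cons_val_one, Matrix.empty_val',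
      Matrix.cons_val_fin_one, Fin.zero_eta, Fin.mk_one, Fin.isValue] <;> field_simp <;> ring

theorem sl2_rel_two (a b c : F) (hs : 1 + a * b ≠ 0) :
    (sx a * sy b * sx a) * sx c =
      (sy (b / (1 + a * b)) * sx ((1 + a * b) ^ 2 * c) * sy (-(b / (1 + a * b)))) *
        (sx a * sy b * sx a) := by
  have hs' : 1 + b * a ≠ 0 := by rwa [mul_comm b a]
  apply Subtype.ext
  simp only [Matrix.SpecialLinearGroup.coe_mul, coe_sx, coe_sy, Matrix.mul_fin_two]
  congr 1
  ext i j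
  fin_cases i <;> fin_cases j <;>
    simp only [Matrix.cons_val', Matrix.cons_val_zero, Matrix.cons_val_one, Matrix.empty_val',
      Matrix.cons_val_fin_one, Fin.zero_eta, Fin.mk_one, Fin.isValue] <;> field_simp <;> ring

theorem neg_ne_self (hD : D ∈ [chevG2, chevB2, chevD4, chevF4, chevE6, chevE7, chevE8]) (r : ℕ)
    (hr : r < D.nroots) : D.neg r ≠ r := by
  obtain ⟨T, hag, -⟩ := exists_hcert D hD
  have h1 : D.neg r = T.neg r := T.neg_eq D hag r hr
  have hn := T.nroots_eq D hag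
  have heven : ∃ k, D.nroots = 2 * k := by
    simp only [List.mem_cons, List.not_mem_nil, or_false] at hD
    rcases hD with rfl | rfl | rfl | rfl | rfl | rfl | rfl
    · exact ⟨6, rfl⟩
    · exact ⟨4, rfl⟩
    · exact ⟨12, rfl⟩
    · exact ⟨24, rfl⟩
    · exact ⟨36, rfl⟩
    · exact ⟨63, rfl⟩
    · exact ⟨120, rfl⟩
  obtain ⟨k, hk⟩ := heven
  rw [h1]
  unfold FastDatum.neg
  omega

/-- [RANK1] -/
theorem rank_one_rel (hD : D ∈ [chevG2, chevB2, chevD4, chevF4, chevE6, chevE7, chevE8])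
    (θ : ↥(D.group F) ≃* ↥(D.group F)) (r r' : ℕ) (hr : r < D.nroots) (hr' : r' < D.nroots)
    (f g : F → F)
    (hf : ∀ t, θ (xS hD r t) = xS hD r' (f t))
    (hg : ∀ t, θ (xS hD (D.neg r) t) = xS hD (D.neg r') (g t)) :
    ∀ t : F, t ≠ 0 → f t ≠ 0 ∧ g (-t⁻¹) = -(f t)⁻¹ := by
  have hnr' : D.neg r' < D.nroots := neg_lt_nroots D hD r' hr'
  -- `f` kills only `0`
  have hf0 : ∀ t, f t = 0 → t = 0 := by
    intro t h0
    have h1 : θ (xS hD r t) = 1 := by rw [hf, h0, xS_zero]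
    have h2 : xS hD r t = 1 := by
      have := θ.injective (h1.trans (map_one θ).symm)
      exact this
    rw [← xS_zero (F := F) hD r] at h2
    exact xS_injective hD r hr h2
  intro t ht
  have hft : f t ≠ 0 := fun h0 => ht (hf0 t h0)
  refine ⟨hft, ?_⟩
  have hc : f 1 ≠ 0 := fun h0 => one_ne_zero (hf0 1 h0)
  -- the two `SL₂`-homomorphisms
  obtain ⟨φ, -, hφ⟩ := Cfsg.Agent.S1030.result (F := F) D hD r hr
  obtain ⟨φ', -, hφ'⟩ := Cfsg.Agent.S1030.result (F := F) D hD r' hr'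
  have hφx : ∀ a : F, φ (sx a) = xG hD r a := fun a => eq_xG hD _ r a ((hφ (sx a) a).1 rfl)
  have hφy : ∀ a : F, φ (sy a) = xG hD (D.neg r) a := fun a =>
    eq_xG hD _ (D.neg r) a ((hφ (sy a) a).2 rfl)
  have hφx' : ∀ a : F, φ' (sx a) = xG hD r' a := fun a => eq_xG hD _ r' a ((hφ' (sx a) a).1 rfl)
  have hφy' : ∀ a : F, φ' (sy a) = xG hD (D.neg r') a := fun a =>
    eq_xG hD _ (D.neg r') a ((hφ' (sy a) a).2 rfl)
  -- the relation in the group, for the root `r`
  have hrel1 : (xS hD r t * xS hD (D.neg r) (-t⁻¹) * xS hD r t) * xS hD r 1 =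
      xS hD (D.neg r) (-(t⁻¹) ^ 2) * (xS hD r t * xS hD (D.neg r) (-t⁻¹) * xS hD r t) := by
    apply Subtype.ext
    have := congrArg φ (sl2_rel_one t ht)
    simp only [map_mul, hφx, hφy] at this
    simpa using this
  -- its image under `θ`
  have hrel2 : (xG hD r' (f t) * xG hD (D.neg r') (g (-t⁻¹)) * xG hD r' (f t)) * xG hD r' (f 1) =
      xG hD (D.neg r') (g (-(t⁻¹) ^ 2)) *
        (xG hD r' (f t) * xG hD (D.neg r') (g (-t⁻¹)) * xG hD r' (f t)) := by
    have := congrArg θ hrel1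
    simp only [map_mul, hf, hg] at this
    have := congrArg Subtype.val this
    simpa using this
  by_contra hne
  have hs : 1 + f t * g (-t⁻¹) ≠ 0 := by
    intro hs
    apply hne
    have h1 : f t * g (-t⁻¹) = -1 := by linear_combination hs
    calc g (-t⁻¹) = (f t)⁻¹ * (f t * g (-t⁻¹)) := by field_simp
      _ = -(f t)⁻¹ := by rw [h1]; ring
  have hrel3 := congrArg φ' (sl2_rel_two (f t) (g (-t⁻¹)) (f 1) hs)
  simp only [map_mul, hφx', hφy'] at hrel3
  rw [hrel2] at hrel3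
  have hrel4 := mul_right_cancel hrel3
  set β := g (-t⁻¹) / (1 + f t * g (-t⁻¹)) with hβ
  set γ := (1 + f t * g (-t⁻¹)) ^ 2 * f 1 with hγ
  have hγ0 : γ ≠ 0 := mul_ne_zero (pow_ne_zero 2 hs) hc
  have hfin : xG hD r' γ = xG hD (D.neg r') (g (-(t⁻¹) ^ 2)) := by
    have h1 : xG hD r' γ = xG hD (D.neg r') (-β) *
        (xG hD (D.neg r') β * xG hD r' γ * xG hD (D.neg r') (-β)) * xG hD (D.neg r') β := by
      have e1 : xG hD (D.neg r') (-β) * xG hD (D.neg r') β = 1 := by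
        rw [xG_mul, neg_add_cancel, xG_zero]
      calc xG hD r' γ = (xG hD (D.neg r') (-β) * xG hD (D.neg r') β) * xG hD r' γ *
            (xG hD (D.neg r') (-β) * xG hD (D.neg r') β) := by rw [e1, one_mul, mul_one]
        _ = _ := by group
    rw [h1, ← hrel4, xG_mul, xG_mul]
    congr 1
    ring
  exact neg_ne_self hD r' hr' (xG_inj_root hD r' (D.neg r') hr' hnr' γ _ hγ0 hfin)

end Cfsg.Agent.Lib.Helper73.Aut
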