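import Mathlib
import Cfsg.Prelude.Def_HallClasses
import Cfsg.Agent.Lib.Helper55.HallSymA

/-!
# S2538 module [STAB] (helper73, for helper71): a Hall `π`-subgroup of `Perm β` preserving a
subset `t` contains the full setwise stabilizer of `t` as soon as `|t|! (n - |t|)!` is a
`π`-number.
-/

set_option autoImplicit false

namespace Cfsg.Agent.Lib.Helper73.HallAlt

open Cfsg Equiv

variable {β : Type} [Fintype β] [DecidableEq β]

omit [Fintype β] in
/-- a permutation mapping the finset `t` into itself preserves membership in `t` -/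
theorem mem_iff_of_maps_to (t : Finset β) (σ : Perm β) (h : ∀ a ∈ t, σ a ∈ t) (a : β) :
    σ a ∈ t ↔ a ∈ t := by
  constructor
  · intro ha
    have himg : t.image σ = t := by
      apply Finset.eq_of_subset_of_card_le
      · intro b hb
        obtain ⟨c, hc, rfl⟩ := Finset.mem_image.mp hb
        exact h c hc
      · rw [Finset.card_image_of_injective _ σ.injective]
    rw [← himg] at ha
    obtain ⟨c, hc, hca⟩ := Finset.mem_image.mp ha
    rw [← σ.injective hca]; exact hc
  · exact h a

omit [Fintype β] in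
/-- the setwise stabilizer of `t` is the range of `subtypeCongrHom` -/
theorem mem_range_subtypeCongrHom (t : Finset β) (σ : Perm β) (h : ∀ a ∈ t, σ a ∈ t) :
    σ ∈ (Equiv.Perm.subtypeCongrHom (fun a : β => a ∈ t)).range := by
  have hp : ∀ a, σ a ∈ t ↔ a ∈ t := mem_iff_of_maps_to t σ h
  have hq : ∀ a, ¬ σ a ∈ t ↔ ¬ a ∈ t := fun a => not_congr (hp a)
  refine ⟨(Equiv.Perm.subtypePerm σ hp, Equiv.Perm.subtypePerm σ hq), ?_⟩
  ext a
  by_cases ha : a ∈ t
  · exact Equiv.Perm.subtypeCongr.left_apply _ _ ha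
  · exact Equiv.Perm.subtypeCongr.right_apply _ _ ha

omit [Fintype β] in
theorem maps_to_of_mem_range_subtypeCongrHom (t : Finset β) (σ : Perm β)
    (h : σ ∈ (Equiv.Perm.subtypeCongrHom (fun a : β => a ∈ t)).range) :
    ∀ a ∈ t, σ a ∈ t := by
  obtain ⟨⟨f, g⟩, rfl⟩ := h
  intro a ha
  have : (Equiv.Perm.subtypeCongrHom (fun a : β => a ∈ t)) (f, g) a = f ⟨a, ha⟩ :=
    Equiv.Perm.subtypeCongr.left_apply _ _ ha
  rw [this]
  exact (f ⟨a, ha⟩).2

theorem card_range_subtypeCongrHom (t : Finset β) :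
    Nat.card (Equiv.Perm.subtypeCongrHom (fun a : β => a ∈ t)).range =
      t.card.factorial * (Fintype.card β - t.card).factorial := by
  have hinj := Equiv.Perm.subtypeCongrHom_injective (fun a : β => a ∈ t)
  rw [Nat.card_congr (MonoidHom.ofInjective hinj).symm.toEquiv, Nat.card_prod,
    Nat.card_eq_fintype_card, Nat.card_eq_fintype_card, Fintype.card_perm, Fintype.card_perm,
    Fintype.card_coe, Fintype.card_subtype_compl, Fintype.card_coe]

/-- **[STAB]** -/
theorem stab_le_of_hall (π : Set ℕ) (K : Subgroup (Perm β)) (hK : IsPiHall π K) (t : Finset β)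
    (ht : ∀ h ∈ K, ∀ a ∈ t, h a ∈ t)
    (hπ : ∀ r : ℕ, r.Prime → (r ≤ t.card ∨ r + t.card ≤ Fintype.card β) → r ∈ π) :
    ∀ σ : Perm β, (∀ a ∈ t, σ a ∈ t) → σ ∈ K := by
  have hle : K ≤ (Equiv.Perm.subtypeCongrHom (fun a : β => a ∈ t)).range :=
    fun h hh => mem_range_subtypeCongrHom t h (ht h hh)
  have hS : ∀ p : ℕ, p.Prime →
      p ∣ Nat.card (Equiv.Perm.subtypeCongrHom (fun a : β => a ∈ t)).range → p ∈ π := by
    intro p hp hd
    rw [card_range_subtypeCongrHom] at hd
    apply hπ p hp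
    rcases (hp.dvd_mul).mp hd with h1 | h1
    · exact Or.inl ((hp.dvd_factorial).mp h1)
    · right
      have h2 := (hp.dvd_factorial).mp h1
      have hle' : t.card ≤ Fintype.card β := Finset.card_le_univ t
      omega
  have heq := Cfsg.Agent.Lib.Helper55.HallSym.eq_of_isPiHall_of_le hK hle hS
  intro σ hσ
  rw [heq]
  exact mem_range_subtypeCongrHom t σ hσ

end Cfsg.Agent.Lib.Helper73.HallAlt
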