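import Mathlib

/-!
# S2538 module [T3-A] (helper73, for helper71): a transitive group whose point stabiliser contains
all even permutations fixing two points, and fixes the second point, does not exist in degree `≥ 6`
(alternating analogue of `Helper92.HallSym.false_of_two_point`).
-/

set_option autoImplicit false

namespace Cfsg.Agent.Lib.Helper73.HallAlt

open Equiv

variable {β : Type} [Fintype β] [DecidableEq β]

theorem false_of_two_point_alt (H : Subgroup (Perm β)) (htr : ∀ a b : β, ∃ h ∈ H, h a = b)
    (x y : β) (hxy : x ≠ y) (hfix : ∀ h ∈ H, h x = x → h y = y)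
    (hall : ∀ σ ∈ alternatingGroup β, σ x = x → σ y = y → σ ∈ H) (hcard : 6 ≤ Fintype.card β) :
    False := by
  classical
  -- the equivariant map `w ↦ w*`
  choose hw hwH hwx using fun w : β => htr x w
  set star : β → β := fun w => hw w y with hstar
  have hequiv : ∀ h ∈ H, ∀ w : β, star (h w) = h (star w) := by
    intro h hh w
    have hmem : (hw (h w))⁻¹ * (h * hw w) ∈ H :=
      H.mul_mem (H.inv_mem (hwH _)) (H.mul_mem hh (hwH _))
    have hx' : ((hw (h w))⁻¹ * (h * hw w)) x = x := by
      rw [Perm.mul_apply, Perm.mul_apply, hwx, Perm.inv_eq_iff_eq, hwx]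
    have hy' := hfix _ hmem hx'
    rw [Perm.mul_apply, Perm.mul_apply, Perm.inv_eq_iff_eq] at hy'
    exact hy'.symm
  have hstarx : star x = y := hfix _ (hwH x) (hwx x)
  -- enough points
  have hex : ∀ s : Finset β, s.card ≤ 5 → ∃ w : β, w ∉ s := by
    intro s hs
    by_contra hcon
    push Not at hcon
    have : Finset.univ ⊆ s := fun w _ => hcon w
    have := Finset.card_le_card this
    rw [Finset.card_univ] at this
    omega
  obtain ⟨z, hz⟩ := hex {x, y} (le_trans (Finset.card_insert_le _ _) (by simp))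
  have hzx : z ≠ x := fun h => hz (by rw [h]; simp)
  have hzy : z ≠ y := fun h => hz (by rw [h]; simp)
  -- even permutations moving `u` to `v` and fixing a set `F ⊇ {x, y}` of at most 3 points
  have hmove : ∀ (F : Finset β) (u v : β), F.card ≤ 3 → x ∈ F → y ∈ F → u ∉ F → v ∉ F → u ≠ v →
      ∃ σ ∈ H, σ u = v ∧ ∀ f ∈ F, σ f = f := by
    intro F u v hF hxF hyF huF hvF huv
    obtain ⟨w, hw'⟩ := hex (insert u (insert v F)) (by
      refine le_trans (Finset.card_insert_le _ _) ?_
      refine Nat.succ_le_succ (le_trans (Finset.card_insert_le _ _) ?_)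
      omega)
    simp only [Finset.mem_insert, not_or] at hw'
    obtain ⟨hwu, hwv, hwF⟩ := hw'
    have hfixF : ∀ f ∈ F, (swap u v * swap v w) f = f := by
      intro f hf
      have hfu : f ≠ u := fun h => huF (h ▸ hf)
      have hfv : f ≠ v := fun h => hvF (h ▸ hf)
      have hfw : f ≠ w := fun h => hwF (h ▸ hf)
      rw [Perm.mul_apply, swap_apply_of_ne_of_ne hfv hfw, swap_apply_of_ne_of_ne hfu hfv]
    refine ⟨swap u v * swap v w, ?_, ?_, hfixF⟩
    · apply hall
      · rw [Equiv.Perm.mem_alternatingGroup, map_mul, Equiv.Perm.sign_swap huv,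
          Equiv.Perm.sign_swap (Ne.symm hwv)]
        decide
      · exact hfixF x hxF
      · exact hfixF y hyF
    · rw [Perm.mul_apply, swap_apply_of_ne_of_ne huv (Ne.symm hwu), swap_apply_left]
  have hxyF : ∀ a : β, ({x, y, a} : Finset β).card ≤ 3 := by
    intro a
    refine le_trans (Finset.card_insert_le _ _) ?_
    refine Nat.succ_le_succ (le_trans (Finset.card_insert_le _ _) ?_)
    simp
  -- `z* ∈ {x, y, z}`
  have hzs : star z = x ∨ star z = y ∨ star z = z := by
    by_contra hcon
    push Not at hcon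
    obtain ⟨h1, h2, h3⟩ := hcon
    obtain ⟨w, hw'⟩ := hex {x, y, z, star z} (by
      refine le_trans (Finset.card_insert_le _ _) ?_
      refine Nat.succ_le_succ (le_trans (Finset.card_insert_le _ _) ?_)
      refine Nat.succ_le_succ (le_trans (Finset.card_insert_le _ _) ?_)
      simp)
    simp only [Finset.mem_insert, Finset.mem_singleton, not_or] at hw'
    obtain ⟨hwx', hwy', hwz, hws⟩ := hw'
    obtain ⟨σ, hσ, hσs, hσF⟩ := hmove {x, y, z} (star z) w (hxyF z) (by simp) (by simp)
      (by simp [h1, h2, h3]) (by simp [hwx', hwy', hwz]) (Ne.symm hws)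
    have hσz : σ z = z := hσF z (by simp)
    have h4 := hequiv _ hσ z
    rw [hσz, hσs] at h4
    exact hws h4.symm
  have hzne : star z ≠ z := by
    intro h
    have h1 : hw z y = hw z x := by rw [hwx]; exact h
    exact hxy ((hw z).injective h1).symm
  -- transport along `H_x`: `w* = σ (z*)` for `w ∉ {x, y}`
  have htransport : ∀ w : β, w ≠ x → w ≠ y → (star z = x → star w = x) ∧ (star z = y → star w = y) := by
    intro w hwx' hwy'
    by_cases hwz : w = z
    · rw [hwz]; exact ⟨id, id⟩
    obtain ⟨σ, hσ, hσz, hσF⟩ := hmove {x, y} z w (by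
        refine le_trans (Finset.card_insert_le _ _) ?_
        simp) (by simp) (by simp)
      (by simp [hzx, hzy]) (by simp [hwx', hwy']) (Ne.symm hwz)
    have h4 := hequiv _ hσ z
    rw [hσz] at h4
    constructor
    · intro h
      rw [h4, h]; exact hσF x (by simp)
    · intro h
      rw [h4, h]; exact hσF y (by simp)
  rcases hzs with h | h | h
  · -- `z* = x`: then `w* = x` for all `w ∉ {x, y}`
    have hall' : ∀ w : β, w ≠ x → w ≠ y → star w = x := by
      intro w hwx' hwy'
      exact (htransport w hwx' hwy').1 h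
    -- take `g ∈ H` with `g x = z`
    obtain ⟨g, hgH, hgx⟩ := htr x z
    -- there is `w ∉ {x,y}` with `g w ∉ {x,y}`
    obtain ⟨w, hw'⟩ := hex {x, y, g⁻¹ x, g⁻¹ y} (by
      refine le_trans (Finset.card_insert_le _ _) ?_
      refine Nat.succ_le_succ (le_trans (Finset.card_insert_le _ _) ?_)
      refine Nat.succ_le_succ (le_trans (Finset.card_insert_le _ _) ?_)
      simp)
    simp only [Finset.mem_insert, Finset.mem_singleton, not_or] at hw'
    obtain ⟨hwx', hwy', hwgx, hwgy⟩ := hw'
    have hgwx : g w ≠ x := fun hh => hwgx (by rw [← hh]; simp)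
    have hgwy : g w ≠ y := fun hh => hwgy (by rw [← hh]; simp)
    have h1 := hequiv g hgH w
    rw [hall' w hwx' hwy', hall' (g w) hgwx hgwy, hgx] at h1
    exact hzx h1.symm
  · -- `z* = y`: then `w* = y` for all `w ≠ y`
    have hall' : ∀ w : β, w ≠ y → star w = y := by
      intro w hwy'
      by_cases hwx' : w = x
      · rw [hwx', hstarx]
      · exact (htransport w hwx' hwy').2 h
    obtain ⟨g, hgH, hgy⟩ := htr y z
    obtain ⟨w, hw'⟩ := hex {y, g⁻¹ y} (le_trans (Finset.card_insert_le _ _) (by simp))
    simp only [Finset.mem_insert, Finset.mem_singleton, not_or] at hw'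
    obtain ⟨hwy', hwgy⟩ := hw'
    have hgwy : g w ≠ y := fun hh => hwgy (by rw [← hh]; simp)
    have h1 := hequiv g hgH w
    rw [hall' w hwy', hall' (g w) hgwy, hgy] at h1
    exact hzy h1.symm
  · exact hzne h

end Cfsg.Agent.Lib.Helper73.HallAlt
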