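import Mathlib

set_option autoImplicit false

namespace Cfsg.Agent.Lib.Helper73

open scoped Pointwise

/-- If `d` divides the index of every point stabilizer, then `d` divides the size of the `G`-set. -/
theorem dvd_card_of_dvd_index_stabilizer {G X : Type*} [Group G] [Finite G] [MulAction G X] [Finite X]
    (d : ℕ) (h : ∀ x : X, d ∣ (MulAction.stabilizer G x).index) : d ∣ Nat.card X := by
  classical
  have : Fintype (Quotient (MulAction.orbitRel G X)) := Fintype.ofFinite _
  rw [Nat.card_congr (MulAction.selfEquivSigmaOrbitsQuotientStabilizer G X), Nat.card_sigma]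
  exact Finset.dvd_sum fun ω _ => h _

/-- Version of `dvd_card_of_dvd_index_stabilizer` for an invariant predicate. -/
theorem dvd_card_subtype_of_dvd_index_stabilizer {G X : Type*} [Group G] [Finite G] [MulAction G X]
    [Finite X] (P : X → Prop) (hP : ∀ (g : G) (x : X), P x → P (g • x)) (d : ℕ)
    (h : ∀ x : X, P x → d ∣ (MulAction.stabilizer G x).index) : d ∣ Nat.card {x : X // P x} := by
  let S : SubMulAction G X := ⟨{x | P x}, fun g x hx => hP g x hx⟩
  have : d ∣ Nat.card S := by
    apply dvd_card_of_dvd_index_stabilizer (G := G)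
    intro x
    rw [SubMulAction.stabilizer_of_subMul]
    exact h x x.2
  exact this

theorem choose_pred_modEq_one (p : ℕ) [Fact p.Prime] (β m : ℕ) (hm : 0 < m) :
    Nat.choose (p ^ β * m - 1) (p ^ β - 1) ≡ 1 [MOD p] := by
  induction β with
  | zero => simp [Nat.ModEq.refl]
  | succ β ih =>
    have hp := (Fact.out : p.Prime)
    have hp0 : 0 < p := hp.pos
    obtain ⟨t, ht⟩ : ∃ t, p ^ β * m = t + 1 := ⟨p ^ β * m - 1, by
      have : 0 < p ^ β * m := by positivity
      omega⟩
    obtain ⟨u, hu⟩ : ∃ u, p ^ β = u + 1 := ⟨p ^ β - 1, by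
      have : 0 < p ^ β := by positivity
      omega⟩
    have h1 : p ^ (β + 1) * m - 1 = p * t + (p - 1) := by
      have : p ^ (β + 1) * m = p * (t + 1) := by rw [← ht]; ring
      rw [this, mul_add, mul_one]; omega
    have h2 : p ^ (β + 1) - 1 = p * u + (p - 1) := by
      have : p ^ (β + 1) = p * (u + 1) := by rw [← hu]; ring
      rw [this, mul_add, mul_one]; omega
    have h3 := Choose.choose_modEq_choose_mod_mul_choose_div_nat (p := p)
      (n := p ^ (β + 1) * m - 1) (k := p ^ (β + 1) - 1)
    rw [h1, h2] at h3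
    have h4 : (p * t + (p - 1)) % p = p - 1 := by
      rw [Nat.mul_add_mod]; exact Nat.mod_eq_of_lt (by omega)
    have h5 : (p * u + (p - 1)) % p = p - 1 := by
      rw [Nat.mul_add_mod]; exact Nat.mod_eq_of_lt (by omega)
    have h6 : (p * t + (p - 1)) / p = t := by
      rw [Nat.mul_add_div hp0, Nat.div_eq_of_lt (by omega), add_zero]
    have h7 : (p * u + (p - 1)) / p = u := by
      rw [Nat.mul_add_div hp0, Nat.div_eq_of_lt (by omega), add_zero]
    rw [h4, h5, h6, h7, Nat.choose_self, one_mul] at h3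
    rw [h1, h2]
    have ih' : Nat.choose t u ≡ 1 [MOD p] := by
      have : t = p ^ β * m - 1 := by omega
      have : u = p ^ β - 1 := by omega
      subst_vars
      exact ih
    exact h3.trans ih'

/-- right coset `H x` as a set -/
def rcoset {G : Type*} [Group G] (H : Subgroup G) (x : G) : Set G := {y | y * x⁻¹ ∈ H}

theorem mem_rcoset {G : Type*} [Group G] (H : Subgroup G) (x y : G) :
    y ∈ rcoset H x ↔ y * x⁻¹ ∈ H := Iff.rfl

theorem self_mem_rcoset {G : Type*} [Group G] (H : Subgroup G) (x : G) : x ∈ rcoset H x := by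
  simp [mem_rcoset]

theorem rcoset_eq_image {G : Type*} [Group G] (H : Subgroup G) (x : G) :
    rcoset H x = (fun h => h * x) '' (H : Set G) := by
  ext y
  constructor
  · intro hy
    exact ⟨y * x⁻¹, hy, by simp⟩
  · rintro ⟨h, hh, rfl⟩
    simpa [mem_rcoset] using hh

theorem ncard_rcoset {G : Type*} [Group G] (H : Subgroup G) (x : G) :
    (rcoset H x).ncard = Nat.card H := by
  rw [rcoset_eq_image, Set.ncard_image_of_injective _ (mul_left_injective x)]
  exact (Nat.card_coe_set_eq (H : Set G))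

theorem stabilizer_rcoset {G : Type*} [Group G] (H : Subgroup G) (x : G) :
    MulAction.stabilizer G (rcoset H x) = H := by
  ext g
  rw [MulAction.mem_stabilizer_iff]
  constructor
  · intro hg
    have h1 : g • x ∈ g • rcoset H x := Set.smul_mem_smul_set (self_mem_rcoset H x)
    rw [hg, mem_rcoset, smul_eq_mul, mul_inv_cancel_right] at h1
    exact h1
  · intro hg
    ext y
    rw [Set.mem_smul_set_iff_inv_smul_mem, mem_rcoset, mem_rcoset, smul_eq_mul, mul_assoc]
    exact H.mul_mem_cancel_left (inv_mem hg)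

theorem card_stabilizer_dvd_ncard {G : Type*} [Group G] [Finite G] (M : Set G) :
    Nat.card (MulAction.stabilizer G M) ∣ M.ncard := by
  have h1 : (M⁻¹ * ((MulAction.stabilizer G M : Subgroup G) : Set G)) = M⁻¹ := by
    ext x
    constructor
    · rintro ⟨a, ha, b, hb, rfl⟩
      rw [Set.mem_inv] at ha ⊢
      have hb' : b⁻¹ • M = M := MulAction.mem_stabilizer_iff.mp (inv_mem hb)
      rw [mul_inv_rev, ← hb']
      exact Set.smul_mem_smul_set ha
    · intro hx
      exact ⟨x, hx, 1, one_mem _, mul_one x⟩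
  have h2 := Subgroup.card_mul_eq_card_subgroup_mul_card_quotient (MulAction.stabilizer G M) M⁻¹
  rw [h1, Set.natCard_inv, Nat.card_coe_set_eq] at h2
  exact ⟨_, h2⟩

theorem rcoset_stabilizer_eq {G : Type*} [Group G] [Finite G] (M : Set G) (x : G) (hx : x ∈ M)
    (hM : Nat.card (MulAction.stabilizer G M) = M.ncard) :
    rcoset (MulAction.stabilizer G M) x = M := by
  apply Set.eq_of_subset_of_ncard_le _ _ (Set.toFinite M)
  · intro y hy
    rw [mem_rcoset] at hy
    have := MulAction.mem_stabilizer_iff.mp hy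
    rw [← this]
    have h2 : (y * x⁻¹) • x ∈ (y * x⁻¹) • M := Set.smul_mem_smul_set hx
    simpa using h2
  · rw [ncard_rcoset, hM]

/-- **Frobenius / Wielandt**: the number of subgroups of order `p ^ β` of a finite group whose order is
divisible by `p ^ β` is congruent to `1` modulo `p`. -/
theorem card_subgroups_card_prime_pow_modEq_one {G : Type*} [Group G] [Finite G] (p β : ℕ) (hp : p.Prime)
    (hdiv : p ^ β ∣ Nat.card G) : Nat.card {H : Subgroup G // Nat.card H = p ^ β} ≡ 1 [MOD p] := by
  classical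
  have : Fact p.Prime := ⟨hp⟩
  obtain ⟨m, hm⟩ := hdiv
  have hn0 : 0 < Nat.card G := Nat.card_pos
  have hm0 : 0 < m := by
    rcases Nat.eq_zero_or_pos m with h | h
    · rw [h, mul_zero] at hm; omega
    · exact h
  have hk0 : 0 < p ^ β := pos_of_ne_zero (pow_ne_zero _ hp.ne_zero)
  -- the three families of subsets
  set A : Set (Set G) := {M | M.ncard = p ^ β} with hA
  set B : Set (Set G) := {M | M.ncard = p ^ β ∧ Nat.card (MulAction.stabilizer G M) = p ^ β} with hB
  set C : Set (Set G) := {M | M.ncard = p ^ β ∧ Nat.card (MulAction.stabilizer G M) ≠ p ^ β} with hC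
  -- E
  have hE : A.ncard = (p ^ β * m).choose (p ^ β) := by
    have := Set.ncard_powerset_ncard (Set.finite_univ (α := G)) (p ^ β)
    rw [Set.ncard_univ, hm] at this
    rw [← this]
    congr 1
    ext M
    simp [hA]
  -- F
  have hF : A.ncard = B.ncard + C.ncard := by
    rw [← Set.ncard_union_eq _ (Set.toFinite B) (Set.toFinite C)]
    · congr 1
      ext M
      simp only [hA, hB, hC, Set.mem_ofPred_eq, Set.mem_union]
      tauto
    · rw [Set.disjoint_left]
      intro M h1 h2
      exact h2.2 h1.2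
  -- C
  have hCd : p * m ∣ C.ncard := by
    have := dvd_card_subtype_of_dvd_index_stabilizer (G := G) (X := Set G)
      (fun M => M.ncard = p ^ β ∧ Nat.card (MulAction.stabilizer G M) ≠ p ^ β) ?_ (p * m) ?_
    · rwa [← Nat.card_coe_set_eq]
    · rintro g M ⟨h1, h2⟩
      refine ⟨by rw [Set.ncard_smul_set, h1], ?_⟩
      rw [MulAction.stabilizer_smul_eq_stabilizer_map_conj,
        Subgroup.card_map_of_injective (MulEquiv.injective _)]
      exact h2
    · rintro M ⟨h1, h2⟩
      have h3 := card_stabilizer_dvd_ncard M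
      rw [h1] at h3
      obtain ⟨j, hj, hj'⟩ := (Nat.dvd_prime_pow hp).mp h3
      have hjβ : j < β := by
        rcases Nat.lt_or_ge j β with h | h
        · exact h
        · exfalso; apply h2; rw [hj', le_antisymm hj h]
      have h4 := Subgroup.index_mul_card (MulAction.stabilizer G M)
      rw [hj', hm] at h4
      obtain ⟨e, rfl⟩ : ∃ e, β = j + 1 + e := ⟨β - (j + 1), by omega⟩
      have h5 : (MulAction.stabilizer G M).index = p * m * p ^ e := by
        have hpj : 0 < p ^ j := pos_of_ne_zero (pow_ne_zero _ hp.ne_zero)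
        apply Nat.eq_of_mul_eq_mul_right hpj
        rw [h4]; ring
      rw [h5]
      exact Dvd.intro _ rfl
  -- D
  have hD : B.ncard * p ^ β = Nat.card {H : Subgroup G // Nat.card H = p ^ β} * (p ^ β * m) := by
    have e1 : {q : Set G × G // (q.1.ncard = p ^ β ∧ Nat.card (MulAction.stabilizer G q.1) = p ^ β)
        ∧ q.2 ∈ q.1} ≃ {H : Subgroup G // Nat.card H = p ^ β} × G :=
      { toFun := fun q => (⟨MulAction.stabilizer G q.1.1, q.2.1.2⟩, q.1.2)
        invFun := fun r => ⟨(rcoset r.1.1 r.2, r.2), ⟨by rw [ncard_rcoset, r.1.2],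
          by rw [stabilizer_rcoset, r.1.2]⟩, self_mem_rcoset _ _⟩
        left_inv := by
          rintro ⟨⟨M, x⟩, ⟨h1, h2⟩, h3⟩
          apply Subtype.ext
          simp only [Prod.mk.injEq, and_true]
          exact rcoset_stabilizer_eq M x h3 (by rw [h2, h1])
        right_inv := by
          rintro ⟨⟨H, hH⟩, x⟩
          simp only [Prod.mk.injEq, and_true]
          apply Subtype.ext
          exact stabilizer_rcoset H x }
    have e2 : {q : Set G × G // (q.1.ncard = p ^ β ∧ Nat.card (MulAction.stabilizer G q.1) = p ^ β)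
        ∧ q.2 ∈ q.1} ≃ Σ M : B, (M.1 : Set G) :=
      { toFun := fun q => ⟨⟨q.1.1, q.2.1⟩, ⟨q.1.2, q.2.2⟩⟩
        invFun := fun s => ⟨(s.1.1, s.2.1), s.1.2, s.2.2⟩
        left_inv := by rintro ⟨⟨M, x⟩, h1, h3⟩; rfl
        right_inv := by rintro ⟨⟨M, h1⟩, ⟨x, h3⟩⟩; rfl }
    have h1 := Nat.card_congr (e2.symm.trans e1)
    have : Fintype B := Fintype.ofFinite _
    rw [Nat.card_sigma, Nat.card_prod, hm] at h1
    rw [← h1]
    have h2 : ∀ M : B, Nat.card (M.1 : Set G) = p ^ β := by
      rintro ⟨M, hM⟩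
      rw [Nat.card_coe_set_eq]; exact hM.1
    rw [Finset.sum_congr rfl (fun M _ => h2 M), Finset.sum_const, Finset.card_univ, smul_eq_mul,
      ← Nat.card_eq_fintype_card, Nat.card_coe_set_eq]
  -- G
  obtain ⟨c, hc1, hc2⟩ : ∃ c, (p ^ β * m).choose (p ^ β) = m * c ∧ c ≡ 1 [MOD p] := by
    refine ⟨_, ?_, choose_pred_modEq_one p β m hm0⟩
    obtain ⟨t, ht⟩ : ∃ t, p ^ β * m = t + 1 := ⟨p ^ β * m - 1, by
      have : 0 < p ^ β * m := by positivity
      omega⟩
    obtain ⟨u, hu⟩ : ∃ u, p ^ β = u + 1 := ⟨p ^ β - 1, by omega⟩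
    have h1 := Nat.add_one_mul_choose_eq t u
    have ht' : p ^ β * m - 1 = t := by omega
    have hu' : p ^ β - 1 = u := by omega
    rw [ht', hu']
    apply Nat.eq_of_mul_eq_mul_right hk0
    have h2 : (p ^ β * m).choose (p ^ β) * p ^ β = (t + 1).choose (u + 1) * (u + 1) := by
      rw [← ht, ← hu]
    rw [h2, ← h1, ← ht]
    ring
  -- combine
  set X := Nat.card {H : Subgroup G // Nat.card H = p ^ β} with hX
  have hB' : B.ncard = X * m := by
    apply Nat.eq_of_mul_eq_mul_right hk0
    rw [hD]; ring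
  obtain ⟨t, ht⟩ := hCd
  have h1 : m * c = m * (X + p * t) := by
    rw [← hc1, ← hE, hF, hB', ht]; ring
  have h2 : c = X + p * t := Nat.eq_of_mul_eq_mul_left hm0 h1
  have h3 : X ≡ c [MOD p] := by
    rw [h2]
    exact (Nat.modEq_iff_dvd' (Nat.le_add_right _ _)).mpr (by simp)
  exact h3.trans hc2

end Cfsg.Agent.Lib.Helper73
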