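import Mathlib
import Cfsg.Prelude.Def_Amalgam
import Cfsg.Agent.Lib.Helper12.AmalDefs
import Cfsg.Agent.Lib.Helper12.AmalCrit
import Cfsg.Agent.Lib.Helper12.AmalTreeDefs
import Cfsg.Agent.Lib.Helper68.AmalDDefs
import Cfsg.Agent.Lib.Helper68.AmalDDefs2
import Cfsg.Agent.Lib.Helper68.AmalDOrb

/-!
# S2858 core, case (D), module [D-NLEM], second half (helper73)

`relIndex_Q_Nv`, `Q_not_normal_Nv`, `exists_swap`, `exists_Nv_of_S` (exact stub statements), together with the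
small lemmas they need (`Q_le_Nv`, `Nv_inf_stab`, `cv_mem`, `cv_ne_one`, `cv_sq`, `eq_cv`, `cv_smul`: same
statements as in the stubs, proved here to be independent of the other modules).
-/

set_option autoImplicit false

namespace Cfsg.Agent.Lib.Helper73.AmalD

open Cfsg Cfsg.Agent.Lib.Helper68.AmalD Cfsg.Agent.Lib.Helper7.AmalC
open Cfsg.Agent.Lib.Helper12.Amal hiding Flat

universe u

variable {G : Type u} [Group G] {P₁ P₂ : Subgroup G}

/-! ### labels -/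

theorem cv_spec (S : FS P₁ P₂) (x : CosetVertex P₁ P₂) : cv x ∈ Cx x ∧ cv x ≠ 1 := by
  classical
  have hex : ∃ g : G, g ∈ Cx x ∧ g ≠ 1 := by
    have h2 := S.cardC x
    have : Nontrivial ↥(Cx x) := by
      have : Finite ↥(Cx x) := Nat.finite_of_card_ne_zero (by omega)
      rw [← Finite.one_lt_card_iff_nontrivial, h2]
      norm_num
    obtain ⟨⟨g, hg⟩, hg1⟩ := exists_ne (1 : ↥(Cx x))
    exact ⟨g, hg, fun h => hg1 (Subtype.ext h)⟩
  have : cv x = hex.choose := by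
    unfold cv
    rw [dif_pos hex]
  rw [this]
  exact hex.choose_spec

theorem cv_mem (S : FS P₁ P₂) (x : CosetVertex P₁ P₂) : cv x ∈ Cx x := (cv_spec S x).1

theorem cv_ne_one (S : FS P₁ P₂) (x : CosetVertex P₁ P₂) : cv x ≠ 1 := (cv_spec S x).2

theorem cv_sq (hB : Base P₁ P₂) (S : FS P₁ P₂) (x : CosetVertex P₁ P₂) : cv x * cv x = 1 :=
  hB.Z_sq x _ (cv_mem S x).1

theorem eq_cv (S : FS P₁ P₂) {x : CosetVertex P₁ P₂} {g : G} (hg : g ∈ Cx x) (h1 : g ≠ 1) :
    g = cv x := by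
  classical
  by_contra hne
  have h2 := S.cardC x
  have : Finite ↥(Cx x) := Nat.finite_of_card_ne_zero (by omega)
  let _ : Fintype ↥(Cx x) := Fintype.ofFinite _
  rw [Nat.card_eq_fintype_card] at h2
  have hsub : ({1, ⟨g, hg⟩, ⟨cv x, cv_mem S x⟩} : Finset ↥(Cx x)).card = 3 := by
    rw [Finset.card_insert_of_notMem, Finset.card_insert_of_notMem, Finset.card_singleton]
    · simp only [Finset.mem_singleton, Subtype.mk.injEq]
      exact hne
    · simp only [Finset.mem_insert, Finset.mem_singleton, not_or]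
      refine ⟨fun h => h1 ?_, fun h => cv_ne_one S x ?_⟩
      · exact (congrArg Subtype.val h).symm
      · exact (congrArg Subtype.val h).symm
  have := Finset.card_le_univ ({1, ⟨g, hg⟩, ⟨cv x, cv_mem S x⟩} : Finset ↥(Cx x))
  omega

theorem cv_smul (hB : Base P₁ P₂) (S : FS P₁ P₂) (g : G) (x : CosetVertex P₁ P₂) :
    cv (g • x) = g * cv x * g⁻¹ := by
  symm
  apply eq_cv S
  · obtain ⟨hz, hc⟩ := Subgroup.mem_inf.1 (cv_mem S x)
    refine Subgroup.mem_inf.2 ⟨?_, ?_⟩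
    · show g * cv x * g⁻¹ ∈ Zv (g • x)
      rw [hB.smul_Z]
      exact ⟨cv x, hz, rfl⟩
    · rw [Subgroup.mem_centralizer_iff]
      intro k hk
      have hk' : k ∈ Gv (g • x) := hk
      rw [hB.smul_G] at hk'
      obtain ⟨k', hk', rfl⟩ := hk'
      have := (Subgroup.mem_centralizer_iff.1 hc) k' hk'
      show g * k' * g⁻¹ * (g * cv x * g⁻¹) = g * cv x * g⁻¹ * (g * k' * g⁻¹)
      calc g * k' * g⁻¹ * (g * cv x * g⁻¹) = g * (k' * cv x) * g⁻¹ := by group
        _ = g * (cv x * k') * g⁻¹ := by rw [this]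
        _ = g * cv x * g⁻¹ * (g * k' * g⁻¹) := by group
  · intro h
    apply cv_ne_one S x
    have : cv x = g⁻¹ * (g * cv x * g⁻¹) * g := by group
    rw [this, h]
    group

/-! ### `N_y` -/

theorem mem_Nv {y : CosetVertex P₁ P₂} {g : G} :
    g ∈ Nv y ↔ g • y = y ∧ ∀ v ∈ Fv y, v * g = g * v := by
  unfold Nv
  rw [Subgroup.mem_inf, MulAction.mem_stabilizer_iff, Subgroup.mem_centralizer_iff]
  rfl

theorem Q_le_Nv (hB : Base P₁ P₂) {y l : CosetVertex P₁ P₂} (hl : (cosetGraph P₁ P₂).Adj y l) :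
    Qv l ≤ Nv y := by
  intro g hg
  rw [mem_Nv]
  refine ⟨((hB.Q_iff l g).1 hg).2 y hl.symm, ?_⟩
  intro v hv
  have hvZ : v ∈ Zv l := mem_Fv.1 hv l hl
  exact ((Subgroup.mem_centralizer_iff.1 (hB.Z_cent_Q l hvZ)) g hg).symm

theorem Nv_inf_stab (hB : Base P₁ P₂) (S : FS P₁ P₂) {y l : CosetVertex P₁ P₂} (hf : Flat y)
    (hl : (cosetGraph P₁ P₂).Adj y l) : Nv y ⊓ Gv l = Qv l := by
  apply le_antisymm
  · intro g ⟨hgN, hgl⟩
    have hgy : g ∈ Gv y := hgN.1
    have hT : g ∈ Qv y ⊔ Qv l := by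
      rw [← hB.edge_eq y l hl]
      exact ⟨hgy, hgl⟩
    -- `Q_y` normalizes ... we use `Q_l ≤ N_y` and `N_y ∩ Q_y ≤ Q_l`
    have hnorm : Qv l ≤ Subgroup.normalizer ((Qv y : Subgroup G) : Set G) := by
      intro q hq
      have hqy : q • y = y := ((hB.Q_iff l q).1 hq).2 y hl.symm
      rw [Subgroup.mem_normalizer_iff]
      intro n
      have h1 : Qv y = (Qv y).map (MulAut.conj q).toMonoidHom := by
        conv_lhs => rw [← hqy]
        exact hB.smul_Q q y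
      constructor
      · intro hn
        rw [h1]
        exact ⟨n, hn, rfl⟩
      · intro hn
        rw [h1] at hn
        obtain ⟨n', hn', hnn⟩ := hn
        have : n' = n := by
          have h2 : q * n' * q⁻¹ = q * n * q⁻¹ := hnn
          have h3 := mul_right_cancel h2
          exact mul_left_cancel h3
        rwa [this] at hn'
    rw [sup_comm] at hT
    have hT' : g ∈ ((Qv l ⊔ Qv y : Subgroup G) : Set G) := hT
    rw [Subgroup.coe_mul_of_left_le_normalizer_right (Qv l) (Qv y) hnorm] at hT'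
    obtain ⟨q', hq', q, hq, rfl⟩ := Set.mem_mul.1 hT'
    -- now `g = q' * q`, `q' ∈ Q_l`, `q ∈ Q_y`
    have hqN : q ∈ Nv y := by
      have : q = q'⁻¹ * (q' * q) := by group
      rw [this]
      exact Subgroup.mul_mem _ (Subgroup.inv_mem _ (Q_le_Nv hB hl hq')) hgN
    exact Subgroup.mul_mem _ hq' (S.N_inf_Q y l hf hl ⟨hqN, hq⟩)
  · intro g hg
    exact ⟨Q_le_Nv hB hl hg, ((hB.Q_iff l g).1 hg).1⟩

/-- the stabilizer of `l` in the subgroup `H` -/
theorem stabilizer_subgroup_eq (H : Subgroup G) (l : CosetVertex P₁ P₂) :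
    MulAction.stabilizer ↥H l = (Gv l).subgroupOf H := by
  ext g
  rw [MulAction.mem_stabilizer_iff, Subgroup.mem_subgroupOf, MulAction.mem_stabilizer_iff]
  rfl

theorem relIndex_Q_Nv (hB : Base P₁ P₂) (S : FS P₁ P₂) {y l : CosetVertex P₁ P₂} (hf : Flat y)
    (hl : (cosetGraph P₁ P₂).Adj y l) : (Qv l).relIndex (Nv y) = 3 := by
  have h1 : (Qv l).subgroupOf (Nv y) = MulAction.stabilizer ↥(Nv y) l := by
    rw [stabilizer_subgroup_eq, ← Nv_inf_stab hB S hf hl, Subgroup.inf_subgroupOf_left]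
  have h2 : MulAction.orbit ↥(Nv y) l = (cosetGraph P₁ P₂).neighborSet y := by
    ext w
    constructor
    · rintro ⟨⟨n, hn⟩, rfl⟩
      have hny : n • y = y := (mem_Nv.1 hn).1
      have := hB.smul_adj n _ _ hl
      rw [hny] at this
      exact this
    · intro hw
      obtain ⟨n, hn, hnl⟩ := S.N_trans y l w hf hl hw
      exact ⟨⟨n, hn⟩, hnl⟩
  unfold Subgroup.relIndex
  rw [h1, MulAction.index_stabilizer]
  exact (congrArg Set.ncard h2).trans (hB.card_nbr y)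

theorem Q_not_normal_Nv (hB : Base P₁ P₂) (S : FS P₁ P₂) {y l : CosetVertex P₁ P₂} (hf : Flat y)
    (hl : (cosetGraph P₁ P₂).Adj y l) : ¬ ((Qv l).subgroupOf (Nv y)).Normal := by
  intro hN
  have hconj : ∀ n ∈ Nv y, ∀ q ∈ Qv l, n * q * n⁻¹ ∈ Qv l := by
    intro n hn q hq
    have := hN.conj_mem ⟨q, Q_le_Nv hB hl hq⟩ (Subgroup.mem_subgroupOf.2 hq) ⟨n, hn⟩
    exact Subgroup.mem_subgroupOf.1 this
  -- `Q_l ≤ Q_l'` for every neighbour `l'` of `y`
  have hle : ∀ l', (cosetGraph P₁ P₂).Adj y l' → Qv l ≤ Qv l' := by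
    intro l' hl' q hq
    obtain ⟨n, hn, hnl⟩ := S.N_trans y l l' hf hl hl'
    rw [← hnl, hB.smul_Q]
    refine ⟨n⁻¹ * q * n, ?_, ?_⟩
    · have := hconj n⁻¹ (Subgroup.inv_mem _ hn) q hq
      rwa [inv_inv] at this
    · show n * (n⁻¹ * q * n) * n⁻¹ = q
      group
  have hQy : Qv l ≤ Qv y := by
    intro q hq
    rw [hB.Q_iff]
    refine ⟨MulAction.mem_stabilizer_iff.2 (((hB.Q_iff l q).1 hq).2 y hl.symm), ?_⟩
    intro l' hl'
    exact MulAction.mem_stabilizer_iff.1 ((hB.Q_iff l' q).1 (hle l' hl' hq)).1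
  have h1 := hB.card_T y l hl
  rw [hB.edge_eq y l hl, sup_eq_left.2 hQy] at h1
  have : Finite ↥(Gv y) := hB.fin y
  have hfin : Finite ↥(Qv y) := Finite.of_injective (Subgroup.inclusion (hB.Q_le_G y))
    (Subgroup.inclusion_injective _)
  have hpos : 0 < Nat.card ↥(Qv y) := Nat.card_pos
  omega

/-- the swap: an element of `T_{lh}` interchanging the other two neighbours of `l` -/
theorem exists_swap (hB : Base P₁ P₂) {l r r' h : CosetVertex P₁ P₂}
    (hr : (cosetGraph P₁ P₂).Adj l r) (hr' : (cosetGraph P₁ P₂).Adj l r')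
    (hh : (cosetGraph P₁ P₂).Adj l h) (n1 : r ≠ r') (n2 : r ≠ h) (n3 : r' ≠ h) :
    ∃ x : G, x • l = l ∧ x • h = h ∧ x • r = r' ∧ x • r' = r := by
  obtain ⟨g, hg, hgh, hgr⟩ := hB.two_trans l h r h r' hh hr (Ne.symm n2) hh hr' (Ne.symm n3)
  have hgl : g • l = l := MulAction.mem_stabilizer_iff.1 hg
  refine ⟨g, hgl, hgh, hgr, ?_⟩
  have hadj : (cosetGraph P₁ P₂).Adj l (g • r') := by
    have := hB.smul_adj g _ _ hr'
    rwa [hgl] at this
  have hne1 : g • r' ≠ h := by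
    intro hc
    rw [← hgh] at hc
    exact n3 (MulAction.injective g hc)
  have hne2 : g • r' ≠ r' := by
    intro hc
    have h2 : g • r' = g • r := hc.trans hgr.symm
    exact n1 (MulAction.injective g h2).symm
  exact nbr_eq_of_base hB l h r' (g • r') r hh hr' (Ne.symm n3) hadj hne1 hne2 hr n2 n1

/-- an `S`-turn at `y` is realized by an element of `N_y` -/
theorem exists_Nv_of_S (hB : Base P₁ P₂) (S : FS P₁ P₂) {y l₁ l₂ x₁ x₂ : CosetVertex P₁ P₂}
    (hf : Flat y) (h1 : (cosetGraph P₁ P₂).Adj y l₁) (h2 : (cosetGraph P₁ P₂).Adj y l₂)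
    (hx1 : (cosetGraph P₁ P₂).Adj l₁ x₁) (hx2 : (cosetGraph P₁ P₂).Adj l₂ x₂)
    (n1 : x₁ ≠ y) (n2 : x₂ ≠ y) (hS : cv l₁ * cv x₁ = cv l₂ * cv x₂) :
    ∃ n ∈ Nv y, n • l₁ = l₂ ∧ n • x₁ = x₂ := by
  obtain ⟨n, hn, hnl⟩ := S.N_trans y l₁ l₂ hf h1 h2
  refine ⟨n, hn, hnl, ?_⟩
  have hny : n • y = y := (mem_Nv.1 hn).1
  -- `n` centralizes `c_{l₁} c_{x₁} ∈ F_y`
  have hF := S.F_mem y l₁ x₁ hf h1 hx1 n1
  have hcomm := (mem_Nv.1 hn).2 _ hF
  have hconj : n * (cv l₁ * cv x₁) * n⁻¹ = cv l₁ * cv x₁ := by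
    rw [← hcomm]
    group
  have hcv : cv (n • x₁) = cv x₂ := by
    have e1 : n * (cv l₁ * cv x₁) * n⁻¹ = (n * cv l₁ * n⁻¹) * (n * cv x₁ * n⁻¹) := by group
    rw [e1, ← cv_smul hB S, ← cv_smul hB S, hnl, hS] at hconj
    exact mul_left_cancel hconj
  -- `n x₁` and `x₂` are neighbours of `l₂` different from `y`
  have hadj : (cosetGraph P₁ P₂).Adj l₂ (n • x₁) := by
    have := hB.smul_adj n _ _ hx1
    rwa [hnl] at this
  have hne : n • x₁ ≠ y := by
    intro hc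
    rw [← hny] at hc
    exact n1 (MulAction.injective n hc)
  by_contra hcon
  -- `l₂` is not flat, so `c_y c_{x₂} c_{n x₁} = 1`
  have hnf : ¬ Flat l₂ := fun hfl => not_flat_adj hB h2 hf hfl
  have hrel := S.rel_L l₂ y x₂ (n • x₁) hnf h2.symm hx2 hadj (Ne.symm n2) (Ne.symm hne)
    (Ne.symm hcon)
  rw [hcv, mul_assoc, cv_sq hB S, mul_one] at hrel
  exact cv_ne_one S y hrel

end Cfsg.Agent.Lib.Helper73.AmalD
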