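import Mathlib
import Cfsg.Prelude.Def_GeometricClasses
import Cfsg.Agent.Lib.Helper99.AschDefs
import Cfsg.Agent.Lib.Helper5.AschODefs
import Cfsg.Agent.Lib.Helper5.AschOBasic
import Cfsg.Agent.Lib.Helper43.AschO2Eich
import Cfsg.Agent.Lib.Helper43.AschO2Isotropic
import Cfsg.Agent.Lib.Helper73.AschO2P2

/-!
# ASCHO2-[P-2] (helper73), exact sheet statement
-/

set_option autoImplicit false

namespace Cfsg.Agent.Lib.Helper5.AschO

open Cfsg Cfsg.Geo Cfsg.Agent.Lib.Helper99.Asch
open scoped MatrixGroups Matrix Kronecker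

variable {ι : Type} [Fintype ι] [DecidableEq ι] {F : Type*} [Field F] [Fintype F]

/-- ASCHO2-[P-2] -/
theorem not_omegaGL_le_decompositionStabilizer {Q : (ι → F) → F} (hQ : IsNondegenerateQuadraticForm Q)
    (hodd : Odd (Fintype.card F)) (h7 : 7 ≤ Fintype.card ι) {t : ℕ} (k : ℕ) (D : Fin t → Submodule F (ι → F))
    (hD : IsOrthogonalMDecomposition Q k D) : ¬ omegaGL Q ≤ decompositionStabilizer D :=
  not_omegaGL_le_decompositionStabilizer_of hQ (exists_eichler_mem_omegaGL hQ h7)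
    (exists_singular_of_three_le hQ hodd) h7 k D hD

end Cfsg.Agent.Lib.Helper5.AschO
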