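import Mathlib
import Cfsg.Prelude.Def_GeometricClasses
import Cfsg.Agent.Lib.Helper99.AschDefs
import Cfsg.Agent.Lib.Helper37.AschC8

/-!
# Project ASCH (S5630), module [RESID] (helper73, hedge)

`residual_or_geo_of`: the sheet statement of [RESID] with the statement of [NDESC] (`geo_of_realisable`, for this `P`)
as the extra hypothesis `hdesc`.
-/

set_option autoImplicit false

namespace Cfsg.Agent.Lib.Helper73.AschResid

open Cfsg Cfsg.Geo Cfsg.Agent.Lib.Helper99.Asch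
open scoped MatrixGroups Matrix Kronecker

variable {n : ℕ} {F : Type*} [Field F]

/-- scalars are central -/
theorem scalar_comm {z : GL (Fin n) F} (hz : z ∈ scalars (Fin n) F) (g : GL (Fin n) F) :
    z * g = g * z := by
  obtain ⟨c, hc⟩ := (mem_scalars_iff z).1 hz
  apply Units.ext
  rw [Units.val_mul, Units.val_mul, hc]
  simp

/-- if `h` centralizes the perfect group `P` modulo scalars, it centralizes `P` -/
theorem commute_of_comm_scalar (P : Subgroup (GL (Fin n) F)) (hperf : ⁅P, P⁆ = P)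
    (h : GL (Fin n) F) (hh : ∀ x ∈ P, h * x * h⁻¹ * x⁻¹ ∈ scalars (Fin n) F) :
    ∀ x ∈ P, h * x = x * h := by
  -- `ψ x = h x h⁻¹ x⁻¹` is multiplicative
  have hmul : ∀ x y : GL (Fin n) F, h * y * h⁻¹ * y⁻¹ ∈ scalars (Fin n) F →
      h * (x * y) * h⁻¹ * (x * y)⁻¹ = (h * x * h⁻¹ * x⁻¹) * (h * y * h⁻¹ * y⁻¹) := by
    intro x y hy
    have e1 : h * (x * y) * h⁻¹ * (x * y)⁻¹ = h * x * h⁻¹ * ((h * y * h⁻¹ * y⁻¹) * x⁻¹) := by group
    rw [e1, scalar_comm hy x⁻¹]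
    group
  have hinv : ∀ x : GL (Fin n) F, h * x * h⁻¹ * x⁻¹ ∈ scalars (Fin n) F →
      h * x⁻¹ * h⁻¹ * x⁻¹⁻¹ = (h * x * h⁻¹ * x⁻¹)⁻¹ := by
    intro x hx
    have e := hmul x⁻¹ x hx
    rw [inv_mul_cancel] at e
    have e0 : h * 1 * h⁻¹ * (1 : GL (Fin n) F)⁻¹ = 1 := by group
    rw [e0] at e
    exact eq_inv_of_mul_eq_one_left e.symm
  have hcomm : ∀ x ∈ P, ∀ y ∈ P, h * (x * y * x⁻¹ * y⁻¹) = (x * y * x⁻¹ * y⁻¹) * h := by
    intro x hx y hy
    have hx1 := hh x hx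
    have hy1 := hh y hy
    have hxi : x⁻¹ ∈ P := Subgroup.inv_mem _ hx
    have hyi : y⁻¹ ∈ P := Subgroup.inv_mem _ hy
    have e1 : h * (x * y * x⁻¹ * y⁻¹) * h⁻¹ * (x * y * x⁻¹ * y⁻¹)⁻¹ =
        (h * x * h⁻¹ * x⁻¹) * (h * y * h⁻¹ * y⁻¹) * (h * x * h⁻¹ * x⁻¹)⁻¹ *
          (h * y * h⁻¹ * y⁻¹)⁻¹ := by
      have a1 : x * y * x⁻¹ * y⁻¹ = x * (y * (x⁻¹ * y⁻¹)) := by group
      rw [a1, hmul x _ (hh _ (Subgroup.mul_mem _ hy (Subgroup.mul_mem _ hxi hyi))),
        hmul y _ (hh _ (Subgroup.mul_mem _ hxi hyi)), hmul x⁻¹ _ (hh _ hyi), hinv x hx1,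
        hinv y hy1]
      simp only [mul_assoc]
    have e2 : (h * x * h⁻¹ * x⁻¹) * (h * y * h⁻¹ * y⁻¹) * (h * x * h⁻¹ * x⁻¹)⁻¹ *
        (h * y * h⁻¹ * y⁻¹)⁻¹ = 1 := by
      rw [scalar_comm hx1 (h * y * h⁻¹ * y⁻¹)]
      group
    rw [e2] at e1
    have e3 : h * (x * y * x⁻¹ * y⁻¹) * h⁻¹ = x * y * x⁻¹ * y⁻¹ := mul_inv_eq_one.1 e1
    calc h * (x * y * x⁻¹ * y⁻¹) = (h * (x * y * x⁻¹ * y⁻¹) * h⁻¹) * h := by group
      _ = (x * y * x⁻¹ * y⁻¹) * h := by rw [e3]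
  have hle : ⁅P, P⁆ ≤ Subgroup.centralizer ({h} : Set (GL (Fin n) F)) := by
    rw [Subgroup.commutator_le]
    intro x hx y hy
    rw [Subgroup.mem_centralizer_iff]
    intro k hk
    rw [Set.mem_singleton_iff] at hk
    subst hk
    rw [commutatorElement_def]
    exact hcomm x hx y hy
  intro x hx
  have hx' : x ∈ ⁅P, P⁆ := hperf.symm ▸ hx
  have := hle hx'
  rw [Subgroup.mem_centralizer_iff] at this
  exact this h rfl

/-- generic: `P/(Z ∩ P)` is simple -/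
theorem isSimpleGroup_quot_gen {G : Type*} [Group G] (Z P : Subgroup G) [Z.Normal]
    (hnot : ¬ P ≤ Z)
    (hsimple : ∀ M : Subgroup G, M ≤ P → (∀ h ∈ P, ∀ x ∈ M, h * x * h⁻¹ ∈ M) → M ≤ Z ∨ M = P) :
    IsSimpleGroup (↥P ⧸ Z.subgroupOf P) := by
  have hZtop : Z.subgroupOf P ≠ ⊤ := by
    intro htop
    apply hnot
    intro x hx
    have : (⟨x, hx⟩ : ↥P) ∈ Z.subgroupOf P := htop ▸ Subgroup.mem_top _
    exact Subgroup.mem_subgroupOf.1 this
  have hnt : Nontrivial (↥P ⧸ Z.subgroupOf P) := by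
    rw [QuotientGroup.nontrivial_iff]
    exact hZtop
  refine { exists_pair_ne := hnt.exists_pair_ne, eq_bot_or_eq_top_of_normal := ?_ }
  intro K hK
  have hK'n : (K.comap (QuotientGroup.mk' (Z.subgroupOf P))).Normal := hK.comap _
  have hMP : (K.comap (QuotientGroup.mk' (Z.subgroupOf P))).map P.subtype ≤ P := by
    rintro _ ⟨x, -, rfl⟩
    exact x.2
  have hMn : ∀ h ∈ P, ∀ x ∈ (K.comap (QuotientGroup.mk' (Z.subgroupOf P))).map P.subtype,
      h * x * h⁻¹ ∈ (K.comap (QuotientGroup.mk' (Z.subgroupOf P))).map P.subtype := by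
    rintro p hp _ ⟨x, hx, rfl⟩
    have := Subgroup.mem_map_of_mem P.subtype (hK'n.conj_mem x hx ⟨p, hp⟩)
    rwa [map_mul, map_mul, map_inv] at this
  have hmap : (K.comap (QuotientGroup.mk' (Z.subgroupOf P))).map
      (QuotientGroup.mk' (Z.subgroupOf P)) = K :=
    Subgroup.map_comap_eq_self_of_surjective (QuotientGroup.mk'_surjective _) K
  rcases hsimple _ hMP hMn with h | h
  · left
    rw [← hmap, Subgroup.map_eq_bot_iff, QuotientGroup.ker_mk']
    intro x hx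
    exact Subgroup.mem_subgroupOf.2 (h ⟨x, hx, rfl⟩)
  · right
    rw [← hmap]
    have : K.comap (QuotientGroup.mk' (Z.subgroupOf P)) = ⊤ := by
      rw [eq_top_iff]
      intro x _
      have hxM : (x : G) ∈ (K.comap (QuotientGroup.mk' (Z.subgroupOf P))).map P.subtype := by
        rw [h]
        exact x.2
      obtain ⟨y, hy, hyx⟩ := hxM
      have : y = x := Subtype.ext hyx
      rwa [this] at hy
    rw [this, ← MonoidHom.range_eq_map, MonoidHom.range_eq_top]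
    exact QuotientGroup.mk'_surjective _

/-- generic: `P/(Z ∩ P)` is not abelian -/
theorem not_comm_quot_gen {G : Type*} [Group G] (Z P : Subgroup G) [Z.Normal] (hnot : ¬ P ≤ Z)
    (hperf : ⁅P, P⁆ = P) : ¬ IsMulCommutative (↥P ⧸ Z.subgroupOf P) := by
  intro hab
  apply hnot
  rw [← hperf, Subgroup.commutator_le]
  intro x hx y hy
  have h5 : (QuotientGroup.mk' (Z.subgroupOf P))
      (⟨x, hx⟩ * ⟨y, hy⟩ * ⟨x, hx⟩⁻¹ * ⟨y, hy⟩⁻¹) = 1 := by
    rw [map_mul, map_mul, map_mul, map_inv, map_inv]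
    have := hab.is_comm.comm (QuotientGroup.mk' (Z.subgroupOf P) ⟨x, hx⟩)
      (QuotientGroup.mk' (Z.subgroupOf P) ⟨y, hy⟩)
    rw [this]
    group
  rw [← MonoidHom.mem_ker, QuotientGroup.ker_mk'] at h5
  exact Subgroup.mem_subgroupOf.1 h5

/-- `P/(Z ∩ P)` is simple -/
theorem isSimpleGroup_quot (P : Subgroup (GL (Fin n) F)) (hnot : ¬ P ≤ scalars (Fin n) F)
    (hsimple : ∀ M : Subgroup (GL (Fin n) F), M ≤ P → Nrm P M → M ≤ scalars (Fin n) F ∨ M = P) :
    IsSimpleGroup (↥P ⧸ (scalars (Fin n) F).subgroupOf P) :=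
  isSimpleGroup_quot_gen (scalars (Fin n) F) P hnot hsimple

/-- `P/(Z ∩ P)` is not abelian -/
theorem not_comm_quot (P : Subgroup (GL (Fin n) F)) (hnot : ¬ P ≤ scalars (Fin n) F)
    (hperf : ⁅P, P⁆ = P) : ¬ IsMulCommutative (↥P ⧸ (scalars (Fin n) F).subgroupOf P) :=
  not_comm_quot_gen (scalars (Fin n) F) P hnot hperf

/-- an element of `GL` whose matrix is `c • 1` is a scalar -/
theorem mem_scalars_of_smul (hn : 0 < n) (h : GL (Fin n) F) (c : F)
    (hc : (h : Matrix (Fin n) (Fin n) F) = c • (1 : Matrix (Fin n) (Fin n) F)) :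
    h ∈ scalars (Fin n) F := by
  have hc0 : c ≠ 0 := by
    rintro rfl
    rw [zero_smul] at hc
    have hdet := (Matrix.GeneralLinearGroup.det h).ne_zero
    have : (h : Matrix (Fin n) (Fin n) F).det = 0 := by
      rw [hc]
      have : Nonempty (Fin n) := ⟨⟨0, hn⟩⟩
      exact Matrix.det_zero
    exact hdet this
  rw [mem_scalars_iff]
  exact ⟨Units.mk0 c hc0, hc⟩

variable [Fintype F]

/-- ASCH-[RESID], with [NDESC] as a hypothesis -/
theorem residual_or_geo_of (hn : 3 ≤ n) (H P : Subgroup (GL (Fin n) F)) (hNAI : NAI H)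
    (hP : PerfMin H P)
    (hsimple : ∀ M : Subgroup (GL (Fin n) F), M ≤ P → Nrm P M → M ≤ scalars (Fin n) F ∨ M = P)
    (hdesc : ∀ F₀ : Subfield F, F₀ ≠ ⊤ → RealisableOver F₀ (matrixSet P) → Geo H) :
    Geo H ∨ InLinearResidualClass H := by
  classical
  have hPabs : ActsAbsolutelyIrreducibly (matrixSet P) := by
    rcases hNAI P hP.nrm with h | h
    · exact absurd h hP.not_le
    · exact h
  by_cases h1 : ∃ F₀ : Subfield F, F₀ ≠ ⊤ ∧ RealisableOver F₀ (matrixSet P)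
  · obtain ⟨F₀, hF₀, hreal⟩ := h1
    exact Or.inl (hdesc F₀ hF₀ hreal)
  by_cases h2 : ∃ Q : (Fin n → F) → F, IsNondegenerateQuadraticForm Q ∧ FixesQuadForm (matrixSet P) Q
  · obtain ⟨Q, hQ, hfix⟩ := h2
    exact Or.inl (geo_of_fixes_quadratic hn H P hPabs hP.nrm Q hQ hfix)
  by_cases h3 : ∃ f : (Fin n → F) → (Fin n → F) → F, IsSymplecticForm f ∧ FixesForm (matrixSet P) f
  · obtain ⟨f, hf, hfix⟩ := h3
    exact Or.inl (geo_of_fixes_symplectic hn H P hPabs hP.nrm f hf hfix)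
  by_cases h4 : ∃ (σ : F ≃+* F) (f : (Fin n → F) → (Fin n → F) → F), IsUnitaryForm σ f ∧
      FixesForm (matrixSet P) f
  · obtain ⟨σ, f, hf, hfix⟩ := h4
    exact Or.inl (geo_of_fixes_unitary hn H P hPabs hP.nrm σ f hf hfix)
  refine Or.inr ⟨P, ?_, h2, h3, h4⟩
  exact
    { le := hP.le
      normal := hP.nrm
      perfect := hP.perfect
      simple := isSimpleGroup_quot P hP.not_le hsimple
      nonabelian := not_comm_quot P hP.not_le hP.perfect
      centralizer_scalar := by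
        intro h _ hcs
        have hc := commute_of_comm_scalar P hP.perfect h hcs
        obtain ⟨c, hc'⟩ := hPabs.2 (h : Matrix (Fin n) (Fin n) F) (by
          rintro _ ⟨x, hx, rfl⟩
          have := congrArg (fun g : GL (Fin n) F => (g : Matrix (Fin n) (Fin n) F)) (hc x hx)
          simpa using this)
        exact mem_scalars_of_smul (by omega) h c hc'
      absIrred := hPabs
      no_subfield := fun F₀ hF₀ hreal => h1 ⟨F₀, hF₀, hreal⟩ }

end Cfsg.Agent.Lib.Helper73.AschResid
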