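import Mathlib
import Cfsg.Prelude.Def_GeometricClasses
import Cfsg.Agent.Lib.Helper99.AschDefs
import Cfsg.Agent.Lib.Helper23.AschSpDefs

/-!
# ASCHSP-[C2B-EVEN] (helper73): a pair of complementary totally singular subspaces in even
characteristic gives a quadratic form, hence class 8.
-/

set_option autoImplicit false
set_option linter.unusedSectionVars false
set_option linter.unusedVariables false

namespace Cfsg.Agent.Lib.Helper73.AschSpC2BEven

open Cfsg Cfsg.Geo
open scoped MatrixGroups Matrix

variable {n : ℕ} {F : Type*} [Field F]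

/-- the quadratic form `Q x = f (p₀ x) (p₁ x)` of a pair of complementary subspaces -/
noncomputable def pairQ (f : (Fin n → F) → (Fin n → F) → F) (A B : Submodule F (Fin n → F))
    (h : IsCompl A B) : (Fin n → F) → F :=
  fun x => f (A.projection B h x) (B.projection A h.symm x)

theorem pairQ_smul {f : (Fin n → F) → (Fin n → F) → F} (hf : IsBilinearForm f)
    (A B : Submodule F (Fin n → F)) (h : IsCompl A B) (c : F) (x : Fin n → F) :
    pairQ f A B h (c • x) = c ^ 2 * pairQ f A B h x := by
  unfold pairQ
  rw [map_smul, map_smul, hf.smul_left, hf.smul_right]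
  ring

theorem pairQ_polar {f : (Fin n → F) → (Fin n → F) → F} (hf : IsSymplecticForm f)
    (h2 : ∀ a : F, -a = a)
    (A B : Submodule F (Fin n → F)) (h : IsCompl A B) (hA : IsTotallySingularFor f A)
    (hB : IsTotallySingularFor f B) (x y : Fin n → F) :
    QuadraticMap.polar (pairQ f A B h) x y = f x y := by
  have hb := hf.bilinear
  unfold QuadraticMap.polar pairQ
  set a := A.projection B h x with ha
  set b := B.projection A h.symm x with hb'
  set a' := A.projection B h y with ha'
  set b' := B.projection A h.symm y with hb''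
  have hx : x = a + b := (Submodule.projection_add_projection_eq_self h x).symm
  have hy : y = a' + b' := (Submodule.projection_add_projection_eq_self h y).symm
  have haA : a ∈ A := Submodule.projection_apply_mem h x
  have ha'A : a' ∈ A := Submodule.projection_apply_mem h y
  have hbB : b ∈ B := Submodule.projection_apply_mem h.symm x
  have hb'B : b' ∈ B := Submodule.projection_apply_mem h.symm y
  rw [map_add, map_add, ← ha, ← hb', ← ha', ← hb'']
  conv_rhs => rw [hx, hy]
  rw [hb.add_left, hb.add_right, hb.add_right, hb.add_left, hb.add_right, hb.add_right,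
    hA a haA a' ha'A, hB b hbB b' hb'B, hf.skew b a', h2]
  ring

theorem pairQ_map {f : (Fin n → F) → (Fin n → F) → F} (hf : IsSymplecticForm f)
    (h2 : ∀ a : F, -a = a)
    (A B : Submodule F (Fin n → F)) (h : IsCompl A B) (g : Matrix (Fin n) (Fin n) F)
    (hg : ∀ u v, f (g *ᵥ u) (g *ᵥ v) = f u v)
    (hcase : (A.map (Matrix.toLin' g) = A ∧ B.map (Matrix.toLin' g) = B) ∨
      (A.map (Matrix.toLin' g) = B ∧ B.map (Matrix.toLin' g) = A)) (x : Fin n → F) :
    pairQ f A B h (g *ᵥ x) = pairQ f A B h x := by
  unfold pairQ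
  set a := A.projection B h x with ha
  set b := B.projection A h.symm x with hb'
  have hx : x = a + b := (Submodule.projection_add_projection_eq_self h x).symm
  have haA : a ∈ A := Submodule.projection_apply_mem h x
  have hbB : b ∈ B := Submodule.projection_apply_mem h.symm x
  have hgx : g *ᵥ x = g *ᵥ a + g *ᵥ b := by rw [hx, Matrix.mulVec_add]
  rcases hcase with ⟨h1, h1'⟩ | ⟨h1, h1'⟩
  · have hga : g *ᵥ a ∈ A := by
      rw [← h1]; exact ⟨a, haA, by simp [Matrix.toLin'_apply]⟩
    have hgb : g *ᵥ b ∈ B := by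
      rw [← h1']; exact ⟨b, hbB, by simp [Matrix.toLin'_apply]⟩
    rw [hgx, map_add, map_add, Submodule.projection_apply_of_mem_left h hga,
      Submodule.projection_apply_of_mem_right h hgb,
      Submodule.projection_apply_of_mem_right h.symm hga,
      Submodule.projection_apply_of_mem_left h.symm hgb, add_zero, zero_add, hg]
  · have hga : g *ᵥ a ∈ B := by
      rw [← h1]; exact ⟨a, haA, by simp [Matrix.toLin'_apply]⟩
    have hgb : g *ᵥ b ∈ A := by
      rw [← h1']; exact ⟨b, hbB, by simp [Matrix.toLin'_apply]⟩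
    rw [hgx, map_add, map_add, Submodule.projection_apply_of_mem_right h hga,
      Submodule.projection_apply_of_mem_left h hgb,
      Submodule.projection_apply_of_mem_left h.symm hga,
      Submodule.projection_apply_of_mem_right h.symm hgb, add_zero, zero_add, hg,
      hf.skew b a, h2]

theorem neg_eq_of_not_odd_card [Fintype F] (heven : ¬ Odd (Fintype.card F)) (a : F) : -a = a := by
  have h0 : Fintype.card F % 2 = 0 := by
    rcases Nat.mod_two_eq_zero_or_one (Fintype.card F) with h | h
    · exact h
    · exact absurd (Nat.odd_iff.mpr h) heven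
  have hc : ringChar F = 2 := FiniteField.even_card_iff_char_two.mpr h0
  have : CharP F 2 := ringChar.of_eq hc
  exact CharTwo.neg_eq a

end Cfsg.Agent.Lib.Helper73.AschSpC2BEven

namespace Cfsg.Agent.Lib.Helper23.AschSp

open Cfsg Cfsg.Geo Cfsg.Agent.Lib.Helper99.Asch Cfsg.Agent.Lib.Helper73.AschSpC2BEven
open scoped MatrixGroups Matrix Kronecker

variable {n m : ℕ} {F : Type*} [Field F] [Fintype F] {f : (Fin n → F) → (Fin n → F) → F}

/-- ASCHSP-[C2B-EVEN] -/
theorem sgeo_of_singular_pair_even (hf : IsSymplecticForm f) (heven : ¬ Odd (Fintype.card F))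
    (H : Subgroup (GL (Fin n) F)) (hH : H ≤ isoGL f)
    (D : Fin 2 → Submodule F (Fin n → F)) (hind : iSupIndep D) (htop : iSup D = ⊤)
    (hperm : ∀ h ∈ H, ∃ σ : Equiv.Perm (Fin 2), ∀ i,
      (D i).map (Matrix.toLin' (h : Matrix (Fin n) (Fin n) F)) = D (σ i))
    (hsing : ∀ i, IsTotallySingularFor f (D i)) : SGeo m f H := by
  have h2 : ∀ a : F, -a = a := neg_eq_of_not_odd_card heven
  have hc : IsCompl (D 0) (D 1) := by
    refine ⟨hind.pairwiseDisjoint (by decide : (0 : Fin 2) ≠ 1), ?_⟩
    rw [codisjoint_iff, eq_top_iff, ← htop]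
    refine iSup_le fun i => ?_
    fin_cases i
    · exact le_sup_left
    · exact le_sup_right
  have hpol : ∀ u v, QuadraticMap.polar (pairQ f (D 0) (D 1) hc) u v = f u v :=
    pairQ_polar hf h2 (D 0) (D 1) hc (hsing 0) (hsing 1)
  have hpolfun : QuadraticMap.polar (pairQ f (D 0) (D 1) hc) = f := by
    funext u v; exact hpol u v
  refine SGeo.of_c8 (M := quadSimilarityGroup (pairQ f (D 0) (D 1) hc) ⊓ isoGL f)
    ⟨pairQ f (D 0) (D 1) hc, heven, ⟨pairQ_smul hf.bilinear (D 0) (D 1) hc, ?_, ?_⟩, hpol, rfl⟩ ?_
  · rw [hpolfun]; exact hf.bilinear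
  · rw [hpolfun]; exact hf.nondegenerate
  · intro h hh
    refine ⟨?_, hH hh⟩
    refine ⟨1, fun v => ?_⟩
    rw [Units.val_one, one_mul]
    obtain ⟨σ, hσ⟩ := hperm h hh
    refine pairQ_map hf h2 (D 0) (D 1) hc _ (fun u v => hH hh u v) ?_ v
    have h0 := hσ 0
    have h1 := hσ 1
    rcases Fin.exists_fin_two.mp ⟨σ 0, rfl⟩ with h00 | h01
    · left
      have h11 : σ 1 = 1 := by
        rcases Fin.exists_fin_two.mp ⟨σ 1, rfl⟩ with h10 | h11
        · exact absurd (σ.injective (h10.trans h00.symm)) (by decide)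
        · exact h11
      rw [h00] at h0; rw [h11] at h1
      exact ⟨h0, h1⟩
    · right
      have h10 : σ 1 = 0 := by
        rcases Fin.exists_fin_two.mp ⟨σ 1, rfl⟩ with h10 | h11
        · exact h10
        · exact absurd (σ.injective (h11.trans h01.symm)) (by decide)
      rw [h01] at h0; rw [h10] at h1
      exact ⟨h0, h1⟩

end Cfsg.Agent.Lib.Helper23.AschSp
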