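/-
helper73: normal `p`-subgroups of a group `𝔄` of automorphisms of a finite `p`-group `G` defined through an invariant
subgroup `H`:
* `exists_normal_pgroup_of_aut_isPGroup`: if `Aut(H)` is a `p`-group, the automorphisms in `𝔄` acting trivially on
  `G/H` form a normal `p`-subgroup;
* `exists_normal_pgroup_of_abelian`: if `H` is abelian, the automorphisms in `𝔄` acting trivially on `G/H` and on
  `H/Hᵖ` lie in a normal `p`-subgroup.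
All declarations live in `Cfsg.Agent.Lib.Helper73`.
-/
import Cfsg.Agent.Lib.Helper87.FusionNormal

set_option autoImplicit false

namespace Cfsg.Agent.Lib.Helper73
open Cfsg Cfsg.Agent.Lib.Helper87

variable {G : Type*} [Group G]

/-- Restriction of the automorphisms in `𝔄` to an `𝔄`-invariant subgroup. -/
def resAut (𝔄 : Subgroup (MulAut G)) (H : Subgroup G) (hinv : ∀ α ∈ 𝔄, ∀ x ∈ H, α x ∈ H) :
    𝔄 →* MulAut H where
  toFun α :=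
    { toFun := fun h => ⟨α.1 h, hinv α.1 α.2 h h.2⟩
      invFun := fun h => ⟨α.1⁻¹ h, hinv α.1⁻¹ (𝔄.inv_mem α.2) h h.2⟩
      left_inv := fun h => Subtype.ext (by simp)
      right_inv := fun h => Subtype.ext (by simp)
      map_mul' := fun h k => Subtype.ext (by simp) }
  map_one' := by
    ext h
    rfl
  map_mul' α β := by
    ext h
    rfl

theorem resAut_apply (𝔄 : Subgroup (MulAut G)) (H : Subgroup G) (hinv : ∀ α ∈ 𝔄, ∀ x ∈ H, α x ∈ H)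
    (α : 𝔄) (h : H) : ((resAut 𝔄 H hinv α h : H) : G) = α.1 h := rfl

/-- The chain `G ≥ H ≥ 1 ≥ 1 ≥ ⋯`. -/
def chainTwo (H : Subgroup G) : ℕ → Subgroup G
  | 0 => ⊤
  | 1 => H
  | (_ + 2) => ⊥

theorem exists_normal_pgroup_of_aut_isPGroup [Finite G] {p : ℕ} [Fact p.Prime] (hG : IsPGroup p G)
    (𝔄 : Subgroup (MulAut G)) (H : Subgroup G) (hinv : ∀ α ∈ 𝔄, ∀ x ∈ H, α x ∈ H)
    (hAut : IsPGroup p (MulAut H)) :
    ∃ K : Subgroup (MulAut G), K ≤ 𝔄 ∧ (∀ α ∈ 𝔄, ∀ β ∈ K, α * β * α⁻¹ ∈ K) ∧ IsPGroup p K ∧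
      ∀ β ∈ 𝔄, (∀ r : G, r⁻¹ * β r ∈ H) → β ∈ K := by
  have hinv' : ∀ j ≤ 2, ∀ α ∈ 𝔄, ∀ x ∈ chainTwo H j, α x ∈ chainTwo H j := by
    intro j hj α hα x hx
    match j, hj, hx with
    | 0, _, _ => trivial
    | 1, _, hx => exact hinv α hα x hx
    | 2, _, hx =>
      have h1 : x = 1 := hx
      rw [h1, map_one]
      exact Subgroup.one_mem _
  have hinv1 : ∀ j ≤ 1, ∀ α ∈ 𝔄, ∀ x ∈ chainTwo H j, α x ∈ chainTwo H j :=
    fun j hj => hinv' j (by omega)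
  have hK1 : IsPGroup p (chainStab 𝔄 2 (chainTwo H) hinv') :=
    chainStab_isPGroup hG 𝔄 2 (chainTwo H) rfl rfl hinv'
  refine ⟨chainStab 𝔄 1 (chainTwo H) hinv1, chainStab_le _ _ _ _,
    fun α hα β hβ => chainStab_conj_mem _ _ _ hinv1 hα hβ, ?_, ?_⟩
  · rintro ⟨β, hβ⟩
    obtain ⟨a, ha⟩ := hAut (resAut 𝔄 H hinv ⟨β, hβ.1⟩)
    have hγ : β ^ (p ^ a) ∈ chainStab 𝔄 1 (chainTwo H) hinv1 := Subgroup.pow_mem _ hβ _
    have hfix : ∀ h ∈ H, (β ^ (p ^ a)) h = h := by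
      intro h hh
      rw [← map_pow] at ha
      have h1 := congrArg (fun f : MulAut H => ((f ⟨h, hh⟩ : H) : G)) ha
      exact h1
    have hγ2 : β ^ (p ^ a) ∈ chainStab 𝔄 2 (chainTwo H) hinv' := by
      refine ⟨hγ.1, fun j hj r hr => ?_⟩
      match j, hj, hr with
      | 0, _, hr => exact hγ.2 0 (by norm_num) r hr
      | 1, _, hr =>
        have h1 : r⁻¹ * (β ^ (p ^ a)) r = 1 := by rw [hfix r hr, inv_mul_cancel]
        rw [h1]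
        exact Subgroup.one_mem _
    obtain ⟨b, hb⟩ := hK1 ⟨β ^ (p ^ a), hγ2⟩
    refine ⟨a + b, Subtype.ext ?_⟩
    have h2 := congrArg Subtype.val hb
    show β ^ (p ^ (a + b)) = 1
    rw [pow_add, pow_mul]
    exact h2
  · intro β hβ h
    refine ⟨hβ, fun j hj r _ => ?_⟩
    have hj0 : j = 0 := by omega
    subst hj0
    exact h r

/-- The subgroup of `p^j`-th powers of an abelian subgroup. -/
def powSub (H : Subgroup G) (hc : ∀ x ∈ H, ∀ y ∈ H, x * y = y * x) (m : ℕ) : Subgroup G where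
  carrier := {g | ∃ h ∈ H, h ^ m = g}
  one_mem' := ⟨1, H.one_mem, one_pow _⟩
  mul_mem' := by
    rintro _ _ ⟨h, hh, rfl⟩ ⟨k, hk, rfl⟩
    exact ⟨h * k, H.mul_mem hh hk, (Commute.mul_pow (hc h hh k hk) m)⟩
  inv_mem' := by
    rintro _ ⟨h, hh, rfl⟩
    exact ⟨h⁻¹, H.inv_mem hh, inv_pow h m⟩

/-- The chain `G ≥ H ≥ Hᵖ ≥ H^{p²} ≥ ⋯`. -/
def chainPow (p : ℕ) (H : Subgroup G) (hc : ∀ x ∈ H, ∀ y ∈ H, x * y = y * x) : ℕ → Subgroup G
  | 0 => ⊤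
  | (j + 1) => powSub H hc (p ^ j)

theorem exists_normal_pgroup_of_abelian [Finite G] {p : ℕ} [Fact p.Prime] (hG : IsPGroup p G)
    (𝔄 : Subgroup (MulAut G)) (H : Subgroup G) (hinv : ∀ α ∈ 𝔄, ∀ x ∈ H, α x ∈ H)
    (hc : ∀ x ∈ H, ∀ y ∈ H, x * y = y * x) :
    ∃ K : Subgroup (MulAut G), K ≤ 𝔄 ∧ (∀ α ∈ 𝔄, ∀ β ∈ K, α * β * α⁻¹ ∈ K) ∧ IsPGroup p K ∧
      ∀ β ∈ 𝔄, (∀ r : G, r⁻¹ * β r ∈ H) → (∀ h ∈ H, ∃ g ∈ H, h⁻¹ * β h = g ^ p) → β ∈ K := by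
  obtain ⟨n, hn⟩ := IsPGroup.iff_card.1 hG
  have hexp : ∀ x : G, x ^ (p ^ n) = 1 := fun x => by rw [← hn]; exact pow_card_eq_one'
  have hinv' : ∀ j ≤ n + 1, ∀ α ∈ 𝔄, ∀ x ∈ chainPow p H hc j, α x ∈ chainPow p H hc j := by
    intro j _ α hα x hx
    match j, hx with
    | 0, _ => trivial
    | (i + 1), hx =>
      obtain ⟨h, hh, rfl⟩ := hx
      exact ⟨α h, hinv α hα h hh, (map_pow α h _).symm⟩
  have hbot : chainPow p H hc (n + 1) = ⊥ := by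
    rw [eq_bot_iff]
    rintro _ ⟨h, _, rfl⟩
    rw [Subgroup.mem_bot]
    exact hexp h
  refine ⟨chainStab 𝔄 (n + 1) (chainPow p H hc) hinv', chainStab_le _ _ _ _,
    fun α hα β hβ => chainStab_conj_mem _ _ _ hinv' hα hβ,
    chainStab_isPGroup hG 𝔄 (n + 1) (chainPow p H hc) rfl hbot hinv', ?_⟩
  intro β hβ h1 h2
  refine ⟨hβ, fun j _ r hr => ?_⟩
  match j, hr with
  | 0, _ =>
    refine ⟨r⁻¹ * β r, h1 r, ?_⟩
    rw [pow_zero, pow_one]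
  | (i + 1), hr =>
    obtain ⟨h, hh, rfl⟩ := hr
    obtain ⟨g, hg, hgp⟩ := h2 h hh
    refine ⟨g, hg, ?_⟩
    have hβh : β h ∈ H := hinv β hβ h hh
    have hcomm : Commute h⁻¹ (β h) := hc _ (H.inv_mem hh) _ hβh
    rw [map_pow, ← inv_pow, ← hcomm.mul_pow, hgp, ← pow_mul, ← pow_succ']
  
end Cfsg.Agent.Lib.Helper73
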