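/-
helper73: BHRSU6-[F3-DAG] (project BHRSU6 = S5802 of helper86).  `dag k = (kᵀ)^(2)` is the adjoint for `hermForm 6 F 2`
when `|F| = 4`; `dag` is an involution; an adjoint-closed subalgebra is `dag`-closed; `g ∈ GU ↔ dag g * g = 1`.
-/
import Mathlib
import Cfsg.Prelude.Def_GeometricClasses
import Cfsg.Prelude.Def_ClassicalGeometry
import Cfsg.Agent.Lib.Helper37.BHRSU.Defs
import Cfsg.Agent.Lib.Helper86.BHRSU6.Defs

set_option autoImplicit false

namespace Cfsg.Agent.Lib.Helper73.Bhrsu6Dag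

open Cfsg Cfsg.Geo Cfsg.Agent.Lib.Helper86.BHRSU6
open scoped MatrixGroups Matrix

variable {F : Type*} [Field F] [Fintype F]

theorem two_eq_zero (hF : Fintype.card F = 4) : (2 : F) = 0 := by
  have h := Nat.cast_card_eq_zero F
  rw [hF] at h
  have h4 : (2 : F) * 2 = 0 := by
    have : ((4 : ℕ) : F) = 2 * 2 := by norm_num
    rw [← this]; exact h
  exact mul_self_eq_zero.mp h4

theorem charP_two (hF : Fintype.card F = 4) : CharP F 2 :=
  CharTwo.of_one_ne_zero_of_two_eq_zero one_ne_zero (two_eq_zero hF)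

theorem pow_four (hF : Fintype.card F = 4) (a : F) : a ^ 4 = a := by
  rw [← hF]; exact FiniteField.pow_card a

theorem sq_injective (hF : Fintype.card F = 4) {a b : F} (h : a ^ 2 = b ^ 2) : a = b := by
  have ha := pow_four hF a
  have hb := pow_four hF b
  have e : ∀ c : F, c ^ 4 = (c ^ 2) ^ 2 := fun c => by ring
  rw [e] at ha hb
  rw [← ha, ← hb, h]

omit [Fintype F] in
/-- The form evaluated at a basis vector. -/
theorem hermForm_single (j : Fin 6) (w : Fin 6 → F) : hermForm 6 F 2 (Pi.single j 1) w = w j ^ 2 := by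
  unfold hermForm
  rw [Finset.sum_eq_single j]
  · rw [Pi.single_eq_same, one_mul]
  · intro i _ hij
    rw [Pi.single_eq_of_ne hij, zero_mul]
  · intro h
    exact absurd (Finset.mem_univ j) h

/-- Non-degeneracy in the second argument. -/
theorem eq_of_hermForm_eq (hF : Fintype.card F = 4) {w w' : Fin 6 → F}
    (h : ∀ u, hermForm 6 F 2 u w = hermForm 6 F 2 u w') : w = w' := by
  funext j
  have := h (Pi.single j 1)
  rw [hermForm_single, hermForm_single] at this
  exact sq_injective hF this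

omit [Fintype F] in
theorem eq_of_mulVec_eq {A B : Matrix (Fin 6) (Fin 6) F} (h : ∀ v, A *ᵥ v = B *ᵥ v) : A = B := by
  ext i j
  have := congrFun (h (Pi.single j 1)) i
  rw [Matrix.mulVec_single_one, Matrix.mulVec_single_one] at this
  exact this

end Cfsg.Agent.Lib.Helper73.Bhrsu6Dag

namespace Cfsg.Agent.Lib.Helper86.BHRSU6

open Cfsg Cfsg.Geo Cfsg.Agent.Lib.Helper70.AschU Cfsg.Agent.Lib.Helper37.BHRSU
open Cfsg.Agent.Lib.Helper73.Bhrsu6Dag
open scoped MatrixGroups Matrix Kronecker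

variable {F : Type*} [Field F] [Fintype F]

/-- BHRSU6-[F3-DAG] : `dag` is the adjoint. -/
theorem hermForm_mulVec_dag (hF : Fintype.card F = 4) (k : Matrix (Fin 6) (Fin 6) F) (u v : Fin 6 → F) :
    hermForm 6 F 2 (k *ᵥ u) v = hermForm 6 F 2 u (dag k *ᵥ v) := by
  have := charP_two hF
  have : Fact (Nat.Prime 2) := ⟨Nat.prime_two⟩
  have h4 := pow_four hF
  unfold hermForm
  simp only [Matrix.mulVec, dotProduct, dag, Matrix.map_apply, Matrix.transpose_apply]
  have e : ∀ j, (∑ i, k i j ^ 2 * v i) ^ 2 = ∑ i, k i j * v i ^ 2 := by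
    intro j
    rw [sum_pow_char 2]
    apply Finset.sum_congr rfl
    intro i _
    rw [mul_pow, ← pow_mul, h4]
  simp only [e, Finset.sum_mul, Finset.mul_sum]
  rw [Finset.sum_comm]
  apply Finset.sum_congr rfl
  intro j _
  apply Finset.sum_congr rfl
  intro i _
  ring

theorem dag_dag (hF : Fintype.card F = 4) (k : Matrix (Fin 6) (Fin 6) F) : dag (dag k) = k := by
  ext i j
  simp only [dag, Matrix.map_apply, Matrix.transpose_apply]
  rw [← pow_mul]
  exact pow_four hF _

theorem dag_mem (hF : Fintype.card F = 4) (K : Subalgebra F (Matrix (Fin 6) (Fin 6) F))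
    (hadj : IsAdjointClosedFor (hermForm 6 F 2) K) {k : Matrix (Fin 6) (Fin 6) F} (hk : k ∈ K) : dag k ∈ K := by
  obtain ⟨k', hk', h⟩ := hadj k hk
  have e : k' = dag k := by
    apply eq_of_mulVec_eq
    intro v
    apply eq_of_hermForm_eq hF
    intro u
    rw [← h u v, hermForm_mulVec_dag hF]
  rw [← e]
  exact hk'

theorem mem_GU_iff_dag (hF : Fintype.card F = 4) (g : GL (Fin 6) F) :
    g ∈ GU 6 F 2 ↔ dag (g : Matrix (Fin 6) (Fin 6) F) * (g : Matrix (Fin 6) (Fin 6) F) = 1 := by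
  have key : ∀ u v : Fin 6 → F, hermForm 6 F 2 ((g : Matrix (Fin 6) (Fin 6) F) *ᵥ u)
      ((g : Matrix (Fin 6) (Fin 6) F) *ᵥ v)
      = hermForm 6 F 2 u ((dag (g : Matrix (Fin 6) (Fin 6) F) * (g : Matrix (Fin 6) (Fin 6) F)) *ᵥ v) := by
    intro u v
    rw [hermForm_mulVec_dag hF, Matrix.mulVec_mulVec]
  constructor
  · intro hg
    apply eq_of_mulVec_eq
    intro v
    apply eq_of_hermForm_eq hF
    intro u
    rw [← key, Matrix.one_mulVec]
    exact hg u v
  · intro hg u v
    show hermForm 6 F 2 ((g : Matrix (Fin 6) (Fin 6) F) *ᵥ u) ((g : Matrix (Fin 6) (Fin 6) F) *ᵥ v)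
      = hermForm 6 F 2 u v
    rw [key, hg, Matrix.one_mulVec]

end Cfsg.Agent.Lib.Helper86.BHRSU6
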