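import Mathlib
import Cfsg.Agent.Lib.Helper64.CH4Defs

/-!
# Project CH4 (S4167), module [INH-N] (helper73): `Hyp4` passes to normal subgroups
-/

set_option autoImplicit false

namespace Cfsg.Agent.Lib.Helper73.CH4

open Cfsg.Agent.Lib.Helper64.CH4

/-- `|N : N ∩ C| = |CN : C|` for a normal subgroup `N` -/
theorem relIndex_sup_of_normal {G : Type*} [Group G] [Finite G] (C N : Subgroup G) [N.Normal] :
    C.relIndex (C ⊔ N) = C.relIndex N := by
  have h1 := Subgroup.relIndex_mul_relIndex (C ⊓ N) C (C ⊔ N) inf_le_left le_sup_left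
  have h2 := Subgroup.relIndex_mul_relIndex (C ⊓ N) N (C ⊔ N) inf_le_right le_sup_right
  rw [Subgroup.relIndex_sup_right, ← Subgroup.inf_relIndex_left C N] at h2
  rw [← h2, mul_comm] at h1
  have hne : (C ⊓ N).relIndex C ≠ 0 := by
    unfold Subgroup.relIndex
    exact Subgroup.index_ne_zero_of_finite
  have h3 := Nat.eq_of_mul_eq_mul_right (Nat.pos_of_ne_zero hne) h1
  rw [h3, Subgroup.inf_relIndex_right]

/-- [INH-N] -/
theorem hyp4_normal {G : Type*} [Group G] [Finite G] (h : Hyp4 G) (N : Subgroup G) [N.Normal] :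
    Hyp4 ↥N := by
  intro x hx
  apply h (x : G)
  have h1 : Subgroup.centralizer ({x} : Set ↥N) =
      (Subgroup.centralizer ({(x : G)} : Set G)).subgroupOf N := by
    ext g
    rw [Subgroup.mem_subgroupOf, Subgroup.mem_centralizer_iff, Subgroup.mem_centralizer_iff]
    constructor
    · intro hg k hk
      rw [Set.mem_singleton_iff] at hk
      subst hk
      exact congrArg Subtype.val (hg x rfl)
    · intro hg k hk
      rw [Set.mem_singleton_iff] at hk
      subst hk
      exact Subtype.ext (hg (k : G) rfl)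
  rw [h1] at hx
  have h2 : (Subgroup.centralizer ({(x : G)} : Set G)).relIndex N ∣
      (Subgroup.centralizer ({(x : G)} : Set G)).index := by
    rw [← relIndex_sup_of_normal]
    exact Subgroup.relIndex_dvd_index_of_le le_sup_left
  exact dvd_trans hx h2

end Cfsg.Agent.Lib.Helper73.CH4
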