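/-
helper73: CLBN-[TV] (project CLBN = S2545-S2547, sheet of helper42): the transvection toolkit in `GL_n`.
-/
import Mathlib
import Cfsg.Agent.Lib.Helper42.ClBN.Defs

set_option autoImplicit false

namespace Cfsg.Agent.Lib.Helper73.ClBNTv

open Matrix Cfsg Cfsg.Agent.Lib.Helper5.GLU Cfsg.Agent.Lib.Helper42.ClBN
open scoped MatrixGroups

variable {n : ℕ} {F : Type*} [Field F]

/-- entries of the transvection -/
theorem transvection_apply (i j : Fin n) (c : F) (a b : Fin n) :
    Matrix.transvection i j c a b = (if a = b then 1 else 0) + (if i = a ∧ j = b then c else 0) := by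
  unfold Matrix.transvection
  rw [Matrix.add_apply, Matrix.one_apply, Matrix.single_apply]

/-- left multiplication by a permutation matrix permutes the rows -/
theorem permGL_mul_apply (w : Equiv.Perm (Fin n)) (M : Matrix (Fin n) (Fin n) F) (a b : Fin n) :
    (((permGL (F := F) w : GL (Fin n) F) : Matrix (Fin n) (Fin n) F) * M) a b = M (w⁻¹ a) b := by
  rw [Matrix.mul_apply, Finset.sum_eq_single (w⁻¹ a)]
  · rw [permGL_apply, if_pos (by simp), one_mul]
  · intro k _ hk
    rw [permGL_apply, if_neg, zero_mul]
    intro h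
    apply hk
    rw [h]; simp
  · intro h; simp at h

/-- right multiplication by a permutation matrix permutes the columns -/
theorem mul_permGL_apply (w : Equiv.Perm (Fin n)) (M : Matrix (Fin n) (Fin n) F) (a b : Fin n) :
    (M * ((permGL (F := F) w : GL (Fin n) F) : Matrix (Fin n) (Fin n) F)) a b = M a (w b) := by
  rw [Matrix.mul_apply, Finset.sum_eq_single (w b)]
  · rw [permGL_apply, if_pos rfl, mul_one]
  · intro k _ hk
    rw [permGL_apply, if_neg hk, mul_zero]
  · intro h; simp at h

/-- conjugation by a permutation matrix, entrywise -/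
theorem permGL_conj_apply (w : Equiv.Perm (Fin n)) (g : GL (Fin n) F) (a b : Fin n) :
    ((permGL w * g * (permGL w)⁻¹ : GL (Fin n) F) : Matrix (Fin n) (Fin n) F) a b =
      (g : Matrix (Fin n) (Fin n) F) (w⁻¹ a) (w⁻¹ b) := by
  rw [← map_inv, Units.val_mul, Units.val_mul, mul_permGL_apply, permGL_mul_apply]

theorem tv_self (i : Fin n) (c : F) : tv i i c = 1 := by
  unfold tv; rw [dif_pos rfl]

/-- the diagonal entries of an invertible upper triangular matrix are nonzero -/
theorem Bor_diag_ne_zero {b : GL (Fin n) F} (hb : b ∈ Bor n F) (i : Fin n) :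
    (b : Matrix (Fin n) (Fin n) F) i i ≠ 0 := by
  have hdet : (b : Matrix (Fin n) (Fin n) F).det ≠ 0 := by
    have := b.isUnit.map (Matrix.detMonoidHom (n := Fin n) (R := F))
    exact this.ne_zero
  rw [Matrix.det_of_isUpperTriangular (show (b : Matrix (Fin n) (Fin n) F).BlockTriangular id from hb)] at hdet
  exact (Finset.prod_ne_zero_iff.mp hdet) i (Finset.mem_univ i)

end Cfsg.Agent.Lib.Helper73.ClBNTv

namespace Cfsg.Agent.Lib.Helper42.ClBN

open Matrix Cfsg Cfsg.Agent.Lib.Helper5.GLU Cfsg.Agent.Lib.Helper73.ClBNTv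
open scoped MatrixGroups

universe u

variable {n : ℕ} {F : Type u} [Field F]

theorem tv_mem_Uni {i j : Fin n} (h : i < j) (c : F) : tv i j c ∈ Uni n F := by
  rw [mem_Uni, tv_val (ne_of_lt h)]
  refine ⟨fun a b hab => ?_, fun a => ?_⟩
  · rw [transvection_apply, if_neg (ne_of_gt hab), if_neg, add_zero]
    rintro ⟨rfl, rfl⟩
    exact lt_asymm h hab
  · rw [transvection_apply, if_pos rfl, if_neg, add_zero]
    rintro ⟨rfl, rfl⟩
    exact lt_irrefl _ h

theorem tv_mem_Low {i j : Fin n} (h : j < i) (c : F) : tv i j c ∈ Low n F := by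
  rw [mem_Low, tv_val (ne_of_gt h)]
  refine ⟨fun a b hab => ?_, fun a => ?_⟩
  · rw [transvection_apply, if_neg (ne_of_lt hab), if_neg, add_zero]
    rintro ⟨rfl, rfl⟩
    exact lt_asymm h hab
  · rw [transvection_apply, if_pos rfl, if_neg, add_zero]
    rintro ⟨rfl, rfl⟩
    exact lt_irrefl _ h

theorem tv_zero (i j : Fin n) : tv i j (0 : F) = 1 := by
  by_cases h : i = j
  · unfold tv; rw [dif_pos h]
  · apply Units.ext
    rw [tv_val h, Matrix.transvection_zero, Units.val_one]

theorem tv_mul_tv {i j : Fin n} (h : i ≠ j) (c d : F) : tv i j c * tv i j d = tv i j (c + d) := by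
  apply Units.ext
  rw [Units.val_mul, tv_val h, tv_val h, tv_val h, Matrix.transvection_mul_transvection_same _ _ h]

theorem tv_inv {i j : Fin n} (h : i ≠ j) (c : F) : (tv i j c)⁻¹ = tv i j (-c) := by
  rw [inv_eq_iff_mul_eq_one, tv_mul_tv h, add_neg_cancel, tv_zero]

/-- conjugation by a permutation matrix -/
theorem permGL_conj_tv (w : Equiv.Perm (Fin n)) (i j : Fin n) (c : F) :
    permGL w * tv i j c * (permGL w)⁻¹ = tv (w i) (w j) c := by
  by_cases h : i = j
  · subst h
    rw [tv_self, tv_self, mul_one, mul_inv_cancel]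
  · have h' : w i ≠ w j := fun e => h (w.injective e)
    apply Units.ext
    ext a b
    rw [permGL_conj_apply, tv_val h, tv_val h', transvection_apply, transvection_apply]
    congr 1
    · by_cases hab : a = b
      · rw [if_pos hab, if_pos (by rw [hab])]
      · rw [if_neg hab, if_neg (fun e => hab (w⁻¹.injective e))]
    · by_cases hab : w i = a ∧ w j = b
      · rw [if_pos hab, if_pos]
        obtain ⟨h1, h2⟩ := hab
        subst h1 h2
        simp
      · rw [if_neg hab, if_neg]
        rintro ⟨h1, h2⟩
        apply hab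
        rw [h1, h2]
        simp

/-- transvections with "disjoint" positions commute -/
theorem tv_comm {i j k l : Fin n} (h1 : j ≠ k) (h2 : i ≠ l) (c d : F) :
    tv i j c * tv k l d = tv k l d * tv i j c := by
  by_cases hij : i = j
  · subst hij; rw [tv_self, one_mul, mul_one]
  by_cases hkl : k = l
  · subst hkl; rw [tv_self, one_mul, mul_one]
  apply Units.ext
  rw [Units.val_mul, Units.val_mul, tv_val hij, tv_val hkl]
  unfold Matrix.transvection
  have e1 : Matrix.single i j c * Matrix.single k l d = 0 := Matrix.single_mul_single_of_ne c i j k h1 d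
  have e2 : Matrix.single k l d * Matrix.single i j c = 0 := Matrix.single_mul_single_of_ne d k l i h2.symm c
  simp only [Matrix.add_mul, Matrix.mul_add, Matrix.one_mul, Matrix.mul_one, e1, e2]
  abel

/-- the rank one identity `s x(c) = b y(c⁻¹)` -/
theorem rank_one {i j : Fin n} (h : j.val = i.val + 1) {c : F} (hc : c ≠ 0) :
    ∃ b ∈ Bor n F, permGL (Equiv.swap i j) * tv i j c = b * tv j i c⁻¹ := by
  have hij : i ≠ j := by
    intro e; rw [e] at h; omega
  have hlt : i < j := by
    rw [Fin.lt_def]; omega
  refine ⟨permGL (Equiv.swap i j) * tv i j c * tv j i (-c⁻¹), ?_, ?_⟩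
  · rw [mem_Bor]
    intro a b hba
    rw [Units.val_mul, Units.val_mul, tv_val hij, tv_val hij.symm]
    have hP : ∀ a b : Fin n, ((permGL (F := F) (Equiv.swap i j) : GL (Fin n) F) : Matrix (Fin n) (Fin n) F) a b =
        if a = Equiv.swap i j b then 1 else 0 := fun a b => permGL_apply _ a b
    by_cases hbi : b = i
    · subst hbi
      rw [Matrix.mul_transvection_apply_same, Matrix.mul_transvection_apply_same,
        Matrix.mul_transvection_apply_of_ne _ _ _ _ hij]
      simp only [hP, Equiv.swap_apply_left, Equiv.swap_apply_right]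
      have hab : a ≠ b := ne_of_gt hba
      rw [if_neg hab, zero_add]
      by_cases haj : a = j
      · rw [if_pos haj, mul_one]
        field_simp
        ring
      · rw [if_neg haj, mul_zero, mul_zero, add_zero]
    · rw [Matrix.mul_transvection_apply_of_ne _ _ _ _ hbi]
      by_cases hbj : b = j
      · subst hbj
        rw [Matrix.mul_transvection_apply_same]
        simp only [hP, Equiv.swap_apply_left, Equiv.swap_apply_right]
        have h1 : a ≠ i := fun e => by rw [e] at hba; exact lt_asymm hlt hba
        have h2 : a ≠ b := ne_of_gt hba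
        rw [if_neg h1, if_neg h2, mul_zero, add_zero]
      · rw [Matrix.mul_transvection_apply_of_ne _ _ _ _ hbj, hP, Equiv.swap_apply_of_ne_of_ne hbi hbj,
          if_neg (ne_of_gt hba)]
  · rw [← tv_inv hij.symm, inv_mul_cancel_right]

/-- an upper triangular matrix is `b' * x_{ij}(c)` with `b'` having zero `(i,j)` entry -/
theorem Bor_split {i j : Fin n} (h : j.val = i.val + 1) {b : GL (Fin n) F} (hb : b ∈ Bor n F) :
    ∃ c : F, permGL (Equiv.swap i j) * (b * tv i j (-c)) * (permGL (Equiv.swap i j))⁻¹ ∈ Bor n F := by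
  have hij : i ≠ j := by
    intro e; rw [e] at h; omega
  have hlt : i < j := by
    rw [Fin.lt_def]; omega
  have hbii := Bor_diag_ne_zero hb i
  refine ⟨(b : Matrix (Fin n) (Fin n) F) i j / (b : Matrix (Fin n) (Fin n) F) i i, ?_⟩
  set c := (b : Matrix (Fin n) (Fin n) F) i j / (b : Matrix (Fin n) (Fin n) F) i i with hc
  have hM : b * tv i j (-c) ∈ Bor n F := (Bor n F).mul_mem hb (Uni_le_Bor (tv_mem_Uni hlt _))
  have hMij : ((b * tv i j (-c) : GL (Fin n) F) : Matrix (Fin n) (Fin n) F) i j = 0 := by
    rw [Units.val_mul, tv_val hij, Matrix.mul_transvection_apply_same, hc]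
    field_simp
    ring
  rw [mem_Bor]
  intro p q hqp
  rw [permGL_conj_apply, Equiv.swap_inv]
  rw [mem_Bor] at hM
  by_cases hlt' : Equiv.swap i j q < Equiv.swap i j p
  · exact hM _ _ hlt'
  · -- then `q = i`, `p = j`
    have key : q = i ∧ p = j := by
      rw [Fin.lt_def] at hqp hlt hlt'
      by_cases hqi : q = i
      · by_cases hpj : p = j
        · exact ⟨hqi, hpj⟩
        · exfalso
          have hpi : p ≠ i := fun e => by rw [hqi, e] at hqp; omega
          rw [hqi, Equiv.swap_apply_left, Equiv.swap_apply_of_ne_of_ne hpi hpj] at hlt'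
          have : p.val ≠ j.val := fun e => hpj (Fin.ext e)
          rw [hqi] at hqp
          omega
      · exfalso
        by_cases hqj : q = j
        · have hpi : p ≠ i := fun e => by rw [hqj, e] at hqp; omega
          have hpj : p ≠ j := fun e => by rw [hqj, e] at hqp; omega
          rw [hqj, Equiv.swap_apply_right, Equiv.swap_apply_of_ne_of_ne hpi hpj] at hlt'
          rw [hqj] at hqp
          omega
        · rw [Equiv.swap_apply_of_ne_of_ne hqi hqj] at hlt'
          by_cases hpi : p = i
          · rw [hpi, Equiv.swap_apply_left] at hlt'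
            rw [hpi] at hqp
            omega
          · by_cases hpj : p = j
            · rw [hpj, Equiv.swap_apply_right] at hlt'
              rw [hpj] at hqp
              have : q.val ≠ i.val := fun e => hqi (Fin.ext e)
              omega
            · rw [Equiv.swap_apply_of_ne_of_ne hpi hpj] at hlt'
              omega
    obtain ⟨rfl, rfl⟩ := key
    rw [Equiv.swap_apply_left, Equiv.swap_apply_right]
    exact hMij

end Cfsg.Agent.Lib.Helper42.ClBN
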