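import Cfsg.Agent.Lib.Helper73.DSQWQD4d
import Cfsg.Agent.Lib.Helper20.DihQuatLift

/-!
# S5248 module DSQW-[DHALF] (helper73, for helper84): `exists_group_dihedral_half`

`PGL₂(p)` inside `Aut (SL₂(p))`, `p` a prime with `p ≡ 1 + 2ⁿ mod 2ⁿ⁺¹`: dihedral Sylow `2`-subgroups of order
`2ⁿ⁺¹`, the normal subgroup `PSL₂(p)` (inner automorphisms) of index `2` with all involutions conjugate, meeting
the Sylow subgroup in a non-cyclic group.
-/

set_option autoImplicit false

namespace Cfsg.Agent.Lib.Helper73.DSQW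

open Matrix

/-- the arithmetic conditions on `(n, p)` for the dihedral half -/
structure DHParams (n p : ℕ) : Prop where
  hn : 2 ≤ n
  hodd : Odd p
  hm : ∃ m, Odd m ∧ p - 1 = 2 ^ n * m
  hM : ∃ M, Odd M ∧ p * (p ^ 2 - 1) = 2 ^ (n + 1) * M

theorem exists_prime_dhParams (n : ℕ) (hn : 2 ≤ n) : ∃ p : ℕ, p.Prime ∧ DHParams n p := by
  set B := 2 ^ (n - 2) with hB
  have hBpos : 1 ≤ B := Nat.one_le_two_pow
  have h1 : 2 ^ n = 4 * B := by
    rw [hB]
    have : n = n - 2 + 2 := by omega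
    conv_lhs => rw [this, pow_add]
    ring
  have h1' : 2 ^ (n + 1) = 8 * B := by rw [pow_succ, h1]; ring
  have hcop : Nat.Coprime (1 + 4 * B) (2 ^ (n + 1)) := by
    apply Nat.Coprime.pow_right
    rw [Nat.coprime_two_right]
    exact ⟨2 * B, by ring⟩
  obtain ⟨p, hgt, hp, hmod⟩ := Nat.forall_exists_prime_gt_and_modEq (1 + 4 * B) (by positivity) hcop
  have hdvd : 2 ^ (n + 1) ∣ p - (1 + 4 * B) := (Nat.modEq_iff_dvd' hgt.le).1 hmod.symm
  obtain ⟨t, ht⟩ := hdvd
  rw [h1'] at ht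
  set s := 1 + 2 * t with hs
  have hs_odd : Odd s := ⟨t, by rw [hs]; ring⟩
  have hp' : p = 1 + 4 * (B * s) := by
    have : p = (1 + 4 * B) + 8 * B * t := by omega
    rw [this, hs]; ring
  set u := 1 + 2 * (B * s) with hu
  have hu_odd : Odd u := ⟨B * s, by rw [hu]; ring⟩
  have hp_odd : Odd p := ⟨2 * (B * s), by rw [hp']; ring⟩
  have hsq : p ^ 2 - 1 = 8 * B * (s * u) := by
    apply Nat.sub_eq_of_eq_add
    rw [hp', hu]; ring
  refine ⟨p, hp, hn, hp_odd, ⟨s, hs_odd, ?_⟩, ⟨p * (s * u), hp_odd.mul (hs_odd.mul hu_odd), ?_⟩⟩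
  · rw [h1, hp']
    have : 1 + 4 * (B * s) - 1 = 4 * (B * s) := by omega
    rw [this]; ring
  · rw [hsq, h1']; ring

section Field

variable {K : Type*} [Field K] [Fintype K] (p : ℕ) [Fact p.Prime] [CharP K p]

set_option linter.unusedSectionVars false

local notation "SL2" => Matrix.SpecialLinearGroup (Fin 2) K

variable (hK : Fintype.card K = p)

include hK in
theorem exists_zeta {n : ℕ} (hq : DHParams n p) : ∃ α : Kˣ, orderOf α = 2 ^ n := by
  classical
  obtain ⟨m, hm_odd, hm⟩ := hq.hm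
  obtain ⟨g, hg⟩ := IsCyclic.exists_generator (α := Kˣ)
  have hord : orderOf g = 2 ^ n * m := by
    rw [orderOf_eq_card_of_forall_mem_zpowers hg, Nat.card_eq_fintype_card, Fintype.card_units, hK, hm]
  have hm0 : m ≠ 0 := by
    rintro rfl
    exact absurd hm_odd (by decide)
  refine ⟨g ^ m, ?_⟩
  rw [orderOf_pow_of_dvd hm0 (by rw [hord]; exact Dvd.intro_left _ rfl), hord,
    Nat.mul_div_cancel _ (Nat.pos_of_ne_zero hm0)]

theorem tw_sq_mem_Inn (α : Kˣ) : tw α * tw α ∈ Inn (K := K) := by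
  rw [tw_mul, ← sq, ← conj_dg]
  exact ⟨_, rfl⟩

include hK in
theorem tw_not_mem_Inn {n : ℕ} (hq : DHParams n p) (α : Kˣ) (hα : orderOf α = 2 ^ n) :
    tw α ∉ Inn (K := K) := by
  rintro ⟨B, hB⟩
  obtain ⟨m, hm_odd, hm⟩ := hq.hm
  have hn := hq.hn
  change MulAut.conj B = tw α at hB
  rw [conj_eq_iff] at hB
  have h1 := hB (uu 1)
  rw [tw_uu, mul_one] at h1
  have e11 := congrArg (fun A : SL2 => A.1 1 1) h1
  have e01 := congrArg (fun A : SL2 => A.1 0 1) h1
  simp only [mul_11, mul_01] at e11 e01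
  simp only [uu, mk2_00, mk2_01, mk2_10, mk2_11] at e11 e01
  have hc : B.1 1 0 = 0 := by linear_combination e11
  have ha : B.1 0 0 = α * B.1 1 1 := by linear_combination e01
  have hdet := sl2_det B
  rw [hc, ha] at hdet
  have hd : (α : K) * B.1 1 1 ^ 2 = 1 := by linear_combination hdet
  have hd0 : B.1 1 1 ≠ 0 := by
    intro h0
    rw [h0] at hd
    simp at hd
  have h3 : (α : K) ^ (2 ^ (n - 1) * m) = -1 := by
    rw [← Units.val_pow_eq_pow_val, pow_mul, pow_half_eq_neg_one (by omega) α hα, hm_odd.neg_one_pow,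
      Units.val_neg, Units.val_one]
  have h4 : (α : K) = (B.1 1 1)⁻¹ ^ 2 := by
    field_simp
    linear_combination hd
  have h5 : (α : K) ^ (2 ^ (n - 1) * m) = 1 := by
    rw [h4, ← pow_mul, ← mul_assoc, ← pow_succ', show n - 1 + 1 = n by omega, ← hm]
    have := FiniteField.pow_card_sub_one_eq_one (B.1 1 1)⁻¹ (inv_ne_zero hd0)
    rwa [hK] at this
  rw [h5] at h3
  apply two_ne_zero_of_odd (K := K) p hq.hodd
  linear_combination h3

theorem orderOf_tw (α : Kˣ) : orderOf (tw α : MulAut SL2) = orderOf α :=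
  orderOf_injective (twHom (K := K)) tw_injective α

theorem YY_tw (α : Kˣ) : (YY (K := K)) * tw α * YY⁻¹ = (tw α)⁻¹ := by
  have h := conj_JJ_mul_tw (K := K) α
  have hinv : tw (α⁻¹) = (tw α : MulAut SL2)⁻¹ := (twHom (K := K)).map_inv α
  unfold YY
  rw [h, mul_inv_cancel_right, hinv]

end Field

/-- MODULE DSQW-[DHALF] -/
theorem exists_group_dihedral_half (n : ℕ) (hn : 2 ≤ n) :
    ∃ (G : Type) (_ : Group G) (_ : Finite G) (T : Sylow 2 G) (N : Subgroup G),
      N.Normal ∧ N.index = 2 ∧ Nonempty ((T : Subgroup G) ≃* DihedralGroup (2 ^ n)) ∧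
      ¬ IsCyclic ↥((T : Subgroup G) ⊓ N) ∧
      ∀ a b : G, a ∈ N → b ∈ N → orderOf a = 2 → orderOf b = 2 → IsConj a b := by
  obtain ⟨p, hp, hq⟩ := exists_prime_dhParams n hn
  have : Fact p.Prime := ⟨hp⟩
  have hK : Fintype.card (ZMod p) = p := ZMod.card p
  have h2 : (2 : ZMod p) ≠ 0 := two_ne_zero_of_odd p hq.hodd
  obtain ⟨α, hα⟩ := exists_zeta (K := ZMod p) p hK hq
  have hθ2 : tw α * tw α ∈ Inn (K := ZMod p) := tw_sq_mem_Inn α
  have hθN : tw α ∉ Inn (K := ZMod p) := tw_not_mem_Inn p hK hq α hα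
  have : NeZero (2 ^ n) := ⟨by positivity⟩
  -- the elements
  have hoθ : orderOf (⟨tw α, self_mem_ext2 hθ2⟩ : ext2 Inn (tw α) hθ2) = 2 ^ n := by
    rw [Subgroup.orderOf_mk, orderOf_tw, hα]
  have hoY : orderOf (⟨YY, le_ext2 hθ2 YY_mem_Inn⟩ : ext2 Inn (tw α) hθ2) = 2 := by
    rw [Subgroup.orderOf_mk]
    exact orderOf_YY
  generalize hθ'def : (⟨tw α, self_mem_ext2 hθ2⟩ : ext2 Inn (tw α) hθ2) = θ' at hoθ
  generalize hY'def : (⟨YY, le_ext2 hθ2 YY_mem_Inn⟩ : ext2 Inn (tw α) hθ2) = Y' at hoY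
  have hθ'v : (θ' : MulAut (Matrix.SpecialLinearGroup (Fin 2) (ZMod p))) = tw α := by
    rw [← hθ'def]
  have hY'v : (Y' : MulAut (Matrix.SpecialLinearGroup (Fin 2) (ZMod p))) = YY := by
    rw [← hY'def]
  have hrel : Y' * θ' * Y'⁻¹ = θ'⁻¹ := by
    apply Subtype.ext
    rw [Subgroup.coe_mul, Subgroup.coe_mul, Subgroup.coe_inv, Subgroup.coe_inv, hθ'v, hY'v]
    exact YY_tw α
  have hθpow : θ' ^ (2 ^ n) = 1 := by
    rw [← hoθ]; exact pow_orderOf_eq_one θ'
  have hYsq : Y' * Y' = 1 := by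
    have h := pow_orderOf_eq_one Y'
    rw [hoY, sq] at h
    exact h
  have h4n : 4 ≤ 2 ^ n := by
    calc 4 = 2 ^ 2 := by norm_num
      _ ≤ 2 ^ n := Nat.pow_le_pow_right (by norm_num) hn
  have hYnot : Y' ∉ Subgroup.zpowers θ' := by
    intro hmem
    -- then `Y'` commutes with `θ'`, so `θ' = θ'⁻¹`
    have hcomm : Y' * θ' = θ' * Y' := by
      obtain ⟨k, hk⟩ := hmem
      rw [← hk]
      exact (Commute.zpow_left (Commute.refl θ') k).eq
    have h1 : θ' = θ'⁻¹ := by
      rw [← hrel, hcomm, mul_inv_cancel_right]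
    have h2' : θ' ^ 2 = 1 := by
      rw [sq]
      nth_rw 1 [h1]
      exact inv_mul_cancel θ'
    have := orderOf_dvd_of_pow_eq_one h2'
    rw [hoθ] at this
    have := Nat.le_of_dvd (by norm_num) this
    omega
  -- the dihedral subgroup
  set f := Cfsg.Agent.Lib.Helper20.dihHom θ' Y' (2 ^ n) hθpow hYsq hrel with hf
  have hfinj : Function.Injective f :=
    Cfsg.Agent.Lib.Helper20.dihHom_injective θ' Y' (2 ^ n) hθpow hYsq hrel hoθ hYnot
  have hrcard : Nat.card f.range = 2 ^ (n + 1) := by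
    rw [← Nat.card_congr (MonoidHom.ofInjective hfinj).toEquiv, Nat.card_eq_fintype_card,
      DihedralGroup.card, pow_succ]
    ring
  have hP : IsPGroup 2 f.range := IsPGroup.of_card hrcard
  obtain ⟨T, hT⟩ := hP.exists_le_sylow
  -- the order
  obtain ⟨M, hM_odd, hM⟩ := hq.hM
  have hcard : Nat.card (ext2 Inn (tw α) hθ2) = 2 ^ (n + 1) * M := by
    rw [card_ext2 hθ2 hθN, card_Inn h2, Cfsg.Agent.Lib.Helper5.card_SL2, hK, hM]
  have hTcard : Nat.card (T : Subgroup (ext2 Inn (tw α) hθ2)) = 2 ^ (n + 1) :=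
    Cfsg.Agent.Lib.Helper84.card_sylow_two_of_card_eq T (n + 1) M hM_odd hcard
  have hTeq : f.range = (T : Subgroup (ext2 Inn (tw α) hθ2)) :=
    Subgroup.eq_of_le_of_card_ge hT (by rw [hTcard, hrcard])
  have hθT : θ' ∈ (T : Subgroup (ext2 Inn (tw α) hθ2)) := by
    rw [← hTeq]
    refine ⟨DihedralGroup.r 1, ?_⟩
    rw [hf, Cfsg.Agent.Lib.Helper20.dihHom_r]
    unfold Cfsg.Agent.Lib.Helper20.pw
    have : (1 : ZMod (2 ^ n)).val = 1 := by
      have : Fact (1 < 2 ^ n) := ⟨by omega⟩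
      exact ZMod.val_one (2 ^ n)
    rw [this, pow_one]
  have hYT : Y' ∈ (T : Subgroup (ext2 Inn (tw α) hθ2)) := by
    rw [← hTeq]
    refine ⟨DihedralGroup.sr 0, ?_⟩
    rw [hf, Cfsg.Agent.Lib.Helper20.dihHom_sr, Cfsg.Agent.Lib.Helper20.pw_zero, mul_one]
  refine ⟨ext2 Inn (tw α) hθ2, inferInstance, inferInstance, T,
    Inn.subgroupOf (ext2 Inn (tw α) hθ2), inferInstance, index_subgroupOf_ext2 hθ2 hθN,
    ⟨((MonoidHom.ofInjective hfinj).trans (MulEquiv.subgroupCongr hTeq)).symm⟩, ?_, ?_⟩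
  · -- not cyclic: two distinct involutions `Y'` and `θ' ^ 2^(n-1)`
    intro hcyc
    set z := θ' ^ (2 ^ (n - 1)) with hz
    have hzT : z ∈ (T : Subgroup (ext2 Inn (tw α) hθ2)) := Subgroup.pow_mem _ hθT _
    have hzN : z ∈ Inn.subgroupOf (ext2 Inn (tw α) hθ2) := by
      rw [Subgroup.mem_subgroupOf, hz, Subgroup.coe_pow, hθ'v]
      have : (2 : ℕ) ^ (n - 1) = 2 * 2 ^ (n - 2) := by
        rw [show n - 1 = (n - 2) + 1 by omega, pow_succ]; ring
      rw [this, pow_mul, sq]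
      exact Subgroup.pow_mem _ hθ2 _
    have hYN : Y' ∈ Inn.subgroupOf (ext2 Inn (tw α) hθ2) := by
      rw [Subgroup.mem_subgroupOf, hY'v]
      exact YY_mem_Inn
    have hz2 : z ^ 2 = 1 := by
      rw [hz, ← pow_mul, ← pow_succ, show n - 1 + 1 = n by omega]
      exact hθpow
    have hz1 : z ≠ 1 := by
      intro h
      have := orderOf_dvd_of_pow_eq_one h
      rw [hoθ] at this
      have h3 := Nat.le_of_dvd (by positivity) this
      have h4 : 2 ^ (n - 1) < 2 ^ n := Nat.pow_lt_pow_right (by norm_num) (by omega)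
      omega
    have hY1 : Y' ≠ 1 := by
      intro h
      rw [h, orderOf_one] at hoY
      omega
    have hzY : z ≠ Y' := by
      intro h
      apply hYnot
      rw [← h, hz]
      exact Subgroup.pow_mem _ (Subgroup.mem_zpowers _) _
    -- in a cyclic group, `x ^ 2 = 1` has at most two solutions
    let H := ((T : Subgroup (ext2 Inn (tw α) hθ2)) ⊓ Inn.subgroupOf (ext2 Inn (tw α) hθ2))
    classical
    have : Fintype H := Fintype.ofFinite H
    have hle := IsCyclic.card_pow_eq_one_le (α := H) (n := 2) (by norm_num)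
    let zz : H := ⟨z, hzT, hzN⟩
    let yy : H := ⟨Y', hYT, hYN⟩
    have hsub : ({1, zz, yy} : Finset H) ⊆ Finset.univ.filter (fun a : H => a ^ 2 = 1) := by
      intro x hx
      rw [Finset.mem_filter]
      refine ⟨Finset.mem_univ _, ?_⟩
      simp only [Finset.mem_insert, Finset.mem_singleton] at hx
      rcases hx with rfl | rfl | rfl
      · exact one_pow 2
      · apply Subtype.ext
        rw [Subgroup.coe_pow, Subgroup.coe_one]
        exact hz2
      · apply Subtype.ext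
        rw [Subgroup.coe_pow, Subgroup.coe_one, sq]
        exact hYsq
    have hc3 : ({1, zz, yy} : Finset H).card = 3 := by
      rw [Finset.card_insert_of_notMem, Finset.card_insert_of_notMem, Finset.card_singleton]
      · simp only [Finset.mem_singleton]
        intro h
        exact hzY (congrArg Subtype.val h)
      · simp only [Finset.mem_insert, Finset.mem_singleton, not_or]
        constructor
        · intro h
          exact hz1 (congrArg Subtype.val h).symm
        · intro h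
          exact hY1 (congrArg Subtype.val h).symm
    have := Finset.card_le_card hsub
    omega
  · intro a b ha hb hoa hob
    exact isConj_of_involution_Inn h2 _ (le_ext2 hθ2) a b (Subgroup.mem_subgroupOf.1 ha)
      (Subgroup.mem_subgroupOf.1 hb) hoa hob

end Cfsg.Agent.Lib.Helper73.DSQW
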