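import Cfsg.Agent.Lib.Helper73.DSQWQD4d

/-!
# S5248 module DSQW-[QD4] (helper73, for helper84): `exists_group_qd_four`

The group `PSL₂(p²).2` "of `M₁₀` type" inside `Aut (SL₂(p²))`, `p` a prime with `p ≡ 1 + 2ⁿ⁻¹ mod 2ⁿ`: quasi-dihedral
Sylow `2`-subgroups of order `2ⁿ⁺¹`, a normal subgroup of index `2` (the inner automorphisms) all of whose involutions
are conjugate.
-/

set_option autoImplicit false

namespace Cfsg.Agent.Lib.Helper73.DSQW

open Matrix

/-- MODULE DSQW-[QD4] -/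
theorem exists_group_qd_four (n : ℕ) (hn : 3 ≤ n) :
    ∃ (G : Type) (_ : Group G) (_ : Finite G) (T : Sylow 2 G) (N : Subgroup G),
      N.Normal ∧ N.index = 2 ∧
      Cfsg.IsQuasiDihedral (T : Subgroup G) ∧ Nat.card (T : Subgroup G) = 2 ^ (n + 1) ∧
      (∃ t s : G, t ∈ (T : Subgroup G) ∧ t ∈ N ∧ s ∈ (T : Subgroup G) ∧ orderOf t = 2 ∧ s * t ≠ t * s) ∧
      (∀ a b : G, a ∈ N → b ∈ N → orderOf a = 2 → orderOf b = 2 → IsConj a b) := by
  obtain ⟨p, hp, hq⟩ := exists_prime_qdParams n hn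
  have : Fact p.Prime := ⟨hp⟩
  let _ : Fintype (GaloisField p 2) := Fintype.ofFinite _
  have hK : Fintype.card (GaloisField p 2) = p ^ 2 := by
    rw [← Nat.card_eq_fintype_card]
    exact GaloisField.card p 2 (by norm_num)
  have h2 : (2 : GaloisField p 2) ≠ 0 := two_ne_zero_of_odd p hq.hodd
  obtain ⟨α, hα⟩ := exists_alpha (K := GaloisField p 2) p hK hq
  have hθ2 : theta p hK α * theta p hK α ∈ Inn := theta_sq_mem_Inn p hK hq α
  have hθN : theta p hK α ∉ Inn := theta_not_mem_Inn p hK hq α hα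
  -- the elements
  have hoθ : orderOf (⟨theta p hK α, self_mem_ext2 hθ2⟩ : ext2 Inn (theta p hK α) hθ2) = 2 ^ n := by
    rw [Subgroup.orderOf_mk]
    exact orderOf_theta p hK hq α hα
  have hoY : orderOf (⟨YY, le_ext2 hθ2 YY_mem_Inn⟩ : ext2 Inn (theta p hK α) hθ2) = 2 := by
    rw [Subgroup.orderOf_mk]
    exact orderOf_YY
  generalize hθ'def : (⟨theta p hK α, self_mem_ext2 hθ2⟩ : ext2 Inn (theta p hK α) hθ2) = θ' at hoθ
  generalize hY'def : (⟨YY, le_ext2 hθ2 YY_mem_Inn⟩ : ext2 Inn (theta p hK α) hθ2) = Y' at hoY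
  have hθ'v : (θ' : MulAut (Matrix.SpecialLinearGroup (Fin 2) (GaloisField p 2))) = theta p hK α := by
    rw [← hθ'def]
  have hY'v : (Y' : MulAut (Matrix.SpecialLinearGroup (Fin 2) (GaloisField p 2))) = YY := by
    rw [← hY'def]
  have hrel : Y' * θ' * Y'⁻¹ = θ' ^ (2 ^ (n - 1) - 1) := by
    apply Subtype.ext
    rw [Subgroup.coe_mul, Subgroup.coe_mul, Subgroup.coe_inv, Subgroup.coe_pow, hθ'v, hY'v]
    exact YY_theta p hK hq α hα
  have hne : θ' * Y' ≠ Y' * θ' := by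
    intro h
    have h1 := congrArg Subtype.val h
    rw [Subgroup.coe_mul, Subgroup.coe_mul, hθ'v, hY'v] at h1
    exact theta_YY_ne p hK hq α hα h1
  -- the `2`-subgroup generated by them
  have hP : IsPGroup 2 (Subgroup.zpowers Y' ⊔ Subgroup.zpowers θ' : Subgroup (ext2 Inn (theta p hK α) hθ2)) := by
    apply IsPGroup.to_sup_of_normal_right'
    · exact IsPGroup.of_card (n := 1) (by rw [Nat.card_zpowers, hoY, pow_one])
    · exact IsPGroup.of_card (n := n) (by rw [Nat.card_zpowers, hoθ])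
    · rw [Subgroup.zpowers_le]
      apply Subgroup.mem_normalizer_fintype
      rintro x ⟨k, rfl⟩
      show Y' * θ' ^ k * Y'⁻¹ ∈ Subgroup.zpowers θ'
      rw [← conj_zpow, hrel]
      exact Subgroup.zpow_mem _ (Subgroup.pow_mem _ (Subgroup.mem_zpowers _) _) _
  obtain ⟨T, hT⟩ := hP.exists_le_sylow
  have hYT : Y' ∈ (T : Subgroup (ext2 Inn (theta p hK α) hθ2)) :=
    hT (Subgroup.mem_sup_left (Subgroup.mem_zpowers _))
  have hθT : θ' ∈ (T : Subgroup (ext2 Inn (theta p hK α) hθ2)) :=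
    hT (Subgroup.mem_sup_right (Subgroup.mem_zpowers _))
  -- the order
  obtain ⟨M, hM_odd, hM⟩ := hq.hM
  have hcard : Nat.card (ext2 Inn (theta p hK α) hθ2) = 2 ^ (n + 1) * M := by
    rw [card_ext2 hθ2 hθN, card_Inn h2, Cfsg.Agent.Lib.Helper5.card_SL2, hK, hM]
  have hTcard : Nat.card (T : Subgroup (ext2 Inn (theta p hK α) hθ2)) = 2 ^ (n + 1) :=
    Cfsg.Agent.Lib.Helper84.card_sylow_two_of_card_eq T (n + 1) M hM_odd hcard
  refine ⟨ext2 Inn (theta p hK α) hθ2, inferInstance, inferInstance, T,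
    Inn.subgroupOf (ext2 Inn (theta p hK α) hθ2), inferInstance, index_subgroupOf_ext2 hθ2 hθN,
    ⟨n, hn, hTcard, ⟨θ', hθT⟩, ⟨Y', hYT⟩, ?_, ?_, ?_⟩, hTcard,
    ⟨Y', θ', hYT, ?_, hθT, hoY, hne⟩, ?_⟩
  · rw [Subgroup.orderOf_mk]; exact hoθ
  · rw [Subgroup.orderOf_mk]; exact hoY
  · apply Subtype.ext
    rw [Subgroup.coe_mul, Subgroup.coe_mul, Subgroup.coe_inv, Subgroup.coe_pow]
    exact hrel
  · rw [Subgroup.mem_subgroupOf, hY'v]
    exact YY_mem_Inn
  · intro a b ha hb hoa hob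
    exact isConj_of_involution_Inn h2 _ (le_ext2 hθ2) a b (Subgroup.mem_subgroupOf.1 ha)
      (Subgroup.mem_subgroupOf.1 hb) hoa hob

end Cfsg.Agent.Lib.Helper73.DSQW
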