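import Mathlib

/-!
# S5248 module DSQW-[QD4], part a (helper73, for helper84): automorphisms of `SL₂(K)`

`tw x` (conjugation by `diag(x, 1)`), `fr` (entrywise Frobenius `a ↦ a ^ p`, an involution when `#K = p²`),
inner automorphisms, and the relations between them.
-/

set_option autoImplicit false

namespace Cfsg.Agent.Lib.Helper73.DSQW

open Matrix

variable {K : Type*} [Field K]

local notation "SL2" => Matrix.SpecialLinearGroup (Fin 2) K

theorem sl2_ext {A B : SL2} (h00 : A.1 0 0 = B.1 0 0) (h01 : A.1 0 1 = B.1 0 1)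
    (h10 : A.1 1 0 = B.1 1 0) (h11 : A.1 1 1 = B.1 1 1) : A = B := by
  apply Subtype.ext
  ext i j
  fin_cases i <;> fin_cases j <;> assumption

theorem sl2_det (A : SL2) : A.1 0 0 * A.1 1 1 - A.1 0 1 * A.1 1 0 = 1 := by
  have := A.2
  rwa [Matrix.det_fin_two] at this

/-- the element of `SL₂` with the given entries -/
def mk2 (a b c d : K) (h : a * d - b * c = 1) : SL2 :=
  ⟨!![a, b; c, d], by rw [Matrix.det_fin_two_of]; exact h⟩

@[simp] theorem mk2_00 (a b c d : K) (h) : (mk2 a b c d h).1 0 0 = a := rfl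
@[simp] theorem mk2_01 (a b c d : K) (h) : (mk2 a b c d h).1 0 1 = b := rfl
@[simp] theorem mk2_10 (a b c d : K) (h) : (mk2 a b c d h).1 1 0 = c := rfl
@[simp] theorem mk2_11 (a b c d : K) (h) : (mk2 a b c d h).1 1 1 = d := rfl

theorem mul_00 (A B : SL2) : (A * B).1 0 0 = A.1 0 0 * B.1 0 0 + A.1 0 1 * B.1 1 0 := by
  simp [Matrix.SpecialLinearGroup.coe_mul, Matrix.mul_apply, Fin.sum_univ_two]
theorem mul_01 (A B : SL2) : (A * B).1 0 1 = A.1 0 0 * B.1 0 1 + A.1 0 1 * B.1 1 1 := by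
  simp [Matrix.SpecialLinearGroup.coe_mul, Matrix.mul_apply, Fin.sum_univ_two]
theorem mul_10 (A B : SL2) : (A * B).1 1 0 = A.1 1 0 * B.1 0 0 + A.1 1 1 * B.1 1 0 := by
  simp [Matrix.SpecialLinearGroup.coe_mul, Matrix.mul_apply, Fin.sum_univ_two]
theorem mul_11 (A B : SL2) : (A * B).1 1 1 = A.1 1 0 * B.1 0 1 + A.1 1 1 * B.1 1 1 := by
  simp [Matrix.SpecialLinearGroup.coe_mul, Matrix.mul_apply, Fin.sum_univ_two]

@[simp] theorem one_00 : (1 : SL2).1 0 0 = 1 := by simp
@[simp] theorem one_01 : (1 : SL2).1 0 1 = 0 := by simp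
@[simp] theorem one_10 : (1 : SL2).1 1 0 = 0 := by simp
@[simp] theorem one_11 : (1 : SL2).1 1 1 = 1 := by simp

/-! ### the twist by a unit -/

/-- `A ↦ diag(x,1) A diag(x,1)⁻¹` -/
def twFun (x : Kˣ) (A : SL2) : SL2 :=
  mk2 (A.1 0 0) (x * A.1 0 1) ((x : K)⁻¹ * A.1 1 0) (A.1 1 1) (by
    have h := sl2_det A
    have hx0 : (x : K) ≠ 0 := x.ne_zero
    have hx : (x : K) * (x : K)⁻¹ = 1 := mul_inv_cancel₀ hx0
    linear_combination h - (A.1 0 1 * A.1 1 0) * hx)

@[simp] theorem twFun_00 (x : Kˣ) (A : SL2) : (twFun x A).1 0 0 = A.1 0 0 := rfl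
@[simp] theorem twFun_01 (x : Kˣ) (A : SL2) : (twFun x A).1 0 1 = x * A.1 0 1 := rfl
@[simp] theorem twFun_10 (x : Kˣ) (A : SL2) : (twFun x A).1 1 0 = (x : K)⁻¹ * A.1 1 0 := rfl
@[simp] theorem twFun_11 (x : Kˣ) (A : SL2) : (twFun x A).1 1 1 = A.1 1 1 := rfl

theorem twFun_mul (x : Kˣ) (A B : SL2) : twFun x (A * B) = twFun x A * twFun x B := by
  have hx0 : (x : K) ≠ 0 := x.ne_zero
  have hx : (x : K) * (x : K)⁻¹ = 1 := mul_inv_cancel₀ hx0
  apply sl2_ext
  · rw [mul_00, twFun_00, mul_00, twFun_00, twFun_00, twFun_01, twFun_10]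
    linear_combination (- A.1 0 1 * B.1 1 0) * hx
  · rw [mul_01, twFun_01, mul_01, twFun_00, twFun_01, twFun_01, twFun_11]
    ring
  · rw [mul_10, twFun_10, mul_10, twFun_10, twFun_00, twFun_11, twFun_10]
    ring
  · rw [mul_11, twFun_11, mul_11, twFun_10, twFun_01, twFun_11, twFun_11]
    linear_combination (- A.1 1 0 * B.1 0 1) * hx

theorem twFun_twFun (x y : Kˣ) (A : SL2) : twFun x (twFun y A) = twFun (x * y) A := by
  apply sl2_ext
  · simp
  · simp [mul_assoc]
  · simp only [twFun_10, Units.val_mul, _root_.mul_inv_rev]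
    ring
  · simp

theorem twFun_one (A : SL2) : twFun 1 A = A := by
  apply sl2_ext <;> simp

/-- the twist as an automorphism -/
def tw (x : Kˣ) : MulAut SL2 where
  toFun := twFun x
  invFun := twFun x⁻¹
  left_inv A := by rw [twFun_twFun, inv_mul_cancel, twFun_one]
  right_inv A := by rw [twFun_twFun, mul_inv_cancel, twFun_one]
  map_mul' := twFun_mul x

@[simp] theorem tw_apply (x : Kˣ) (A : SL2) : tw x A = twFun x A := rfl

/-- the twist as a homomorphism `Kˣ → Aut (SL₂ K)` -/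
def twHom : Kˣ →* MulAut SL2 where
  toFun := tw
  map_one' := by
    apply MulEquiv.ext
    intro A
    rw [tw_apply, twFun_one, MulAut.one_apply]
  map_mul' x y := by
    apply MulEquiv.ext
    intro A
    rw [MulAut.mul_apply, tw_apply, tw_apply, tw_apply, twFun_twFun]

@[simp] theorem twHom_apply (x : Kˣ) : twHom (K := K) x = tw x := rfl

theorem tw_mul (x y : Kˣ) : tw x * tw y = tw (x * y) := (twHom.map_mul x y).symm

theorem tw_pow (x : Kˣ) (k : ℕ) : tw x ^ k = tw (x ^ k) := (twHom.map_pow x k).symm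

theorem tw_one : tw (1 : Kˣ) = 1 := twHom.map_one

/-- the upper unitriangular matrix -/
def uu (t : K) : SL2 := mk2 1 t 0 1 (by ring)

theorem tw_uu (x : Kˣ) (t : K) : tw x (uu t) = uu (x * t) := by
  apply sl2_ext <;> simp [uu]

theorem uu_injective : Function.Injective (uu (K := K)) := by
  intro s t h
  have := congrArg (fun A : SL2 => A.1 0 1) h
  simpa [uu] using this

theorem tw_injective : Function.Injective (tw (K := K)) := by
  intro x y h
  have h1 : tw x (uu 1) = tw y (uu 1) := by rw [h]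
  rw [tw_uu, tw_uu, mul_one, mul_one] at h1
  exact Units.ext (uu_injective h1)

/-! ### inner automorphisms -/

theorem conj_eq_iff (B : SL2) (φ : MulAut SL2) :
    MulAut.conj B = φ ↔ ∀ A : SL2, B * A = φ A * B := by
  constructor
  · rintro rfl A
    rw [MulAut.conj_apply, inv_mul_cancel_right]
  · intro h
    apply MulEquiv.ext
    intro A
    rw [MulAut.conj_apply, h A, mul_inv_cancel_right]

theorem mulAut_mul_conj (φ : MulAut SL2) (A : SL2) :
    φ * MulAut.conj A = MulAut.conj (φ A) * φ := by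
  apply MulEquiv.ext
  intro B
  simp only [MulAut.mul_apply, MulAut.conj_apply, map_mul, map_inv]

/-- `diag(x, x⁻¹)` -/
def dg (x : Kˣ) : SL2 := mk2 x 0 0 (x : K)⁻¹ (by
  have hx0 : (x : K) ≠ 0 := x.ne_zero
  rw [mul_inv_cancel₀ hx0]; ring)

theorem conj_dg (x : Kˣ) : MulAut.conj (dg x) = tw (x ^ 2) := by
  rw [conj_eq_iff]
  intro A
  have hx0 : (x : K) ≠ 0 := x.ne_zero
  apply sl2_ext
  · rw [mul_00, mul_00]; simp [dg]; ring
  · rw [mul_01, mul_01]; simp [dg]; field_simp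
  · rw [mul_10, mul_10]; simp [dg]; field_simp
  · rw [mul_11, mul_11]; simp [dg]; ring

/-- the Weyl element -/
def JJ : SL2 := mk2 0 1 (-1) 0 (by ring)

theorem conj_JJ_mul_tw (x : Kˣ) : MulAut.conj (JJ (K := K)) * tw x = tw x⁻¹ * MulAut.conj JJ := by
  apply MulEquiv.ext
  intro A
  rw [MulAut.mul_apply, MulAut.mul_apply, MulAut.conj_apply, MulAut.conj_apply]
  rw [mul_inv_eq_iff_eq_mul, tw_apply, tw_apply]
  have hJ : ∀ B : SL2, twFun x⁻¹ (JJ * B * JJ⁻¹) * JJ = JJ * twFun x B → 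
      JJ * twFun x B = twFun x⁻¹ (JJ * B * JJ⁻¹) * JJ := fun B h => h.symm
  apply hJ
  have h2 : ∀ B : SL2, (JJ * B * JJ⁻¹) = mk2 (B.1 1 1) (-B.1 1 0) (-B.1 0 1) (B.1 0 0) (by
      have := sl2_det B; linear_combination this) := by
    intro B
    rw [mul_inv_eq_iff_eq_mul]
    apply sl2_ext
    · rw [mul_00, mul_00]; simp [JJ]
    · rw [mul_01, mul_01]; simp [JJ]
    · rw [mul_10, mul_10]; simp [JJ]
    · rw [mul_11, mul_11]; simp [JJ]
  rw [h2]
  apply sl2_ext
  · rw [mul_00, mul_00]; simp [JJ]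
  · rw [mul_01, mul_01]; simp [JJ]
  · rw [mul_10, mul_10]; simp [JJ]
  · rw [mul_11, mul_11]; simp [JJ]

end Cfsg.Agent.Lib.Helper73.DSQW
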