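import Cfsg.Agent.Lib.Helper73.DSQWQD4a

/-!
# S5248 module DSQW-[QD4], part b (helper73, for helper84): the twisted Frobenius automorphism

`K` a field with `p²` elements (`p` odd), `fr` the entrywise Frobenius of `SL₂(K)`, `α ∈ Kˣ` of order `2ⁿ` where
`2ⁿ` is the `2`-part of `p² - 1` and `p ≡ 1 mod 4`; `θ = tw α ∘ fr` has order `2ⁿ`, is inverted-twisted by the Weyl
element: `Y θ Y⁻¹ = θ ^ (2ⁿ⁻¹ - 1)`, its square is inner and `θ` is not inner.
-/

set_option autoImplicit false

namespace Cfsg.Agent.Lib.Helper73.DSQW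

open Matrix

variable {K : Type*} [Field K] [Fintype K] (p : ℕ) [Fact p.Prime] [CharP K p]

set_option linter.unusedSectionVars false

local notation "SL2" => Matrix.SpecialLinearGroup (Fin 2) K

/-- entrywise Frobenius -/
def frHom : SL2 →* SL2 := Matrix.SpecialLinearGroup.map (frobenius K p)

theorem frHom_entry (A : SL2) (i j : Fin 2) : (frHom p A).1 i j = frobenius K p (A.1 i j) := by
  simp [frHom, Matrix.SpecialLinearGroup.map_apply_coe, RingHom.mapMatrix_apply, Matrix.map_apply]

theorem frob_frob (hK : Fintype.card K = p ^ 2) (a : K) : frobenius K p (frobenius K p a) = a := by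
  rw [frobenius_def, frobenius_def, ← pow_mul, ← sq, ← hK, FiniteField.pow_card]

theorem frHom_frHom (hK : Fintype.card K = p ^ 2) (A : SL2) : frHom p (frHom p A) = A := by
  apply sl2_ext <;> rw [frHom_entry, frHom_entry, frob_frob p hK]

/-- entrywise Frobenius as an automorphism (an involution since `#K = p²`) -/
def fr (hK : Fintype.card K = p ^ 2) : MulAut SL2 where
  toFun := frHom p
  invFun := frHom p
  left_inv := frHom_frHom p hK
  right_inv := frHom_frHom p hK
  map_mul' := (frHom p).map_mul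

@[simp] theorem fr_apply (hK : Fintype.card K = p ^ 2) (A : SL2) : fr p hK A = frHom p A := rfl

theorem fr_mul_fr (hK : Fintype.card K = p ^ 2) : fr p hK * fr p hK = 1 := by
  apply MulEquiv.ext
  intro A
  rw [MulAut.mul_apply, fr_apply, fr_apply, frHom_frHom p hK, MulAut.one_apply]

theorem fr_mul_tw (hK : Fintype.card K = p ^ 2) (x : Kˣ) :
    fr p hK * tw x = tw (x ^ p) * fr p hK := by
  apply MulEquiv.ext
  intro A
  rw [MulAut.mul_apply, MulAut.mul_apply, fr_apply, fr_apply, tw_apply, tw_apply]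
  apply sl2_ext
  · rw [frHom_entry, twFun_00, twFun_00, frHom_entry]
  · rw [frHom_entry, twFun_01, twFun_01, frHom_entry, map_mul, frobenius_def p (x : K), Units.val_pow_eq_pow_val]
  · rw [frHom_entry, twFun_10, twFun_10, frHom_entry, map_mul, map_inv₀, frobenius_def p (x : K),
      Units.val_pow_eq_pow_val]
  · rw [frHom_entry, twFun_11, twFun_11, frHom_entry]

theorem frHom_JJ : frHom p (JJ (K := K)) = JJ := by
  apply sl2_ext <;> rw [frHom_entry] <;> simp [JJ]

theorem conj_JJ_mul_fr (hK : Fintype.card K = p ^ 2) :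
    MulAut.conj (JJ (K := K)) * fr p hK = fr p hK * MulAut.conj JJ := by
  rw [mulAut_mul_conj, fr_apply, frHom_JJ]

/-- the twisted Frobenius -/
def theta (hK : Fintype.card K = p ^ 2) (α : Kˣ) : MulAut SL2 := tw α * fr p hK

theorem theta_sq (hK : Fintype.card K = p ^ 2) (α : Kˣ) :
    theta p hK α * theta p hK α = tw (α ^ (p + 1)) := by
  unfold theta
  calc tw α * fr p hK * (tw α * fr p hK) = tw α * (fr p hK * tw α) * fr p hK := by group
    _ = tw α * (tw (α ^ p) * fr p hK) * fr p hK := by rw [fr_mul_tw]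
    _ = tw α * tw (α ^ p) * (fr p hK * fr p hK) := by group
    _ = tw (α ^ (p + 1)) := by rw [fr_mul_fr, mul_one, tw_mul, pow_succ']

theorem theta_pow_two_mul (hK : Fintype.card K = p ^ 2) (α : Kˣ) (k : ℕ) :
    theta p hK α ^ (2 * k) = tw (α ^ ((p + 1) * k)) := by
  rw [pow_mul, sq, theta_sq, tw_pow, ← pow_mul]

theorem theta_pow_two_mul_add_one (hK : Fintype.card K = p ^ 2) (α : Kˣ) (k : ℕ) :
    theta p hK α ^ (2 * k + 1) = tw (α ^ ((p + 1) * k + 1)) * fr p hK := by
  rw [pow_succ, theta_pow_two_mul]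
  unfold theta
  rw [← mul_assoc, tw_mul, ← pow_succ]

theorem conj_JJ_theta (hK : Fintype.card K = p ^ 2) (α : Kˣ) :
    MulAut.conj (JJ (K := K)) * theta p hK α * (MulAut.conj (JJ (K := K)))⁻¹ = tw α⁻¹ * fr p hK := by
  unfold theta
  rw [mul_inv_eq_iff_eq_mul]
  calc MulAut.conj (JJ (K := K)) * (tw α * fr p hK)
      = (MulAut.conj (JJ (K := K)) * tw α) * fr p hK := by group
    _ = tw α⁻¹ * (MulAut.conj JJ * fr p hK) := by rw [conj_JJ_mul_tw]; group
    _ = tw α⁻¹ * fr p hK * MulAut.conj JJ := by rw [conj_JJ_mul_fr]; group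

end Cfsg.Agent.Lib.Helper73.DSQW
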