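import Cfsg.Agent.Lib.Helper73.DSQWQD4b

/-!
# S5248 module DSQW-[QD4], part c (helper73, for helper84): orders and the quasi-dihedral relation
-/

set_option autoImplicit false

namespace Cfsg.Agent.Lib.Helper73.DSQW

open Matrix

/-- the arithmetic conditions on `(n, p)` -/
structure QDParams (n p : ℕ) : Prop where
  hn : 3 ≤ n
  hodd : Odd p
  hu : ∃ u, Odd u ∧ p + 1 = 2 * u
  hm : ∃ m, Odd m ∧ p ^ 2 - 1 = 2 ^ n * m
  hM : ∃ M, Odd M ∧ p ^ 2 * ((p ^ 2) ^ 2 - 1) = 2 ^ (n + 1) * M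
  h3 : 2 ^ n ∣ (p + 1) * (2 ^ (n - 2) - 1) + 2

theorem exists_prime_qdParams (n : ℕ) (hn : 3 ≤ n) : ∃ p : ℕ, p.Prime ∧ QDParams n p := by
  set B := 2 ^ (n - 3) with hB
  have hBpos : 1 ≤ B := Nat.one_le_two_pow
  have h2 : 2 ^ (n - 2) = 2 * B := by
    rw [hB, show n - 2 = (n - 3) + 1 by omega, pow_succ]; ring
  have h1 : 2 ^ n = 8 * B := by
    rw [hB]
    have : n = n - 3 + 3 := by omega
    conv_lhs => rw [this, pow_add]
    ring
  have h1' : 2 ^ (n + 1) = 16 * B := by rw [pow_succ, h1]; ring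
  have hcop : Nat.Coprime (1 + 4 * B) (2 ^ n) := by
    apply Nat.Coprime.pow_right
    rw [Nat.coprime_two_right]
    exact ⟨2 * B, by ring⟩
  obtain ⟨p, hgt, hp, hmod⟩ := Nat.forall_exists_prime_gt_and_modEq (1 + 4 * B) (by positivity) hcop
  have hdvd : 2 ^ n ∣ p - (1 + 4 * B) := (Nat.modEq_iff_dvd' hgt.le).1 hmod.symm
  obtain ⟨t, ht⟩ := hdvd
  rw [h1] at ht
  set s := 1 + 2 * t with hs
  have hs_odd : Odd s := ⟨t, by rw [hs]; ring⟩
  have hp' : p = 1 + 4 * (B * s) := by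
    have : p = (1 + 4 * B) + 8 * B * t := by omega
    rw [this, hs]; ring
  set u := 1 + 2 * (B * s) with hu
  have hu_odd : Odd u := ⟨B * s, by rw [hu]; ring⟩
  have hp_odd : Odd p := ⟨2 * (B * s), by rw [hp']; ring⟩
  have hpu : p + 1 = 2 * u := by rw [hp', hu]; ring
  have hsq : p ^ 2 - 1 = 8 * B * (s * u) := by
    apply Nat.sub_eq_of_eq_add
    rw [hp', hu]; ring
  set w := 1 + 4 * (B * (s * u)) with hw
  have hw_odd : Odd w := ⟨2 * (B * (s * u)), by rw [hw]; ring⟩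
  have hsq' : p ^ 2 = 1 + 8 * B * (s * u) := by
    have : 1 ≤ p ^ 2 := Nat.one_le_pow _ _ hp.pos
    omega
  have h4 : (p ^ 2) ^ 2 - 1 = 16 * B * (s * u * w) := by
    apply Nat.sub_eq_of_eq_add
    rw [hsq', hw]; ring
  refine ⟨p, hp, hn, hp_odd, ⟨u, hu_odd, hpu⟩, ⟨s * u, hs_odd.mul hu_odd, ?_⟩,
    ⟨p ^ 2 * (s * u * w), (hp_odd.pow).mul ((hs_odd.mul hu_odd).mul hw_odd), ?_⟩, ?_⟩
  · rw [hsq, h1]
  · rw [h4, h1']; ring
  · -- `(p+1)(2B-1)+2 = 4B(u-s)`, `u - s = 1 + s(2B-1)` even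
    rw [hpu, h2, h1]
    obtain ⟨k, hk⟩ : ∃ k, s * (2 * B - 1) = 2 * k + 1 := by
      have h2B : Odd (2 * B - 1) := ⟨B - 1, by omega⟩
      obtain ⟨k, hk⟩ := hs_odd.mul h2B
      exact ⟨k, hk⟩
    refine ⟨k + 1, ?_⟩
    -- 2u(2B-1)+2 = 8B(k+1);  u(2B-1) = (2B-1) + 2B s(2B-1) = (2B - 1) + 2B(2k+1)
    have hu' : u * (2 * B - 1) = (2 * B - 1) + 2 * B * (2 * k + 1) := by
      rw [hu, ← hk]; ring
    have : 2 * u * (2 * B - 1) = 2 * (u * (2 * B - 1)) := by ring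
    rw [this, hu']
    have h2B1 : 1 ≤ 2 * B := by omega
    zify [h2B1]
    ring

variable {K : Type*} [Field K] [Fintype K] (p : ℕ) [Fact p.Prime] [CharP K p]

set_option linter.unusedSectionVars false

local notation "SL2" => Matrix.SpecialLinearGroup (Fin 2) K

theorem two_ne_zero_of_odd (hp : Odd p) : (2 : K) ≠ 0 := by
  intro h
  have h2 : ((2 : ℕ) : K) = 0 := by exact_mod_cast h
  rw [CharP.cast_eq_zero_iff K p 2] at h2
  have := (Nat.prime_dvd_prime_iff_eq (Fact.out : p.Prime) Nat.prime_two).1 h2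
  rw [this] at hp
  exact absurd hp (by decide)

theorem neg_one_ne_one_units (hp : Odd p) : (-1 : Kˣ) ≠ 1 := by
  intro h
  have h1 : ((-1 : Kˣ) : K) = ((1 : Kˣ) : K) := by rw [h]
  rw [Units.val_neg, Units.val_one] at h1
  apply two_ne_zero_of_odd (K := K) p hp
  linear_combination -h1

/-- an element of order `2ⁿ` has `α ^ 2ⁿ⁻¹ = -1` -/
theorem pow_half_eq_neg_one {n : ℕ} (hn : 1 ≤ n) (α : Kˣ) (hα : orderOf α = 2 ^ n) :
    α ^ 2 ^ (n - 1) = -1 := by
  have h1 : (α ^ 2 ^ (n - 1)) ^ 2 = 1 := by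
    rw [← pow_mul, ← pow_succ, show n - 1 + 1 = n by omega, ← hα, pow_orderOf_eq_one]
  have h2 : α ^ 2 ^ (n - 1) ≠ 1 := by
    intro h
    have := orderOf_dvd_of_pow_eq_one h
    rw [hα] at this
    have h3 := Nat.le_of_dvd (by positivity) this
    have h4 : 2 ^ (n - 1) < 2 ^ n := Nat.pow_lt_pow_right (by norm_num) (by omega)
    omega
  have h3 : ((α ^ 2 ^ (n - 1) : Kˣ) : K) ^ 2 = 1 := by
    rw [← Units.val_pow_eq_pow_val, h1, Units.val_one]
  rw [sq] at h3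
  rcases mul_self_eq_one_iff.1 h3 with h | h
  · exact absurd (Units.ext h) h2
  · apply Units.ext
    rw [h, Units.val_neg, Units.val_one]

variable (hK : Fintype.card K = p ^ 2)

include hK in
theorem exists_alpha {n : ℕ} (hq : QDParams n p) : ∃ α : Kˣ, orderOf α = 2 ^ n := by
  classical
  obtain ⟨m, hm_odd, hm⟩ := hq.hm
  obtain ⟨g, hg⟩ := IsCyclic.exists_generator (α := Kˣ)
  have hord : orderOf g = 2 ^ n * m := by
    rw [orderOf_eq_card_of_forall_mem_zpowers hg, Nat.card_eq_fintype_card, Fintype.card_units, hK, hm]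
  have hm0 : m ≠ 0 := by
    rintro rfl
    exact absurd hm_odd (by decide)
  refine ⟨g ^ m, ?_⟩
  rw [orderOf_pow_of_dvd hm0 (by rw [hord]; exact Dvd.intro_left _ rfl), hord,
    Nat.mul_div_cancel _ (Nat.pos_of_ne_zero hm0)]

theorem theta_pow_card {n : ℕ} (hq : QDParams n p) (α : Kˣ) (hα : orderOf α = 2 ^ n) :
    theta p hK α ^ 2 ^ n = 1 := by
  obtain ⟨u, -, hu⟩ := hq.hu
  have hn := hq.hn
  have h1 : 2 ^ n = 2 * 2 ^ (n - 1) := by
    rw [← pow_succ', show n - 1 + 1 = n by omega]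
  rw [h1, theta_pow_two_mul, hu]
  have h2 : 2 * u * 2 ^ (n - 1) = 2 ^ n * u := by rw [h1]; ring
  rw [h2, pow_mul, ← hα, pow_orderOf_eq_one, one_pow, tw_one]

theorem theta_pow_half_ne {n : ℕ} (hq : QDParams n p) (α : Kˣ) (hα : orderOf α = 2 ^ n) :
    theta p hK α ^ 2 ^ (n - 1) ≠ 1 := by
  obtain ⟨u, hu_odd, hu⟩ := hq.hu
  have hn := hq.hn
  have h1 : 2 ^ (n - 1) = 2 * 2 ^ (n - 2) := by
    rw [← pow_succ', show n - 2 + 1 = n - 1 by omega]
  rw [h1, theta_pow_two_mul, hu]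
  have h2 : 2 * u * 2 ^ (n - 2) = 2 ^ (n - 1) * u := by rw [h1]; ring
  rw [h2, pow_mul, pow_half_eq_neg_one (by omega) α hα, hu_odd.neg_one_pow, ← tw_one]
  intro h
  exact neg_one_ne_one_units (K := K) p hq.hodd (tw_injective h)

theorem orderOf_theta {n : ℕ} (hq : QDParams n p) (α : Kˣ) (hα : orderOf α = 2 ^ n) :
    orderOf (theta p hK α) = 2 ^ n := by
  have hn := hq.hn
  have := orderOf_eq_prime_pow (p := 2) (n := n - 1) (theta_pow_half_ne p hK hq α hα)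
    (by rw [show n - 1 + 1 = n by omega]; exact theta_pow_card p hK hq α hα)
  rwa [show n - 1 + 1 = n by omega] at this

/-- the inner automorphism by the Weyl element -/
def YY : MulAut SL2 := MulAut.conj (JJ (K := K))

theorem JJ_mul_JJ : (JJ (K := K)) * JJ = mk2 (-1) 0 0 (-1) (by ring) := by
  apply sl2_ext
  · rw [mul_00]; simp [JJ]
  · rw [mul_01]; simp [JJ]
  · rw [mul_10]; simp [JJ]
  · rw [mul_11]; simp [JJ]

theorem YY_sq : (YY (K := K)) ^ 2 = 1 := by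
  unfold YY
  rw [sq, ← map_mul, conj_eq_iff, JJ_mul_JJ]
  intro A
  rw [MulAut.one_apply]
  apply sl2_ext
  · rw [mul_00, mul_00]; simp
  · rw [mul_01, mul_01]; simp
  · rw [mul_10, mul_10]; simp
  · rw [mul_11, mul_11]; simp

theorem YY_ne_one : (YY (K := K)) ≠ 1 := by
  unfold YY
  intro h
  rw [conj_eq_iff] at h
  have h1 := h (uu 1)
  rw [MulAut.one_apply] at h1
  have h2 := congrArg (fun A : SL2 => A.1 0 0) h1
  simp only [mul_00] at h2
  simp [JJ, uu] at h2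

theorem orderOf_YY : orderOf (YY (K := K)) = 2 :=
  orderOf_eq_prime YY_sq YY_ne_one

theorem YY_theta {n : ℕ} (hq : QDParams n p) (α : Kˣ) (hα : orderOf α = 2 ^ n) :
    YY * theta p hK α * YY⁻¹ = theta p hK α ^ (2 ^ (n - 1) - 1) := by
  have hn := hq.hn
  unfold YY
  rw [conj_JJ_theta]
  have h1 : 2 ^ (n - 1) - 1 = 2 * (2 ^ (n - 2) - 1) + 1 := by
    have : 2 ^ (n - 1) = 2 * 2 ^ (n - 2) := by
      rw [← pow_succ', show n - 2 + 1 = n - 1 by omega]
    have h2 : 1 ≤ 2 ^ (n - 2) := Nat.one_le_two_pow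
    omega
  rw [h1, theta_pow_two_mul_add_one]
  congr 2
  rw [inv_eq_iff_mul_eq_one, ← pow_succ']
  exact orderOf_dvd_iff_pow_eq_one.1 (by rw [hα]; exact hq.h3)

theorem theta_YY_ne {n : ℕ} (hq : QDParams n p) (α : Kˣ) (hα : orderOf α = 2 ^ n) :
    theta p hK α * YY ≠ YY * theta p hK α := by
  intro h
  have h1 : YY * theta p hK α * YY⁻¹ = theta p hK α := by rw [← h, mul_inv_cancel_right]
  unfold YY at h1
  rw [conj_JJ_theta] at h1
  unfold theta at h1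
  have h2 := tw_injective (mul_right_cancel h1)
  have h3 : α ^ 2 = 1 := by
    rw [sq]
    exact inv_eq_iff_mul_eq_one.1 h2 |>.symm ▸ rfl
  have := orderOf_dvd_of_pow_eq_one h3
  rw [hα] at this
  have h4 := Nat.le_of_dvd (by norm_num) this
  have h5 : 2 ^ 3 ≤ 2 ^ n := Nat.pow_le_pow_right (by norm_num) hq.hn
  omega

/-- the inner automorphism group -/
def Inn : Subgroup (MulAut SL2) := (MulAut.conj : SL2 →* MulAut SL2).range

instance Inn_normal : (Inn (K := K)).Normal := by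
  constructor
  rintro _ ⟨A, rfl⟩ g
  refine ⟨g A, ?_⟩
  rw [eq_comm, mul_inv_eq_iff_eq_mul, mulAut_mul_conj]

theorem YY_mem_Inn : (YY (K := K)) ∈ Inn := ⟨JJ, rfl⟩

theorem theta_sq_mem_Inn {n : ℕ} (hq : QDParams n p) (α : Kˣ) :
    theta p hK α * theta p hK α ∈ Inn := by
  obtain ⟨u, -, hu⟩ := hq.hu
  rw [theta_sq, hu, mul_comm, pow_mul, ← conj_dg]
  exact ⟨_, rfl⟩

theorem theta_not_mem_Inn {n : ℕ} (hq : QDParams n p) (α : Kˣ) (hα : orderOf α = 2 ^ n) :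
    theta p hK α ∉ Inn := by
  rintro ⟨B, hB⟩
  obtain ⟨m, hm_odd, hm⟩ := hq.hm
  have hn := hq.hn
  rw [conj_eq_iff] at hB
  have h1 := hB (uu 1)
  have h2 : theta p hK α (uu 1) = uu (α : K) := by
    unfold theta
    rw [MulAut.mul_apply, fr_apply]
    have : frHom p (uu (1 : K)) = uu 1 := by
      apply sl2_ext <;> rw [frHom_entry] <;> simp [uu]
    rw [this, tw_uu, mul_one]
  rw [h2] at h1
  have e11 := congrArg (fun A : SL2 => A.1 1 1) h1
  have e01 := congrArg (fun A : SL2 => A.1 0 1) h1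
  simp only [mul_11, mul_01] at e11 e01
  simp only [uu, mk2_00, mk2_01, mk2_10, mk2_11] at e11 e01
  have hc : B.1 1 0 = 0 := by linear_combination e11
  have ha : B.1 0 0 = α * B.1 1 1 := by linear_combination e01
  have hdet := sl2_det B
  rw [hc, ha] at hdet
  have hd : (α : K) * B.1 1 1 ^ 2 = 1 := by linear_combination hdet
  have hd0 : B.1 1 1 ≠ 0 := by
    intro h0
    rw [h0] at hd
    simp at hd
  -- `α ^ (2ⁿ⁻¹ m) = -1` but it is `(d⁻¹) ^ (p² - 1) = 1`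
  have h3 : (α : K) ^ (2 ^ (n - 1) * m) = -1 := by
    rw [← Units.val_pow_eq_pow_val, pow_mul, pow_half_eq_neg_one (by omega) α hα, hm_odd.neg_one_pow,
      Units.val_neg, Units.val_one]
  have h4 : (α : K) = (B.1 1 1)⁻¹ ^ 2 := by
    field_simp
    linear_combination hd
  have h5 : (α : K) ^ (2 ^ (n - 1) * m) = 1 := by
    rw [h4, ← pow_mul, ← mul_assoc, ← pow_succ', show n - 1 + 1 = n by omega, ← hm]
    have := FiniteField.pow_card_sub_one_eq_one (B.1 1 1)⁻¹ (inv_ne_zero hd0)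
    rwa [hK] at this
  rw [h5] at h3
  apply two_ne_zero_of_odd (K := K) p hq.hodd
  linear_combination h3

end Cfsg.Agent.Lib.Helper73.DSQW
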