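import Cfsg.Agent.Lib.Helper73.DSQWQD4c
import Cfsg.Prelude.Def_CaseTheorems
import Cfsg.Agent.Lib.Helper98.SL2Quat
import Cfsg.Agent.Lib.Helper5.SL2Sylow
import Cfsg.Agent.Lib.Helper84.SylowTwoCard

/-!
# S5248 module DSQW-[QD4], part d (helper73, for helper84): the group `PSL₂(p²).2` of `M₁₀` type
-/

set_option autoImplicit false

namespace Cfsg.Agent.Lib.Helper73.DSQW

open Matrix

/-! ### a normal subgroup extended by an element whose square lies in it -/

section Ext

variable {A : Type*} [Group A] (N : Subgroup A) [hN : N.Normal] (θ : A)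

/-- `N ∪ N θ⁻¹`, a subgroup when `θ² ∈ N` -/
def ext2 (hθ : θ * θ ∈ N) : Subgroup A where
  carrier := {g | g ∈ N ∨ g * θ ∈ N}
  one_mem' := Or.inl N.one_mem
  mul_mem' := by
    rintro g h (hg | hg) (hh | hh)
    · exact Or.inl (N.mul_mem hg hh)
    · right
      rw [mul_assoc]
      exact N.mul_mem hg hh
    · right
      have : g * h * θ = (g * θ) * (θ⁻¹ * h * θ⁻¹⁻¹) := by group
      rw [this]
      exact N.mul_mem hg (hN.conj_mem h hh θ⁻¹)
    · left
      have : g * h = (g * θ) * (θ⁻¹ * (h * θ) * θ⁻¹⁻¹) * (θ * θ)⁻¹ := by group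
      rw [this]
      exact N.mul_mem (N.mul_mem hg (hN.conj_mem _ hh θ⁻¹)) (N.inv_mem hθ)
  inv_mem' := by
    rintro g (hg | hg)
    · exact Or.inl (N.inv_mem hg)
    · right
      have : g⁻¹ * θ = θ * (g * θ)⁻¹ * θ⁻¹ * (θ * θ) := by group
      rw [this]
      exact N.mul_mem (hN.conj_mem _ (N.inv_mem hg) θ) hθ

variable {N θ}

theorem mem_ext2 (hθ : θ * θ ∈ N) (g : A) : g ∈ ext2 N θ hθ ↔ g ∈ N ∨ g * θ ∈ N := Iff.rfl

theorem le_ext2 (hθ : θ * θ ∈ N) : N ≤ ext2 N θ hθ := fun _ hg => Or.inl hg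

theorem self_mem_ext2 (hθ : θ * θ ∈ N) : θ ∈ ext2 N θ hθ := Or.inr hθ

theorem index_subgroupOf_ext2 (hθ : θ * θ ∈ N) (hθN : θ ∉ N) :
    (N.subgroupOf (ext2 N θ hθ)).index = 2 := by
  rw [Subgroup.index_eq_two_iff]
  refine ⟨⟨θ, self_mem_ext2 hθ⟩, ?_⟩
  rintro ⟨b, hb⟩
  simp only [Subgroup.mem_subgroupOf, Subgroup.coe_mul]
  rcases hb with hb | hb
  · right
    refine ⟨hb, fun h => hθN ?_⟩
    have : θ = b⁻¹ * (b * θ) := by group
    rw [this]
    exact N.mul_mem (N.inv_mem hb) h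
  · left
    refine ⟨hb, fun h => hθN ?_⟩
    have : θ = b⁻¹ * (b * θ) := by group
    rw [this]
    exact N.mul_mem (N.inv_mem h) hb

theorem card_ext2 [Finite A] (hθ : θ * θ ∈ N) (hθN : θ ∉ N) :
    Nat.card (ext2 N θ hθ) = Nat.card N * 2 := by
  rw [← Subgroup.card_mul_index (N.subgroupOf (ext2 N θ hθ)), index_subgroupOf_ext2 hθ hθN,
    Nat.card_congr (Subgroup.subgroupOfEquivOfLe (le_ext2 hθ)).toEquiv]

end Ext

/-! ### the kernel of `SL₂ → Aut SL₂` -/

section Ker

variable {K : Type*} [Field K]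

local notation "SL2" => Matrix.SpecialLinearGroup (Fin 2) K

/-- `-1` -/
def negI : SL2 := mk2 (-1) 0 0 (-1) (by ring)

/-- the lower unitriangular matrix -/
def ll (t : K) : SL2 := mk2 1 0 t 1 (by ring)

theorem negI_eq_negOne : (negI (K := K)) = Cfsg.Agent.Lib.Helper41.negOne := by
  apply Subtype.ext
  rw [Cfsg.Agent.Lib.Helper41.coe_negOne]
  ext i j
  fin_cases i <;> fin_cases j <;> simp [negI, mk2]

theorem conj_negI : MulAut.conj (negI (K := K)) = 1 := by
  rw [conj_eq_iff]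
  intro A
  rw [MulAut.one_apply]
  apply sl2_ext
  · rw [mul_00, mul_00]; simp [negI]
  · rw [mul_01, mul_01]; simp [negI]
  · rw [mul_10, mul_10]; simp [negI]
  · rw [mul_11, mul_11]; simp [negI]

theorem conj_eq_one_iff (A : SL2) : MulAut.conj A = 1 ↔ A = 1 ∨ A = negI := by
  constructor
  · intro h
    rw [conj_eq_iff] at h
    have h1 := h (uu 1)
    have h2 := h (ll 1)
    rw [MulAut.one_apply] at h1 h2
    have e1 := congrArg (fun B : SL2 => B.1 0 0) h1
    have e2 := congrArg (fun B : SL2 => B.1 0 1) h1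
    have e3 := congrArg (fun B : SL2 => B.1 0 0) h2
    simp only [mul_00, mul_01] at e1 e2 e3
    simp only [uu, ll, mk2_00, mk2_01, mk2_10, mk2_11] at e1 e2 e3
    have hc : A.1 1 0 = 0 := by linear_combination -e1
    have hb : A.1 0 1 = 0 := by linear_combination e3
    have had : A.1 0 0 = A.1 1 1 := by linear_combination e2
    have hdet := sl2_det A
    rw [hc, hb, ← had] at hdet
    have hsq : A.1 0 0 * A.1 0 0 = 1 := by linear_combination hdet
    rcases mul_self_eq_one_iff.1 hsq with ha | ha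
    · left
      apply sl2_ext
      · rw [ha]; simp
      · rw [hb]; simp
      · rw [hc]; simp
      · rw [← had, ha]; simp
    · right
      apply sl2_ext
      · rw [ha]; simp [negI]
      · rw [hb]; simp [negI]
      · rw [hc]; simp [negI]
      · rw [← had, ha]; simp [negI]
  · rintro (rfl | rfl)
    · exact map_one _
    · exact conj_negI

theorem negI_ne_one (h2 : (2 : K) ≠ 0) : (negI (K := K)) ≠ 1 := by
  intro h
  have := congrArg (fun B : SL2 => B.1 0 0) h
  simp only [negI, mk2_00, one_00] at this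
  apply h2
  linear_combination -this

theorem card_ker_conj (h2 : (2 : K) ≠ 0) :
    Nat.card (MulAut.conj : SL2 →* MulAut SL2).ker = 2 := by
  rw [Nat.card_eq_two_iff]
  refine ⟨⟨1, Subgroup.one_mem _⟩, ⟨negI, ?_⟩, ?_, ?_⟩
  · rw [MonoidHom.mem_ker]; exact conj_negI
  · intro h
    exact negI_ne_one h2 (congrArg Subtype.val h).symm
  · ext ⟨x, hx⟩
    simp only [Set.mem_insert_iff, Set.mem_singleton_iff, Set.mem_univ, iff_true, Subtype.mk.injEq]
    rw [MonoidHom.mem_ker] at hx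
    exact (conj_eq_one_iff x).1 hx

theorem card_Inn [Finite K] (h2 : (2 : K) ≠ 0) :
    Nat.card (Inn (K := K)) * 2 = Nat.card SL2 := by
  unfold Inn
  have h1 := Subgroup.card_mul_index (MulAut.conj : SL2 →* MulAut SL2).ker
  rw [card_ker_conj h2, Subgroup.index_ker] at h1
  rw [mul_comm]
  exact h1

end Ker

/-! ### the final statement -/

section Final

variable {K : Type*} [Field K] [Fintype K] (p : ℕ) [Fact p.Prime] [CharP K p]

local notation "SL2" => Matrix.SpecialLinearGroup (Fin 2) K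

theorem isConj_of_involution_Inn (h2 : (2 : K) ≠ 0) (H : Subgroup (MulAut SL2)) (hH : Inn ≤ H)
    (a b : H) (ha : (a : MulAut SL2) ∈ Inn) (hb : (b : MulAut SL2) ∈ Inn)
    (hoa : orderOf a = 2) (hob : orderOf b = 2) : IsConj a b := by
  have key : ∀ c : H, (c : MulAut SL2) ∈ Inn → orderOf c = 2 →
      ∃ C : SL2, MulAut.conj C = (c : MulAut SL2) ∧ C * C = Cfsg.Agent.Lib.Helper41.negOne := by
    rintro c ⟨C, hC⟩ hoc
    refine ⟨C, hC, ?_⟩
    have h1 : (c : MulAut SL2) ^ 2 = 1 := by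
      have h0 := pow_orderOf_eq_one c
      rw [hoc] at h0
      rw [← Subgroup.coe_pow, h0, Subgroup.coe_one]
    have hne : (c : MulAut SL2) ≠ 1 := by
      intro h
      have : c = 1 := Subtype.ext h
      rw [this, orderOf_one] at hoc
      omega
    rw [← hC, sq, ← map_mul, conj_eq_one_iff] at h1
    rcases h1 with h1 | h1
    · exfalso
      apply hne
      rw [← hC]
      by_cases hC1 : C = 1
      · rw [hC1, map_one]
      · rw [Cfsg.Agent.Lib.Helper98.SL2Quat.eq_negOne_of_sq h2 C h1 hC1, ← negI_eq_negOne, conj_negI]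
    · rw [h1, negI_eq_negOne]
  obtain ⟨A, hA, hA2⟩ := key a ha hoa
  obtain ⟨B, hB, hB2⟩ := key b hb hob
  obtain ⟨c, hc⟩ := Cfsg.Agent.Lib.Helper98.SL2Quat.exists_conj_of_sq h2 A B hA2 hB2
  rw [isConj_iff]
  refine ⟨⟨MulAut.conj c, hH ⟨c, rfl⟩⟩, ?_⟩
  apply Subtype.ext
  rw [Subgroup.coe_mul, Subgroup.coe_mul, Subgroup.coe_inv, ← hA, ← hB, ← map_inv, ← map_mul, ← map_mul, hc]

end Final

end Cfsg.Agent.Lib.Helper73.DSQW
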