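import Cfsg.Agent.Lib.Helper19.FHHeckeDefs

/-!
# Auxiliary facts for the Hecke-matrix modules HECKE-B / HECKE-C (helper19's project S1142)
-/

set_option autoImplicit false

namespace Cfsg.Agent.Lib.Helper73.FHHecke

open Matrix Cfsg Cfsg.Agent.Lib.Helper6 Cfsg.Agent.Lib.Helper19.FH

variable {G : Type*} [Group G] (P : Cfsg.BNPair G)

theorem out_rel (a : G) : a⁻¹ * (QuotientGroup.mk a : G ⧸ P.B).out ∈ P.B := by
  have h := QuotientGroup.mk_out_eq_mul P.B a
  obtain ⟨b, hb⟩ := h
  rw [hb]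
  simp

theorem inDC_out (g b : G) : InDC P g (QuotientGroup.mk b : G ⧸ P.B).out ↔ InDC P g b := by
  have hb := out_rel P b
  constructor
  · intro h
    have e : b = (QuotientGroup.mk b : G ⧸ P.B).out * (b⁻¹ * (QuotientGroup.mk b : G ⧸ P.B).out)⁻¹ := by
      group
    rw [e]
    exact inDC_mul_right P (P.B.inv_mem hb) h
  · intro h
    have e : (QuotientGroup.mk b : G ⧸ P.B).out = b * (b⁻¹ * (QuotientGroup.mk b : G ⧸ P.B).out) := by
      group
    rw [e]
    exact inDC_mul_right P hb h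

/-- change of the left representative -/
theorem inDC_out_left (g : G) (x : G ⧸ P.B) (a c : G) (ha : QuotientGroup.mk a = x) :
    InDC P g (x.out⁻¹ * c) ↔ InDC P g (a⁻¹ * c) := by
  subst ha
  have hb := out_rel P a
  constructor
  · intro h
    have e : a⁻¹ * c = (a⁻¹ * (QuotientGroup.mk a : G ⧸ P.B).out) *
        ((QuotientGroup.mk a : G ⧸ P.B).out⁻¹ * c) := by group
    rw [e]
    exact inDC_mul_left P hb h
  · intro h
    have e : (QuotientGroup.mk a : G ⧸ P.B).out⁻¹ * c =
        (a⁻¹ * (QuotientGroup.mk a : G ⧸ P.B).out)⁻¹ * (a⁻¹ * c) := by group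
    rw [e]
    exact inDC_mul_left P (P.B.inv_mem hb) h

/-- change of the right representative -/
theorem inDC_out_right (g : G) (y : G ⧸ P.B) (c a : G) (ha : QuotientGroup.mk a = y) :
    InDC P g (c * y.out) ↔ InDC P g (c * a) := by
  subst ha
  have hb := out_rel P a
  constructor
  · intro h
    have e : c * a = (c * (QuotientGroup.mk a : G ⧸ P.B).out) *
        (a⁻¹ * (QuotientGroup.mk a : G ⧸ P.B).out)⁻¹ := by group
    rw [e]
    exact inDC_mul_right P (P.B.inv_mem hb) h
  · intro h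
    have e : c * (QuotientGroup.mk a : G ⧸ P.B).out =
        (c * a) * (a⁻¹ * (QuotientGroup.mk a : G ⧸ P.B).out) := by group
    rw [e]
    exact inDC_mul_right P hb h

theorem eq_of_out_mem (x z : G ⧸ P.B) (h : x.out⁻¹ * z.out ∈ P.B) : x = z := by
  have := (QuotientGroup.eq (s := P.B) (a := x.out) (b := z.out)).mpr h
  simpa using this

theorem out_self_mem (x : G ⧸ P.B) : x.out⁻¹ * x.out ∈ P.B := by
  simp

/-- `C(s)` is closed under inverses. -/
theorem inDC_S_symm {s g : G} (hs : s ∈ P.S) (h : InDC P s g) : InDC P s g⁻¹ :=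
  inDC_trans P (inDC_S_inv P hs) (inDC_inv P h)

/-- `C(s) C(s) ⊆ B ∪ C(s)`. -/
theorem mem_B_or_inDC {s g h : G} (hs : s ∈ P.S) (hg : InDC P s g) (hh : InDC P s h) :
    g * h ∈ P.B ∨ InDC P s (g * h) := by
  rcases dc_mul_left P hs (P.subset hs) hg hh with k | k
  · left
    exact (inDC_of_mem_B P (P.sq_mem s hs)).mp k
  · right; exact k

/-- `1 ∉ C(s)`. -/
theorem not_inDC_S_mem_B {s b : G} (hs : s ∈ P.S) (hb : b ∈ P.B) : ¬ InDC P s b := by
  intro h
  have h1 : InDC P b s := inDC_symm P h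
  exact S_not_mem_B P hs ((inDC_of_mem_B P hb).mp h1)

open Classical in
theorem heckeMat_apply (g : G) (x y : G ⧸ P.B) :
    heckeMat P g x y = if InDC P g (x.out⁻¹ * y.out) then 1 else 0 := rfl

end Cfsg.Agent.Lib.Helper73.FHHecke
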