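import Cfsg.Agent.Lib.Helper73.FHHeckeAux

/-!
# FH MODULE HECKE-C: the quadratic relation `T_s² = q_s + (q_s - 1) T_s`
-/

set_option autoImplicit false

namespace Cfsg.Agent.Lib.Helper73.FHHecke

open Matrix Cfsg Cfsg.Agent.Lib.Helper6 Cfsg.Agent.Lib.Helper19.FH

variable {G : Type*} [Group G] (P : Cfsg.BNPair G)

/-- adjacency of cosets via the double coset `B g B` -/
def Adj (g : G) (x y : G ⧸ P.B) : Prop := InDC P g (x.out⁻¹ * y.out)

theorem adj_symm {s : G} (hs : s ∈ P.S) {x y : G ⧸ P.B} (h : Adj P s x y) : Adj P s y x := by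
  unfold Adj at *
  have := inDC_S_symm P hs h
  have e : (x.out⁻¹ * y.out)⁻¹ = y.out⁻¹ * x.out := by group
  rwa [e] at this

theorem adj_irrefl {s : G} (hs : s ∈ P.S) (x : G ⧸ P.B) : ¬ Adj P s x x := by
  unfold Adj
  exact not_inDC_S_mem_B P hs (out_self_mem P x)

theorem adj_trans {s : G} (hs : s ∈ P.S) {x y z : G ⧸ P.B} (h1 : Adj P s x y) (h2 : Adj P s y z) :
    x = z ∨ Adj P s x z := by
  unfold Adj at *
  have e : x.out⁻¹ * z.out = (x.out⁻¹ * y.out) * (y.out⁻¹ * z.out) := by group
  rcases mem_B_or_inDC P hs h1 h2 with k | k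
  · left
    rw [← e] at k
    exact eq_of_out_mem P x z k
  · right
    rw [e]; exact k

theorem smul_eq_mk (a : G) (y : G ⧸ P.B) : a • y = (QuotientGroup.mk (a * y.out) : G ⧸ P.B) := by
  conv_lhs => rw [← QuotientGroup.out_eq' y]
  rfl

/-- every row of the adjacency relation of `B g B` has `qIdx P g` entries -/
theorem card_adj (g : G) (x : G ⧸ P.B) :
    Nat.card {y : G ⧸ P.B // Adj P g x y} = qIdx P g := by
  unfold qIdx
  refine Nat.card_congr (Equiv.subtypeEquiv (MulAction.toPerm (x.out⁻¹)) ?_)
  intro y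
  unfold Adj
  rw [MulAction.toPerm_apply, smul_eq_mk, inDC_out]

variable [Fintype (G ⧸ P.B)] [DecidableEq (G ⧸ P.B)]

omit [DecidableEq (G ⧸ P.B)] in
open Classical in
theorem card_filter_adj (g : G) (x : G ⧸ P.B) :
    (Finset.univ.filter (fun y => Adj P g x y)).card = qIdx P g := by
  rw [← card_adj P g x, Nat.card_eq_fintype_card, Fintype.card_subtype]

omit [Fintype (G ⧸ P.B)] [DecidableEq (G ⧸ P.B)] in
open Classical in
theorem heckeMat_eq_ite (g : G) (x y : G ⧸ P.B) :
    heckeMat P g x y = if Adj P g x y then 1 else 0 := rfl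

theorem heckeMat_sq {s : G} (hs : s ∈ P.S) : heckeMat P s * heckeMat P s =
    (qIdx P s : ℝ) • (1 : Matrix (G ⧸ P.B) (G ⧸ P.B) ℝ) + ((qIdx P s : ℝ) - 1) • heckeMat P s := by
  classical
  ext x z
  rw [Matrix.mul_apply]
  simp only [Matrix.add_apply, Matrix.smul_apply, smul_eq_mul, heckeMat_eq_ite]
  have hsum : ∑ y, (if Adj P s x y then (1 : ℝ) else 0) * (if Adj P s y z then (1 : ℝ) else 0) =
      ((Finset.univ.filter (fun y => Adj P s x y ∧ Adj P s y z)).card : ℝ) := by
    rw [Finset.card_filter]
    push_cast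
    apply Finset.sum_congr rfl
    intro y _
    by_cases h1 : Adj P s x y <;> by_cases h2 : Adj P s y z <;> simp [h1, h2]
  rw [hsum]
  by_cases hxz : x = z
  · subst hxz
    have hf : Finset.univ.filter (fun y => Adj P s x y ∧ Adj P s y x) =
        Finset.univ.filter (fun y => Adj P s x y) := by
      apply Finset.filter_congr
      intro y _
      constructor
      · exact fun h => h.1
      · exact fun h => ⟨h, adj_symm P hs h⟩
    rw [hf, card_filter_adj]
    simp [adj_irrefl P hs x]
  · by_cases hA : Adj P s x z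
    · have hf : Finset.univ.filter (fun y => Adj P s x y ∧ Adj P s y z) =
          (Finset.univ.filter (fun y => Adj P s x y)).erase z := by
        ext y
        simp only [Finset.mem_filter, Finset.mem_univ, true_and, Finset.mem_erase]
        constructor
        · rintro ⟨h1, h2⟩
          refine ⟨?_, h1⟩
          rintro rfl
          exact adj_irrefl P hs y h2
        · rintro ⟨hne, h1⟩
          refine ⟨h1, ?_⟩
          rcases adj_trans P hs (adj_symm P hs h1) hA with k | k
          · exact absurd k hne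
          · exact k
      have hz : z ∈ Finset.univ.filter (fun y => Adj P s x y) := by
        simp [hA]
      rw [hf, Finset.card_erase_of_mem hz, card_filter_adj]
      have hq : 1 ≤ qIdx P s := by
        rw [← card_filter_adj P s x]
        exact Finset.card_pos.mpr ⟨z, hz⟩
      rw [Nat.cast_sub hq]
      simp [hA, hxz]
    · have hf : Finset.univ.filter (fun y => Adj P s x y ∧ Adj P s y z) = ∅ := by
        apply Finset.filter_eq_empty_iff.mpr
        rintro y _ ⟨h1, h2⟩
        rcases adj_trans P hs h1 h2 with k | k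
        · exact hxz k
        · exact hA k
      rw [hf]
      simp [hA, hxz]

end Cfsg.Agent.Lib.Helper73.FHHecke
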