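import Mathlib
import Cfsg.Agent.Lib.Helper48.FL.Defs
import Cfsg.Agent.Lib.Helper73.FLBasic
import Cfsg.Agent.Lib.Helper31.FLDih
import Cfsg.Agent.Lib.Helper31.FLInv
import Cfsg.Agent.Lib.Helper46.FLPow

/-!
# Project FL (S2863), module FL-[SZSTAR] (helper73, hedge): the Suzuki case from three facts
-/

set_option autoImplicit false

namespace Cfsg.Agent.Lib.Helper73.FL

open Cfsg Cfsg.Agent.Lib.Helper48 Cfsg.Agent.Lib.Helper48.FL

universe u

/-- FL-[SZSTAR] -/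
theorem fpf_of_sz_facts {K : Type u} [Group K] [Finite K] {W : Type u} [CommGroup W]
    (φ : K →* MulAut W) {Yh R : Subgroup K} {W1 : Subgroup W} (hQ : LQuot 2 Yh R)
    (hM : LMod φ Yh R W1)
    (F1 : ∀ y ∈ Yh, y ≠ 1 → ∀ c : K, c * y = y * c → c ∈ R)
    (F2 : ∀ y ∈ Yh, y ≠ 1 → ∀ k : K, k ∉ R → Odd (orderOf (y * (k * y * k⁻¹))))
    (F3 : ∀ h : K, h ≠ 1 → Odd (orderOf h) →
      ∃ k : K, ∃ y ∈ Yh, y ≠ 1 ∧ (k * y * k⁻¹) * h * (k * y * k⁻¹)⁻¹ = h⁻¹)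
    (k : K) (hk : ¬ ∃ n : ℕ, orderOf k = 2 ^ n) : Fpf φ k := by
  classical
  have hY2 : IsPGroup 2 Yh := by
    intro g
    refine ⟨1, ?_⟩
    apply Subtype.ext
    rw [pow_one, Subgroup.coe_pow, Subgroup.coe_one]
    exact hQ.ea.2 g g.2
  obtain ⟨k0, hk0⟩ : ∃ k0 : K, k0 ∉ R := by
    by_contra h
    push Not at h
    exact hQ.ne_top (top_le_iff.mp fun g _ => h g)
  -- `hstar` for every non-trivial `y ∈ Yh`
  have hstar : ∀ y ∈ Yh, y ≠ 1 → ∀ x : W, φ y x = x → x ∈ W1 := by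
    intro y hyY hy1 x hx
    have hyy : y * y = 1 := by
      rw [← sq]
      exact hQ.ea.2 y hyY
    have hy'y' : (k0 * y * k0⁻¹) * (k0 * y * k0⁻¹) = 1 := by
      have : (k0 * y * k0⁻¹) * (k0 * y * k0⁻¹) = k0 * (y * y) * k0⁻¹ := by group
      rw [this, hyy]
      group
    obtain ⟨d, hd, hdy⟩ := Cfsg.Agent.Lib.Helper31.FL.dihedral_conj y (k0 * y * k0⁻¹) hyy hy'y'
      (F2 y hyY hy1 k0 hk0)
    -- `c = d⁻¹ k0` commutes with `y`
    have hcR : d⁻¹ * k0 ∈ R := by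
      apply F1 y hyY hy1
      have h1 : k0 * y = d * y * d⁻¹ * k0 := by
        rw [hdy]
        group
      calc d⁻¹ * k0 * y = d⁻¹ * (k0 * y) := by group
        _ = d⁻¹ * (d * y * d⁻¹ * k0) := by rw [h1]
        _ = y * (d⁻¹ * k0) := by group
    obtain ⟨a, ha, b, hb, rfl⟩ := hM.span k0 hk0 x
    -- `y` and `y'` fix `φ k0 b`
    have h1 : y ∈ stabOf φ (φ k0 b) := by
      rw [mem_stabOf]
      rw [map_mul, hM.cent y hyY a ha] at hx
      exact mul_left_cancel hx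
    have h2 : k0 * y * k0⁻¹ ∈ stabOf φ (φ k0 b) := by
      rw [mem_stabOf, ← MulAut.mul_apply, ← map_mul, inv_mul_cancel_right, map_mul,
        MulAut.mul_apply, hM.cent y hyY b hb]
    have h3 : Subgroup.closure ({y, k0 * y * k0⁻¹} : Set K) ≤ stabOf φ (φ k0 b) := by
      rw [Subgroup.closure_le]
      intro z hz
      rcases hz with rfl | rfl
      · exact h1
      · exact h2
    have h4 : d⁻¹ ∈ stabOf φ (φ k0 b) := Subgroup.inv_mem _ (h3 hd)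
    rw [mem_stabOf, ← MulAut.mul_apply, ← map_mul] at h4
    have h5 : φ k0 b ∈ W1 := by
      rw [← h4]
      exact hM.stab _ hcR b hb
    have hb1 : b = 1 := hM.disj k0 hk0 b hb h5
    rw [hb1, map_one, mul_one]
    exact ha
  apply Cfsg.Agent.Lib.Helper46.FL.fpf_of_odd φ _ k hk
  intro h h1 hodd
  obtain ⟨k₁, y, hyY, hy1, hinv⟩ := F3 h h1 hodd
  exact Cfsg.Agent.Lib.Helper31.FL.fpf_of_inverted φ hM hQ.norm hY2 y hyY (hstar y hyY hy1) k₁ h
    hodd h1 hinv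

end Cfsg.Agent.Lib.Helper73.FL
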