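import Cfsg.Agent.Lib.Helper73.FusShapeQA5

/-!
# MODULE (FUS-A2) for S5321 (helper73): the 2-fusion system of a group with an involution centraliser
of shape `2^{1+4} : A₅`, where `Q = O₂(C(t))` is generated by conjugates of `t` and some element of
`Q` is fused to an element of `C(t) ∖ Q`, is simple.  (Generalises `isSimple_of_shape_Q_A5`: no
hypothesis that all involutions are conjugate.)
-/

set_option autoImplicit false

namespace Cfsg.Agent.Lib.Helper73.FusShape

open Cfsg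

/-- all involutions of `A₅` are conjugate (to a fixed one) -/
theorem alt5_invol_conj :
    ∀ h : Equiv.Perm (Fin 5), Equiv.Perm.sign h = 1 → h ≠ 1 → h ^ 2 = 1 →
      ∃ k : Equiv.Perm (Fin 5), Equiv.Perm.sign k = 1 ∧
        k * (Equiv.swap 0 1 * Equiv.swap 2 3) * k⁻¹ = h := by
  decide +kernel

theorem alt5_invol_conj' (h₀ h : alternatingGroup (Fin 5)) (h₀1 : h₀ ≠ 1) (h₀2 : h₀ ^ 2 = 1)
    (h1 : h ≠ 1) (h2 : h ^ 2 = 1) : ∃ k : alternatingGroup (Fin 5), k * h₀ * k⁻¹ = h := by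
  have key : ∀ x : alternatingGroup (Fin 5), x ≠ 1 → x ^ 2 = 1 →
      ∃ k : alternatingGroup (Fin 5),
        (k : Equiv.Perm (Fin 5)) * (Equiv.swap 0 1 * Equiv.swap 2 3) * (k : Equiv.Perm (Fin 5))⁻¹ =
          (x : Equiv.Perm (Fin 5)) := by
    intro x hx1 hx2
    have a1 : (x : Equiv.Perm (Fin 5)) ≠ 1 := fun h => hx1 (Subtype.ext h)
    have a2 : (x : Equiv.Perm (Fin 5)) ^ 2 = 1 := by
      have := congrArg Subtype.val hx2
      simpa using this
    obtain ⟨k, hk, hkx⟩ := alt5_invol_conj _ (Equiv.Perm.mem_alternatingGroup.mp x.2) a1 a2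
    exact ⟨⟨k, Equiv.Perm.mem_alternatingGroup.mpr hk⟩, hkx⟩
  obtain ⟨k₁, hk₁⟩ := key h₀ h₀1 h₀2
  obtain ⟨k₂, hk₂⟩ := key h h1 h2
  refine ⟨k₂ * k₁⁻¹, Subtype.ext ?_⟩
  show (k₂ : Equiv.Perm (Fin 5)) * (k₁ : Equiv.Perm (Fin 5))⁻¹ * (h₀ : Equiv.Perm (Fin 5)) *
    ((k₂ : Equiv.Perm (Fin 5)) * (k₁ : Equiv.Perm (Fin 5))⁻¹)⁻¹ = (h : Equiv.Perm (Fin 5))
  rw [← hk₁, ← hk₂]
  group

/-- involutions of `⟨a, b⟩ ≅ A₅` are conjugate in `⟨a, b⟩` -/
theorem shape_conj {G : Type*} [Group G]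
    (a b : G) (ha : a ^ 3 = 1) (hb : b ^ 5 = 1) (hab : (a * b) ^ 2 = 1) (ha1 : a ≠ 1) :
    ∀ h₀ ∈ Subgroup.closure ({a, b} : Set G), h₀ ≠ 1 → h₀ ^ 2 = 1 →
      ∀ h ∈ Subgroup.closure ({a, b} : Set G), h ≠ 1 → h ^ 2 = 1 →
        ∃ k ∈ Subgroup.closure ({a, b} : Set G), k * h₀ * k⁻¹ = h := by
  obtain ⟨e⟩ := Cfsg.Agent.Lib.Helper14.closure_pair_equiv_alt5 a b ha hb hab ha1
  intro h₀ hh₀ h₀1 h₀2 h hh h1 h2
  have t1 : e ⟨h₀, hh₀⟩ ≠ 1 := by
    intro hc
    apply h₀1
    have : (⟨h₀, hh₀⟩ : Subgroup.closure ({a, b} : Set G)) = 1 := e.injective (by rw [hc, map_one])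
    exact congrArg Subtype.val this
  have t2 : (e ⟨h₀, hh₀⟩) ^ 2 = 1 := by
    rw [← map_pow]
    have : (⟨h₀, hh₀⟩ : Subgroup.closure ({a, b} : Set G)) ^ 2 = 1 := Subtype.ext (by simpa using h₀2)
    rw [this, map_one]
  have t3 : e ⟨h, hh⟩ ≠ 1 := by
    intro hc
    apply h1
    have : (⟨h, hh⟩ : Subgroup.closure ({a, b} : Set G)) = 1 := e.injective (by rw [hc, map_one])
    exact congrArg Subtype.val this
  have t4 : (e ⟨h, hh⟩) ^ 2 = 1 := by
    rw [← map_pow]
    have : (⟨h, hh⟩ : Subgroup.closure ({a, b} : Set G)) ^ 2 = 1 := Subtype.ext (by simpa using h2)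
    rw [this, map_one]
  obtain ⟨k, hk⟩ := alt5_invol_conj' _ _ t1 t2 t3 t4
  refine ⟨(e.symm k : Subgroup.closure ({a, b} : Set G)), (e.symm k).2, ?_⟩
  have : e.symm k * ⟨h₀, hh₀⟩ * (e.symm k)⁻¹ = ⟨h, hh⟩ := by
    apply e.injective
    rw [map_mul, map_mul, map_inv, MulEquiv.apply_symm_apply]
    exact hk
  have := congrArg Subtype.val this
  simpa using this

/-- The case where `t` is central in the Sylow subgroup `S`. -/
theorem isSimple_of_shape_Q_A5_aux' {G : Type*} [Group G] [Finite G]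
    (t : G) (ht : orderOf t = 2)
    (hC : Nat.card ↥(Subgroup.centralizer ({t} : Set G)) = 1920)
    (Q : Subgroup G) (hQ : Nat.card ↥Q = 32) (htQ : t ∈ Q)
    (hQt : ∀ q ∈ Q, q * t = t * q)
    (hZQ : ∀ x ∈ Q, (∀ q ∈ Q, x * q = q * x) → x = 1 ∨ x = t)
    (hQgen : ∀ q ∈ Q, q ∈ Subgroup.closure {x : G | x ∈ Q ∧ IsConj t x})
    (hfus : ∃ y ∈ Q, ∃ g : G, (g * y * g⁻¹) * t = t * (g * y * g⁻¹) ∧ g * y * g⁻¹ ∉ Q)
    (a b : G) (ha : a ^ 3 = 1) (hb : b ^ 5 = 1) (hab : (a * b) ^ 2 = 1) (ha1 : a ≠ 1)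
    (hat : a * t = t * a) (hbt : b * t = t * b)
    (hna : ∀ q ∈ Q, a * q * a⁻¹ ∈ Q) (hnb : ∀ q ∈ Q, b * q * b⁻¹ ∈ Q)
    (hact : ∃ q ∈ Q, a * q * a⁻¹ ≠ q)
    (S : Sylow 2 G) (htS : t ∈ (S : Subgroup G))
    (htZ : ∀ s ∈ (S : Subgroup G), s * t = t * s) :
    (Cfsg.groupFusionSystem (S : Subgroup G)).IsSimple 2 := by
  classical
  obtain ⟨hHcard, hHsimple, hH4, hHN, hHt, hdisj, hdecomp⟩ :=
    shape_facts t hC Q hQ hQt a b ha hb hab ha1 hat hbt hna hnb
  set H : Subgroup G := Subgroup.closure ({a, b} : Set G) with hHdef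
  have ht1 : t ≠ 1 := by
    intro h; rw [h, orderOf_one] at ht; omega
  have haH : a ∈ H := Subgroup.subset_closure (by simp)
  have hbH : b ∈ H := Subgroup.subset_closure (by simp)
  have hconjH : ∀ h ∈ H, ∀ q ∈ Q, h * q * h⁻¹ ∈ Q := by
    intro h hh q hq
    exact (Subgroup.mem_normalizer_iff.mp (hHN hh) q).mp hq
  -- (R1) the centraliser of `t` normalises `Q`
  have hCN : ∀ c : G, c * t = t * c → c ∈ Subgroup.normalizer (Q : Set G) := by
    intro c hc
    obtain ⟨q, hq, h, hh, rfl⟩ := hdecomp c hc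
    exact Subgroup.mul_mem _ (Subgroup.le_normalizer hq) (hHN hh)
  -- (R3) `Q` is self-centralising
  have hcent : ∀ g : G, (∀ r ∈ Q, g * r = r * g) → g ∈ Q := by
    -- the subgroup of elements acting on `Q` as inner automorphisms of `Q`
    let D : Subgroup G :=
      { carrier := {g | ∃ q ∈ Q, ∀ x ∈ Q, g * x * g⁻¹ = q * x * q⁻¹}
        one_mem' := ⟨1, Q.one_mem, fun x _ => by simp⟩
        mul_mem' := by
          rintro g₁ g₂ ⟨q₁, hq₁, h₁⟩ ⟨q₂, hq₂, h₂⟩
          refine ⟨q₁ * q₂, Q.mul_mem hq₁ hq₂, fun x hx => ?_⟩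
          have hx' : q₂ * x * q₂⁻¹ ∈ Q := Q.mul_mem (Q.mul_mem hq₂ hx) (Q.inv_mem hq₂)
          calc g₁ * g₂ * x * (g₁ * g₂)⁻¹ = g₁ * (g₂ * x * g₂⁻¹) * g₁⁻¹ := by group
            _ = g₁ * (q₂ * x * q₂⁻¹) * g₁⁻¹ := by rw [h₂ x hx]
            _ = q₁ * (q₂ * x * q₂⁻¹) * q₁⁻¹ := h₁ _ hx'
            _ = q₁ * q₂ * x * (q₁ * q₂)⁻¹ := by group
        inv_mem' := by
          rintro g ⟨q, hq, h⟩
          refine ⟨q⁻¹, Q.inv_mem hq, fun x hx => ?_⟩
          have hy : q⁻¹ * x * q ∈ Q := Q.mul_mem (Q.mul_mem (Q.inv_mem hq) hx) hq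
          have h1 := h _ hy
          have h2 : q * (q⁻¹ * x * q) * q⁻¹ = x := by group
          rw [h2] at h1
          calc g⁻¹ * x * g⁻¹⁻¹ = g⁻¹ * (g * (q⁻¹ * x * q) * g⁻¹) * g := by rw [h1]; group
            _ = q⁻¹ * x * q⁻¹⁻¹ := by group }
    have hDmem : ∀ g : G, g ∈ D ↔ ∃ q ∈ Q, ∀ x ∈ Q, g * x * g⁻¹ = q * x * q⁻¹ := fun g => Iff.rfl
    have hDn : (D.subgroupOf H).Normal := by
      constructor
      intro n hn k
      rw [Subgroup.mem_subgroupOf] at hn ⊢
      obtain ⟨q, hq, hqx⟩ := (hDmem _).mp hn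
      have hk : (k : G) ∈ H := k.2
      have hkq : (k : G) * q * (k : G)⁻¹ ∈ Q := hconjH _ hk q hq
      refine (hDmem _).mpr ⟨(k : G) * q * (k : G)⁻¹, hkq, fun x hx => ?_⟩
      have hy : (k : G)⁻¹ * x * (k : G) ∈ Q := by
        have := hconjH _ (H.inv_mem hk) x hx
        simpa using this
      have h1 := hqx _ hy
      show ((k : G) * (n : G) * (k : G)⁻¹) * x * ((k : G) * (n : G) * (k : G)⁻¹)⁻¹ = _
      calc ((k : G) * (n : G) * (k : G)⁻¹) * x * ((k : G) * (n : G) * (k : G)⁻¹)⁻¹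
          = (k : G) * ((n : G) * ((k : G)⁻¹ * x * (k : G)) * (n : G)⁻¹) * (k : G)⁻¹ := by group
        _ = (k : G) * (q * ((k : G)⁻¹ * x * (k : G)) * q⁻¹) * (k : G)⁻¹ := by rw [h1]
        _ = (k : G) * q * (k : G)⁻¹ * x * ((k : G) * q * (k : G)⁻¹)⁻¹ := by group
    rcases hHsimple.eq_bot_or_eq_top_of_normal _ hDn with hbot | htop
    · intro g hg
      have hgt : g * t = t * g := hg t htQ
      obtain ⟨q, hq, h, hh, rfl⟩ := hdecomp g hgt
      have hhD : h ∈ D := by
        refine (hDmem _).mpr ⟨q⁻¹, Q.inv_mem hq, fun x hx => ?_⟩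
        have h1 : q * h * x = x * (q * h) := hg x hx
        calc h * x * h⁻¹ = q⁻¹ * (q * h * x) * h⁻¹ := by group
          _ = q⁻¹ * (x * (q * h)) * h⁻¹ := by rw [h1]
          _ = q⁻¹ * x * q⁻¹⁻¹ := by group
      have : (⟨h, hh⟩ : H) ∈ D.subgroupOf H := by
        rw [Subgroup.mem_subgroupOf]; exact hhD
      rw [hbot, Subgroup.mem_bot] at this
      have h1 : h = 1 := congrArg Subtype.val this
      rw [h1, mul_one]; exact hq
    · exfalso
      have : (⟨a, haH⟩ : H) ∈ D.subgroupOf H := by rw [htop]; exact Subgroup.mem_top _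
      rw [Subgroup.mem_subgroupOf] at this
      obtain ⟨q, hq, hqx⟩ := (hDmem _).mp this
      -- `q ^ 3` is central in `Q`
      have hq3 : ∀ x ∈ Q, q ^ 3 * x = x * q ^ 3 := by
        intro x hx
        have hx1 : q * x * q⁻¹ ∈ Q := Q.mul_mem (Q.mul_mem hq hx) (Q.inv_mem hq)
        have hx2 : q * (q * x * q⁻¹) * q⁻¹ ∈ Q := Q.mul_mem (Q.mul_mem hq hx1) (Q.inv_mem hq)
        have e1 : a * (a * (a * x * a⁻¹) * a⁻¹) * a⁻¹ = q * (q * (q * x * q⁻¹) * q⁻¹) * q⁻¹ := by
          rw [hqx x hx, hqx _ hx1, hqx _ hx2]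
        have ha3 : a * a * a = 1 := by rw [← ha]; simp [pow_succ]
        have hq3' : q * q * q = q ^ 3 := by simp [pow_succ]
        have e2 : a * (a * (a * x * a⁻¹) * a⁻¹) * a⁻¹ = (a * a * a) * x * (a * a * a)⁻¹ := by
          group
        rw [e2, ha3, one_mul, inv_one, mul_one] at e1
        have e3 : q * (q * (q * x * q⁻¹) * q⁻¹) * q⁻¹ = (q * q * q) * x * (q * q * q)⁻¹ := by
          group
        rw [e3, hq3'] at e1
        calc q ^ 3 * x = (q ^ 3 * x * (q ^ 3)⁻¹) * q ^ 3 := by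
              rw [mul_assoc, inv_mul_cancel, mul_one]
          _ = x * q ^ 3 := by rw [← e1]
      have hq32 : q ^ 32 = 1 := by
        have h1 : (⟨q, hq⟩ : Q) ^ Nat.card Q = 1 := pow_card_eq_one'
        rw [hQ] at h1
        have := congrArg Subtype.val h1
        simpa using this
      have hq11 : q = (q ^ 3) ^ 11 := by
        rw [← pow_mul]
        have : q ^ (3 * 11) = q ^ 32 * q := by rw [← pow_succ]
        rw [this, hq32, one_mul]
      have hqc : ∀ x ∈ Q, q * x = x * q := by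
        intro x hx
        have hc : Commute (q ^ 3) x := hq3 x hx
        have := (hc.pow_left 11)
        rw [← hq11] at this
        exact this
      obtain ⟨x, hx, hax⟩ := hact
      apply hax
      rw [hqx x hx, hqc x hx]
      group
  -- (R4) `Q ≤ S`
  have hSt : ∀ s ∈ (S : Subgroup G), s ∈ Subgroup.normalizer (Q : Set G) :=
    fun s hs => hCN s (htZ s hs)
  have hQS : Q ≤ (S : Subgroup G) := by
    have hQ2 : IsPGroup 2 Q := IsPGroup.of_card (n := 5) (by rw [hQ]; norm_num)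
    have h1 : IsPGroup 2 (Q ⊔ (S : Subgroup G) : Subgroup G) :=
      IsPGroup.to_sup_of_normal_left' hQ2 S.isPGroup' (fun s hs => hSt s hs)
    have h2 := S.is_maximal' h1 le_sup_right
    rw [← h2]
    exact le_sup_left
  -- (R5) central elements of `S`
  have hZS : ∀ z ∈ (S : Subgroup G), (∀ s ∈ (S : Subgroup G), s * z = z * s) → z = 1 ∨ z = t := by
    intro z hz hzc
    have hzQ : z ∈ Q := hcent z (fun r hr => (hzc r (hQS hr)).symm)
    exact hZQ z hzQ (fun q hq => (hzc q (hQS hq)).symm)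
  -- (R6) `N_G(S) ≤ C_G(t)`
  have hNt : ∀ n ∈ Subgroup.normalizer (((S : Subgroup G)) : Set G), n * t = t * n := by
    intro n hn
    rw [Subgroup.mem_normalizer_iff] at hn
    have hz : n * t * n⁻¹ ∈ (S : Subgroup G) := (hn t).mp htS
    have hzc : ∀ s ∈ (S : Subgroup G), s * (n * t * n⁻¹) = (n * t * n⁻¹) * s := by
      intro s hs
      have hs' : n⁻¹ * s * n ∈ (S : Subgroup G) := by
        rw [hn]
        have : n * (n⁻¹ * s * n) * n⁻¹ = s := by group
        rw [this]; exact hs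
      have h1 := htZ _ hs'
      calc s * (n * t * n⁻¹) = n * ((n⁻¹ * s * n) * t) * n⁻¹ := by group
        _ = n * (t * (n⁻¹ * s * n)) * n⁻¹ := by rw [h1]
        _ = (n * t * n⁻¹) * s := by group
    rcases hZS _ hz hzc with h | h
    · exfalso
      apply ht1
      have : t = n⁻¹ * (n * t * n⁻¹) * n := by group
      rw [this, h]; group
    · calc n * t = (n * t * n⁻¹) * n := by group
        _ = t * n := by rw [h]
  -- (R7)
  set K : Subgroup G := Subgroup.closure {g : G | g ∈ Subgroup.normalizer (Q : Set G) ∧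
      ∃ k : ℕ, orderOf g = 2 ^ k} with hKdef
  have hQK : Q ≤ K := by
    intro q hq
    apply Subgroup.subset_closure
    refine ⟨Subgroup.le_normalizer hq, ?_⟩
    have hQ2 : IsPGroup 2 Q := IsPGroup.of_card (n := 5) (by rw [hQ]; norm_num)
    obtain ⟨k, hk⟩ := hQ2 ⟨q, hq⟩
    have h1 : q ^ 2 ^ k = 1 := by
      have := congrArg Subtype.val hk
      simpa using this
    obtain ⟨j, -, hj⟩ := (Nat.dvd_prime_pow Nat.prime_two).mp (orderOf_dvd_of_pow_eq_one h1)
    exact ⟨j, hj⟩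
  have hKconj : ∀ h ∈ Subgroup.normalizer (Q : Set G), ∀ k ∈ K, h * k * h⁻¹ ∈ K := by
    intro h hh k hk
    induction hk using Subgroup.closure_induction with
    | mem g hg =>
      obtain ⟨hgN, j, hj⟩ := hg
      apply Subgroup.subset_closure
      refine ⟨Subgroup.mul_mem _ (Subgroup.mul_mem _ hh hgN) (Subgroup.inv_mem _ hh), j, ?_⟩
      rw [← hj]
      have := (MulAut.conj h).orderOf_eq g
      simpa using this
    | one => simp
    | mul x y _ _ hx hy =>
      have : h * (x * y) * h⁻¹ = (h * x * h⁻¹) * (h * y * h⁻¹) := by group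
      rw [this]; exact K.mul_mem hx hy
    | inv x _ hx =>
      have : h * x⁻¹ * h⁻¹ = (h * x * h⁻¹)⁻¹ := by group
      rw [this]; exact K.inv_mem hx
  have hHK : H ≤ K := by
    have hn : (K.subgroupOf H).Normal := by
      constructor
      intro n hn g
      rw [Subgroup.mem_subgroupOf] at hn ⊢
      exact hKconj _ (hHN g.2) _ hn
    rcases hHsimple.eq_bot_or_eq_top_of_normal _ hn with h | h
    · exfalso
      have habH : a * b ∈ H := H.mul_mem haH hbH
      have hab1 : a * b ≠ 1 := by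
        intro h1
        have hb' : b = a⁻¹ := by
          calc b = a⁻¹ * (a * b) := by group
            _ = a⁻¹ := by rw [h1, mul_one]
        have hb3 : b ^ 3 = 1 := by rw [hb', inv_pow, ha, inv_one]
        have hb1 : b = 1 := by
          have h6 : b ^ 6 = 1 := by
            have : b ^ 6 = (b ^ 3) ^ 2 := by rw [← pow_mul]
            rw [this, hb3, one_pow]
          calc b = b ^ 6 * (b ^ 5)⁻¹ := by group
            _ = 1 := by rw [h6, hb, inv_one, mul_one]
        apply ha1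
        have : a = b⁻¹ := by rw [hb', inv_inv]
        rw [this, hb1, inv_one]
      have habK : a * b ∈ K := by
        apply Subgroup.subset_closure
        refine ⟨hHN habH, 1, ?_⟩
        rw [pow_one]
        exact orderOf_eq_prime hab hab1
      have : (⟨a * b, habH⟩ : H) ∈ K.subgroupOf H := by
        rw [Subgroup.mem_subgroupOf]; exact habK
      rw [h, Subgroup.mem_bot] at this
      exact hab1 (congrArg Subtype.val this)
    · rwa [Subgroup.subgroupOf_eq_top] at h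
  have hN : Subgroup.normalizer (((S : Subgroup G)) : Set G) ≤ K := by
    intro n hn
    obtain ⟨q, hq, h, hh, rfl⟩ := hdecomp n (hNt n hn)
    exact K.mul_mem (hQK hq) (hHK hh)
  -- (R8)
  have hS1 : (S : Subgroup G) ≠ ⊥ := by
    intro h
    rw [h, Subgroup.mem_bot] at htS
    exact ht1 htS
  have hSH4 : ∀ h ∈ (S : Subgroup G), h ∈ H → h ^ 2 = 1 := by
    intro h hS hH
    apply hH4 h hH
    have hp : IsPGroup 2 ((S : Subgroup G) ⊓ H : Subgroup G) := S.isPGroup'.to_le inf_le_left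
    obtain ⟨k, hk⟩ := IsPGroup.iff_card.mp hp
    have hd : Nat.card ((S : Subgroup G) ⊓ H : Subgroup G) ∣ 60 := by
      rw [← hHcard]; exact Subgroup.card_dvd_of_le inf_le_right
    have hk2 : k ≤ 2 := by
      by_contra hcon
      push Not at hcon
      have h8 : 2 ^ 3 ∣ 2 ^ k := pow_dvd_pow 2 hcon
      rw [← hk] at h8
      have := h8.trans hd
      norm_num at this
    have h4 : Nat.card ((S : Subgroup G) ⊓ H : Subgroup G) ∣ 4 := by
      rw [hk]
      exact pow_dvd_pow 2 hk2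
    have h1 : (⟨h, ⟨hS, hH⟩⟩ : ((S : Subgroup G) ⊓ H : Subgroup G)) ^
        Nat.card ((S : Subgroup G) ⊓ H : Subgroup G) = 1 := pow_card_eq_one'
    obtain ⟨c, hc⟩ := h4
    have h2 : (⟨h, ⟨hS, hH⟩⟩ : ((S : Subgroup G) ⊓ H : Subgroup G)) ^ 4 = 1 := by
      rw [hc, pow_mul, h1, one_pow]
    have := congrArg Subtype.val h2
    simpa using this
  have hHconj := shape_conj a b ha hb hab ha1
  -- the projection `C(t) → H` is multiplicative
  have hpowdecomp : ∀ (q₀ h₀ : G), q₀ ∈ Q → h₀ ∈ H → ∀ n : ℕ, ∃ q ∈ Q, (q₀ * h₀) ^ n = q * h₀ ^ n := by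
    intro q₀ h₀ hq₀ hh₀ n
    induction n with
    | zero => exact ⟨1, Q.one_mem, by simp⟩
    | succ n ih =>
      obtain ⟨q, hq, hqn⟩ := ih
      refine ⟨q * (h₀ ^ n * q₀ * (h₀ ^ n)⁻¹), Q.mul_mem hq (hconjH _ (H.pow_mem hh₀ n) q₀ hq₀), ?_⟩
      rw [pow_succ, hqn, pow_succ]
      group
  have ha' : ∀ T : Subgroup G, (Cfsg.groupFusionSystem (S : Subgroup G)).StronglyClosed T →
      T = ⊥ ∨ T = (S : Subgroup G) := by
    apply Cfsg.Agent.Lib.Helper98.FusionNoRadical.ha_of_central_conj 2 S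
      {x : G | x ∈ (S : Subgroup G) ∧ IsConj t x}
    · intro x hx; exact hx.1
    · intro T _ hfc hXT s hs
      have hQT : Q ≤ T := by
        intro q hq
        have h1 : Subgroup.closure {x : G | x ∈ Q ∧ IsConj t x} ≤ T := by
          rw [Subgroup.closure_le]
          intro x hx
          exact hXT ⟨hQS hx.1, hx.2⟩
        exact h1 (hQgen q hq)
      obtain ⟨q, hq, h, hh, rfl⟩ := hdecomp s (htZ s hs)
      have hhS : h ∈ (S : Subgroup G) := by
        have : h = q⁻¹ * (q * h) := by group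
        rw [this]
        exact (S : Subgroup G).mul_mem ((S : Subgroup G).inv_mem (hQS hq)) hs
      by_cases hh1 : h = 1
      · rw [hh1, mul_one]; exact hQT hq
      · have hh2 : h ^ 2 = 1 := hSH4 h hhS hh
        obtain ⟨y, hy, g, hzt, hzQ⟩ := hfus
        obtain ⟨q₀, hq₀, h₀, hh₀, hz⟩ := hdecomp (g * y * g⁻¹) hzt
        have hh₀1 : h₀ ≠ 1 := by
          intro h'
          apply hzQ
          rw [hz, h', mul_one]; exact hq₀
        have hy32 : y ^ 32 = 1 := by
          have h1 : (⟨y, hy⟩ : Q) ^ Nat.card Q = 1 := pow_card_eq_one'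
          rw [hQ] at h1
          have := congrArg Subtype.val h1
          simpa using this
        have hz32 : (g * y * g⁻¹) ^ 32 = 1 := by
          rw [conj_pow, hy32]; group
        have hh₀32 : h₀ ^ 32 = 1 := by
          obtain ⟨q', hq', hq'n⟩ := hpowdecomp q₀ h₀ hq₀ hh₀ 32
          rw [← hz, hz32] at hq'n
          have hmem : h₀ ^ 32 ∈ Q ⊓ H := by
            refine ⟨?_, H.pow_mem hh₀ 32⟩
            have : h₀ ^ 32 = q'⁻¹ := by
              calc h₀ ^ 32 = q'⁻¹ * (q' * h₀ ^ 32) := by group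
                _ = q'⁻¹ := by rw [← hq'n, mul_one]
            rw [SetLike.mem_coe, this]; exact Q.inv_mem hq'
          rw [hdisj, Subgroup.mem_bot] at hmem
          exact hmem
        have hh₀2 : h₀ ^ 2 = 1 := by
          have e16 : h₀ ^ 16 = 1 := by
            have := hH4 (h₀ ^ 8) (H.pow_mem hh₀ 8) (by rw [← pow_mul]; exact hh₀32)
            rwa [← pow_mul] at this
          have e8 : h₀ ^ 8 = 1 := by
            have := hH4 (h₀ ^ 4) (H.pow_mem hh₀ 4) (by rw [← pow_mul]; exact e16)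
            rwa [← pow_mul] at this
          have e4 : h₀ ^ 4 = 1 := by
            have := hH4 (h₀ ^ 2) (H.pow_mem hh₀ 2) (by rw [← pow_mul]; exact e8)
            rwa [← pow_mul] at this
          exact hH4 h₀ hh₀ e4
        obtain ⟨k, hk, hkh⟩ := hHconj h₀ hh₀ hh₀1 hh₀2 h hh hh1 hh2
        have hkz : k * (g * y * g⁻¹) * k⁻¹ = (k * q₀ * k⁻¹) * h := by
          rw [hz, ← hkh]; group
        have hkq : k * q₀ * k⁻¹ ∈ Q := hconjH k hk q₀ hq₀
        have hkzS : k * (g * y * g⁻¹) * k⁻¹ ∈ (S : Subgroup G) := by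
          rw [hkz]; exact (S : Subgroup G).mul_mem (hQS hkq) hhS
        have hkzT : k * (g * y * g⁻¹) * k⁻¹ ∈ T := by
          have e1 : k * (g * y * g⁻¹) * k⁻¹ = (k * g) * y * (k * g)⁻¹ := by group
          rw [e1] at hkzS ⊢
          exact hfc y (hQT hy) (k * g) hkzS
        have hhT : h ∈ T := by
          have : h = (k * q₀ * k⁻¹)⁻¹ * (k * (g * y * g⁻¹) * k⁻¹) := by rw [hkz]; group
          rw [this]; exact T.mul_mem (T.inv_mem (hQT hkq)) hkzT
        exact T.mul_mem (hQT hq) hhT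
    · intro z hz hzc hz2 x hx
      rcases hZS z hz hzc with h | h
      · exfalso; rw [h, orderOf_one] at hz2; omega
      · rw [h]; exact hx.2
  exact Cfsg.Agent.Lib.Helper98.FusionNoRadical.isSimple_of_normalizer_le 2 S hS1 ha' Q hQS
    (fun s hs => hSt s hs) (fun g hg => hcent g hg) hN


/-- MODULE (FUS-A2): 2-fusion system simple from the involution centraliser shape `2^{1+4}:A₅`,
without assuming a single class of involutions. -/
theorem isSimple_of_shape_Q_A5' {G : Type*} [Group G] [Finite G] (m : ℕ)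
    (hcard : Nat.card G = 128 * m) (hm : Odd m)
    (t : G) (ht : orderOf t = 2)
    (hC : Nat.card ↥(Subgroup.centralizer ({t} : Set G)) = 1920)
    (Q : Subgroup G) (hQ : Nat.card ↥Q = 32) (htQ : t ∈ Q)
    (hQt : ∀ q ∈ Q, q * t = t * q)
    (hZQ : ∀ x ∈ Q, (∀ q ∈ Q, x * q = q * x) → x = 1 ∨ x = t)
    (hQgen : ∀ q ∈ Q, q ∈ Subgroup.closure {x : G | x ∈ Q ∧ IsConj t x})
    (hfus : ∃ y ∈ Q, ∃ g : G, (g * y * g⁻¹) * t = t * (g * y * g⁻¹) ∧ g * y * g⁻¹ ∉ Q)
    (a b : G) (ha : a ^ 3 = 1) (hb : b ^ 5 = 1) (hab : (a * b) ^ 2 = 1) (ha1 : a ≠ 1)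
    (hat : a * t = t * a) (hbt : b * t = t * b)
    (hna : ∀ q ∈ Q, a * q * a⁻¹ ∈ Q) (hnb : ∀ q ∈ Q, b * q * b⁻¹ ∈ Q)
    (hact : ∃ q ∈ Q, a * q * a⁻¹ ≠ q)
    (S : Sylow 2 G) : (Cfsg.groupFusionSystem (S : Subgroup G)).IsSimple 2 := by
  classical
  have hmemC : ∀ (u g : G), g ∈ Subgroup.centralizer ({u} : Set G) ↔ g * u = u * g := by
    intro u g
    rw [Subgroup.mem_centralizer_iff]
    constructor
    · intro h; exact (h u rfl).symm
    · intro h x hx
      rw [Set.mem_singleton_iff] at hx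
      subst hx
      exact h.symm
  -- (0) a Sylow 2-subgroup of `G` inside `C(t)`
  obtain ⟨K, hK⟩ := Sylow.exists_subgroup_card_pow_prime (G := ↥(Subgroup.centralizer ({t} : Set G)))
    2 (n := 7) (by rw [hC]; norm_num)
  set S₀' : Subgroup G := K.map (Subgroup.centralizer ({t} : Set G)).subtype with hS₀'
  have hS₀card : Nat.card S₀' = 128 := by
    rw [hS₀', Subgroup.card_map_of_injective (Subgroup.subtype_injective _), hK]; norm_num
  have hS₀t : ∀ s ∈ S₀', s * t = t * s := by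
    rintro _ ⟨k, -, rfl⟩
    exact (hmemC t _).mp k.2
  have hS₀p : IsPGroup 2 S₀' := IsPGroup.of_card (n := 7) (by rw [hS₀card]; norm_num)
  have hS₀idx : ¬ 2 ∣ S₀'.index := by
    have h1 := S₀'.card_mul_index
    rw [hS₀card, hcard] at h1
    have h2 : S₀'.index = m := Nat.eq_of_mul_eq_mul_left (by norm_num) h1
    rw [h2]
    exact hm.not_two_dvd_nat
  set S₀ : Sylow 2 G := hS₀p.toSylow hS₀idx with hS₀
  have hS₀coe : (S₀ : Subgroup G) = S₀' := IsPGroup.toSylow_coe hS₀p hS₀idx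
  -- (1) `S` is conjugate to `S₀`
  obtain ⟨c, hc⟩ := MulAction.exists_smul_eq G S₀ S
  have hSmem : ∀ s ∈ (S : Subgroup G), ∃ s₀ ∈ S₀', c * s₀ * c⁻¹ = s := by
    intro s hs
    rw [← hc, Sylow.coe_subgroup_smul, Subgroup.mem_smul_pointwise_iff_exists] at hs
    obtain ⟨s₀, hs₀, rfl⟩ := hs
    rw [hS₀coe] at hs₀
    exact ⟨s₀, hs₀, rfl⟩
  -- transport the data along conjugation by `c`
  set φ : G ≃* G := MulAut.conj c with hφ
  have hφa : ∀ x : G, φ x = c * x * c⁻¹ := fun x => by rw [hφ, MulAut.conj_apply]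
  have hφinj : Function.Injective φ := φ.injective
  set Q' : Subgroup G := Q.map φ.toMonoidHom with hQ'
  have hmemQ' : ∀ x : G, x ∈ Q' ↔ ∃ q ∈ Q, φ q = x := by
    intro x
    rw [hQ', Subgroup.mem_map]
    rfl
  have hC' : Nat.card ↥(Subgroup.centralizer ({φ t} : Set G)) = 1920 := by
    rw [← hC]
    refine Nat.card_congr ⟨fun g => ⟨φ.symm g, ?_⟩, fun g => ⟨φ g, ?_⟩, ?_, ?_⟩
    · rw [hmemC]
      have h1 := (hmemC _ _).mp g.2
      apply hφinj
      rw [map_mul, map_mul, MulEquiv.apply_symm_apply]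
      exact h1
    · rw [hmemC]
      have h1 := (hmemC _ _).mp g.2
      rw [← map_mul, ← map_mul, h1]
    · intro g
      apply Subtype.ext
      simp
    · intro g
      apply Subtype.ext
      simp
  -- `φ t` is central in `S`
  have htZ' : ∀ s ∈ (S : Subgroup G), s * φ t = φ t * s := by
    intro s hs
    obtain ⟨s₀, hs₀, rfl⟩ := hSmem s hs
    rw [← hφa, ← map_mul, ← map_mul, hS₀t s₀ hs₀]
  -- hence it lies in `S`
  have htS' : φ t ∈ (S : Subgroup G) := by
    have h2 : IsPGroup 2 (Subgroup.zpowers (φ t)) := by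
      apply IsPGroup.of_card (n := 1)
      rw [Nat.card_zpowers, MulEquiv.orderOf_eq, ht, pow_one]
    have hnorm : (S : Subgroup G) ≤ Subgroup.normalizer (Subgroup.zpowers (φ t) : Set G) := by
      intro s hs
      rw [Subgroup.mem_normalizer_iff]
      intro x
      have hcomm : ∀ x ∈ Subgroup.zpowers (φ t), s * x * s⁻¹ = x := by
        intro x hx
        obtain ⟨k, rfl⟩ := Subgroup.mem_zpowers_iff.mp hx
        have hc' : Commute s (φ t) := htZ' s hs
        have := (hc'.zpow_right k).eq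
        rw [this, mul_assoc, mul_inv_cancel, mul_one]
      constructor
      · intro hx; rw [hcomm x hx]; exact hx
      · intro hx
        have h3 := hcomm _ hx
        have h4 : s * x * s⁻¹ = x := by
          have h5 : s⁻¹ * (s * x * s⁻¹) * s = x := by group
          have h6 : s⁻¹ * (s * (s * x * s⁻¹) * s⁻¹) * s = s * x * s⁻¹ := by group
          rw [h3] at h6
          rw [← h6]; exact h5
        rw [← h4]; exact hx
    have h1 : IsPGroup 2 (Subgroup.zpowers (φ t) ⊔ (S : Subgroup G) : Subgroup G) :=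
      IsPGroup.to_sup_of_normal_left' h2 S.isPGroup' hnorm
    have h3 := S.is_maximal' h1 le_sup_right
    have h4 : Subgroup.zpowers (φ t) ≤ (S : Subgroup G) := by
      rw [← h3]; exact le_sup_left
    exact h4 (Subgroup.mem_zpowers _)
  exact isSimple_of_shape_Q_A5_aux' (φ t) (by rw [MulEquiv.orderOf_eq]; exact ht) hC'
    Q' (by rw [hQ', Subgroup.card_map_of_injective hφinj]; exact hQ)
    ((hmemQ' _).mpr ⟨t, htQ, rfl⟩)
    (by
      intro q' hq'
      obtain ⟨q, hq, rfl⟩ := (hmemQ' _).mp hq'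
      rw [← map_mul, ← map_mul, hQt q hq])
    (by
      intro x' hx' hcen
      obtain ⟨x, hx, rfl⟩ := (hmemQ' _).mp hx'
      have h1 : ∀ q ∈ Q, x * q = q * x := by
        intro q hq
        apply hφinj
        rw [map_mul, map_mul]
        exact hcen (φ q) ((hmemQ' _).mpr ⟨q, hq, rfl⟩)
      rcases hZQ x hx h1 with h | h
      · left; rw [h, map_one]
      · right; rw [h])
    (by
      intro q' hq'
      obtain ⟨q, hq, rfl⟩ := (hmemQ' _).mp hq'
      have h1 : φ q ∈ (Subgroup.closure {x : G | x ∈ Q ∧ IsConj t x}).map φ.toMonoidHom :=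
        Subgroup.mem_map_of_mem _ (hQgen q hq)
      rw [MonoidHom.map_closure] at h1
      refine (Subgroup.closure_mono ?_) h1
      rintro _ ⟨x, ⟨hxQ, hxc⟩, rfl⟩
      refine ⟨(hmemQ' _).mpr ⟨x, hxQ, rfl⟩, ?_⟩
      obtain ⟨d, hd⟩ := isConj_iff.mp hxc
      refine isConj_iff.mpr ⟨φ d, ?_⟩
      show φ d * φ t * (φ d)⁻¹ = φ x
      rw [← map_inv, ← map_mul, ← map_mul, hd])
    (by
      obtain ⟨y, hy, g, hzt, hzQ⟩ := hfus
      refine ⟨φ y, (hmemQ' _).mpr ⟨y, hy, rfl⟩, φ g, ?_, ?_⟩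
      · rw [← map_inv, ← map_mul, ← map_mul, ← map_mul, ← map_mul, hzt]
      · intro hmem
        obtain ⟨q, hq, hqe⟩ := (hmemQ' _).mp hmem
        rw [← map_inv, ← map_mul, ← map_mul] at hqe
        apply hzQ
        rw [← hφinj hqe]; exact hq)
    (φ a) (φ b) (by rw [← map_pow, ha, map_one]) (by rw [← map_pow, hb, map_one])
    (by rw [← map_mul, ← map_pow, hab, map_one])
    (by intro h; apply ha1; apply hφinj; rw [h, map_one])
    (by rw [← map_mul, ← map_mul, hat]) (by rw [← map_mul, ← map_mul, hbt])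
    (by
      intro q' hq'
      obtain ⟨q, hq, rfl⟩ := (hmemQ' _).mp hq'
      refine (hmemQ' _).mpr ⟨a * q * a⁻¹, hna q hq, ?_⟩
      rw [map_mul, map_mul, map_inv])
    (by
      intro q' hq'
      obtain ⟨q, hq, rfl⟩ := (hmemQ' _).mp hq'
      refine (hmemQ' _).mpr ⟨b * q * b⁻¹, hnb q hq, ?_⟩
      rw [map_mul, map_mul, map_inv])
    (by
      obtain ⟨q, hq, hne⟩ := hact
      refine ⟨φ q, (hmemQ' _).mpr ⟨q, hq, rfl⟩, ?_⟩
      intro h
      apply hne
      apply hφinj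
      rw [map_mul, map_mul, map_inv]
      exact h)
    S htS' htZ'

end Cfsg.Agent.Lib.Helper73.FusShape
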