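import Mathlib

/-!
# Helper73: two non-commuting transvections of an elementary abelian `p`-group (`p` odd) generate `-1`

`exists_neg_one_linear`: linear-algebra form over `ZMod p`.
`exists_minus_one`: for a commutative group `A` of exponent `p` and `t t' : MulAut A` with `t v ∈ v⟨z⟩`,
`t' v ∈ v⟨z'⟩`, `t z = z`, `t' z' = z'`, `t z' ≠ z'`, `t' z ≠ z`, some `β = (t * t' ^ j * t) ^ 2` inverts `z`
and commutes with `t`.
-/

set_option autoImplicit false

namespace Cfsg.Agent.Lib.Helper73

section Linear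

variable {V : Type*} [AddCommGroup V] {p : ℕ} [Fact p.Prime] [Module (ZMod p) V]

theorem transvection_pow_apply (T' : V →ₗ[ZMod p] V) (Z' : V) (f' : V →ₗ[ZMod p] ZMod p)
    (hT' : ∀ v, T' v = v + f' v • Z') (hf'Z' : f' Z' = 0) (j : ℕ) (v : V) :
    (T' ^ j) v = v + ((j : ZMod p) * f' v) • Z' := by
  induction j with
  | zero => simp
  | succ j ih =>
    rw [pow_succ', Module.End.mul_apply, ih, hT']
    simp only [map_add, map_smul, hf'Z', smul_eq_mul, mul_zero, add_zero, Nat.cast_succ]
    module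

theorem exists_neg_one_linear (T T' : V →ₗ[ZMod p] V) (Z Z' : V)
    (f f' : V →ₗ[ZMod p] ZMod p)
    (hT : ∀ v, T v = v + f v • Z) (hT' : ∀ v, T' v = v + f' v • Z')
    (hfZ : f Z = 0) (hf'Z' : f' Z' = 0) (ha : f Z' ≠ 0) (hb : f' Z ≠ 0) :
    ∃ j : ℕ, ((T * T' ^ j * T) ^ 2) Z = -Z ∧ ((T * T' ^ j * T) ^ 2) Z' = -Z' ∧
      ∀ v, ((T * T' ^ j * T) ^ 2) (T v) = T (((T * T' ^ j * T) ^ 2) v) := by
  obtain ⟨a, ha'⟩ : ∃ a, a = f Z' := ⟨_, rfl⟩
  obtain ⟨b, hb'⟩ : ∃ b, b = f' Z := ⟨_, rfl⟩
  rw [← ha'] at ha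
  rw [← hb'] at hb
  -- choose `j` with `j * a * b = -1`
  obtain ⟨j, hj⟩ : ∃ j : ℕ, (j : ZMod p) * a * b = -1 := by
    refine ⟨(-(a * b)⁻¹ : ZMod p).val, ?_⟩
    rw [ZMod.natCast_val, ZMod.cast_id', id]
    field_simp
  refine ⟨j, ?_⟩
  have hW : ∀ v, (T * T' ^ j * T) v =
      v + (f v + (j : ZMod p) * a * f' v) • Z + ((j : ZMod p) * f' v + (j : ZMod p) * b * f v) • Z' := by
    intro v
    rw [Module.End.mul_apply, Module.End.mul_apply, hT v, transvection_pow_apply T' Z' f' hT' hf'Z', hT]
    simp only [map_add, map_smul, hfZ, ← ha', ← hb', smul_eq_mul, mul_zero, add_zero]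
    have hc : (f v + ((j : ZMod p) * (f' v + f v * b)) * a) = (j : ZMod p) * a * f' v := by
      linear_combination (f v) * hj
    rw [hc]
    module
  have hB : ∀ v, ((T * T' ^ j * T) ^ 2) v =
      v + (2 * (j : ZMod p) * a * f' v) • Z + (2 * (j : ZMod p) * b * f v) • Z' := by
    intro v
    rw [pow_two, Module.End.mul_apply, hW v, hW]
    simp only [map_add, map_smul, hfZ, hf'Z', ← ha', ← hb', smul_eq_mul, mul_zero, add_zero]
    have hZ : (f v + (j : ZMod p) * a * f' v) + (f v + ((j : ZMod p) * f' v + (j : ZMod p) * b * f v) * a +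
        (j : ZMod p) * a * (f' v + (f v + (j : ZMod p) * a * f' v) * b)) = 2 * (j : ZMod p) * a * f' v := by
      linear_combination (2 * f v + (j : ZMod p) * a * f' v) * hj
    have hZ' : ((j : ZMod p) * f' v + (j : ZMod p) * b * f v) +
        ((j : ZMod p) * (f' v + (f v + (j : ZMod p) * a * f' v) * b) +
          (j : ZMod p) * b * (f v + ((j : ZMod p) * f' v + (j : ZMod p) * b * f v) * a)) =
        2 * (j : ZMod p) * b * f v := by
      linear_combination (2 * (j : ZMod p) * f' v + (j : ZMod p) * b * f v) * hj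
    rw [← hZ, ← hZ']
    module
  have h2 : 2 * (j : ZMod p) * a * b = -2 := by linear_combination 2 * hj
  refine ⟨?_, ?_, ?_⟩
  · rw [hB Z, hfZ, ← hb', h2]
    module
  · rw [hB Z', hf'Z', ← ha']
    have h3 : 2 * (j : ZMod p) * b * a = -2 := by linear_combination 2 * hj
    rw [h3]
    module
  · intro v
    rw [hB (T v), hB v, hT v, hT]
    simp only [map_add, map_smul, hfZ, hf'Z', ← ha', ← hb', smul_eq_mul, mul_zero, add_zero]
    module

end Linear

section Mul

variable {A : Type*} [CommGroup A] {p : ℕ} [Fact p.Prime]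

/-- The action of `MulAut A` on `Additive A` by `ZMod p`-linear maps. -/
def toEndZMod [Module (ZMod p) (Additive A)] : MulAut A →* Module.End (ZMod p) (Additive A) where
  toFun t := (MonoidHom.toAdditive t.toMonoidHom).toZModLinearMap p
  map_one' := by ext; rfl
  map_mul' := by intros; ext; rfl

theorem toEndZMod_apply [Module (ZMod p) (Additive A)] (t : MulAut A) (v : Additive A) :
    toEndZMod (p := p) t v = Additive.ofMul (t (Additive.toMul v)) := rfl

theorem exists_minus_one_aux [Module (ZMod p) (Additive A)]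
    (t t' : MulAut A) (z z' : A)
    (ht : ∀ v, ∃ k : ℕ, t v = v * z ^ k) (ht' : ∀ v, ∃ k : ℕ, t' v = v * z' ^ k)
    (htz : t z = z) (ht'z' : t' z' = z') (ha : t z' ≠ z') (hb : t' z ≠ z) :
    ∃ j : ℕ, ((t * t' ^ j * t) ^ 2) z = z⁻¹ ∧ ((t * t' ^ j * t) ^ 2) z' = z'⁻¹ ∧
      (t * t' ^ j * t) ^ 2 * t = t * (t * t' ^ j * t) ^ 2 := by
  classical
  -- generic construction of the functional
  have key : ∀ (s : MulAut A) (c : A), c ≠ 1 → (∀ v, ∃ k : ℕ, s v = v * c ^ k) →
      ∃ g : Additive A →ₗ[ZMod p] ZMod p, ∀ v : Additive A,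
        toEndZMod (p := p) s v = v + g v • Additive.ofMul c := by
    intro s c hc hs
    have hc0 : Additive.ofMul c ≠ 0 := fun h => hc (by simpa using h)
    have hex : ∀ v : Additive A, ∃ x : ZMod p, toEndZMod (p := p) s v = v + x • Additive.ofMul c := by
      intro v
      obtain ⟨k, hk⟩ := hs (Additive.toMul v)
      refine ⟨(k : ZMod p), ?_⟩
      rw [toEndZMod_apply, hk, Nat.cast_smul_eq_nsmul]
      rfl
    have huniq : ∀ x y : ZMod p, x • Additive.ofMul c = y • Additive.ofMul c → x = y := by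
      intro x y hxy
      have h1 : (x - y) • Additive.ofMul c = 0 := by rw [sub_smul, hxy, sub_self]
      rcases smul_eq_zero.1 h1 with h | h
      · exact sub_eq_zero.1 h
      · exact absurd h hc0
    choose g hg using hex
    refine ⟨{ toFun := g, map_add' := ?_, map_smul' := ?_ }, hg⟩
    · intro v w
      apply huniq
      have h1 := hg (v + w)
      rw [map_add, hg v, hg w] at h1
      have h2 : (g v + g w) • Additive.ofMul c = g (v + w) • Additive.ofMul c := by
        have : v + g v • Additive.ofMul c + (w + g w • Additive.ofMul c) =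
            (v + w) + (g v + g w) • Additive.ofMul c := by module
        rw [this] at h1
        exact add_left_cancel h1
      exact h2.symm
    · intro r v
      apply huniq
      have h1 := hg (r • v)
      rw [map_smul, hg v] at h1
      have h2 : (r * g v) • Additive.ofMul c = g (r • v) • Additive.ofMul c := by
        have : r • (v + g v • Additive.ofMul c) = r • v + (r * g v) • Additive.ofMul c := by module
        rw [this] at h1
        exact add_left_cancel h1
      simp only [RingHom.id_apply, smul_eq_mul]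
      exact h2.symm
  have hz1 : z ≠ 1 := by
    intro h
    apply hb
    rw [h, map_one]
  have hz'1 : z' ≠ 1 := by
    intro h
    apply ha
    rw [h, map_one]
  obtain ⟨f, hf⟩ := key t z hz1 ht
  obtain ⟨f', hf'⟩ := key t' z' hz'1 ht'
  have huniq : ∀ (c : A), c ≠ 1 → ∀ x : ZMod p, x • Additive.ofMul c = 0 → x = 0 := by
    intro c hc x hx
    rcases smul_eq_zero.1 hx with h | h
    · exact h
    · exact absurd (by simpa using h) hc
  have hfZ : f (Additive.ofMul z) = 0 := by
    apply huniq z hz1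
    have h1 := hf (Additive.ofMul z)
    rw [toEndZMod_apply] at h1
    have h2 : Additive.ofMul (t (Additive.toMul (Additive.ofMul z))) = Additive.ofMul z := by
      rw [toMul_ofMul, htz]
    rw [h2] at h1
    exact (add_eq_left.1 h1.symm)
  have hf'Z' : f' (Additive.ofMul z') = 0 := by
    apply huniq z' hz'1
    have h1 := hf' (Additive.ofMul z')
    rw [toEndZMod_apply] at h1
    have h2 : Additive.ofMul (t' (Additive.toMul (Additive.ofMul z'))) = Additive.ofMul z' := by
      rw [toMul_ofMul, ht'z']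
    rw [h2] at h1
    exact (add_eq_left.1 h1.symm)
  have ha' : f (Additive.ofMul z') ≠ 0 := by
    intro h
    apply ha
    have h1 := hf (Additive.ofMul z')
    rw [h, zero_smul, add_zero, toEndZMod_apply, toMul_ofMul] at h1
    exact Additive.ofMul.injective h1
  have hb' : f' (Additive.ofMul z) ≠ 0 := by
    intro h
    apply hb
    have h1 := hf' (Additive.ofMul z)
    rw [h, zero_smul, add_zero, toEndZMod_apply, toMul_ofMul] at h1
    exact Additive.ofMul.injective h1
  obtain ⟨j, hj1, hj1', hj2⟩ := exists_neg_one_linear (toEndZMod (p := p) t) (toEndZMod (p := p) t')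
    (Additive.ofMul z) (Additive.ofMul z') f f' hf hf' hfZ hf'Z' ha' hb'
  refine ⟨j, ?_, ?_, ?_⟩
  · have h1 : toEndZMod (p := p) ((t * t' ^ j * t) ^ 2) (Additive.ofMul z) = -Additive.ofMul z := by
      rw [map_pow, map_mul, map_mul, map_pow]
      exact hj1
    rw [toEndZMod_apply, toMul_ofMul] at h1
    exact Additive.ofMul.injective h1
  · have h1 : toEndZMod (p := p) ((t * t' ^ j * t) ^ 2) (Additive.ofMul z') = -Additive.ofMul z' := by
      rw [map_pow, map_mul, map_mul, map_pow]
      exact hj1'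
    rw [toEndZMod_apply, toMul_ofMul] at h1
    exact Additive.ofMul.injective h1
  · ext v
    have h1 := hj2 (Additive.ofMul v)
    have h2 : toEndZMod (p := p) ((t * t' ^ j * t) ^ 2) (toEndZMod (p := p) t (Additive.ofMul v)) =
        toEndZMod (p := p) t (toEndZMod (p := p) ((t * t' ^ j * t) ^ 2) (Additive.ofMul v)) := by
      rw [map_pow, map_mul, map_mul, map_pow]
      exact h1
    simp only [toEndZMod_apply, toMul_ofMul] at h2
    exact Additive.ofMul.injective h2

theorem exists_minus_one (hexp : ∀ a : A, a ^ p = 1)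
    (t t' : MulAut A) (z z' : A)
    (ht : ∀ v, ∃ k : ℕ, t v = v * z ^ k) (ht' : ∀ v, ∃ k : ℕ, t' v = v * z' ^ k)
    (htz : t z = z) (ht'z' : t' z' = z') (ha : t z' ≠ z') (hb : t' z ≠ z) :
    ∃ j : ℕ, ((t * t' ^ j * t) ^ 2) z = z⁻¹ ∧ ((t * t' ^ j * t) ^ 2) z' = z'⁻¹ ∧
      (t * t' ^ j * t) ^ 2 * t = t * (t * t' ^ j * t) ^ 2 :=
  @exists_minus_one_aux A _ p _ (AddCommGroup.zmodModule (by
    intro x
    show Additive.ofMul ((Additive.toMul x) ^ p) = 0
    rw [hexp]; rfl)) t t' z z' ht ht' htz ht'z' ha hb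

end Mul

end Cfsg.Agent.Lib.Helper73
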