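import Cfsg.Agent.Lib.Helper87.FusionFrattini
import Cfsg.Agent.Lib.Helper87.FusionFully
import Cfsg.Agent.Lib.Helper73.MinusOne

/-!
# Helper73: producing an `F`-automorphism inverting a central element of an elementary abelian subgroup

* `isFullyNormalized_of_conj_mem`: an `S`-invariant subgroup of `S` is fully normalized.
* `isFullyCentralized_of_central`: a subgroup of `Z(S)` is fully centralized.
* `exists_aut_of_hom`: a map of the system that maps a finite subgroup `D` of its source into `D` restricts to an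
  element of `Aut_F(D)`.
* `exists_aut_inverting`: if `y ∈ N_S(D)` acts on the elementary abelian `D` as a transvection with centre `⟨z⟩` and some
  `α ∈ Aut_F(D)` moves `⟨z⟩` suitably, then some `β ∈ Aut_F(D)` inverts `z` and `α⁻¹ z` and commutes with `c_y`.
-/

set_option autoImplicit false

namespace Cfsg.Agent.Lib.Helper73

open Cfsg Cfsg.FusionSystem Cfsg.Agent.Lib.Helper87

variable {Ω : Type*} [Group Ω] {S : Subgroup Ω}

theorem isFullyNormalized_of_conj_mem (F : FusionSystem S) [Finite S] {D : Subgroup Ω} (hD : D ≤ S)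
    (hDn : ∀ g ∈ S, ∀ x ∈ D, g * x * g⁻¹ ∈ D) : F.IsFullyNormalized D := by
  refine ⟨hD, fun Q _ => ?_⟩
  have h1 : normalizerIn S D = S := le_antisymm inf_le_left (le_normalizerIn_of_conj_mem hDn)
  rw [h1]
  exact Subgroup.card_le_of_le (normalizerIn_le S Q)

theorem isFullyCentralized_of_central (F : FusionSystem S) [Finite S] {Z : Subgroup Ω} (hZ : Z ≤ S)
    (hc : ∀ g ∈ S, ∀ x ∈ Z, g * x = x * g) : F.IsFullyCentralized Z := by
  refine ⟨hZ, fun Q _ => ?_⟩
  have h1 : centralizerIn S Z = S := by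
    apply le_antisymm inf_le_left
    intro g hg
    refine ⟨hg, ?_⟩
    show g ∈ Subgroup.centralizer (Z : Set Ω)
    rw [Subgroup.mem_centralizer_iff]
    intro x hx
    exact (hc g hg x hx).symm
  rw [h1]
  exact Subgroup.card_le_of_le inf_le_left

/-- A map of the system mapping the finite subgroup `D` of its source into `D` induces an element of `Aut_F(D)`. -/
theorem exists_aut_of_hom (F : FusionSystem S) {X D : Subgroup Ω} [Finite D] {ψ : X →* Ω} (hψ : ψ ∈ F.Hom X)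
    (hDX : D ≤ X) (hmap : ∀ d : D, ψ ⟨d, hDX d.2⟩ ∈ D) :
    ∃ α ∈ F.autGroup D, ∀ d : D, ((α d : D) : Ω) = ψ ⟨d, hDX d.2⟩ := by
  have hDS : D ≤ S := hDX.trans (hom_le F hψ)
  let f : D →* D := (ψ.comp (Subgroup.inclusion hDX)).codRestrict D (fun d => hmap d)
  have hinj : Function.Injective f := by
    intro a b hab
    have h1 : ψ ⟨a, hDX a.2⟩ = ψ ⟨b, hDX b.2⟩ := congrArg Subtype.val hab
    have h2 := F.injective_of_mem hψ h1
    exact Subtype.ext (congrArg (fun x : X => (x : Ω)) h2)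
  have hbij : Function.Bijective f := Finite.injective_iff_bijective.1 hinj
  let α : MulAut D := MulEquiv.ofBijective f hbij
  refine ⟨α, ?_, fun d => rfl⟩
  rw [mem_autGroup_iff F hDS]
  exact restrict_mem' F hψ hDX (fun x => rfl)

theorem exists_aut_inverting (F : FusionSystem S) {p : ℕ} [Fact p.Prime] {D : Subgroup Ω} (hD : D ≤ S)
    (hDc : ∀ x ∈ D, ∀ y ∈ D, x * y = y * x) (hDexp : ∀ x ∈ D, x ^ p = 1)
    (y : Ω) (hy : y ∈ normalizerIn S D) (z : D)
    (hyz : ∀ d : D, ∃ k : ℕ, y * (d : Ω) * y⁻¹ = d * (z : Ω) ^ k) (hyz' : y * (z : Ω) * y⁻¹ = z)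
    (α : MulAut D) (hα : α ∈ F.autGroup D) (z' : D) (hαz' : α z' = z)
    (ha : y * (z' : Ω) * y⁻¹ ≠ z') (hb : y * ((α z : D) : Ω) * y⁻¹ ≠ (α z : D)) :
    ∃ β ∈ F.autGroup D, β z = z⁻¹ ∧ β z' = z'⁻¹ ∧ β * conjAut D y hy.2 = conjAut D y hy.2 * β := by
  letI : CommGroup D :=
    { (inferInstance : Group D) with mul_comm := fun a b => Subtype.ext (hDc a a.2 b b.2) }
  obtain ⟨t, ht⟩ : ∃ t, t = conjAut D y hy.2 := ⟨_, rfl⟩
  have ht_mem : t ∈ F.autGroup D := by
    rw [ht]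
    exact autInducedBy_le_autGroup F hD (mem_autInducedBy_iff.2 ⟨y, hy.1, fun x => rfl⟩)
  have htapp : ∀ v : D, ((t v : D) : Ω) = y * (v : Ω) * y⁻¹ := by
    intro v; rw [ht]; rfl
  obtain ⟨t', ht'⟩ : ∃ t', t' = α⁻¹ * t * α := ⟨_, rfl⟩
  have hαinv : α⁻¹ z = z' := by
    rw [← hαz']; exact MulAut.inv_apply_self _ _ _
  have h1 : ∀ a : D, a ^ p = 1 := fun a => Subtype.ext (by rw [Subgroup.coe_pow, hDexp a a.2]; rfl)
  have h2 : ∀ v : D, ∃ k : ℕ, t v = v * z ^ k := by
    intro v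
    obtain ⟨k, hk⟩ := hyz v
    exact ⟨k, Subtype.ext (by rw [htapp, hk]; rfl)⟩
  have h3 : ∀ v : D, ∃ k : ℕ, t' v = v * z' ^ k := by
    intro v
    obtain ⟨k, hk⟩ := h2 (α v)
    refine ⟨k, ?_⟩
    rw [ht', MulAut.mul_apply, MulAut.mul_apply, hk, map_mul, map_pow, MulAut.inv_apply_self, hαinv]
  have h4 : t z = z := Subtype.ext (by rw [htapp, hyz'])
  have h5 : t' z' = z' := by
    rw [ht', MulAut.mul_apply, MulAut.mul_apply, hαz', h4, hαinv]
  have h6 : t z' ≠ z' := by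
    intro h
    apply ha
    rw [← htapp, h]
  have h7 : t' z ≠ z := by
    intro h
    apply hb
    rw [ht', MulAut.mul_apply, MulAut.mul_apply] at h
    have h8 : t (α z) = α z := by
      have := congrArg α h
      rwa [MulAut.apply_inv_self] at this
    rw [← htapp, h8]
  obtain ⟨j, hj1, hj2, hj3⟩ := exists_minus_one (A := D) (p := p) h1 t t' z z' h2 h3 h4 h5 h6 h7
  refine ⟨(t * t' ^ j * t) ^ 2, ?_, hj1, hj2, ?_⟩
  · have ht'_mem : t' ∈ F.autGroup D := by
      rw [ht']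
      exact Subgroup.mul_mem _ (Subgroup.mul_mem _ (Subgroup.inv_mem _ hα) ht_mem) hα
    exact Subgroup.pow_mem _ (Subgroup.mul_mem _ (Subgroup.mul_mem _ ht_mem (Subgroup.pow_mem _ ht'_mem j)) ht_mem) 2
  · rw [← ht]
    exact hj3

end Cfsg.Agent.Lib.Helper73
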