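import Mathlib
import Cfsg.Agent.Lib.Helper86.EssChain2

/-!
# Helper73: an involutory automorphism of `C_{2ⁿ} × C_{2ⁿ}` acting nontrivially on the Frattini
quotient swaps a basis

* `exists_nat_pow_of_zpow`: reduce an integer exponent modulo a period.
* `swap_basis`: for a finite abelian group `G` of order `2ⁿ · 2ⁿ`, exponent dividing `2ⁿ`, with
  `|G : Φ(G)| = 4`, an automorphism `α` with `α² = 1` and `a⁻¹ α(a) ∉ Φ(G)`:
  `(i, j) ↦ aⁱ α(a)ʲ` is a bijection `Fin 2ⁿ × Fin 2ⁿ → G`.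
-/

set_option autoImplicit false

namespace Cfsg.Agent.Lib.Helper73

open Cfsg

theorem exists_nat_pow_of_zpow {G : Type*} [Group G] (a : G) (N : ℕ) (hN : 0 < N)
    (ha : a ^ N = 1) (m : ℤ) : ∃ i : ℕ, i < N ∧ a ^ m = a ^ i := by
  have h1 : 0 ≤ m % (N : ℤ) := Int.emod_nonneg _ (by exact_mod_cast hN.ne')
  have h2 : m % (N : ℤ) < N := Int.emod_lt_of_pos _ (by exact_mod_cast hN)
  refine ⟨(m % (N : ℤ)).toNat, by omega, ?_⟩
  rw [← zpow_natCast, Int.toNat_of_nonneg h1]
  exact zpow_eq_zpow_emod m (by rw [zpow_natCast]; exact ha)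

theorem swap_basis {G : Type*} [CommGroup G] [Finite G] (n : ℕ)
    (hcard : Nat.card G = 2 ^ n * 2 ^ n) (hexp : ∀ x : G, x ^ (2 ^ n) = 1)
    (hidx : (frattini G).index = 4) (α : MulAut G) (hα2 : ∀ x, α (α x) = x) (a : G)
    (ha : a⁻¹ * α a ∉ frattini G) :
    Function.Bijective
      (fun ij : Fin (2 ^ n) × Fin (2 ^ n) => a ^ (ij.1 : ℕ) * (α a) ^ (ij.2 : ℕ)) := by
  classical
  have : Fact (Nat.Prime 2) := ⟨Nat.prime_two⟩
  set b := α a with hb
  set Φ := frattini G with hΦ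
  have haΦ : a ∉ Φ := by
    intro h
    exact ha (Φ.mul_mem (Φ.inv_mem h) (Helper86.frattini_apply_mem α a h))
  have hbΦ : b ∉ Φ := by
    intro h
    apply haΦ
    have := Helper86.frattini_apply_mem α b h
    rwa [hb, hα2] at this
  -- generation
  have hgen : Subgroup.closure ({a, b} : Set G) = ⊤ := by
    apply frattini_nongenerating
    set M := Subgroup.zpowers a ⊔ Φ with hM
    have haM : a ∈ M := Subgroup.mem_sup_left (Subgroup.mem_zpowers a)
    have hΦM : Φ ≤ M := le_sup_right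
    have hMle : M ≤ Subgroup.closure ({a, b} : Set G) ⊔ Φ := by
      apply sup_le_sup_right
      rw [Subgroup.zpowers_le]
      exact Subgroup.subset_closure (by simp)
    by_cases hMtop : M = ⊤
    · rw [eq_top_iff, ← hMtop]; exact hMle
    · have hMΦ : ¬ M ≤ Φ := fun h => haΦ (h haM)
      obtain ⟨hMi, hrel⟩ := Helper86.index_of_between (p := 2) (by rw [hidx]; norm_num) M hΦM hMΦ hMtop
      have hbM : b ∉ M := by
        intro hbM
        have h2 : (Φ.subgroupOf M).index = 2 := hrel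
        have h3 := Subgroup.mul_mem_iff_of_index_two h2 (a := (⟨a⁻¹, M.inv_mem haM⟩ : M))
          (b := (⟨b, hbM⟩ : M))
        rw [Subgroup.mem_subgroupOf, Subgroup.mem_subgroupOf, Subgroup.mem_subgroupOf] at h3
        have h4 : a⁻¹ * b ∈ Φ := h3.2 ⟨fun h => absurd (by simpa using Φ.inv_mem h) haΦ,
          fun h => absurd h hbΦ⟩
        exact ha h4
      have htop : Subgroup.zpowers b ⊔ M = ⊤ :=
        Helper86.eq_top_of_index_prime (p := 2) M _ le_sup_right hMi b
          (Subgroup.mem_sup_left (Subgroup.mem_zpowers b)) hbM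
      rw [eq_top_iff, ← htop]
      apply sup_le
      · refine le_trans ?_ le_sup_left
        rw [Subgroup.zpowers_le]
        exact Subgroup.subset_closure (by simp)
      · exact hMle
  have hpos : 0 < 2 ^ n := by positivity
  have hsurj : Function.Surjective
      (fun ij : Fin (2 ^ n) × Fin (2 ^ n) => a ^ (ij.1 : ℕ) * b ^ (ij.2 : ℕ)) := by
    intro x
    have hx : x ∈ Subgroup.closure ({a, b} : Set G) := by rw [hgen]; trivial
    obtain ⟨m, k, hmk⟩ := Subgroup.mem_closure_pair.1 hx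
    obtain ⟨i, hi, hai⟩ := exists_nat_pow_of_zpow a (2 ^ n) hpos (hexp a) m
    obtain ⟨j, hj, hbj⟩ := exists_nat_pow_of_zpow b (2 ^ n) hpos (hexp b) k
    refine ⟨(⟨i, hi⟩, ⟨j, hj⟩), ?_⟩
    show a ^ i * b ^ j = x
    rw [← hai, ← hbj, hmk]
  refine (Nat.bijective_iff_surjective_and_card _).2 ⟨hsurj, ?_⟩
  rw [hcard, Nat.card_prod, Nat.card_eq_fintype_card, Fintype.card_fin]

end Cfsg.Agent.Lib.Helper73
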