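/-
helper73: INV2F4-[RANK] (project S2184 of helper18).  The involutions `z₀ = x₂₈(1) x₃₀(1)` and `t₀ = x₃₃(1) x₂₄(1)` of
`F₄(K)`, `char K = 2`, are not conjugate in `GL₅₂(K)`: `rank (z₀ + 1) ≤ 23 < 24 ≤ rank (t₀ + 1)`.
-/
import Cfsg.Agent.Lib.Helper18.TitsU2
import Cfsg.Agent.Lib.Helper69.ChevMap

set_option autoImplicit false

namespace Cfsg.Agent.Lib.Helper73.Inv2F4

open Cfsg.Lie Cfsg.Agent.Lib.Helper18 Cfsg.Agent.Lib.Helper18.F4T Cfsg.Agent.Lib.Helper91.ReeF4
open Cfsg.Agent.Lib.Helper91.SigAbs Cfsg.Agent.Lib.Helper91.ExcAut Cfsg.Agent.Lib.Helper61.ReeF4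
open Cfsg.Agent.Lib.Helper18.Tits

universe u

/-! ### Columns of the words over `ZMod 2` -/

theorem rk_shift_lt (i : chevF4.Idx) : Nat.shiftLeft 1 (idxNat i) < 2 ^ 52 := by
  have e : Nat.shiftLeft 1 (idxNat i) = 2 ^ idxNat i := Nat.one_shiftLeft _
  rw [e]
  exact Nat.pow_lt_pow_right (by norm_num) (idxNat_lt i)

/-- The column `i` of the word `W l`, packed. -/
theorem rk_W_col (l : List ℕ) (hl : ∀ r ∈ l, r ∈ Tits.posList) (i j : chevF4.Idx) :
    (W l : Matrix chevF4.Idx chevF4.Idx (ZMod 2)) j i = unpack (appW l (Nat.shiftLeft 1 (idxNat i))) j := by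
  have h := (appW_sem l hl _ (rk_shift_lt i)).1
  rw [unpack_two_pow] at h
  unfold act at h
  rw [Matrix.mulVec_single_one] at h
  exact congrFun h j

theorem rk_unpack_shift (i j : chevF4.Idx) :
    unpack (Nat.shiftLeft 1 (idxNat i)) j = (1 : Matrix chevF4.Idx chevF4.Idx (ZMod 2)) j i := by
  rw [unpack_two_pow, Matrix.one_apply, Pi.single_apply]

/-- The matrix over `ZMod 2` with the packed columns `cs`. -/
def rkOfCols (cs : List ℕ) : Matrix chevF4.Idx chevF4.Idx (ZMod 2) :=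
  fun r i => unpack (cs.getD (idxNat i) 0) r

/-- The column `i` of `rkOfCols cs * (W l + 1)`, packed. -/
theorem rk_mul_col (cs : List ℕ) (hlen : cs.length = 52) (l : List ℕ) (hl : ∀ r ∈ l, r ∈ Tits.posList)
    (i j : chevF4.Idx) :
    (rkOfCols cs * ((W l : Matrix chevF4.Idx chevF4.Idx (ZMod 2)) + 1)) j i
      = unpack (appCols cs (appW l (Nat.shiftLeft 1 (idxNat i)) ^^^ Nat.shiftLeft 1 (idxNat i))) j := by
  have h := (appW_sem l hl _ (rk_shift_lt i)).1
  unfold act at h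
  have h2 : (rkOfCols cs * ((W l : Matrix chevF4.Idx chevF4.Idx (ZMod 2)) + 1)).mulVec
      (unpack (Nat.shiftLeft 1 (idxNat i)))
      = unpack (appCols cs (appW l (Nat.shiftLeft 1 (idxNat i)) ^^^ Nat.shiftLeft 1 (idxNat i))) := by
    rw [← Matrix.mulVec_mulVec, Matrix.add_mulVec, Matrix.one_mulVec, h, ← unpack_xor]
    exact mulVec_unpack (rkOfCols cs) cs hlen (fun _ _ => rfl) _
  rw [unpack_two_pow, Matrix.mulVec_single_one] at h2
  exact congrFun h2 j

/-! ### The data -/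

/-- The word of `z₀`. -/
def rkLz : List ℕ := [28, 30]

/-- The word of `t₀`. -/
def rkLt : List ℕ := [33, 24]

/-- The non-zero columns of `z₀ + 1`. -/
def rkS : List ℕ := [0, 2, 3, 5, 6, 11, 12, 14, 16, 19, 20, 21, 23, 24, 26, 28, 30, 37, 38, 40, 42, 46, 47]

/-- `24` independent columns of `t₀ + 1`. -/
def rkJ : List ℕ := [1, 2, 4, 7, 8, 9, 10, 13, 15, 16, 17, 18, 25, 27, 29, 31, 32, 33, 34, 35, 36, 41, 44, 50]

/-- The left inverse on these columns. -/
def rkCX : List ℕ := [262146, 0, 0, 134217732, 0, 16, 0, 0, 0, 0, 1536, 128, 256, 0, 8192, 0, 98304, 0, 0, 0, 0, 9216, 0,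
  65536, 131072, 0, 33554432, 0, 4, 0, 536870912, 0, 0, 12884901888, 0, 51539607552, 0, 2, 2147483648, 0, 8589934592, 0,
  2199023255552, 68719476736, 0, 0, 2233382993920, 0, 17592186044416, 0, 0, 1125899906842624]

theorem rkLz_pos : ∀ r ∈ rkLz, r ∈ Tits.posList := by decide

theorem rkLt_pos : ∀ r ∈ rkLt, r ∈ Tits.posList := by decide

theorem rk_chk_z : (List.range 52).all (fun k => rkS.contains k ||
    (appW rkLz (Nat.shiftLeft 1 k) == Nat.shiftLeft 1 k)) = true := by decide +kernel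

theorem rk_chk_t : (List.range 52).all (fun k => !rkJ.contains k ||
    (appCols rkCX (appW rkLt (Nat.shiftLeft 1 k) ^^^ Nat.shiftLeft 1 k) == Nat.shiftLeft 1 k)) = true := by
  decide +kernel

theorem rk_z_col (i j : chevF4.Idx) (hi : idxNat i ∉ rkS) :
    (W rkLz : Matrix chevF4.Idx chevF4.Idx (ZMod 2)) j i = (1 : Matrix chevF4.Idx chevF4.Idx (ZMod 2)) j i := by
  have h := List.all_eq_true.mp rk_chk_z (idxNat i) (List.mem_range.mpr (idxNat_lt i))
  rw [Bool.or_eq_true] at h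
  rcases h with h | h
  · exact absurd (List.contains_iff_mem.mp h) hi
  · rw [rk_W_col rkLz rkLz_pos, eq_of_beq h, rk_unpack_shift]

theorem rk_t_col (i j : chevF4.Idx) (hi : idxNat i ∈ rkJ) :
    (rkOfCols rkCX * ((W rkLt : Matrix chevF4.Idx chevF4.Idx (ZMod 2)) + 1)) j i
      = (1 : Matrix chevF4.Idx chevF4.Idx (ZMod 2)) j i := by
  have h := List.all_eq_true.mp rk_chk_t (idxNat i) (List.mem_range.mpr (idxNat_lt i))
  rw [Bool.or_eq_true] at h
  rcases h with h | h
  · rw [Bool.not_eq_true', ← Bool.not_eq_true] at h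
    exact absurd (List.contains_iff_mem.mpr hi) h
  · rw [rk_mul_col rkCX rfl rkLt rkLt_pos, eq_of_beq h, rk_unpack_shift]

/-! ### Transport to `K` -/

section Field

variable {K : Type u} [Field K] [CharP K 2]

theorem rk_coe_word (a b : ℕ) :
    ((xG hD4 a (1 : K) * xG hD4 b 1 : GL chevF4.Idx K) : Matrix chevF4.Idx chevF4.Idx K)
      = (W [a, b] : Matrix chevF4.Idx chevF4.Idx (ZMod 2)).map (ZMod.castHom (dvd_refl 2) K) := by
  rw [W_cons, W_cons, W_nil, mul_one, Units.val_mul, Units.val_mul, coe_xG, coe_xG, coe_xG, coe_xG, Matrix.map_mul,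
    Cfsg.Agent.Lib.Helper69.ChevMap.x_map, Cfsg.Agent.Lib.Helper69.ChevMap.x_map, map_one]

theorem rk_map_one (j i : chevF4.Idx) :
    (ZMod.castHom (dvd_refl 2) K) ((1 : Matrix chevF4.Idx chevF4.Idx (ZMod 2)) j i)
      = (1 : Matrix chevF4.Idx chevF4.Idx K) j i := by
  rw [Matrix.one_apply, Matrix.one_apply]
  split_ifs
  · exact map_one _
  · exact map_zero _

/-- The indicator of a list of positions. -/
def rkInd (K : Type u) [Field K] (l : List ℕ) : chevF4.Idx → K := fun i => if idxNat i ∈ l then 1 else 0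

omit [CharP K 2] in
theorem rk_card_ind [DecidableEq K] (l : List ℕ) :
    Fintype.card {i : chevF4.Idx // rkInd K l i ≠ 0} = Fintype.card {i : chevF4.Idx // idxNat i ∈ l} := by
  apply Fintype.card_congr
  apply Equiv.subtypeEquivRight
  intro i
  unfold rkInd
  split_ifs with h
  · simp [h]
  · simp [h]

theorem rk_card_S : Fintype.card {i : chevF4.Idx // idxNat i ∈ rkS} = 23 := by decide +kernel

theorem rk_card_J : Fintype.card {i : chevF4.Idx // idxNat i ∈ rkJ} = 24 := by decide +kernel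

/-- `rank (z₀ + 1) ≤ 23`. -/
theorem rk_rank_z :
    (((xG hD4 28 (1 : K) * xG hD4 30 1 : GL chevF4.Idx K) : Matrix chevF4.Idx chevF4.Idx K) + 1).rank ≤ 23 := by
  classical
  set A : Matrix chevF4.Idx chevF4.Idx K :=
    ((xG hD4 28 (1 : K) * xG hD4 30 1 : GL chevF4.Idx K) : Matrix chevF4.Idx chevF4.Idx K) + 1 with hA
  have hcol : ∀ j i : chevF4.Idx, idxNat i ∉ rkS → A j i = 0 := by
    intro j i hi
    rw [hA, rk_coe_word, Matrix.add_apply, Matrix.map_apply]
    have e : (W [28, 30] : Matrix chevF4.Idx chevF4.Idx (ZMod 2)) j i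
        = (1 : Matrix chevF4.Idx chevF4.Idx (ZMod 2)) j i := rk_z_col i j hi
    rw [e, rk_map_one]
    exact CharTwo.add_self_eq_zero _
  have hAD : A = A * Matrix.diagonal (rkInd K rkS) := by
    ext j i
    rw [Matrix.mul_diagonal]
    unfold rkInd
    split_ifs with h
    · rw [mul_one]
    · rw [hcol j i h, zero_mul]
  rw [hAD]
  refine (Matrix.rank_mul_le_right _ _).trans ?_
  rw [Matrix.rank_diagonal, rk_card_ind, rk_card_S]

/-- `24 ≤ rank (t₀ + 1)`. -/
theorem rk_rank_t :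
    24 ≤ (((xG hD4 33 (1 : K) * xG hD4 24 1 : GL chevF4.Idx K) : Matrix chevF4.Idx chevF4.Idx K) + 1).rank := by
  classical
  set B : Matrix chevF4.Idx chevF4.Idx K :=
    ((xG hD4 33 (1 : K) * xG hD4 24 1 : GL chevF4.Idx K) : Matrix chevF4.Idx chevF4.Idx K) + 1 with hB
  set X : Matrix chevF4.Idx chevF4.Idx K := (rkOfCols rkCX).map (ZMod.castHom (dvd_refl 2) K) with hX
  have hXB : X * B = (rkOfCols rkCX * ((W rkLt : Matrix chevF4.Idx chevF4.Idx (ZMod 2)) + 1)).map
      (ZMod.castHom (dvd_refl 2) K) := by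
    rw [Matrix.map_mul, Matrix.map_add _ (map_add _), Matrix.map_one _ (map_zero _) (map_one _), hB, rk_coe_word]
    rfl
  have hcol : ∀ j i : chevF4.Idx, idxNat i ∈ rkJ → (X * B) j i = (1 : Matrix chevF4.Idx chevF4.Idx K) j i := by
    intro j i hi
    rw [hXB, Matrix.map_apply, rk_t_col i j hi, rk_map_one]
  have hD : X * B * Matrix.diagonal (rkInd K rkJ) = Matrix.diagonal (rkInd K rkJ) := by
    ext j i
    rw [Matrix.mul_diagonal, Matrix.diagonal_apply]
    unfold rkInd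
    by_cases h : idxNat i ∈ rkJ
    · rw [hcol j i h, if_pos h, mul_one, Matrix.one_apply]
      by_cases hji : j = i
      · subst hji
        rw [if_pos rfl, if_pos rfl, if_pos h]
      · rw [if_neg hji, if_neg hji]
    · rw [if_neg h, mul_zero]
      by_cases hji : j = i
      · subst hji
        rw [if_pos rfl, if_neg h]
      · rw [if_neg hji]
  have h24 : (Matrix.diagonal (rkInd K rkJ)).rank = 24 := by
    rw [Matrix.rank_diagonal, rk_card_ind, rk_card_J]
  calc 24 = (X * B * Matrix.diagonal (rkInd K rkJ)).rank := by rw [hD, h24]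
    _ ≤ (X * B).rank := Matrix.rank_mul_le_left _ _
    _ ≤ B.rank := Matrix.rank_mul_le_right _ _

end Field

/-- INV2F4-[RANK] : the involutions `z₀ = x₂₈(1) x₃₀(1)` and `t₀ = x₃₃(1) x₂₄(1)` of `F₄(K)`, char K = 2, are not
conjugate in `GL₅₂(K)`. -/
theorem rank_sep {K : Type u} [Field K] [CharP K 2] (g : GL chevF4.Idx K) :
    g * (xG hD4 28 1 * xG hD4 30 1) * g⁻¹ ≠ xG hD4 33 1 * xG hD4 24 1 := by
  intro hg
  have hm : (g : Matrix chevF4.Idx chevF4.Idx K)
      * ((xG hD4 28 (1 : K) * xG hD4 30 1 : GL chevF4.Idx K) : Matrix chevF4.Idx chevF4.Idx K)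
      * ((g⁻¹ : GL chevF4.Idx K) : Matrix chevF4.Idx chevF4.Idx K)
      = ((xG hD4 33 (1 : K) * xG hD4 24 1 : GL chevF4.Idx K) : Matrix chevF4.Idx chevF4.Idx K) := by
    simpa only [Units.val_mul] using congrArg Units.val hg
  have hgg : (g : Matrix chevF4.Idx chevF4.Idx K) * ((g⁻¹ : GL chevF4.Idx K) : Matrix chevF4.Idx chevF4.Idx K) = 1 := by
    rw [← Units.val_mul, mul_inv_cancel, Units.val_one]
  have hB : ((xG hD4 33 (1 : K) * xG hD4 24 1 : GL chevF4.Idx K) : Matrix chevF4.Idx chevF4.Idx K) + 1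
      = (g : Matrix chevF4.Idx chevF4.Idx K)
        * (((xG hD4 28 (1 : K) * xG hD4 30 1 : GL chevF4.Idx K) : Matrix chevF4.Idx chevF4.Idx K) + 1)
        * ((g⁻¹ : GL chevF4.Idx K) : Matrix chevF4.Idx chevF4.Idx K) := by
    rw [mul_add, add_mul, mul_one, hgg, hm]
  have h1 := rk_rank_t (K := K)
  have h2 := rk_rank_z (K := K)
  rw [hB] at h1
  have h3 := (Matrix.rank_mul_le_left _ _).trans (Matrix.rank_mul_le_right _ _) |>.trans h2 |> le_trans h1
  omega

end Cfsg.Agent.Lib.Helper73.Inv2F4
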