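/-
helper73: INV2F4-[TITS] (project S2184 of helper18).  The Tits group has two classes of involutions, given the two facts
about `²F₄(2)` (`hall` : every involution of `²F₄(2)` is conjugate to `z₀` or `t₀`; `hne` : `z₀`, `t₀` are not conjugate).
-/
import Cfsg.Agent.Lib.Helper18.Inv2F4.Fuse
import Cfsg.Agent.Lib.Helper18.TitsU5

set_option autoImplicit false

namespace Cfsg.Agent.Lib.Helper73.Inv2F4

open Cfsg.Lie Cfsg.Agent.Lib.Helper18 Cfsg.Agent.Lib.Helper18.F4T Cfsg.Agent.Lib.Helper91.ReeF4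
open Cfsg.Agent.Lib.Helper91.SigAbs Cfsg.Agent.Lib.Helper91.ExcAut Cfsg.Agent.Lib.Helper61.ReeF4
open Cfsg.Agent.Lib.Helper18.Tits Cfsg.Agent.Lib.Helper18.Inv2F4

/-! ### Word identities over `ZMod 2` -/

set_option maxRecDepth 100000 in
theorem th_chk_zz : wordEqChk chevF4 2 ([28, 30, 28, 30].map cw1) ([].map cw1) = true := by decide +kernel

set_option maxRecDepth 100000 in
theorem th_chk_tt : wordEqChk chevF4 2 ([33, 24, 33, 24].map cw1) ([].map cw1) = true := by decide +kernel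

set_option maxRecDepth 100000 in
theorem th_chk_cz : wordEqChk chevF4 2 ([27, 25, 28, 28, 30].map cw1) ([28, 30, 27, 25, 28].map cw1) = true := by
  decide +kernel

set_option maxRecDepth 100000 in
theorem th_chk_ct : wordEqChk chevF4 2 ([34, 26, 36, 33, 24].map cw1) ([33, 24, 34, 26, 36].map cw1) = true := by
  decide +kernel

theorem th_zz : W [28, 30] * W [28, 30] = 1 := by
  rw [← W_append, ← W_nil]
  exact W_eq_of_chk _ _ th_chk_zz

theorem th_tt : W [33, 24] * W [33, 24] = 1 := by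
  rw [← W_append, ← W_nil]
  exact W_eq_of_chk _ _ th_chk_tt

theorem th_cz : W [27, 25, 28] * W [28, 30] = W [28, 30] * W [27, 25, 28] := by
  rw [← W_append, ← W_append]
  exact W_eq_of_chk _ _ th_chk_cz

theorem th_ct : W [34, 26, 36] * W [33, 24] = W [33, 24] * W [34, 26, 36] := by
  rw [← W_append, ← W_append]
  exact W_eq_of_chk _ _ th_chk_ct

theorem th_W_pair (a b : ℕ) : W [a, b] = xG hD4 a (1 : ZMod 2) * xG hD4 b 1 := by
  rw [W_cons, W_cons, W_nil, mul_one]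

/-! ### The words are not the identity -/

theorem th_shift_lt (i : chevF4.Idx) : Nat.shiftLeft 1 (idxNat i) < 2 ^ 52 := by
  have e : Nat.shiftLeft 1 (idxNat i) = 2 ^ idxNat i := Nat.one_shiftLeft _
  rw [e]
  exact Nat.pow_lt_pow_right (by norm_num) (idxNat_lt i)

theorem th_W_ne_one (l : List ℕ) (hl : ∀ r ∈ l, r ∈ Tits.posList) (i : chevF4.Idx)
    (h : appW l (Nat.shiftLeft 1 (idxNat i)) ≠ Nat.shiftLeft 1 (idxNat i)) : W l ≠ 1 := by
  intro e
  obtain ⟨h1, h2⟩ := appW_sem l hl _ (th_shift_lt i)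
  rw [e, act_one] at h1
  exact h (unpack_injective _ _ h2 (th_shift_lt i) h1.symm)

theorem th_z_ne : W [28, 30] ≠ 1 := by
  apply th_W_ne_one [28, 30] (by decide) (Sum.inl ⟨0, by decide⟩)
  show appW [28, 30] (Nat.shiftLeft 1 0) ≠ Nat.shiftLeft 1 0
  decide +kernel

theorem th_t_ne : W [33, 24] ≠ 1 := by
  apply th_W_ne_one [33, 24] (by decide) (Sum.inl ⟨1, by decide⟩)
  show appW [33, 24] (Nat.shiftLeft 1 1) ≠ Nat.shiftLeft 1 1
  decide +kernel

/-! ### The elements of `²F₄(2)` and of the Tits group -/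

theorem th_z_mem : W [28, 30] ∈ G2 := mem_blk01 27 25 28 30 (by decide)

theorem th_t_mem : W [33, 24] ∈ G2 := mem_pair 33 24 (by decide)

theorem th_c_mem : W [34, 26, 36] ∈ G2 := mem_blk10 34 26 36 42 (by decide)

theorem th_mem_comm (x : GL chevF4.Idx (ZMod 2)) (hx : x ∈ G2) (h : x ∈ F4T.commImage G2) :
    (⟨x, hx⟩ : ↥G2) ∈ commutator ↥G2 := by
  obtain ⟨y, hy, hyx⟩ := h
  have : y = ⟨x, hx⟩ := Subtype.ext hyx
  rw [← this]
  exact hy

theorem th_c_not_mem : (⟨W [34, 26, 36], th_c_mem⟩ : ↥G2) ∉ commutator ↥G2 := by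
  intro h
  have h1 := hasType_of_mem_commutator _ h
  have h2 : HasType (W [34, 26, 36]) true := hasType_blkQ 34 26 36 42 (by decide) true false
  have h3 : true = false := type_unique _ _ _ h2 h1
  exact absurd h3 (by decide)

theorem th_orderOf_two {G : Type*} [Group G] (x : G) (h1 : x * x = 1) (h2 : x ≠ 1) : orderOf x = 2 := by
  have : Fact (Nat.Prime 2) := ⟨Nat.prime_two⟩
  exact orderOf_eq_prime (by rw [pow_two, h1]) h2

theorem th_of_orderOf_two {G : Type*} [Group G] (x : G) (h : orderOf x = 2) : x * x = 1 ∧ x ≠ 1 := by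
  constructor
  · have h0 := pow_orderOf_eq_one x
    rw [h, pow_two] at h0
    exact h0
  · intro e
    rw [e, orderOf_one] at h
    omega

/-- The abstract form: two classes of involutions in the derived subgroup `T` of index two of `H ≤ G`. -/
theorem th_abstract {G : Type*} [Group G] (H : Subgroup G) (hidx : (commutator ↥H).index = 2)
    (z t cz ct : G) (hz : z ∈ H) (ht : t ∈ H) (hcz : cz ∈ H) (hct : ct ∈ H)
    (hzT : (⟨z, hz⟩ : ↥H) ∈ commutator ↥H) (htT : (⟨t, ht⟩ : ↥H) ∈ commutator ↥H)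
    (hczT : (⟨cz, hcz⟩ : ↥H) ∉ commutator ↥H) (hctT : (⟨ct, hct⟩ : ↥H) ∉ commutator ↥H)
    (hzz : z * z = 1) (htt : t * t = 1) (hz1 : z ≠ 1) (ht1 : t ≠ 1)
    (hcomz : cz * z = z * cz) (hcomt : ct * t = t * ct)
    (hall : ∀ x : G, x ∈ H → x * x = 1 → x ≠ 1 → ∃ g ∈ H, g * x * g⁻¹ = z ∨ g * x * g⁻¹ = t)
    (hne : ∀ g : G, g * z * g⁻¹ ≠ t) :
    (ConjClasses.mk '' {g : ↥(commutator ↥H) | orderOf g = 2}).ncard = 2 := by
  have hzo : orderOf (⟨⟨z, hz⟩, hzT⟩ : ↥(commutator ↥H)) = 2 := by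
    apply th_orderOf_two
    · exact Subtype.ext (Subtype.ext hzz)
    · intro e
      exact hz1 (congrArg (fun x : ↥(commutator ↥H) => ((x : ↥H) : G)) e)
  have hto : orderOf (⟨⟨t, ht⟩, htT⟩ : ↥(commutator ↥H)) = 2 := by
    apply th_orderOf_two
    · exact Subtype.ext (Subtype.ext htt)
    · intro e
      exact ht1 (congrArg (fun x : ↥(commutator ↥H) => ((x : ↥H) : G)) e)
  apply ncard_involution_classes_eq_two (⟨⟨z, hz⟩, hzT⟩ : ↥(commutator ↥H)) ⟨⟨t, ht⟩, htT⟩ hzo hto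
  · -- not conjugate
    intro hc
    obtain ⟨c, hc⟩ := isConj_iff.mp hc
    apply hne ((c : ↥H) : G)
    exact congrArg (fun x : ↥(commutator ↥H) => ((x : ↥H) : G)) hc
  · -- every involution
    intro x hx
    obtain ⟨hxx, hx1⟩ := th_of_orderOf_two x hx
    have hxx' : ((x : ↥H) : G) * ((x : ↥H) : G) = 1 :=
      congrArg (fun y : ↥(commutator ↥H) => ((y : ↥H) : G)) hxx
    have hx1' : ((x : ↥H) : G) ≠ 1 := by
      intro e
      exact hx1 (Subtype.ext (Subtype.ext e))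
    obtain ⟨g, hg, h⟩ := hall _ (x : ↥H).2 hxx' hx1'
    rcases h with h | h
    · left
      have hconj : IsConj ((⟨⟨z, hz⟩, hzT⟩ : ↥(commutator ↥H)) : ↥H) (x : ↥H) := by
        apply IsConj.symm
        exact isConj_iff.mpr ⟨⟨g, hg⟩, Subtype.ext h⟩
      have hcomm : (⟨cz, hcz⟩ : ↥H) * ((⟨⟨z, hz⟩, hzT⟩ : ↥(commutator ↥H)) : ↥H)
          = ((⟨⟨z, hz⟩, hzT⟩ : ↥(commutator ↥H)) : ↥H) * ⟨cz, hcz⟩ := Subtype.ext hcomz
      exact (isConj_subgroup_of_index_two (commutator ↥H) hidx ⟨⟨z, hz⟩, hzT⟩ x ⟨cz, hcz⟩ hczT hcomm hconj).symm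
    · right
      have hconj : IsConj ((⟨⟨t, ht⟩, htT⟩ : ↥(commutator ↥H)) : ↥H) (x : ↥H) := by
        apply IsConj.symm
        exact isConj_iff.mpr ⟨⟨g, hg⟩, Subtype.ext h⟩
      have hcomm : (⟨ct, hct⟩ : ↥H) * ((⟨⟨t, ht⟩, htT⟩ : ↥(commutator ↥H)) : ↥H)
          = ((⟨⟨t, ht⟩, htT⟩ : ↥(commutator ↥H)) : ↥H) * ⟨ct, hct⟩ := Subtype.ext hcomt
      exact (isConj_subgroup_of_index_two (commutator ↥H) hidx ⟨⟨t, ht⟩, htT⟩ x ⟨ct, hct⟩ hctT hcomm hconj).symm

theorem th_q_mem : W [27, 25, 28] ∈ G2 := Q10_mem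

/-- INV2F4-[TITS] : the Tits group has two classes of involutions, given the two facts about `²F₄(2)`. -/
theorem tits_half
    (hall : ∀ x : GL chevF4.Idx (ZMod 2), x ∈ twistedF4 (ZMod 2) (2 ^ 0) → x * x = 1 → x ≠ 1 →
      ∃ g ∈ twistedF4 (ZMod 2) (2 ^ 0), g * x * g⁻¹ = xG hD4 28 1 * xG hD4 30 1 ∨
        g * x * g⁻¹ = xG hD4 33 1 * xG hD4 24 1)
    (hne : ∀ g : GL chevF4.Idx (ZMod 2), g * (xG hD4 28 1 * xG hD4 30 1) * g⁻¹ ≠ xG hD4 33 1 * xG hD4 24 1) :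
    (ConjClasses.mk '' {g : Cfsg.Lie.TitsGroup | orderOf g = 2}).ncard = 2 := by
  have e20 : (2 : ℕ) ^ 0 = 1 := pow_zero 2
  rw [e20] at hall
  rw [← th_W_pair, ← th_W_pair] at hall
  have hne' : ∀ g : GL chevF4.Idx (ZMod 2), g * W [28, 30] * g⁻¹ ≠ W [33, 24] := by
    intro g
    rw [th_W_pair, th_W_pair]
    exact hne g
  exact th_abstract G2 index_eq_two (W [28, 30]) (W [33, 24]) (W [27, 25, 28]) (W [34, 26, 36])
    th_z_mem th_t_mem th_q_mem th_c_mem (th_mem_comm _ _ Q01_mem_comm) (th_mem_comm _ _ P_mem_comm)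
    qG_not_mem th_c_not_mem th_zz th_tt th_z_ne th_t_ne th_cz th_ct hall hne'

end Cfsg.Agent.Lib.Helper73.Inv2F4
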