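/-
helper73: a finite `p`-group (`p` odd) with an automorphism inverting every element of order dividing `p`
is abelian.
-/
import Cfsg.Agent.Lib.Helper87.FusionOmega
import Mathlib.GroupTheory.FixedPointFree

set_option autoImplicit false

namespace Cfsg.Agent.Lib.Helper73

theorem aut_odd_pow_inverts {G : Type*} [Group G] (γ : MulAut G) (x : G) (h : γ x = x⁻¹) (i : ℕ) :
    (γ ^ (2 * i + 1)) x = x⁻¹ := by
  have h2 : (γ ^ 2) x = x := by
    rw [pow_two, MulAut.mul_apply, h, map_inv, h, inv_inv]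
  have h3 : ∀ i : ℕ, ((γ ^ 2) ^ i) x = x := by
    intro i
    induction i with
    | zero => simp
    | succ i ih => rw [pow_succ, MulAut.mul_apply, h2, ih]
  rw [pow_succ, pow_mul, MulAut.mul_apply, h, map_inv, h3]

theorem commute_of_aut_inverting_omega {G : Type*} [Group G] [Finite G] {p : ℕ} [Fact p.Prime]
    (hp : p ≠ 2) (hG : IsPGroup p G) (γ : MulAut G) (h : ∀ x : G, x ^ p = 1 → γ x = x⁻¹)
    (a b : G) : a * b = b * a := by
  classical
  have hpp : p.Prime := Fact.out
  have hodd : Odd p := hpp.odd_of_ne_two hp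
  have : Finite (MulAut G) := by
    apply Finite.of_injective (fun f : MulAut G => (f : G → G))
    intro f g hfg
    exact DFunLike.coe_injective hfg
  have hn0 : orderOf γ ≠ 0 := (orderOf_pos γ).ne'
  obtain ⟨k, m, hm, hnm⟩ := Nat.exists_eq_pow_mul_and_not_dvd hn0 p hpp.ne_one
  -- γ' := γ ^ (p ^ k) has order `m`, prime to `p`
  set γ' : MulAut G := γ ^ (p ^ k) with hγ'
  have hord : orderOf γ' = m := by
    rw [hγ', orderOf_pow' γ (pow_ne_zero k hpp.ne_zero), hnm, Nat.gcd_eq_right (dvd_mul_right _ _),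
      Nat.mul_div_cancel_left _ (pow_pos hpp.pos k)]
  have hcop : Nat.Coprime m p := (Nat.Coprime.symm ((Nat.Prime.coprime_iff_not_dvd hpp).2 hm))
  have hinv' : ∀ x : G, x ^ p = 1 → γ' x = x⁻¹ := by
    intro x hx
    obtain ⟨i, hi⟩ := (Odd.pow hodd : Odd (p ^ k))
    rw [hγ', hi]
    exact aut_odd_pow_inverts γ x (h x hx) i
  -- γ' ^ 2 = 1
  have hsq : ∀ x : G, (γ' ^ 2) x = x := by
    intro x
    have hcop2 : Nat.Coprime (orderOf (γ' ^ 2)) p := by
      apply Nat.Coprime.coprime_dvd_left _ (hord ▸ hcop)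
      exact orderOf_pow_dvd 2
    refine Cfsg.Agent.Lib.Helper87.fix_of_fix_omega hp (⊤ : Subgroup G)
      (hG.to_subgroup _) (γ' ^ 2) (fun _ _ => Subgroup.mem_top _) hcop2 ?_ x (Subgroup.mem_top _)
    intro y _ hy
    rw [pow_two, MulAut.mul_apply, hinv' y hy, map_inv, hinv' y hy, inv_inv]
  have hinvol : Function.Involutive (γ' : G → G) := by
    intro x
    have := hsq x
    rwa [pow_two, MulAut.mul_apply] at this
  -- fixed point free
  have hfpf : MonoidHom.FixedPointFree (γ' : G → G) := by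
    intro x hx
    by_contra hx1
    obtain ⟨j, hj⟩ := (IsPGroup.iff_orderOf.1 hG) x
    have hj0 : j ≠ 0 := by
      rintro rfl
      rw [pow_zero, orderOf_eq_one_iff] at hj
      exact hx1 hj
    obtain ⟨j', rfl⟩ := Nat.exists_eq_succ_of_ne_zero hj0
    obtain ⟨y, hy⟩ : ∃ y, y = x ^ (p ^ j') := ⟨_, rfl⟩
    have hyp : y ^ p = 1 := by
      rw [hy, ← pow_mul, ← pow_succ, ← hj, pow_orderOf_eq_one]
    have hy1 : y ≠ 1 := by
      rw [hy]
      intro h1
      have := orderOf_dvd_of_pow_eq_one h1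
      rw [hj] at this
      have := Nat.le_of_dvd (pow_pos hpp.pos j') this
      exact absurd this (not_le.2 (Nat.pow_lt_pow_right hpp.one_lt (Nat.lt_succ_self j')))
    have hfy : γ' y = y := by rw [hy, map_pow, hx]
    have hy2 : y ^ 2 = 1 := by
      have := hinv' y hyp
      rw [hfy] at this
      rw [pow_two]
      nth_rewrite 2 [this]
      exact mul_inv_cancel y
    have hd1 : orderOf y ∣ 2 := orderOf_dvd_of_pow_eq_one hy2
    have hd2 : orderOf y ∣ p := orderOf_dvd_of_pow_eq_one hyp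
    have hd : orderOf y ∣ Nat.gcd 2 p := Nat.dvd_gcd hd1 hd2
    have hg : Nat.gcd 2 p = 1 := Nat.coprime_two_left.2 hodd
    rw [hg, Nat.dvd_one, orderOf_eq_one_iff] at hd
    exact hy1 hd
  exact (MonoidHom.FixedPointFree.commute_all_of_involutive (φ := γ') hfpf hinvol a b).eq

end Cfsg.Agent.Lib.Helper73
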