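import Cfsg.Agent.Lib.Helper73.Taussky
import Cfsg.Agent.S0646

set_option autoImplicit false

namespace Cfsg.Agent.Lib.Helper73

/-- Taussky in element form: a nonabelian 2-group with `|P : P'| = 4` is dihedral, generalized quaternion or
semidihedral (generators and relations). -/
theorem index_commutator_four_cases {S : Type*} [Group S] [Finite S] (h2 : IsPGroup 2 S)
    (hcomm : ∃ x y : S, x * y ≠ y * x) (hidx : (commutator S).index = 4) :
    ∃ m : ℕ, Nat.card S = 2 ^ (m + 3) ∧ ∃ a b : S, orderOf a = 2 ^ (m + 2) ∧ b ∉ Subgroup.zpowers a ∧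
      ((b ^ 2 = 1 ∧ b * a * b⁻¹ = a⁻¹) ∨ (b ^ 2 = a ^ (2 ^ (m + 1)) ∧ b * a * b⁻¹ = a⁻¹) ∨
        (1 ≤ m ∧ b ^ 2 = 1 ∧ b * a * b⁻¹ = a ^ (2 ^ (m + 1) - 1))) := by
  obtain ⟨n, hn⟩ := h2.exists_card_eq
  obtain ⟨a₀, ha₀⟩ := exists_orderOf_of_index_commutator_four n S hn hcomm hidx
  have hn3 : 3 ≤ n := by
    have hne := commutator_ne_bot_of_not_comm hcomm
    have h1 := Subgroup.index_mul_card (commutator S)
    rw [hidx, hn] at h1
    have h3 : 2 ≤ Nat.card (commutator S) := by
      by_contra hlt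
      push Not at hlt
      exact hne (Subgroup.eq_bot_of_card_le _ (by omega))
    by_contra hlt
    push Not at hlt
    have : (2 : ℕ) ^ n ≤ 2 ^ 2 := Nat.pow_le_pow_right (by norm_num) (by omega)
    omega
  have hCi : (Subgroup.zpowers a₀).index = 2 := by
    have h1 := Subgroup.index_mul_card (Subgroup.zpowers a₀)
    rw [Nat.card_zpowers, hn, ← ha₀] at h1
    exact Nat.eq_of_mul_eq_mul_right (orderOf_pos _) h1
  obtain ⟨a, b, ha, hb, hcases⟩ :=
    Cfsg.Agent.S0646.result n hn3 hn (Subgroup.zpowers a₀) inferInstance hCi hcomm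
  obtain ⟨m, rfl⟩ : ∃ m, n = m + 3 := ⟨n - 3, by omega⟩
  have ha' : orderOf a = 2 ^ (m + 2) := by rw [ha]; rfl
  have hcard2 : Nat.card S = 2 * orderOf a := by rw [hn, ha']; ring
  have hgen := zpowers_sup_zpowers_eq_top a b hcard2 hb
  have hapow : a ^ (2 ^ (m + 2)) = 1 := by rw [← ha']; exact pow_orderOf_eq_one a
  have e1 : 2 ^ (m + 3 - 2) = 2 ^ (m + 1) := by rw [show m + 3 - 2 = m + 1 by omega]
  refine ⟨m, hn, a, b, ha', hb, ?_⟩
  rcases hcases with ⟨hb2, hc⟩ | ⟨hb2, hc⟩ | ⟨h4, hb2, hc⟩ | ⟨h4, hb2, hc⟩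
  · left; exact ⟨hb2, hc⟩
  · right; left
    rw [e1] at hb2
    exact ⟨hb2, hc⟩
  · -- modular: impossible
    exfalso
    rw [e1] at hc
    have hconj : b * a * b⁻¹ = a ^ ((1 + 2 ^ (m + 1) : ℕ) : ℤ) * (1 : S) ^ (0 : ℤ) := by
      rw [zpow_zero, mul_one, zpow_natCast, hc]
    have hgen' : Subgroup.closure {a, 1, b} = ⊤ := by
      rw [eq_top_iff, ← hgen, sup_le_iff]
      constructor
      · rw [Subgroup.zpowers_le]; exact Subgroup.subset_closure (by simp)
      · rw [Subgroup.zpowers_le]; exact Subgroup.subset_closure (by simp)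
    have hle := commutator_le_zpowers_of_conj a 1 b _ 0 (fun x => by rw [one_mul, mul_one]) hconj hgen'
    set c := a * b * a⁻¹ * b⁻¹ with hcdef
    have hc2 : c ^ 2 = 1 := by
      have hc' : c = a * (a ^ (1 + 2 ^ (m + 1)))⁻¹ := by rw [← hc, hcdef]; group
      have hcm : Commute a (a ^ (1 + 2 ^ (m + 1)))⁻¹ := (Commute.pow_right (Commute.refl a) _).inv_right
      rw [hc', hcm.mul_pow, inv_pow, ← pow_mul]
      have : (1 + 2 ^ (m + 1)) * 2 = 2 + 2 ^ (m + 2) := by ring
      rw [this, pow_add, hapow, mul_one, mul_inv_cancel]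
    have h5 : Nat.card (commutator S) ∣ 2 := by
      have h6 := Subgroup.card_dvd_of_le hle
      rw [Nat.card_zpowers] at h6
      exact h6.trans (orderOf_dvd_of_pow_eq_one hc2)
    have h7 := Subgroup.index_mul_card (commutator S)
    rw [hidx, hn] at h7
    have h8 : Nat.card (commutator S) ≤ 2 := Nat.le_of_dvd (by norm_num) h5
    have h9 : (2 : ℕ) ^ 4 ≤ 2 ^ (m + 3) := Nat.pow_le_pow_right (by norm_num) h4
    omega
  · right; right
    rw [e1] at hc
    exact ⟨by omega, hb2, hc⟩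

/-- If the cyclic subgroup `⟨a⟩` of index two and 2-power order is invariant under all automorphisms, the
automorphism group is a 2-group. -/
theorem isPGroup_two_mulAut_of_invariant {P : Type*} [Group P] [Finite P] (a b : P) (e : ℕ)
    (ha : orderOf a = 2 ^ (e + 1)) (hcard : Nat.card P = 2 * orderOf a) (hb : b ∉ Subgroup.zpowers a)
    (hinv : ∀ σ : MulAut P, σ a ∈ Subgroup.zpowers a) : IsPGroup 2 (MulAut P) := by
  intro σ
  set m := orderOf a with hm
  have hm0 : 0 < m := orderOf_pos a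
  have hidx : (Subgroup.zpowers a).index = 2 := by
    have h1 := Subgroup.index_mul_card (Subgroup.zpowers a)
    rw [Nat.card_zpowers, hcard] at h1
    exact Nat.eq_of_mul_eq_mul_right hm0 h1
  have hgen : Subgroup.closure {a, b} = ⊤ := by
    rw [eq_top_iff, ← zpowers_sup_zpowers_eq_top a b hcard hb, sup_le_iff]
    constructor
    · rw [Subgroup.zpowers_le]; exact Subgroup.subset_closure (by simp)
    · rw [Subgroup.zpowers_le]; exact Subgroup.subset_closure (by simp)
  -- σ a = a ^ r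
  obtain ⟨r, hr⟩ : ∃ r : ℕ, a ^ r = σ a := by
    have := mem_powers_iff_mem_zpowers.mpr (hinv σ)
    exact this
  have hcop : Nat.Coprime r m := by
    have h1 : orderOf (σ a) = m := MulEquiv.orderOf_eq σ a
    rw [← hr, orderOf_pow] at h1
    have h2 : m.gcd r ∣ m := Nat.gcd_dvd_left m r
    have h3 : m / m.gcd r = m := h1
    have h4 : m.gcd r = 1 := by
      have h5 := Nat.div_mul_cancel h2
      rw [h3] at h5
      have : m * m.gcd r = m * 1 := by rw [h5, mul_one]
      exact Nat.eq_of_mul_eq_mul_left hm0 this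
    rw [Nat.coprime_comm]; exact h4
  have hpow : ∀ k : ℕ, (σ ^ k) a = a ^ (r ^ k) := by
    intro k
    induction k with
    | zero => simp
    | succ k ih =>
      rw [pow_succ', MulAut.mul_apply, ih, map_pow, ← hr, ← pow_mul, pow_succ']
  set τ := σ ^ m.totient with hτ
  have hτa : τ a = a := by
    rw [hτ, hpow]
    have h1 : r ^ m.totient ≡ 1 [MOD orderOf a] := Nat.ModEq.pow_totient hcop
    have := (pow_eq_pow_iff_modEq (x := a)).mpr h1
    rw [this, pow_one]
  have hτA : ∀ ρ : MulAut P, ∀ x ∈ Subgroup.zpowers a, ρ x ∈ Subgroup.zpowers a := by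
    rintro ρ _ ⟨i, rfl⟩
    show ρ (a ^ i) ∈ _
    rw [map_zpow]
    exact Subgroup.zpow_mem _ (hinv ρ) i
  have hτb : τ b ∉ Subgroup.zpowers a := by
    intro h
    apply hb
    have := hτA τ⁻¹ _ h
    rwa [MulAut.inv_apply_self] at this
  obtain ⟨j, hj⟩ : ∃ j : ℤ, τ b = b * a ^ j := by
    have h1 : b⁻¹ * τ b ∈ Subgroup.zpowers a := by
      rw [Subgroup.mul_mem_iff_of_index_two hidx]
      constructor
      · intro h; exact absurd (by simpa using inv_mem h) hb
      · intro h; exact absurd h hτb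
    obtain ⟨j, hj⟩ := Subgroup.mem_zpowers_iff.mp h1
    exact ⟨j, by rw [hj, mul_inv_cancel_left]⟩
  have hτpow : ∀ k : ℕ, (τ ^ k) b = b * a ^ ((k : ℤ) * j) ∧ (τ ^ k) a = a := by
    intro k
    induction k with
    | zero => simp
    | succ k ih =>
      constructor
      · rw [pow_succ', MulAut.mul_apply, ih.1, map_mul, map_zpow, hτa, hj, mul_assoc, ← zpow_add]
        congr 2; push_cast; ring
      · rw [pow_succ', MulAut.mul_apply, ih.2, hτa]
  have hτm : τ ^ m = 1 := by
    have h1 : ((τ ^ m : MulAut P) : P →* P) = MonoidHom.id P := by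
      apply MonoidHom.eq_of_eqOn_dense hgen
      rintro x (rfl | rfl)
      · exact (hτpow m).2
      · show (τ ^ m) x = x
        rw [(hτpow m).1, zpow_mul, zpow_natCast, hm, pow_orderOf_eq_one, one_zpow, mul_one]
    ext x
    exact DFunLike.congr_fun h1 x
  refine ⟨e + (e + 1), ?_⟩
  have h1 : m.totient * m = 2 ^ (e + (e + 1)) := by
    rw [ha, Nat.totient_prime_pow Nat.prime_two (Nat.succ_pos e)]
    have : e + 1 - 1 = e := by omega
    rw [this]
    ring
  rw [← h1, pow_mul]
  exact hτm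

end Cfsg.Agent.Lib.Helper73
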