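import Cfsg.Agent.Lib.Helper73.FusionInvert
import Cfsg.Agent.Lib.Helper73.InvertOmega
import Cfsg.Agent.Lib.Helper87.FusionOmega

/-!
# Helper73: a small strongly closed commutator subgroup (towards: metacyclic strongly closed ⟹ normal)
-/

set_option autoImplicit false

namespace Cfsg.Agent.Lib.Helper73

open Cfsg Cfsg.FusionSystem Cfsg.Agent.Lib.Helper87
open scoped commutatorElement

theorem eq_top_of_card_le_sq {G : Type*} [Group G] [Finite G] {p : ℕ} [Fact p.Prime] (hG : IsPGroup p G)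
    (hc : Nat.card G ≤ p ^ 2) (T : Subgroup G) (z w : G) (hz : z ≠ 1) (hzT : z ∈ T) (hwT : w ∈ T)
    (hw : w ∉ Subgroup.zpowers z) : T = ⊤ := by
  have hpp : p.Prime := Fact.out
  have hle : Subgroup.zpowers z ≤ T := (Subgroup.zpowers_le).2 hzT
  have hlt : Subgroup.zpowers z < T := lt_of_le_of_ne hle (fun h => hw (h ▸ hwT))
  have h1 : Nat.card (Subgroup.zpowers z) < Nat.card T := by
    by_contra h
    push Not at h
    exact hlt.ne (Subgroup.eq_of_le_of_card_ge hle h)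
  obtain ⟨m, hm⟩ := (IsPGroup.iff_card).1 (hG.to_subgroup T)
  obtain ⟨k, hk⟩ := (IsPGroup.iff_card).1 (hG.to_subgroup (Subgroup.zpowers z))
  have hk0 : k ≠ 0 := by
    rintro rfl
    rw [pow_zero, Subgroup.card_eq_one, Subgroup.zpowers_eq_bot] at hk
    exact hz hk
  rw [hm, hk] at h1
  have hkm : k < m := (Nat.pow_lt_pow_iff_right hpp.one_lt).1 h1
  have h2 : p ^ 2 ≤ p ^ m := Nat.pow_le_pow_right hpp.pos (by omega)
  apply Subgroup.eq_top_of_le_card
  rw [hm]
  exact hc.trans h2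

variable {Ω : Type*} [Group Ω] {S : Subgroup Ω}

/-- If `Z ≤ E` with `E` abelian and strongly closed and `Z` receptive, then the inverse of any map `φ` of the
system with source `Z` is induced by an element of `Aut_F(E)`. -/
theorem exists_aut_of_receptive (F : FusionSystem S) {Z E : Subgroup Ω} [Finite E] (hZE : Z ≤ E)
    (hEc : ∀ x ∈ E, ∀ y ∈ E, x * y = y * x) (hE : F.StronglyClosed E) (hZr : F.IsReceptive Z)
    {φ : Z →* Ω} (hφ : φ ∈ F.Hom Z) :
    ∃ α ∈ F.autGroup E, ∀ (x : Z) (h : φ x ∈ E), ((α ⟨φ x, h⟩ : E) : Ω) = x := by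
  obtain ⟨φ', hφ', hinv⟩ := F.inv_mem hφ
  have hrange : φ'.range = Z := by
    ext y
    constructor
    · rintro ⟨⟨w, ⟨x, rfl⟩⟩, rfl⟩
      rw [hinv x]
      exact x.2
    · intro hy
      exact ⟨⟨φ ⟨y, hy⟩, ⟨⟨y, hy⟩, rfl⟩⟩, hinv ⟨y, hy⟩⟩
  obtain ⟨ψ, hψ, hψe⟩ := hZr.2 φ.range φ' hφ' hrange
  have hrE : ∀ w ∈ φ.range, w ∈ E := by
    rintro _ ⟨x, rfl⟩
    exact hE.2 Z hZE φ hφ x
  have hEX : E ≤ extender S φ.range φ' := by
    intro g hg
    apply Subgroup.subset_closure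
    have hcomm : ∀ w ∈ φ.range, g * w * g⁻¹ = w := by
      intro w hw
      rw [hEc g hg w (hrE w hw), mul_assoc, mul_inv_cancel, mul_one]
    refine ⟨hE.1 hg, ?_, 1, S.one_mem, ?_⟩
    · rw [Subgroup.mem_normalizer_iff]
      intro w
      constructor
      · intro hw
        rw [hcomm w hw]
        exact hw
      · intro hw
        have h1 : w ∈ E := by
          have h2 := hrE _ hw
          have h3 := E.mul_mem (E.mul_mem (E.inv_mem hg) h2) hg
          have h4 : g⁻¹ * (g * w * g⁻¹) * g = w := by group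
          rwa [h4] at h3
        have h5 : g * w * g⁻¹ = w := by
          rw [hEc g hg w h1, mul_assoc, mul_inv_cancel, mul_one]
        rwa [h5] at hw
    · intro x hx
      have h1 : (⟨g * (x : Ω) * g⁻¹, hx⟩ : φ.range) = x := Subtype.ext (hcomm x x.2)
      rw [h1, one_mul, inv_one, mul_one]
  have hr := restrict_mem F hψ hEX
  have hmap : ∀ d : E, ψ ⟨d, hEX d.2⟩ ∈ E := fun d => hE.2 E le_rfl _ hr d
  obtain ⟨α, hα, hαe⟩ := exists_aut_of_hom F hψ hEX hmap
  refine ⟨α, hα, fun x h => ?_⟩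
  rw [hαe]
  show ψ ⟨φ x, _⟩ = x
  rw [hψe (φ x) ⟨x, rfl⟩ _]
  exact hinv x

/-- An element of `Aut_F(E)` inverting the strongly closed `E ⊇ Ω₁(P)` extends to an automorphism of the strongly
closed subgroup `P` inverting every element of order dividing `p`. -/
theorem exists_aut_inverting_omega (F : FusionSystem S) [Finite S] {p : ℕ} [Fact p.Prime] (hS : IsPGroup p S)
    (hF : F.IsSaturated p) {P E : Subgroup Ω} (hP : F.StronglyClosed P) (hE : F.StronglyClosed E)
    (hEall : ∀ x ∈ P, x ^ p = 1 → x ∈ E)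
    (β : MulAut E) (hβ : β ∈ F.autGroup E) (hinv : ∀ d : E, β d = d⁻¹) :
    ∃ γ : MulAut P, ∀ x : P, x ^ p = 1 → γ x = x⁻¹ := by
  have hES := hE.1
  have hEn : ∀ g ∈ S, ∀ x ∈ E, g * x * g⁻¹ ∈ E := fun g hg x hx => StronglyClosed_conj_mem hE hg hx
  have hEfn := isFullyNormalized_of_conj_mem F hES hEn
  have hEr := (fullyAutomized_receptive_of_fullyNormalized F hS hF hEfn).2
  obtain ⟨X, ψ, hψ, hEX, hXN, hψe, hX⟩ := exists_extension_aut F hES hEr β hβ
  have hPX : P ≤ X := by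
    intro g hg
    have hgN : g ∈ normalizerIn S E := le_normalizerIn_of_conj_mem hEn (hP.1 hg)
    apply hX g hgN
    have h1 : β * conjAut E g hgN.2 * β⁻¹ = conjAut E g hgN.2 := by
      rw [mul_inv_eq_iff_eq_mul]
      ext d
      rw [MulAut.mul_apply, MulAut.mul_apply, hinv, hinv]
      show ((conjAut E g hgN.2 d : E) : Ω)⁻¹ = g * ((d : Ω))⁻¹ * g⁻¹
      rw [conjAut_apply]
      group
    rw [h1]
    exact mem_autInducedBy_iff.2 ⟨g, hP.1 hg, fun x => rfl⟩
  have hmap : ∀ d : P, ψ ⟨d, hPX d.2⟩ ∈ P := fun d => hP.2 P le_rfl _ (restrict_mem F hψ hPX) d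
  haveI : Finite P := finite_of_le hP.1
  obtain ⟨γ, -, hγe⟩ := exists_aut_of_hom F hψ hPX hmap
  refine ⟨γ, fun x hx => ?_⟩
  apply Subtype.ext
  rw [hγe]
  have hxE : (x : Ω) ∈ E := hEall x x.2 (by simpa using congrArg Subtype.val hx)
  rw [hψe x hxE _, hinv]
  rfl

end Cfsg.Agent.Lib.Helper73
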