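import Mathlib
import Cfsg.Agent.Lib.Helper65.MetaCD
import Cfsg.Agent.Lib.Helper63.PGroupBasic
import Cfsg.Agent.Lib.Helper24.ClassTwoExp
import Cfsg.Agent.Lib.Helper24.Metacyclic
import Cfsg.Agent.Lib.Helper73.MetaRank

/-!
# Helper73: `Ω₁` of a metacyclic `p`-group, `p` odd

* `pow_eq_one_of_mem_closure_of_isMetacyclic`: the subgroup generated by the elements of order dividing `p`
  has exponent dividing `p`;
* `card_closure_le_of_isMetacyclic`: it has order at most `p ^ 2`.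
-/

set_option autoImplicit false

namespace Cfsg.Agent.Lib.Helper73

open Cfsg
open scoped commutatorElement

variable {K : Type*} [Group K] [Finite K] {p : ℕ} [hp : Fact p.Prime]

/-- Elements of order dividing `p` in a cyclic normal subgroup of a finite `p`-group are central. -/
theorem central_of_mem_zpowers_of_pow_eq_one (hK : IsPGroup p K) (a : K)
    (hnorm : ∀ x : K, x * a * x⁻¹ ∈ Subgroup.zpowers a) (w : K) (hw : w ∈ Subgroup.zpowers a)
    (hwp : w ^ p = 1) (x : K) : x * w = w * x := by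
  classical
  let C : Subgroup K :=
    { carrier := {c | c ∈ Subgroup.zpowers a ∧ c ^ p = 1}
      one_mem' := ⟨Subgroup.one_mem _, one_pow _⟩
      mul_mem' := by
        rintro c d ⟨hc, hcp⟩ ⟨hd, hdp⟩
        refine ⟨Subgroup.mul_mem _ hc hd, ?_⟩
        obtain ⟨i, rfl⟩ := Subgroup.mem_zpowers_iff.1 hc
        obtain ⟨j, rfl⟩ := Subgroup.mem_zpowers_iff.1 hd
        have hcomm : Commute (a ^ i) (a ^ j) := (Commute.refl a).zpow_zpow i j
        rw [hcomm.mul_pow, hcp, hdp, one_mul]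
      inv_mem' := by
        rintro c ⟨hc, hcp⟩
        exact ⟨Subgroup.inv_mem _ hc, by rw [inv_pow, hcp, inv_one]⟩ }
  have hzn : ∀ (y : K) (c : K), c ∈ Subgroup.zpowers a → y * c * y⁻¹ ∈ Subgroup.zpowers a := by
    intro y c hc
    obtain ⟨i, rfl⟩ := Subgroup.mem_zpowers_iff.1 hc
    rw [← conj_zpow]
    exact Subgroup.zpow_mem _ (hnorm y) i
  haveI hCn : C.Normal := by
    constructor
    rintro c ⟨hc, hcp⟩ y
    exact ⟨hzn y c hc, by rw [conj_pow, hcp, mul_one, mul_inv_cancel]⟩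
  have hCle : Nat.card C ≤ p := by
    have h1 := Cfsg.Agent.Lib.Helper65.card_pow_eq_one_le_of_mem_zpowers a p hp.out.pos
    exact h1
  have hCdvd : ∃ k, Nat.card C = p ^ k := by
    have h2 : IsPGroup p C := hK.to_subgroup C
    exact (IsPGroup.iff_card).1 h2
  obtain ⟨k, hk⟩ := hCdvd
  have hwC : w ∈ C := ⟨hw, hwp⟩
  rcases Nat.lt_or_ge k 1 with h0 | h1
  · have hk0 : k = 0 := by omega
    rw [hk0, pow_zero] at hk
    have hbot : C = ⊥ := Subgroup.card_eq_one.1 hk
    rw [hbot, Subgroup.mem_bot] at hwC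
    rw [hwC, mul_one, one_mul]
  · have hk1 : k = 1 := by
      by_contra hne
      have h2 : 2 ≤ k := by omega
      have : p ^ 2 ≤ p ^ k := Nat.pow_le_pow_right hp.out.pos h2
      have hp2' := hp.out.two_le
      nlinarith
    rw [hk1, pow_one] at hk
    have hcen := Cfsg.Agent.Lib.Helper63.normal_card_prime_le_center hK C hk
    have := (Subgroup.mem_center_iff.1 (hcen hwC)) x
    exact this

/-- In a metacyclic `p`-group, `p` odd, the commutator of an element of order dividing `p` with any element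
has order dividing `p`. -/
theorem comm_pow_eq_one_of_metacyclic (hp2 : p ≠ 2) (hK : IsPGroup p K) (a : K)
    (hnorm : ∀ x : K, x * a * x⁻¹ ∈ Subgroup.zpowers a)
    (hcomm : ∀ x g : K, x * g * x⁻¹ * g⁻¹ ∈ Subgroup.zpowers a)
    (s t : K) (hs : s ^ p = 1) : (s * t * s⁻¹ * t⁻¹) ^ p = 1 := by
  obtain ⟨u, hu⟩ : ∃ u, u = s * t * s⁻¹ * t⁻¹ := ⟨_, rfl⟩
  rw [← hu]
  have huz : u ∈ Subgroup.zpowers a := by rw [hu]; exact hcomm s t
  obtain ⟨c, hc0, hcp, hc⟩ := Cfsg.Agent.Lib.Helper64.exists_conj_eq_pow hK s a (hnorm s)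
  obtain ⟨m, hm⟩ := (IsPGroup.iff_orderOf.mp hK) a
  -- `a ^ (c ^ p) = a`
  have h1 : a ^ (c ^ p) = a := by
    have := Cfsg.Agent.Lib.Helper64.pow_conj_eq_pow_pow hc p
    rw [hs, one_mul, inv_one, mul_one] at this
    exact this.symm
  have hcp1 : 1 ≤ c ^ p := Nat.one_le_pow _ _ hc0
  have h2 : a ^ (c ^ p - 1) = 1 := by
    have h3 : a ^ (c ^ p - 1) * a = a := by
      rw [← pow_succ, Nat.sub_add_cancel hcp1, h1]
    exact mul_eq_right.1 h3
  have h3 : p ^ m ∣ c ^ p - 1 := by rw [← hm]; exact orderOf_dvd_of_pow_eq_one h2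
  have h4 : p ^ m ∣ (c - 1) * p :=
    (Cfsg.Agent.Lib.Helper64.pow_dvd_pow_sub_one_iff hp2 hc0 hcp m p).1 h3
  -- every element of `⟨a⟩` is killed by `(c - 1) * p`
  have hkill : ∀ v ∈ Subgroup.zpowers a, v ^ ((c - 1) * p) = 1 := by
    intro v hv
    obtain ⟨i, rfl⟩ := Subgroup.mem_zpowers_iff.1 hv
    obtain ⟨q, hq⟩ := h4
    rw [← zpow_natCast, ← zpow_mul, mul_comm, zpow_mul, zpow_natCast, hq, pow_mul, ← hm,
      pow_orderOf_eq_one, one_pow, one_zpow]
  -- conjugation by `s` on `⟨a⟩` is the `c`-th power map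
  have hsconj : ∀ v ∈ Subgroup.zpowers a, s * v * s⁻¹ = v ^ c := by
    intro v hv
    obtain ⟨i, rfl⟩ := Subgroup.mem_zpowers_iff.1 hv
    rw [← conj_zpow, hc, ← zpow_natCast, ← zpow_natCast, ← zpow_mul, ← zpow_mul, mul_comm]
  obtain ⟨w, hw⟩ : ∃ w, w = u ^ (c - 1) := ⟨_, rfl⟩
  have hwz : w ∈ Subgroup.zpowers a := by rw [hw]; exact Subgroup.pow_mem _ huz _
  have hwp : w ^ p = 1 := by rw [hw, ← pow_mul]; exact hkill u huz
  have hwcen : ∀ x : K, x * w = w * x :=
    central_of_mem_zpowers_of_pow_eq_one hK a hnorm w hwz hwp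
  have hsu : s * u * s⁻¹ = u * w := by
    rw [hsconj u huz, hw, ← pow_succ', Nat.sub_add_cancel hc0]
  have hst : s * t * s⁻¹ = u * t := by rw [hu]; group
  have huw : Commute u w := (hwcen u)
  -- induction
  have key : ∀ k : ℕ, s ^ k * t * (s ^ k)⁻¹ = u ^ k * w ^ (k.choose 2) * t := by
    intro k
    induction k with
    | zero => simp
    | succ k ih =>
      have e1 : s ^ (k + 1) * t * (s ^ (k + 1))⁻¹ = s * (s ^ k * t * (s ^ k)⁻¹) * s⁻¹ := by
        rw [pow_succ']; group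
      rw [e1, ih]
      have e2 : s * (u ^ k * w ^ k.choose 2 * t) * s⁻¹ =
          (s * u * s⁻¹) ^ k * (s * w * s⁻¹) ^ k.choose 2 * (s * t * s⁻¹) := by
        rw [conj_pow, conj_pow]; group
      have hsw : s * w * s⁻¹ = w := by rw [hwcen s]; group
      rw [e2, hsu, hsw, hst, huw.mul_pow]
      have hch : (k + 1).choose 2 = k + k.choose 2 := by
        rw [Nat.choose_succ_succ, Nat.choose_one_right]
      rw [hch, pow_succ u k, pow_add w k]
      have hc1 : Commute (w ^ k) u := (huw.symm.pow_left k)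
      have hc2 : Commute (w ^ k.choose 2) u := (huw.symm.pow_left _)
      calc u ^ k * w ^ k * w ^ k.choose 2 * (u * t)
          = u ^ k * (w ^ k * (w ^ k.choose 2 * u)) * t := by simp only [mul_assoc]
        _ = u ^ k * (w ^ k * (u * w ^ k.choose 2)) * t := by rw [hc2.eq]
        _ = u ^ k * ((w ^ k * u) * w ^ k.choose 2) * t := by simp only [mul_assoc]
        _ = u ^ k * ((u * w ^ k) * w ^ k.choose 2) * t := by rw [hc1.eq]
        _ = u ^ k * u * (w ^ k * w ^ k.choose 2) * t := by simp only [mul_assoc]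
  have h5 := key p
  rw [hs, one_mul, inv_one, mul_one] at h5
  have hdvd : p ∣ p.choose 2 := by
    apply Nat.Prime.dvd_choose_self hp.out (by norm_num)
    have := hp.out.two_le
    omega
  obtain ⟨q, hq⟩ := hdvd
  rw [hq, pow_mul, hwp, one_pow, mul_one] at h5
  exact (mul_eq_right.1 h5.symm)

/-- **`Ω₁` of a metacyclic `p`-group has exponent `p`** (`p` odd). -/
theorem pow_eq_one_of_mem_closure_of_isMetacyclic (hp2 : p ≠ 2) (hK : IsPGroup p K)
    (hm : IsMetacyclic K) : ∀ f ∈ Subgroup.closure {x : K | x ^ p = 1}, f ^ p = 1 := by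
  obtain ⟨a, hnorm, hcomm⟩ := Cfsg.Agent.Lib.Helper65.exists_metacyclic_gen hm
  let C : Subgroup K :=
    { carrier := {c | c ∈ Subgroup.zpowers a ∧ c ^ p = 1}
      one_mem' := ⟨Subgroup.one_mem _, one_pow _⟩
      mul_mem' := by
        rintro c d ⟨hc, hcp⟩ ⟨hd, hdp⟩
        refine ⟨Subgroup.mul_mem _ hc hd, ?_⟩
        obtain ⟨i, rfl⟩ := Subgroup.mem_zpowers_iff.1 hc
        obtain ⟨j, rfl⟩ := Subgroup.mem_zpowers_iff.1 hd
        have hcomm : Commute (a ^ i) (a ^ j) := (Commute.refl a).zpow_zpow i j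
        rw [hcomm.mul_pow, hcp, hdp, one_mul]
      inv_mem' := by
        rintro c ⟨hc, hcp⟩
        exact ⟨Subgroup.inv_mem _ hc, by rw [inv_pow, hcp, inv_one]⟩ }
  apply Cfsg.Agent.Lib.Helper24.pow_eq_one_of_closure p hp2 C {x : K | x ^ p = 1}
  · rintro c ⟨_, hcp⟩
    exact hcp
  · intro s hs
    exact hs
  · intro s hs t _
    have e : ⁅s, t⁆ = s * t * s⁻¹ * t⁻¹ := commutatorElement_def s t
    rw [e]
    exact ⟨hcomm s t, comm_pow_eq_one_of_metacyclic hp2 hK a hnorm hcomm s t hs⟩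
  · rintro c ⟨hc, hcp⟩ f _
    exact (central_of_mem_zpowers_of_pow_eq_one hK a hnorm c hc hcp f).symm

omit [Finite K] in
/-- A metacyclic group of exponent dividing `p` has order at most `p ^ 2`. -/
theorem card_le_sq_of_isMetacyclic_of_pow_eq_one {E : Type*} [Group E] (p : ℕ) (hp0 : 0 < p)
    (hm : IsMetacyclic E) (hexp : ∀ x : E, x ^ p = 1) : Nat.card E ≤ p ^ 2 := by
  obtain ⟨N, hN, hNc, hQc⟩ := hm
  haveI := hNc
  haveI := hQc
  have h1 : Nat.card N ≤ p := card_le_of_isCyclic_of_pow_eq_one p hp0 (fun x => Subtype.ext (by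
    rw [Subgroup.coe_pow, hexp]; rfl))
  have h2 : Nat.card (E ⧸ N) ≤ p := card_le_of_isCyclic_of_pow_eq_one p hp0 (fun x => by
    obtain ⟨y, rfl⟩ := QuotientGroup.mk_surjective x
    rw [← QuotientGroup.mk_pow, hexp]; rfl)
  have h3 : Nat.card E = Nat.card (E ⧸ N) * Nat.card N := Subgroup.card_eq_card_quotient_mul_card_subgroup N
  rw [h3, sq]
  exact Nat.mul_le_mul h2 h1

/-- **`Ω₁` of a metacyclic `p`-group has order at most `p ^ 2`** (`p` odd). -/
theorem card_closure_le_of_isMetacyclic (hp2 : p ≠ 2) (hK : IsPGroup p K) (hm : IsMetacyclic K) :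
    Nat.card (Subgroup.closure {x : K | x ^ p = 1}) ≤ p ^ 2 := by
  apply card_le_sq_of_isMetacyclic_of_pow_eq_one p hp.out.pos
  · exact Cfsg.Agent.Lib.Helper24.isMetacyclic_of_injective (Subgroup.subtype _)
      (Subgroup.subtype_injective _) hm
  · rintro ⟨x, hx⟩
    exact Subtype.ext (pow_eq_one_of_mem_closure_of_isMetacyclic hp2 hK hm x hx)

end Cfsg.Agent.Lib.Helper73
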