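import Mathlib
import Cfsg.Agent.Lib.Helper41.N22.Defs

/-!
# S4346 module [SYLQ] (helper73, for helper41): if `q² ∤ |H|` and one element of order `q` fixes
exactly one point, then so does every element of order `q`.
-/

set_option autoImplicit false

namespace Cfsg.Agent.Lib.Helper73.N22
open Cfsg.Agent.Lib.Helper41.N22

/-- a non-identity power of an element of prime order has the same fixed points -/
theorem zpow_fix_iff {Ω : Type*} (q : ℕ) (hqp : q.Prime) (u : Equiv.Perm Ω)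
    (hou : orderOf u = q) (k : ℤ) (hk : u ^ k ≠ 1) (ω : Ω) : (u ^ k) ω = ω ↔ u ω = ω := by
  constructor
  · intro h
    have hnd : ¬ (q : ℤ) ∣ k := by
      intro hd
      apply hk
      rw [← hou] at hd
      exact orderOf_dvd_iff_zpow_eq_one.mp hd
    have hprime : Prime (q : ℤ) := Nat.prime_iff_prime_int.mp hqp
    obtain ⟨a, b, hab⟩ := (hprime.coprime_iff_not_dvd).2 hnd
    have hu : u = (u ^ k) ^ b := by
      have h1 : u ^ (q : ℤ) = 1 := by
        rw [zpow_natCast, ← hou]; exact pow_orderOf_eq_one u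
      calc u = u ^ (a * (q : ℤ) + b * k) := by rw [hab, zpow_one]
        _ = (u ^ (q : ℤ)) ^ a * (u ^ k) ^ b := by
          rw [zpow_add, mul_comm a, mul_comm b, zpow_mul, zpow_mul]
        _ = (u ^ k) ^ b := by rw [h1, one_zpow, one_mul]
    rw [hu]
    exact Equiv.Perm.zpow_apply_eq_self_of_apply_eq_self h b
  · intro h
    exact Equiv.Perm.zpow_apply_eq_self_of_apply_eq_self h k

/-- [SYLQ] -/
theorem fix_unique_of_sylow_prime {Ω : Type*} [Finite Ω] (H : Subgroup (Equiv.Perm Ω))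
    (q : ℕ) (hqp : q.Prime) (hq : ¬ q ^ 2 ∣ Nat.card H) (u : Equiv.Perm Ω) (hu : u ∈ H)
    (hou : orderOf u = q) (β : Ω) (hfix : ∀ ω, u ω = ω ↔ ω = β) (w : Equiv.Perm Ω) (hw : w ∈ H)
    (how : orderOf w = q) : ∃ γ : Ω, ∀ ω, w ω = ω ↔ ω = γ := by
  classical
  have : Fact q.Prime := ⟨hqp⟩
  have hou' : orderOf (⟨u, hu⟩ : H) = q := by rw [Subgroup.orderOf_mk]; exact hou
  have how' : orderOf (⟨w, hw⟩ : H) = q := by rw [Subgroup.orderOf_mk]; exact how
  have hfact : (Nat.card H).factorization q = 1 := by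
    have h0 : Nat.card H ≠ 0 := Nat.card_pos.ne'
    have h1 : q ^ 1 ∣ Nat.card H := by
      rw [pow_one, ← hou']; exact orderOf_dvd_natCard _
    have h1' := (hqp.pow_dvd_iff_le_factorization h0).mp h1
    have h2' : ¬ 2 ≤ (Nat.card H).factorization q := fun h2 =>
      hq ((hqp.pow_dvd_iff_le_factorization h0).mpr h2)
    omega
  have hcU : Nat.card (Subgroup.zpowers (⟨u, hu⟩ : H)) = q ^ (Nat.card H).factorization q := by
    rw [Nat.card_zpowers, hou', hfact, pow_one]
  have hcW : Nat.card (Subgroup.zpowers (⟨w, hw⟩ : H)) = q ^ (Nat.card H).factorization q := by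
    rw [Nat.card_zpowers, how', hfact, pow_one]
  obtain ⟨g, hg⟩ := MulAction.exists_smul_eq H (Sylow.ofCard _ hcU) (Sylow.ofCard _ hcW)
  have hwmem : (⟨w, hw⟩ : H) ∈ ((g • Sylow.ofCard _ hcU : Sylow q H) : Subgroup H) := by
    rw [hg, Sylow.coe_ofCard]
    exact Subgroup.mem_zpowers _
  rw [Sylow.coe_subgroup_smul, Sylow.coe_ofCard, Subgroup.mem_smul_pointwise_iff_exists] at hwmem
  obtain ⟨s, hs, hsw⟩ := hwmem
  obtain ⟨k, rfl⟩ := Subgroup.mem_zpowers_iff.mp hs
  rw [MulAut.smul_def, MulAut.conj_apply] at hsw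
  have hw' : w = (g : Equiv.Perm Ω) * u ^ k * (g : Equiv.Perm Ω)⁻¹ := by
    have := congrArg Subtype.val hsw
    simpa using this.symm
  have hk1 : u ^ k ≠ 1 := by
    intro h1
    rw [h1, mul_one, mul_inv_cancel] at hw'
    rw [hw', orderOf_one] at how
    exact hqp.one_lt.ne how
  refine ⟨(g : Equiv.Perm Ω) β, fun ω => ?_⟩
  rw [hw', Equiv.Perm.mul_apply, Equiv.Perm.mul_apply]
  constructor
  · intro h
    have h1 : (u ^ k) ((g : Equiv.Perm Ω)⁻¹ ω) = (g : Equiv.Perm Ω)⁻¹ ω := by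
      have h0 := congrArg (fun z => (g : Equiv.Perm Ω)⁻¹ z) h
      simpa using h0
    have h2 := (hfix _).mp ((zpow_fix_iff q hqp u hou k hk1 _).mp h1)
    rw [← h2]; simp
  · intro h
    rw [h]
    have h1 : (u ^ k) β = β := (zpow_fix_iff q hqp u hou k hk1 β).mpr ((hfix β).mpr rfl)
    simp [h1]

end Cfsg.Agent.Lib.Helper73.N22
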