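import Mathlib
import Cfsg.Agent.S3761
import Cfsg.Agent.S0646
import Cfsg.Agent.Lib.Helper73.MaximalClass

/-!
2-groups without noncyclic abelian subgroups of order 8 (helper73): basic lemmas.
-/

set_option autoImplicit false

namespace Cfsg.Agent.Lib.Helper73

open Subgroup

/-- no noncyclic abelian subgroup of order `8` -/
def NA8 (T : Type*) [Group T] : Prop :=
  ∀ B : Subgroup T, IsMulCommutative B → Nat.card B = 8 → IsCyclic B

section basic

variable {G : Type*} [Group G]

/-- elementwise commutativity gives `IsMulCommutative` -/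
theorem isMulCommutative_of_forall (B : Subgroup G) (h : ∀ x ∈ B, ∀ y ∈ B, x * y = y * x) :
    IsMulCommutative B := ⟨⟨fun a b => Subtype.ext (h a a.2 b b.2)⟩⟩

theorem comm_of_isMulCommutative {B : Subgroup G} (h : IsMulCommutative B) :
    ∀ x ∈ B, ∀ y ∈ B, x * y = y * x := fun x hx y hy =>
  congrArg Subtype.val (h.is_comm.comm ⟨x, hx⟩ ⟨y, hy⟩)

/-- the subgroup generated by two commuting elements is commutative -/
theorem comm_closure_pair {c b : G} (h : c * b = b * c) :
    ∀ x ∈ closure ({c, b} : Set G), ∀ y ∈ closure ({c, b} : Set G), x * y = y * x := by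
  have h1 : closure ({c, b} : Set G) ≤ centralizer ({c, b} : Set G) := by
    rw [closure_le]
    rintro x (rfl | rfl)
    · rw [SetLike.mem_coe, mem_centralizer_iff]
      rintro y (rfl | rfl)
      · rfl
      · exact h.symm
    · rw [SetLike.mem_coe, mem_centralizer_iff]
      rintro y (rfl | rfl)
      · exact h
      · rfl
  intro x hx y hy
  have h2 : y ∈ centralizer ((closure ({c, b} : Set G) : Subgroup G) : Set G) := by
    rw [centralizer_closure]; exact h1 hy
  exact (mem_centralizer_iff.mp h2 x hx)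

/-- elements of the cyclic group generated by an involution -/
theorem mem_zpowers_involution {z x : G} (hz : z ^ 2 = 1) (hx : x ∈ zpowers z) : x = 1 ∨ x = z := by
  obtain ⟨k, rfl⟩ := mem_zpowers_iff.mp hx
  rcases Int.emod_two_eq_zero_or_one k with h | h
  · left
    have : k = 2 * (k / 2) := by omega
    rw [this, zpow_mul, zpow_ofNat, hz, one_zpow]
  · right
    have : k = 2 * (k / 2) + 1 := by omega
    rw [this, zpow_add, zpow_mul, zpow_ofNat, hz, one_zpow, one_mul, zpow_one]

/-- a cyclic subgroup contains at most one involution -/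
theorem eq_of_orderOf_two_of_isCyclic [Finite G] {B : Subgroup G} (hB : IsCyclic B) {x y : G}
    (hx : x ∈ B) (hy : y ∈ B) (ox : orderOf x = 2) (oy : orderOf y = 2) : x = y := by
  have h := Cfsg.Agent.S0519.subgroup_eq_of_card_eq (zpowers (⟨x, hx⟩ : B)) (zpowers (⟨y, hy⟩ : B))
    (by rw [Nat.card_zpowers, Nat.card_zpowers, Subgroup.orderOf_mk, Subgroup.orderOf_mk, ox, oy])
  have hy' : (⟨y, hy⟩ : B) ∈ zpowers (⟨x, hx⟩ : B) := by rw [h]; exact mem_zpowers _
  have hx2 : (⟨x, hx⟩ : B) ^ 2 = 1 := by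
    apply Subtype.ext
    show x ^ 2 = 1
    rw [← ox]; exact pow_orderOf_eq_one x
  rcases mem_zpowers_involution hx2 hy' with h1 | h1
  · exfalso
    have : y = 1 := congrArg Subtype.val h1
    rw [this, orderOf_one] at oy
    omega
  · exact (congrArg Subtype.val h1).symm

/-- a noncyclic abelian `2`-subgroup of order at least `8` contains a noncyclic subgroup of order `8` -/
theorem exists_noncyclic_card_eight [Finite G] (B : Subgroup G) (hB2 : IsPGroup 2 B)
    (hBc : IsMulCommutative B) (hnc : ¬ IsCyclic B) (h8 : 8 ≤ Nat.card B) :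
    ∃ B0 : Subgroup G, B0 ≤ B ∧ IsMulCommutative B0 ∧ ¬ IsCyclic B0 ∧ Nat.card B0 = 8 := by
  have : Fact (Nat.Prime 2) := ⟨Nat.prime_two⟩
  let _ : CommGroup B := { (inferInstance : Group B) with mul_comm := hBc.is_comm.comm }
  have hnu : ¬ Cfsg.Agent.S0016.Uniq 2 B :=
    fun hu => hnc (Cfsg.Agent.S0016.isCyclic_of_comm 2 hB2 hu)
  unfold Cfsg.Agent.S0016.Uniq at hnu
  push Not at hnu
  obtain ⟨H, K, hH, hK, hHK⟩ := hnu
  have hinf : H ⊓ K = ⊥ := by
    have h1 : Nat.card (H ⊓ K : Subgroup B) ∣ 2 := hH ▸ Subgroup.card_dvd_of_le inf_le_left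
    rcases (Nat.dvd_prime Nat.prime_two).mp h1 with h | h
    · exact Subgroup.card_eq_one.mp h
    · exfalso
      have e1 : H ⊓ K = H := Subgroup.eq_of_le_of_card_ge inf_le_left (by rw [h, hH])
      have e2 : H ⊓ K = K := Subgroup.eq_of_le_of_card_ge inf_le_right (by rw [h, hK])
      exact hHK (e1.symm.trans e2)
  have hKn : K ≤ normalizer (H : Set B) := by
    intro k _
    rw [mem_normalizer_iff]
    intro h
    rw [mul_comm k h, mul_inv_cancel_right]
  have hV : Nat.card (H ⊔ K : Subgroup B) = 2 ^ 2 := by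
    rw [Cfsg.Agent.Lib.Helper54.card_sup_of_le_normalizer hKn hinf, hH, hK]; norm_num
  obtain ⟨m, hm⟩ := hB2.exists_card_eq
  have hm3 : 3 ≤ m := by
    by_contra hlt
    push Not at hlt
    have : (2 : ℕ) ^ m ≤ 2 ^ 2 := Nat.pow_le_pow_right (by norm_num) (by omega)
    omega
  have hdvd : 2 ^ 3 ∣ Nat.card B := by rw [hm]; exact pow_dvd_pow 2 hm3
  obtain ⟨B0', hB0c, hle⟩ := Sylow.exists_subgroup_card_pow_prime_le 2 hdvd (H ⊔ K) hV (by norm_num)
  refine ⟨B0'.map B.subtype, map_subtype_le _, ?_, ?_, ?_⟩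
  · apply isMulCommutative_of_forall
    intro x hx y hy
    obtain ⟨x', -, rfl⟩ := hx
    obtain ⟨y', -, rfl⟩ := hy
    exact congrArg Subtype.val (mul_comm x' y')
  · intro hcyc
    have e := (B0'.equivMapOfInjective B.subtype B.subtype_injective)
    have hcyc' : IsCyclic B0' := isCyclic_of_surjective e.symm e.symm.surjective
    have hHle : H ≤ B0' := le_sup_left.trans hle
    have hKle : K ≤ B0' := le_sup_right.trans hle
    have h1 := Cfsg.Agent.S0519.subgroup_eq_of_card_eq (H.subgroupOf B0') (K.subgroupOf B0')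
      (by rw [Nat.card_congr (Subgroup.subgroupOfEquivOfLe hHle).toEquiv,
        Nat.card_congr (Subgroup.subgroupOfEquivOfLe hKle).toEquiv, hH, hK])
    rw [subgroupOf_inj, inf_eq_left.mpr hHle, inf_eq_left.mpr hKle] at h1
    exact hHK h1
  · rw [Subgroup.card_map_of_injective B.subtype_injective, hB0c]; norm_num

/-- in a `2`-group with `NA8`, abelian subgroups of order at least `8` are cyclic -/
theorem isCyclic_of_na8 {T : Type*} [Group T] [Finite T] (hT : IsPGroup 2 T) (hna : NA8 T)
    (B : Subgroup T) (hBc : IsMulCommutative B) (h8 : 8 ≤ Nat.card B) : IsCyclic B := by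
  by_contra hnc
  obtain ⟨B0, -, h1, h2, h3⟩ := exists_noncyclic_card_eight B (hT.to_subgroup B) hBc hnc h8
  exact h2 (hna B0 h1 h3)

end basic

end Cfsg.Agent.Lib.Helper73
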