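import Cfsg.Agent.Lib.Helper73.NoAb8Core6

/-!
(helper73) Relative versions of central-series lemmas, and the two small self-centralizing cases.
-/

set_option autoImplicit false

namespace Cfsg.Agent.Lib.Helper73

open Subgroup
open scoped commutatorElement

section rel

variable {G : Type*} [Group G] [Finite G]

omit [Finite G] in
theorem normal_subgroupOf_of_forall (X' N : Subgroup G)
    (hnorm : ∀ x ∈ X', ∀ q ∈ N, x * q * x⁻¹ ∈ N) : (N.subgroupOf X').Normal := by
  constructor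
  intro n hn g
  rw [mem_subgroupOf] at hn ⊢
  exact hnorm g g.2 n hn

theorem exists_ne_one_central_rel (X' N : Subgroup G) (hX' : IsPGroup 2 X') (hNX : N ≤ X')
    (hnorm : ∀ x ∈ X', ∀ q ∈ N, x * q * x⁻¹ ∈ N) (hN : N ≠ ⊥) :
    ∃ t ∈ N, t ≠ 1 ∧ ∀ x ∈ X', x * t = t * x := by
  have : Fact (Nat.Prime 2) := ⟨Nat.prime_two⟩
  have hn : (N.subgroupOf X').Normal := normal_subgroupOf_of_forall X' N hnorm
  have hne : N.subgroupOf X' ≠ ⊥ := by
    intro h
    apply hN
    rw [Subgroup.subgroupOf_eq_bot] at h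
    rw [eq_bot_iff]
    intro x hx
    have : x ∈ N ⊓ X' := ⟨hx, hNX hx⟩
    exact h.le_bot this
  obtain ⟨t, htN, ht1, htc⟩ := exists_ne_one_mem_center_of_normal' hX' (N.subgroupOf X') hne
  refine ⟨t, mem_subgroupOf.mp htN, fun h => ht1 (Subtype.ext h), ?_⟩
  intro x hx
  have := mem_center_iff.mp htc ⟨x, hx⟩
  exact congrArg Subtype.val this

theorem exists_comm_mem_zpowers_rel (X' Q : Subgroup G) (hX' : IsPGroup 2 X') (hQX : Q ≤ X')
    (hnorm : ∀ x ∈ X', ∀ q ∈ Q, x * q * x⁻¹ ∈ Q) {z : G} (hzX : z ∈ X')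
    (hzc : ∀ x ∈ X', x * z = z * x) (hz2 : z ^ 2 = 1) (hQ : 2 < Nat.card Q) :
    ∃ c ∈ Q, c ∉ zpowers z ∧ ∀ x ∈ X', ⁅c, x⁆ ∈ zpowers z := by
  have hn : (Q.subgroupOf X').Normal := normal_subgroupOf_of_forall X' Q hnorm
  have hcard : Nat.card (Q.subgroupOf X') = Nat.card Q :=
    Nat.card_congr (Subgroup.subgroupOfEquivOfLe hQX).toEquiv
  have hzc' : (⟨z, hzX⟩ : X') ∈ center X' := by
    rw [mem_center_iff]
    intro g
    exact Subtype.ext (hzc g g.2)
  obtain ⟨c, hcQ, hcz, hcomm⟩ := exists_comm_mem_zpowers hX' (Q.subgroupOf X') hzc'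
    (Subtype.ext (by simpa using hz2)) (by rw [hcard]; exact hQ)
  refine ⟨c, mem_subgroupOf.mp hcQ, ?_, ?_⟩
  · intro h
    exact hcz ((coe_mem_zpowers_iff' (⟨z, hzX⟩ : X') c).mp h)
  · intro x hx
    have := hcomm ⟨x, hx⟩
    exact (coe_mem_zpowers_iff' (⟨z, hzX⟩ : X') ⁅c, ⟨x, hx⟩⁆).mpr this

end rel

namespace Q8Sub

variable {G : Type*} [Group G] {N : Subgroup G} {c d : G}

/-- an element normalizing `N`, centralizing `c`, with square centralizing `N`, induces an inner
automorphism of `N` -/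
theorem centralizes_or' (h : Q8Sub N c d) {e : G}
    (heN : ∀ x ∈ N, e * x * e⁻¹ ∈ N) (hec : e * c = c * e) (he2 : e ^ 2 ∈ centralizer (N : Set G)) :
    e ∈ centralizer (N : Set G) ∨ e * c⁻¹ ∈ centralizer (N : Set G) := by
  have hc' : Commute e c := hec
  have hconjN : e * d * e⁻¹ ∈ N := heN d h.hb
  have hconjc : e * d * e⁻¹ ∉ zpowers c := by
    intro h1
    apply h.nmem
    obtain ⟨i, hi⟩ := mem_zpowers_iff.mp h1
    have : d = c ^ i := by
      have h2 : e * d * e⁻¹ = e * c ^ i * e⁻¹ := by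
        rw [← hi, (hc'.zpow_right i).eq, mul_inv_cancel_right]
      have h3 := mul_right_cancel h2
      exact mul_left_cancel h3
    rw [this]; exact zpow_mem_zpowers c i
  obtain ⟨i, hi⟩ := h.exists_eq_mul_zpow hconjN hconjc
  have h1 : d = d * c ^ i * c ^ i := by
    have h2 : e * (e * d * e⁻¹) * e⁻¹ = d := by
      have h5 : d * e ^ 2 = e ^ 2 * d := mem_centralizer_iff.mp he2 d h.hb
      calc e * (e * d * e⁻¹) * e⁻¹ = (e ^ 2 * d) * (e ^ 2)⁻¹ := by rw [pow_two]; group
        _ = d := by rw [← h5, mul_inv_cancel_right]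
    have h3 : e * (e * d * e⁻¹) * e⁻¹ = (e * d * e⁻¹) * (e * c ^ i * e⁻¹) := by
      nth_rewrite 1 [hi]
      group
    rw [h3, hi, (hc'.zpow_right i).eq, mul_inv_cancel_right] at h2
    exact h2.symm
  have h2 : c ^ i * c ^ i = 1 := by
    have : d * (c ^ i * c ^ i) = d * 1 := by rw [mul_one, ← mul_assoc]; exact h1.symm
    exact mul_left_cancel this
  have h3 : c ^ i = 1 ∨ c ^ i = c ^ 2 := by
    by_cases h4 : c ^ i = 1
    · left; exact h4
    · right
      exact h.invol (N.zpow_mem h.ha i) h.ha (by rw [pow_two]; exact h2) h4 h.a_sq_ne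
  rcases h3 with h3 | h3
  · left
    apply h.mem_centralizer_of_comm hec
    rw [h3, mul_one] at hi
    have := congrArg (fun t => t * e) hi
    simpa [mul_assoc] using this
  · right
    have hc4 : c ^ 4 = 1 := h.pow_four h.ha
    have hc3 : c ^ 2 * c = c⁻¹ := by
      rw [eq_inv_iff_mul_eq_one, ← pow_succ, ← pow_succ]; exact hc4
    apply h.mem_centralizer_of_comm
    · rw [mul_assoc, inv_mul_cancel, mul_one, ← mul_assoc, ← hec, mul_assoc, mul_inv_cancel, mul_one]
    · have h4 : c⁻¹ * d = d * c := by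
        have := h.conj
        rw [← this]; group
      have h5 : e * d = d * c ^ 2 * e := by
        rw [h3] at hi
        have := congrArg (fun t => t * e) hi
        simpa [mul_assoc] using this
      have h6 : c ^ 2 * e = e * c ^ 2 := ((hc'.pow_right 2).eq).symm
      calc e * c⁻¹ * d = e * (c⁻¹ * d) := by rw [mul_assoc]
        _ = e * (d * c) := by rw [h4]
        _ = (e * d) * c := by rw [mul_assoc]
        _ = d * c ^ 2 * e * c := by rw [h5]
        _ = d * (c ^ 2 * e) * c := by rw [mul_assoc d]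
        _ = d * (e * c ^ 2) * c := by rw [h6]
        _ = d * (e * (c ^ 2 * c)) := by rw [mul_assoc, mul_assoc]
        _ = d * (e * c⁻¹) := by rw [hc3]

end Q8Sub

end Cfsg.Agent.Lib.Helper73
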