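import Cfsg.Agent.Lib.Helper73.NoAb8Amb1

/-!
(helper73) A normal self-centralizing quaternion group of order 8 or four-group is not normalized by an
abelian group of order 8 (noncyclic in the quaternion case).
-/

set_option autoImplicit false

namespace Cfsg.Agent.Lib.Helper73

open Subgroup
open scoped commutatorElement

variable {G : Type*} [Group G] [Finite G]

omit [Finite G] in
theorem isPGroup_two_of_card_eight (A : Subgroup G) (hA8 : Nat.card A = 8) : IsPGroup 2 A := by
  have : Fact (Nat.Prime 2) := ⟨Nat.prime_two⟩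
  exact IsPGroup.of_card (n := 3) (by rw [hA8]; norm_num)

omit [Finite G] in
theorem pow_eight_eq_one_of_mem {A : Subgroup G} (hA8 : Nat.card A = 8) {g : G} (hg : g ∈ A) :
    g ^ 8 = 1 := by
  have h1 : (⟨g, hg⟩ : A) ^ Nat.card A = 1 := pow_card_eq_one'
  rw [hA8] at h1
  exact congrArg Subtype.val h1

/-- the quaternion case -/
theorem Q8Sub.no_abelian_eight {T : Subgroup G} {a b : G} (hQ : Q8Sub T a b) (hTn : T.Normal)
    (hCT : centralizer (T : Set G) ≤ T)
    (A : Subgroup G) (hAc : IsMulCommutative A) (hAnc : ¬ IsCyclic A) (hA8 : Nat.card A = 8) : False := by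
  have : Fact (Nat.Prime 2) := ⟨Nat.prime_two⟩
  have hAcomm := comm_of_isMulCommutative hAc
  have hA2 : IsPGroup 2 A := isPGroup_two_of_card_eight A hA8
  have hT2 : IsPGroup 2 T := isPGroup_two_of_card_eight T hQ.card
  set X' := A ⊔ T with hX'
  have hX'2 : IsPGroup 2 X' := IsPGroup.to_sup_of_normal_right hA2 hT2
  have hAX : A ≤ X' := le_sup_left
  have hTX : T ≤ X' := le_sup_right
  obtain ⟨z, hz⟩ : ∃ z : G, z = a ^ 2 := ⟨_, rfl⟩
  have hz2 : z ^ 2 = 1 := by rw [hz, ← pow_mul]; exact hQ.pow_four hQ.ha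
  have hzT : z ∈ T := hz ▸ T.pow_mem hQ.ha 2
  have hz1 : z ≠ 1 := hz ▸ hQ.a_sq_ne
  have hinv : ∀ e ∈ T, e ^ 2 = 1 → e ∈ zpowers z := by
    intro e he he2
    by_cases he1 : e = 1
    · rw [he1]; exact one_mem _
    · have := hQ.invol he hQ.ha he2 he1 hQ.a_sq_ne
      rw [← hz] at this
      rw [this]; exact mem_zpowers z
  have hzc : ∀ g : G, g * z = z * g := by
    intro g
    have h1 : g * z * g⁻¹ = a ^ 2 := by
      apply hQ.invol (hTn.conj_mem z hzT g) hQ.ha
      · rw [conj_pow, hz2]; group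
      · intro h
        apply hz1
        have : z = g⁻¹ * (g * z * g⁻¹) * g := by group
        rw [this, h]; group
      · exact hQ.a_sq_ne
    rw [← hz] at h1
    calc g * z = g * z * g⁻¹ * g := by group
      _ = z * g := by rw [h1]
  have hzcent : ∀ y ∈ zpowers z, y ∈ centralizer (T : Set G) := by
    intro y hy
    obtain ⟨i, rfl⟩ := mem_zpowers_iff.mp hy
    rw [mem_centralizer_iff]
    intro x _
    have : Commute x z := hzc x
    exact (this.zpow_right i).eq
  obtain ⟨c, hcT, hcz, hcomm⟩ := exists_comm_mem_zpowers_rel X' T hX'2 hTX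
    (fun x _ q hq => hTn.conj_mem q hq x) (hTX hzT) (fun x _ => hzc x) hz2
    (by rw [hQ.card]; norm_num)
  have hc2 : c ^ 2 ≠ 1 := fun h => hcz (hinv c hcT h)
  obtain ⟨d, hdT, hd⟩ : ∃ d ∈ T, d ∉ zpowers c := by
    by_contra hcon
    push Not at hcon
    obtain ⟨i, hi⟩ := mem_zpowers_iff.mp (hcon a hQ.ha)
    obtain ⟨j, hj⟩ := mem_zpowers_iff.mp (hcon b hQ.hb)
    apply hQ.not_comm
    rw [← hi, ← hj, ← zpow_add, ← zpow_add, add_comm]
  have hQ' : Q8Sub T c d := hQ.pair_of hcT hdT hc2 hd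
  have hstep := card_centralizer_step (p := 2) (zpowers z) A
    (by rw [Nat.card_zpowers]; exact orderOf_le_of_pow_eq_one (by norm_num) hz2)
    (fun y hy g _ => by
      obtain ⟨i, rfl⟩ := mem_zpowers_iff.mp hy
      have : Commute g z := hzc g
      exact (this.zpow_right i).symm) c
    (fun g hg => hcomm g (hAX hg))
  rw [hA8] at hstep
  set A1 := A ⊓ centralizer ({c} : Set G) with hA1
  have hnormT : ∀ e : G, ∀ x ∈ T, e * x * e⁻¹ ∈ T := fun e x hx => hTn.conj_mem x hx e
  -- elements of `A1` with square in `⟨z⟩` lie in `T`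
  have hkey : ∀ e ∈ A1, e ^ 2 ∈ zpowers z → e ∈ T := by
    intro e he he2
    have hec : e * c = c * e := by
      have := mem_centralizer_iff.mp (Subgroup.mem_inf.mp he).2 c (Set.mem_singleton c)
      exact this.symm
    rcases hQ'.centralizes_or' (hnormT e) hec (hzcent _ he2) with h1 | h1
    · exact hCT h1
    · have h2 := T.mul_mem (hCT h1) hcT
      simpa using h2
  obtain ⟨g, hgA1, hgz⟩ : ∃ g ∈ A1, g ∉ zpowers z := by
    by_contra hcon
    push Not at hcon
    have h1 : A1 ≤ zpowers z := fun g hg => hcon g hg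
    have h2 := Subgroup.card_le_of_le h1
    have h3 : Nat.card (zpowers z) ≤ 2 := by
      rw [Nat.card_zpowers]; exact orderOf_le_of_pow_eq_one (by norm_num) hz2
    omega
  have hgA : g ∈ A := (Subgroup.mem_inf.mp hgA1).1
  have hg2 : g ^ 2 ≠ 1 := by
    intro h
    have h1 : g ∈ T := hkey g hgA1 (by rw [h]; exact one_mem _)
    exact hgz (hinv g h1 h)
  have hg8 : g ^ 8 = 1 := pow_eight_eq_one_of_mem hA8 hgA
  have hg4 : g ^ 4 = 1 := by
    by_contra hg4
    apply hAnc
    have hord : orderOf g = 8 := by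
      have h1 : orderOf g ∣ 2 ^ 3 := orderOf_dvd_of_pow_eq_one (by simpa using hg8)
      obtain ⟨k, hk, hk2⟩ := (Nat.dvd_prime_pow Nat.prime_two).mp h1
      have : k = 3 := by
        by_contra hk3
        have hk' : k ≤ 2 := by omega
        apply hg4
        have h2 : orderOf g ∣ 2 ^ 2 := by rw [hk2]; exact pow_dvd_pow 2 hk'
        exact orderOf_dvd_iff_pow_eq_one.mp (by simpa using h2)
      rw [hk2, this]; norm_num
    have : orderOf (⟨g, hgA⟩ : A) = Nat.card A := by
      rw [Subgroup.orderOf_mk, hord, hA8]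
    exact isCyclic_of_orderOf_eq_card _ this
  have hgT : g ∈ T := by
    apply hkey g hgA1
    have h1 : g ^ 2 ∈ A1 := A1.pow_mem hgA1 2
    have h2 : (g ^ 2) ^ 2 = 1 := by rw [← pow_mul]; exact hg4
    have h3 : g ^ 2 ∈ T := hkey _ h1 (by rw [h2]; exact one_mem _)
    exact hinv _ h3 h2
  have h4 : 4 ≤ Nat.card (A ⊓ T : Subgroup G) := by
    have hg' : g ∈ A ⊓ T := Subgroup.mem_inf.mpr ⟨hgA, hgT⟩
    have h1 : Nat.card (A ⊓ T : Subgroup G) ∣ 2 ^ 3 := by
      have := Subgroup.card_dvd_of_le (inf_le_left : A ⊓ T ≤ A)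
      rw [hA8] at this
      simpa using this
    obtain ⟨k, hk, hk2⟩ := (Nat.dvd_prime_pow Nat.prime_two).mp h1
    have h2 : (⟨g, hg'⟩ : (A ⊓ T : Subgroup G)) ^ Nat.card (A ⊓ T : Subgroup G) = 1 :=
      pow_card_eq_one'
    have h3 : g ^ Nat.card (A ⊓ T : Subgroup G) = 1 := congrArg Subtype.val h2
    have hk2' : 2 ≤ k := by
      by_contra hlt
      push Not at hlt
      apply hg2
      have h5 : orderOf g ∣ 2 ^ k := by rw [← hk2]; exact orderOf_dvd_of_pow_eq_one h3
      have h6 : orderOf g ∣ 2 ^ 1 := h5.trans (pow_dvd_pow 2 (by omega))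
      exact orderOf_dvd_iff_pow_eq_one.mp (by simpa using h6)
    rw [hk2]
    calc 4 = 2 ^ 2 := by norm_num
      _ ≤ 2 ^ k := Nat.pow_le_pow_right (by norm_num) hk2'
  obtain ⟨e, heA, heT, q, hqT, heq⟩ := hQ.exists_inner_of_abelian_eight A hAc hAnc hA8
    (fun e _ x hx => hnormT e x hx) h4
  apply heT
  have h1 : e * q ∈ T := hCT heq
  have := T.mul_mem h1 (T.inv_mem hqT)
  simpa using this

/-- the four-group case -/
theorem no_abelian_eight_of_four (T : Subgroup G) (hTn : T.Normal) (hT4 : Nat.card T = 4)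
    (hexp : ∀ x ∈ T, x ^ 2 = 1) (hCT : centralizer (T : Set G) ≤ T)
    (A : Subgroup G) (hAc : IsMulCommutative A) (hA8 : Nat.card A = 8) : False := by
  have : Fact (Nat.Prime 2) := ⟨Nat.prime_two⟩
  have hAcomm := comm_of_isMulCommutative hAc
  have hA2 : IsPGroup 2 A := isPGroup_two_of_card_eight A hA8
  have hT2 : IsPGroup 2 T := IsPGroup.of_card (n := 2) (by rw [hT4]; norm_num)
  set X' := A ⊔ T with hX'
  have hX'2 : IsPGroup 2 X' := IsPGroup.to_sup_of_normal_right hA2 hT2
  have hAX : A ≤ X' := le_sup_left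
  have hTX : T ≤ X' := le_sup_right
  have hTbot : T ≠ ⊥ := by
    intro h
    rw [h, Subgroup.card_bot] at hT4
    omega
  obtain ⟨t, htT, ht1, htc⟩ := exists_ne_one_central_rel X' T hX'2 hTX
    (fun x _ q hq => hTn.conj_mem q hq x) hTbot
  have ht2 : t ^ 2 = 1 := hexp t htT
  have hord : orderOf t = 2 := orderOf_eq_prime ht2 ht1
  have hZT : zpowers t ≤ T := zpowers_le.mpr htT
  have hidx : ((zpowers t).subgroupOf T).index = 2 := by
    have h1 := Cfsg.Agent.Lib.Helper54.card_mul_relIndex hZT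
    rw [Nat.card_zpowers, hord, hT4] at h1
    have : (zpowers t).relIndex T = 2 := by omega
    exact this
  have hcoset : ∀ u ∈ T, ∀ y ∈ T, u ∉ zpowers t → y ∉ zpowers t → u * y ∈ zpowers t := by
    intro u hu y hy hu' hy'
    have := (Subgroup.mul_mem_iff_of_index_two hidx (a := ⟨u, hu⟩) (b := ⟨y, hy⟩)).mpr
      ⟨fun h => absurd (mem_subgroupOf.mp h) hu', fun h => absurd (mem_subgroupOf.mp h) hy'⟩
    exact mem_subgroupOf.mp this
  obtain ⟨u, huT, hu⟩ : ∃ u ∈ T, u ∉ zpowers t := by
    by_contra hcon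
    push Not at hcon
    have h1 : T ≤ zpowers t := fun g hg => hcon g hg
    have h2 := Subgroup.card_le_of_le h1
    rw [Nat.card_zpowers, hord, hT4] at h2
    omega
  have hstep := card_centralizer_step (p := 2) (zpowers t) A
    (by rw [Nat.card_zpowers, hord])
    (fun y hy g hg => by
      obtain ⟨i, rfl⟩ := mem_zpowers_iff.mp hy
      have : Commute g t := htc g (hAX hg)
      exact (this.zpow_right i).symm) u
    (fun g hg => by
      rw [commutatorElement_def]
      have h1 : g * u⁻¹ * g⁻¹ ∈ T := hTn.conj_mem _ (T.inv_mem huT) g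
      have h2 : g * u⁻¹ * g⁻¹ ∉ zpowers t := by
        intro h
        apply hu
        obtain ⟨i, hi⟩ := mem_zpowers_iff.mp h
        have hgt : Commute g t := htc g (hAX hg)
        have h3 : u⁻¹ = t ^ i := by
          have h4 : g * u⁻¹ * g⁻¹ = g * t ^ i * g⁻¹ := by
            rw [← hi, (hgt.zpow_right i).eq, mul_inv_cancel_right]
          exact mul_left_cancel (mul_right_cancel h4)
        have h5 : u = (t ^ i)⁻¹ := by rw [← h3, inv_inv]
        rw [h5]
        exact (zpowers t).inv_mem (zpow_mem_zpowers t i)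
      have h3 := hcoset u huT _ h1 hu h2
      have h4 : u * g * u⁻¹ * g⁻¹ = u * (g * u⁻¹ * g⁻¹) := by group
      rw [h4]; exact h3)
  rw [hA8] at hstep
  set A1 := A ⊓ centralizer ({u} : Set G) with hA1
  have hA1C : A1 ≤ centralizer (T : Set G) := by
    intro g hg
    have hgA : g ∈ A := (Subgroup.mem_inf.mp hg).1
    have hgu : Commute g u := by
      have := mem_centralizer_iff.mp (Subgroup.mem_inf.mp hg).2 u (Set.mem_singleton u)
      exact this.symm
    have hgt : Commute g t := htc g (hAX hgA)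
    rw [mem_centralizer_iff]
    intro y hy
    by_cases hyz : y ∈ zpowers t
    · obtain ⟨i, rfl⟩ := mem_zpowers_iff.mp hyz
      exact ((hgt.zpow_right i).eq).symm
    · have h1 := hcoset u huT y hy hu hyz
      obtain ⟨i, hi⟩ := mem_zpowers_iff.mp h1
      have h2 : y = u⁻¹ * t ^ i := by rw [hi]; group
      rw [h2]
      exact (((hgu.inv_right).mul_right (hgt.zpow_right i)).eq).symm
  have hA1T : A1 ≤ T := hA1C.trans hCT
  have hA1eq : A1 = T := Subgroup.eq_of_le_of_card_ge hA1T (by rw [hT4]; omega)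
  have hTA : T ≤ A := hA1eq ▸ (inf_le_left : A1 ≤ A)
  have hAC : A ≤ centralizer (T : Set G) := by
    intro g hg
    rw [mem_centralizer_iff]
    intro y hy
    exact hAcomm y (hTA hy) g hg
  have := Subgroup.card_le_of_le (hAC.trans hCT)
  omega

end Cfsg.Agent.Lib.Helper73
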