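import Cfsg.Agent.Lib.Helper73.NoAb8Amb2
import Cfsg.Agent.Lib.Helper55.Cores
import Cfsg.Agent.Lib.Helper1.Hall
import Cfsg.Agent.Lib.Helper54.Coprime

/-!
(helper73) The ambient step: in a minimal solvable group with trivial `2'`-core, the Sylow `2`-subgroup is
normal.
-/

set_option autoImplicit false

namespace Cfsg.Agent.Lib.Helper73

open Subgroup

variable {S : Type*} [Group S] [Finite S]

/-- a Hall `2'`-subgroup of a solvable group -/
theorem exists_hall_two_compl [Group.IsSolvable S] (X : Sylow 2 S) :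
    ∃ K : Subgroup S, Nat.card K = (X : Subgroup S).index ∧ Odd (Nat.card K) := by
  have : Fact (Nat.Prime 2) := ⟨Nat.prime_two⟩
  have h1 := Subgroup.card_mul_index (X : Subgroup S)
  have hodd : ¬ 2 ∣ (X : Subgroup S).index := X.not_dvd_index
  obtain ⟨a, ha⟩ := X.2.exists_card_eq
  have hcop : ((X : Subgroup S).index).Coprime (Nat.card (X : Subgroup S)) := by
    rw [ha]
    exact Nat.Coprime.pow_right a ((Nat.Prime.coprime_iff_not_dvd Nat.prime_two).mpr hodd).symm
  obtain ⟨K, hK⟩ := Cfsg.Agent.Lib.Helper1.hall_exists ((X : Subgroup S).index)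
    (Nat.card (X : Subgroup S)) (by rw [← h1, mul_comm]) hcop
  refine ⟨K, hK, ?_⟩
  rw [hK]
  exact Nat.odd_iff.mpr (by omega)

/-- a subgroup `Y` of a Sylow `2`-subgroup `X` normalized by a complement `K`: `Y K` has `2`-power index
and is proper if `Y ≠ X` -/
theorem sup_hall_index (X : Sylow 2 S) (K : Subgroup S) (hK : Nat.card K = (X : Subgroup S).index)
    (Y : Subgroup S) (hYX : Y ≤ X) (hKY : K ≤ normalizer (Y : Set S)) (hne : Y ≠ X) :
    Y ⊔ K ≠ ⊤ ∧ ∃ k : ℕ, (Y ⊔ K).index = 2 ^ k := by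
  have : Fact (Nat.Prime 2) := ⟨Nat.prime_two⟩
  have hodd : ¬ 2 ∣ (X : Subgroup S).index := X.not_dvd_index
  have hY2 : IsPGroup 2 Y := X.2.to_le hYX
  obtain ⟨b, hb⟩ := hY2.exists_card_eq
  obtain ⟨a, ha⟩ := X.2.exists_card_eq
  have hcop : (Nat.card Y).Coprime (Nat.card K) := by
    rw [hb, hK]
    exact Nat.Coprime.pow_left b ((Nat.Prime.coprime_iff_not_dvd Nat.prime_two).mpr hodd)
  have hdisj : Y ⊓ K = ⊥ := (Subgroup.disjoint_of_coprime_natCard hcop).eq_bot
  have hcard : Nat.card (Y ⊔ K : Subgroup S) = Nat.card Y * Nat.card K :=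
    Cfsg.Agent.Lib.Helper54.card_sup_of_le_normalizer hKY hdisj
  have h1 := Subgroup.card_mul_index (Y ⊔ K)
  have h2 := Subgroup.card_mul_index (X : Subgroup S)
  have hKpos : 0 < Nat.card K := Nat.card_pos
  have h3 : Nat.card Y * (Y ⊔ K).index = Nat.card (X : Subgroup S) := by
    have h4 : Nat.card K * (Nat.card Y * (Y ⊔ K).index) = Nat.card K * Nat.card (X : Subgroup S) := by
      rw [hcard] at h1
      rw [← hK] at h2
      calc Nat.card K * (Nat.card Y * (Y ⊔ K).index)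
          = Nat.card Y * Nat.card K * (Y ⊔ K).index := by ring
        _ = Nat.card S := h1
        _ = Nat.card (X : Subgroup S) * Nat.card K := h2.symm
        _ = Nat.card K * Nat.card (X : Subgroup S) := by ring
    exact Nat.eq_of_mul_eq_mul_left hKpos h4
  constructor
  · intro htop
    apply hne
    have h5 : (Y ⊔ K).index = 1 := by rw [htop]; exact Subgroup.index_top
    rw [h5, mul_one] at h3
    exact Subgroup.eq_of_le_of_card_ge hYX h3.ge
  · have h5 : (Y ⊔ K).index ∣ 2 ^ a := by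
      rw [← ha, ← h3]
      exact Dvd.intro_left _ rfl
    obtain ⟨k, -, hk⟩ := (Nat.dvd_prime_pow Nat.prime_two).mp h5
    exact ⟨k, hk⟩

omit [Finite S] in
/-- transport of a noncyclic abelian subgroup of order `8` along the inclusion of a subgroup -/
theorem map_subtype_props (T : Subgroup S) (B : Subgroup T) (hBc : IsMulCommutative B)
    (hBnc : ¬ IsCyclic B) (hB8 : Nat.card B = 8) :
    IsMulCommutative (B.map T.subtype) ∧ ¬ IsCyclic (B.map T.subtype) ∧
      Nat.card (B.map T.subtype) = 8 := by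
  have e := Subgroup.equivMapOfInjective B T.subtype T.subtype_injective
  refine ⟨?_, ?_, ?_⟩
  · apply isMulCommutative_of_forall
    rintro _ ⟨x, hx, rfl⟩ _ ⟨y, hy, rfl⟩
    have := comm_of_isMulCommutative hBc x hx y hy
    rw [← map_mul, ← map_mul, this]
  · intro h
    exact hBnc (isCyclic_of_surjective e.symm e.symm.surjective)
  · rw [← hB8]
    exact (Nat.card_congr e.toEquiv).symm

theorem sylow_eq_pCore [Group.IsSolvable S] (hO : Cfsg.pPrimeCore 2 S = ⊥)
    (h8 : ∃ A : Subgroup S, IsMulCommutative ↥A ∧ ¬ IsCyclic ↥A ∧ Nat.card ↥A = 8)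
    (hmin : ∀ R : Subgroup S, R ≠ ⊤ → (∃ k : ℕ, R.index = 2 ^ k) →
      ¬ ∃ A : Subgroup S, A ≤ R ∧ IsMulCommutative ↥A ∧ ¬ IsCyclic ↥A ∧ Nat.card ↥A = 8)
    (X : Sylow 2 S) : Cfsg.pCore 2 S = (X : Subgroup S) := by
  have : Fact (Nat.Prime 2) := ⟨Nat.prime_two⟩
  obtain ⟨T, hT⟩ : ∃ T : Subgroup S, T = Cfsg.pCore 2 S := ⟨_, rfl⟩
  rw [← hT]
  have hTn : T.Normal := hT ▸ Cfsg.Agent.Lib.Helper55.pCore_normal' 2
  have hT2 : IsPGroup 2 T := hT ▸ Cfsg.Agent.Lib.Helper55.isPGroup_pCore 2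
  have hCT : centralizer (T : Set S) ≤ T := hT ▸ Cfsg.Agent.Lib.Helper55.centralizer_pCore_le 2 hO
  have hTX : T ≤ X := hT ▸ Cfsg.Agent.Lib.Helper55.pCore_le_sylow X
  by_contra hne
  obtain ⟨K, hK, hKodd⟩ := exists_hall_two_compl X
  have hKN : K ≤ normalizer (T : Set S) := by
    rw [Subgroup.normalizer_eq_top]; exact le_top
  obtain ⟨hRtop, hRidx⟩ := sup_hall_index X K hK T hTX hKN hne
  have hNA := hmin (T ⊔ K) hRtop hRidx
  have hna : NA8 T := by
    intro B hBc hB8
    by_contra hBnc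
    apply hNA
    obtain ⟨h1, h2, h3⟩ := map_subtype_props T B hBc hBnc hB8
    exact ⟨B.map T.subtype, (Subgroup.map_subtype_le B).trans le_sup_left, h1, h2, h3⟩
  have hKbot : K ≠ ⊥ := by
    intro h
    rw [h, Subgroup.card_bot] at hK
    have hXtop : (X : Subgroup S) = ⊤ := Subgroup.index_eq_one.mp hK.symm
    apply hne
    have h1 : (⊤ : Subgroup S) ≤ Cfsg.pCore 2 S :=
      Cfsg.Agent.Lib.Helper55.le_pCore (N := ⊤) inferInstance (by rw [← hXtop]; exact X.2)
    rw [hXtop, hT]; exact top_le_iff.mp h1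
  obtain ⟨⟨k, hkK⟩, hk1'⟩ := (Subgroup.ne_bot_iff_exists_ne_one).mp hKbot
  have hk1 : k ≠ 1 := fun h => hk1' (Subtype.ext h)
  obtain ⟨b, hb⟩ := hT2.exists_card_eq
  have hdisj : T ⊓ K = ⊥ := by
    apply Disjoint.eq_bot
    apply Subgroup.disjoint_of_coprime_natCard
    rw [hb]
    exact Nat.Coprime.pow_left b (Nat.coprime_two_left.mpr hKodd)
  let σ : MulAut T := MulAut.conjNormal k
  have hσ : σ ^ orderOf k = 1 := by
    show (MulAut.conjNormal k : MulAut T) ^ orderOf k = 1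
    rw [← map_pow, pow_orderOf_eq_one, map_one]
  have hodd : Odd (orderOf k) := by
    have h1 : orderOf k ∣ Nat.card K := by
      have := orderOf_dvd_natCard (⟨k, hkK⟩ : K)
      rwa [Subgroup.orderOf_mk] at this
    exact Odd.of_dvd_nat hKodd h1
  have hσ1 : σ ≠ 1 := by
    intro h
    apply hk1
    have h1 : k ∈ centralizer (T : Set S) := by
      rw [mem_centralizer_iff]
      intro x hx
      have h2 : σ ⟨x, hx⟩ = ⟨x, hx⟩ := by rw [h]; rfl
      have h3 : k * x * k⁻¹ = x := by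
        have := congrArg Subtype.val h2
        rwa [MulAut.conjNormal_apply] at this
      calc x * k = (k * x * k⁻¹) * k := by rw [h3]
        _ = k * x := by group
    have h4 : k ∈ T ⊓ K := Subgroup.mem_inf.mpr ⟨hCT h1, hkK⟩
    rw [hdisj] at h4
    exact Subgroup.mem_bot.mp h4
  obtain ⟨A, hAc, hAnc, hA8⟩ := h8
  rcases na8_odd_aut hT2 hna σ (orderOf k) hodd hσ hσ1 with ⟨h4, hexp⟩ | ⟨h8', a, b', h1, h2, h3, h4⟩
  · exact no_abelian_eight_of_four T hTn h4 (fun x hx => congrArg Subtype.val (hexp ⟨x, hx⟩)) hCT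
      A hAc hA8
  · have hQ : Q8Sub T (a : S) (b' : S) := Q8Sub.ofPair ⟨h8', h1, h2, h3, h4⟩
    exact hQ.no_abelian_eight hTn hCT A hAc hAnc hA8

end Cfsg.Agent.Lib.Helper73
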