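import Cfsg.Agent.Lib.Helper73.NoAb8
import Cfsg.Agent.Lib.Helper73.SympCentral

/-!
(helper73) A 2-group without noncyclic abelian subgroups of order 8 which admits a nontrivial automorphism
of odd order is a four-group or a quaternion group of order 8.
-/

set_option autoImplicit false

namespace Cfsg.Agent.Lib.Helper73

open Subgroup
open scoped commutatorElement

/-- the join of two commutative subgroups commuting with each other is commutative -/
theorem comm_sup {G : Type*} [Group G] {H K : Subgroup G} (hH : ∀ x ∈ H, ∀ y ∈ H, x * y = y * x)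
    (hK : ∀ x ∈ K, ∀ y ∈ K, x * y = y * x) (hHK : ∀ x ∈ H, ∀ y ∈ K, x * y = y * x) :
    ∀ x ∈ H ⊔ K, ∀ y ∈ H ⊔ K, x * y = y * x := by
  have h1 : H ⊔ K ≤ centralizer ((H : Set G) ∪ (K : Set G)) := by
    apply sup_le
    · intro x hx
      rw [mem_centralizer_iff]
      rintro y (hy | hy)
      · exact hH y hy x hx
      · exact (hHK x hx y hy).symm
    · intro x hx
      rw [mem_centralizer_iff]
      rintro y (hy | hy)
      · exact hHK y hy x hx
      · exact hK y hy x hx
  intro x hx y hy
  have h2 : y ∈ centralizer (((H ⊔ K : Subgroup G)) : Set G) := by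
    rw [sup_eq_closure, centralizer_closure]; exact h1 hy
  exact mem_centralizer_iff.mp h2 x hx

/-- An automorphism of odd order of a group whose automorphism group is a `2`-group is trivial. -/
theorem aut_eq_one_of_isPGroup {T : Type*} [Group T] (h : IsPGroup 2 (MulAut T)) (σ : MulAut T) (n : ℕ)
    (hn : Odd n) (hσ : σ ^ n = 1) : σ = 1 := by
  obtain ⟨k, hk⟩ := h σ
  have h1 : orderOf σ ∣ n := orderOf_dvd_of_pow_eq_one hσ
  have h2 : orderOf σ ∣ 2 ^ k := orderOf_dvd_of_pow_eq_one hk
  have h3 : Nat.Coprime n (2 ^ k) := Nat.Coprime.pow_right k hn.coprime_two_right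
  have h4 : orderOf σ = 1 := Nat.eq_one_of_dvd_coprimes h3 h1 h2
  exact orderOf_eq_one_iff.mp h4

theorem aut_eq_one_of_isCyclic {T : Type*} [Group T] [Finite T] (hT : IsPGroup 2 T) (hc : IsCyclic T)
    (σ : MulAut T) (n : ℕ) (hn : Odd n) (hσ : σ ^ n = 1) : σ = 1 := by
  have : Fact (Nat.Prime 2) := ⟨Nat.prime_two⟩
  apply aut_eq_one_of_isPGroup _ σ n hn hσ
  obtain ⟨m, hm⟩ := hT.exists_card_eq
  have hcard := IsCyclic.card_mulAut T
  rw [hm] at hcard
  apply IsPGroup.of_card (n := m - 1)
  rw [hcard]
  rcases Nat.eq_zero_or_pos m with h0 | h0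
  · subst h0; simp
  · rw [Nat.totient_prime_pow Nat.prime_two h0]; simp

section main

variable {T : Type*} [Group T] [Finite T]

/-- a nonabelian group of order `8` has a cyclic subgroup of index `2` -/
theorem exists_cyclic_index_two_of_card_eight (h8 : Nat.card T = 8) {x0 y0 : T} (hxy : x0 * y0 ≠ y0 * x0) :
    ∃ C : Subgroup T, IsCyclic C ∧ C.index = 2 := by
  have hex : ∃ x : T, x ^ 2 ≠ 1 := by
    by_contra hall
    push Not at hall
    exact hxy (comm_of_sq_eq_one hall x0 y0)
  obtain ⟨x, hx⟩ := hex
  have hdvd : orderOf x ∣ 8 := h8 ▸ orderOf_dvd_natCard x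
  have hne8 : orderOf x ≠ 8 := by
    intro h
    have hc : IsCyclic T := isCyclic_of_orderOf_eq_card x (h.trans h8.symm)
    obtain ⟨g, hg⟩ := hc.exists_generator
    obtain ⟨i, rfl⟩ := mem_zpowers_iff.mp (hg x0)
    obtain ⟨j, rfl⟩ := mem_zpowers_iff.mp (hg y0)
    exact hxy (by rw [← zpow_add, ← zpow_add, add_comm])
  have hord : orderOf x = 4 := by
    have h1 : orderOf x ∈ Nat.divisors 8 := Nat.mem_divisors.mpr ⟨hdvd, by norm_num⟩
    have h2 : Nat.divisors 8 = {1, 2, 4, 8} := by decide
    rw [h2] at h1
    simp only [Finset.mem_insert, Finset.mem_singleton] at h1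
    rcases h1 with h | h | h | h
    · exfalso; apply hx; rw [orderOf_eq_one_iff.mp h, one_pow]
    · exfalso; apply hx; rw [← h]; exact pow_orderOf_eq_one x
    · exact h
    · exact absurd h hne8
  refine ⟨zpowers x, inferInstance, ?_⟩
  have h1 := Subgroup.index_mul_card (zpowers x)
  rw [Nat.card_zpowers, hord, h8] at h1
  omega

/-- a normal noncyclic abelian subgroup of order `4` in a `2`-group with `NA8` forces order at most `8` -/
theorem card_le_eight_of_normal_four (hT : IsPGroup 2 T) (hna : NA8 T) (E : Subgroup T) (hEn : E.Normal)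
    (hEc : IsMulCommutative E) (hEnc : ¬ IsCyclic E) (hE4 : Nat.card E = 4) : Nat.card T ≤ 8 := by
  have : Fact (Nat.Prime 2) := ⟨Nat.prime_two⟩
  have hEcomm := comm_of_isMulCommutative hEc
  -- the centralizer of `E` equals `E`
  have hCE : centralizer (E : Set T) ≤ E := by
    intro b hb
    by_contra hbE
    set B := E ⊔ zpowers b with hB
    have hBcomm : ∀ x ∈ B, ∀ y ∈ B, x * y = y * x := by
      apply comm_sup hEcomm
      · intro x hx y hy
        obtain ⟨i, rfl⟩ := mem_zpowers_iff.mp hx
        obtain ⟨j, rfl⟩ := mem_zpowers_iff.mp hy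
        rw [← zpow_add, ← zpow_add, add_comm]
      · intro x hx y hy
        obtain ⟨j, rfl⟩ := mem_zpowers_iff.mp hy
        have h1 : b * x = x * b := (mem_centralizer_iff.mp hb x hx).symm
        have : Commute x b := h1.symm
        exact (this.zpow_right j).eq
    have hBc : IsMulCommutative B := isMulCommutative_of_forall B hBcomm
    have hlt : Nat.card E < Nat.card B := by
      have hle : E ≤ B := le_sup_left
      rcases (Subgroup.card_le_of_le hle).lt_or_eq with h | h
      · exact h
      · exfalso
        have : E = B := Subgroup.eq_of_le_of_card_ge hle h.symm.le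
        apply hbE
        rw [this]
        exact (le_sup_right : zpowers b ≤ B) (mem_zpowers b)
    obtain ⟨k, hk⟩ := (hT.to_subgroup B).exists_card_eq
    have h8 : 8 ≤ Nat.card B := by
      rw [hE4, hk] at hlt
      rw [hk]
      have hk3 : 3 ≤ k := by
        by_contra hlt'
        push Not at hlt'
        have : (2 : ℕ) ^ k ≤ 2 ^ 2 := Nat.pow_le_pow_right (by norm_num) (by omega)
        omega
      calc 8 = 2 ^ 3 := by norm_num
        _ ≤ 2 ^ k := Nat.pow_le_pow_right (by norm_num) hk3
    have hBcyc : IsCyclic B := isCyclic_of_na8 hT hna B hBc h8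
    apply hEnc
    have hle : E ≤ B := le_sup_left
    have e := Subgroup.subgroupOfEquivOfLe hle
    have : IsCyclic (E.subgroupOf B) := inferInstance
    exact isCyclic_of_surjective e e.surjective
  -- a central involution `u` in `E`
  have hEbot : E ≠ ⊥ := by
    intro h
    rw [h, Subgroup.card_bot] at hE4
    omega
  obtain ⟨u, huE, hu1, huc⟩ := exists_ne_one_mem_center_of_normal' hT E hEbot
  -- exponent 2 on E
  have hexp : ∀ x ∈ E, x ^ 2 = 1 := by
    intro x hx
    have hdvd : orderOf x ∣ 4 := hE4 ▸ Subgroup.orderOf_dvd_natCard E hx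
    have hne4 : orderOf x ≠ 4 := by
      intro h
      apply hEnc
      apply isCyclic_of_orderOf_eq_card (⟨x, hx⟩ : E)
      rw [Subgroup.orderOf_mk, h, hE4]
    have h1 : orderOf x ∈ Nat.divisors 4 := Nat.mem_divisors.mpr ⟨hdvd, by norm_num⟩
    have h2 : Nat.divisors 4 = {1, 2, 4} := by decide
    rw [h2] at h1
    simp only [Finset.mem_insert, Finset.mem_singleton] at h1
    rcases h1 with h | h | h
    · rw [orderOf_eq_one_iff.mp h, one_pow]
    · rw [← h]; exact pow_orderOf_eq_one x
    · exact absurd h hne4
  have hu2 : u ^ 2 = 1 := hexp u huE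
  have huord : orderOf u = 2 := orderOf_eq_prime hu2 hu1
  set U := zpowers u with hU
  have hUE : U ≤ E := zpowers_le.mpr huE
  have hUcard : Nat.card U = 2 := by rw [Nat.card_zpowers, huord]
  -- an element `v` of `E` outside `U`
  obtain ⟨v, hvE, hvU⟩ : ∃ v ∈ E, v ∉ U := by
    by_contra hcon
    push Not at hcon
    have : E ≤ U := fun x hx => hcon x hx
    have := Subgroup.card_le_of_le this
    omega
  -- index of `U` in `E` is two
  have hidx : (U.subgroupOf E).index = 2 := by
    have h1 := Cfsg.Agent.Lib.Helper54.card_mul_relIndex hUE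
    rw [hUcard, hE4] at h1
    show U.relIndex E = 2
    omega
  -- elements of `E` outside `U` lie in `v U`
  have hcoset : ∀ x ∈ E, x ∉ U → v⁻¹ * x ∈ U := by
    intro x hx hxU
    have h1 := Subgroup.mul_mem_iff_of_index_two hidx (a := (⟨v⁻¹, E.inv_mem hvE⟩ : E)) (b := ⟨x, hx⟩)
    have h2 : ((⟨v⁻¹, E.inv_mem hvE⟩ : E) ∈ U.subgroupOf E ↔ (⟨x, hx⟩ : E) ∈ U.subgroupOf E) := by
      rw [mem_subgroupOf, mem_subgroupOf]
      constructor
      · intro h; exact absurd (by simpa using U.inv_mem h) hvU
      · intro h; exact absurd h hxU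
    have h3 := h1.mpr h2
    rw [mem_subgroupOf] at h3
    exact h3
  have hucomm : ∀ g : T, g * u = u * g := fun g => (mem_center_iff.mp huc g)
  -- commutators with `v` lie in `U`
  have hcomm : ∀ g ∈ (⊤ : Subgroup T), ⁅v, g⁆ ∈ U := by
    intro g _
    have hconj : g * v * g⁻¹ ∈ E := hEn.conj_mem v hvE g
    have hconjU : g * v * g⁻¹ ∉ U := by
      intro h
      apply hvU
      rcases mem_zpowers_involution hu2 h with h1 | h1
      · have : v = 1 := by
          have := congrArg (fun t => g⁻¹ * t * g) h1
          simpa [mul_assoc] using this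
        rw [this]; exact one_mem _
      · have : v = u := by
          calc v = g⁻¹ * (g * v * g⁻¹) * g := by group
            _ = g⁻¹ * u * g := by rw [h1]
            _ = u := by rw [mul_assoc, ← hucomm g, inv_mul_cancel_left]
        rw [this]; exact mem_zpowers u
    have h1 := hcoset _ hconj hconjU
    -- ⁅v, g⁆ = v * g * v⁻¹ * g⁻¹ = (v⁻¹ * (g * v * g⁻¹))⁻¹ conjugated; use that U is central
    rcases mem_zpowers_involution hu2 h1 with h2 | h2
    · have h3 : g * v * g⁻¹ = v := by
        have := congrArg (fun t => v * t) h2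
        simpa [mul_assoc] using this
      have : ⁅v, g⁆ = 1 := by
        rw [commutatorElement_def]
        have h4 : g * v = v * g := by
          have := congrArg (fun t => t * g) h3
          simpa [mul_assoc] using this
        rw [← h4]; group
      rw [this]; exact one_mem _
    · have h3 : g * v * g⁻¹ = v * u := by
        have := congrArg (fun t => v * t) h2
        simpa [mul_assoc] using this
      have h4 : g * v = v * u * g := by
        have := congrArg (fun t => t * g) h3
        simpa [mul_assoc] using this
      have : ⁅v, g⁆ = u := by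
        rw [commutatorElement_def]
        have h5 : v * g = u⁻¹ * (g * v) := by
          have hvu : v * u = u * v := hucomm v
          rw [h4, hvu, mul_assoc, inv_mul_cancel_left]
        have hui : u⁻¹ = u := by
          rw [inv_eq_iff_mul_eq_one, ← pow_two, hu2]
        rw [h5, hui]
        have : u * (g * v) * v⁻¹ * g⁻¹ = u := by group
        exact this
      rw [this]; exact mem_zpowers u
  have hstep := card_centralizer_step (p := 2) U ⊤ hUcard.le
    (fun d hd g _ => by
      have hdc : d ∈ center T := (zpowers_le.mpr huc) hd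
      exact (mem_center_iff.mp hdc g).symm) v hcomm
  rw [Subgroup.card_top] at hstep
  -- the centralizer of `v` is contained in `E`
  have hcv : (⊤ ⊓ centralizer ({v} : Set T) : Subgroup T) ≤ E := by
    intro t ht
    apply hCE
    have htv : t * v = v * t := by
      have := mem_centralizer_iff.mp ht.2 v (Set.mem_singleton v)
      exact this.symm
    rw [mem_centralizer_iff]
    intro x hx
    by_cases hxU : x ∈ U
    · have hxc : x ∈ center T := (zpowers_le.mpr huc) hxU
      exact (mem_center_iff.mp hxc t).symm
    · have h1 := hcoset x hx hxU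
      have hxc : v⁻¹ * x ∈ center T := (zpowers_le.mpr huc) h1
      obtain ⟨w, hw⟩ : ∃ w, w = v⁻¹ * x := ⟨_, rfl⟩
      rw [← hw] at hxc
      have hx' : x = v * w := by rw [hw, mul_inv_cancel_left]
      have hwt : t * w = w * t := mem_center_iff.mp hxc t
      rw [hx', mul_assoc, ← hwt, ← mul_assoc, ← htv, mul_assoc]
  have := Subgroup.card_le_of_le hcv
  omega

/-- the main lemma -/
theorem na8_odd_aut (hT : IsPGroup 2 T) (hna : NA8 T) (σ : MulAut T) (n : ℕ) (hn : Odd n)
    (hσ : σ ^ n = 1) (hσ1 : σ ≠ 1) :
    (Nat.card T = 4 ∧ ∀ x : T, x ^ 2 = 1) ∨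
    (Nat.card T = 8 ∧ ∃ a b : T, orderOf a = 4 ∧ b ∉ zpowers a ∧ b ^ 2 = a ^ 2 ∧ b * a * b⁻¹ = a⁻¹) := by
  have : Fact (Nat.Prime 2) := ⟨Nat.prime_two⟩
  obtain ⟨m, hm⟩ := hT.exists_card_eq
  by_cases hab : ∀ x y : T, x * y = y * x
  · left
    have hTc : IsMulCommutative (⊤ : Subgroup T) :=
      isMulCommutative_of_forall _ (fun x _ y _ => hab x y)
    have hncyc : ¬ IsCyclic T := fun hc => hσ1 (aut_eq_one_of_isCyclic hT hc σ n hn hσ)
    have hlt : Nat.card T < 8 := by
      by_contra hge
      push Not at hge
      have h1 := isCyclic_of_na8 hT hna ⊤ hTc (by rw [Subgroup.card_top]; exact hge)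
      exact hncyc (isCyclic_of_surjective (Subgroup.topEquiv : (⊤ : Subgroup T) ≃* T)
        Subgroup.topEquiv.surjective)
    have hmle : m ≤ 2 := by
      by_contra h
      push Not at h
      have : (2 : ℕ) ^ 3 ≤ 2 ^ m := Nat.pow_le_pow_right (by norm_num) h
      omega
    have hm2 : m = 2 := by
      interval_cases m
      · exfalso
        apply hncyc
        have : Subsingleton T := (Nat.card_eq_one_iff_unique.mp (by simpa using hm)).1
        exact isCyclic_of_subsingleton
      · exfalso
        apply hncyc
        exact isCyclic_of_prime_card (p := 2) (by simpa using hm)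
      · rfl
    subst hm2
    have h4 : Nat.card T = 4 := by simpa using hm
    refine ⟨h4, ?_⟩
    intro x
    have hdvd : orderOf x ∣ 4 := h4 ▸ orderOf_dvd_natCard x
    have hne4 : orderOf x ≠ 4 := fun h => hncyc (isCyclic_of_orderOf_eq_card x (h.trans h4.symm))
    have h1 : orderOf x ∈ Nat.divisors 4 := Nat.mem_divisors.mpr ⟨hdvd, by norm_num⟩
    have h2 : Nat.divisors 4 = {1, 2, 4} := by decide
    rw [h2] at h1
    simp only [Finset.mem_insert, Finset.mem_singleton] at h1
    rcases h1 with h | h | h
    · rw [orderOf_eq_one_iff.mp h, one_pow]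
    · rw [← h]; exact pow_orderOf_eq_one x
    · exact absurd h hne4
  · right
    push Not at hab
    obtain ⟨x0, y0, hxy⟩ := hab
    have hnc : ¬ IsMulCommutative T := fun h => hxy (h.is_comm.comm x0 y0)
    have hm3 : 3 ≤ m := by
      by_contra hlt
      push Not at hlt
      interval_cases m
      · have : Subsingleton T := (Nat.card_eq_one_iff_unique.mp (by simpa using hm)).1
        exact hxy (Subsingleton.elim _ _)
      · have hc : IsCyclic T := isCyclic_of_prime_card (p := 2) (by simpa using hm)
        obtain ⟨g, hg⟩ := hc.exists_generator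
        obtain ⟨i, hi⟩ := mem_zpowers_iff.mp (hg x0)
        obtain ⟨j, hj⟩ := mem_zpowers_iff.mp (hg y0)
        apply hxy
        rw [← hi, ← hj, ← zpow_add, ← zpow_add, add_comm]
      · exact hnc (IsPGroup.isMulCommutative_of_card_eq_prime_sq (p := 2) hm)
    obtain ⟨A, hAn, hAc, hcent⟩ := Cfsg.Agent.S0016.exists_normal_comm_self_centralizing 2 hT
    have hC : ∃ C : Subgroup T, IsCyclic C ∧ C.index = 2 := by
      have hfour : ∀ E : Subgroup T, E.Normal → IsMulCommutative E → ¬ IsCyclic E → Nat.card E = 4 →
          ∃ C : Subgroup T, IsCyclic C ∧ C.index = 2 := by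
        intro E h1 h2 h3 h4
        have hle := card_le_eight_of_normal_four hT hna E h1 h2 h3 h4
        have h8 : Nat.card T = 8 := by
          rw [hm] at hle ⊢
          have : (2 : ℕ) ^ 3 ≤ 2 ^ m := Nat.pow_le_pow_right (by norm_num) hm3
          omega
        exact exists_cyclic_index_two_of_card_eight h8 hxy
      by_cases hAcyc : IsCyclic A
      · obtain ⟨k, hk⟩ := (hT.to_subgroup A).exists_card_eq
        have hCA : centralizer (A : Set T) = A := le_antisymm hcent (by
          intro x hx
          rw [mem_centralizer_iff]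
          intro y hy
          exact comm_of_isMulCommutative hAc y hy x hx)
        have := hAn
        rcases Cfsg.Agent.S3761.result hT hnc A hAcyc k hk hCA with
          ⟨-, hcard, -⟩ | ⟨-, hel, hcard, hchar⟩
        · refine ⟨A, hAcyc, ?_⟩
          have h1 := Subgroup.index_mul_card A
          rw [hk, hcard, pow_succ, mul_comm] at h1
          have hpos : 0 < 2 ^ k := by positivity
          exact Nat.eq_of_mul_eq_mul_left hpos h1
        · have := hchar
          refine hfour _ (normal_of_characteristic _) hel.1 ?_ (by rw [hcard]; norm_num)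
          intro hc
          obtain ⟨g, hg⟩ := hc.exists_generator
          have h1 : orderOf g = Nat.card _ := orderOf_eq_card_of_forall_mem_zpowers hg
          have h2 : g ^ 2 = 1 := Subtype.ext (by simpa using hel.2 g g.2)
          have h3 : orderOf g ∣ 2 := orderOf_dvd_of_pow_eq_one h2
          rw [h1, hcard] at h3
          norm_num at h3
      · have hlt : Nat.card A < 8 := by
          by_contra hge
          push Not at hge
          exact hAcyc (isCyclic_of_na8 hT hna A hAc hge)
        obtain ⟨k, hk⟩ := (hT.to_subgroup A).exists_card_eq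
        have hkle : k ≤ 2 := by
          by_contra h
          push Not at h
          have : (2 : ℕ) ^ 3 ≤ 2 ^ k := Nat.pow_le_pow_right (by norm_num) h
          omega
        have hk2 : k = 2 := by
          interval_cases k
          · exfalso
            apply hAcyc
            have : Subsingleton A := (Nat.card_eq_one_iff_unique.mp (by simpa using hk)).1
            exact isCyclic_of_subsingleton
          · exfalso
            apply hAcyc
            exact isCyclic_of_prime_card (p := 2) (by simpa using hk)
          · rfl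
        exact hfour A hAn hAc hAcyc (by rw [hk, hk2]; norm_num)
    obtain ⟨C, hCc, hCi⟩ := hC
    obtain ⟨a, b, ha, hb, hcases⟩ := Cfsg.Agent.S0646.result m hm3 hm C hCc hCi ⟨x0, y0, hxy⟩
    have hcard2 : Nat.card T = 2 * orderOf a := by
      rw [hm, ha, ← pow_succ']
      congr 1
      omega
    have hidx : (zpowers a).index = 2 := by
      have h1 := Subgroup.index_mul_card (zpowers a)
      rw [Nat.card_zpowers, hcard2] at h1
      have hpos : 0 < orderOf a := orderOf_pos a
      exact Nat.eq_of_mul_eq_mul_right hpos h1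
    have hdecomp : ∀ y : T, y ∉ zpowers a → ∃ i : ℤ, y = b * a ^ i := by
      intro y hy
      have h1 : b⁻¹ * y ∈ zpowers a := by
        rw [Subgroup.mul_mem_iff_of_index_two hidx]
        constructor
        · intro h; exact absurd (by simpa using inv_mem h) hb
        · intro h; exact absurd h hy
      obtain ⟨i, hi⟩ := mem_zpowers_iff.mp h1
      exact ⟨i, by rw [hi, mul_inv_cancel_left]⟩
    have hsq : ∀ i : ℤ, (b * a ^ i) ^ 2 = (b * a * b⁻¹) ^ i * b ^ 2 * a ^ i := by
      intro i
      rw [conj_zpow, pow_two, pow_two]; group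
    have hkill : ∀ e : ℕ, (∀ y : T, y ∉ zpowers a → y ^ e = 1) → a ^ e ≠ 1 → False := by
      intro e hall hae
      have hinv : ∀ τ : MulAut T, τ a ∈ zpowers a := by
        intro τ
        by_contra h
        have h1 := hall _ h
        rw [← map_pow] at h1
        exact hae ((MulEquiv.map_eq_one_iff τ).mp h1)
      have hP := isPGroup_two_mulAut_of_invariant a b (m - 2) (by rw [ha]; congr 1; omega) hcard2 hb hinv
      exact hσ1 (aut_eq_one_of_isPGroup hP σ n hn hσ)
    have hapow : a ^ 2 ^ (m - 1) = 1 := by rw [← ha]; exact pow_orderOf_eq_one a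
    have hane : ∀ e : ℕ, 0 < e → e < 2 ^ (m - 1) → a ^ e ≠ 1 := by
      intro e he1 he2 h
      have := orderOf_le_of_pow_eq_one he1 h
      rw [ha] at this
      omega
    rcases hcases with ⟨hb2, hconj⟩ | ⟨hb2, hconj⟩ | ⟨hm4, hb2, hconj⟩ | ⟨hm4, hb2, hconj⟩
    · -- dihedral
      exfalso
      apply hkill 2
      · intro y hy
        obtain ⟨i, rfl⟩ := hdecomp y hy
        rw [hsq, hconj, hb2, mul_one, inv_zpow, inv_mul_cancel]
      · apply hane 2 (by norm_num)
        calc 2 < 2 ^ 2 := by norm_num
          _ ≤ 2 ^ (m - 1) := Nat.pow_le_pow_right (by norm_num) (by omega)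
    · -- quaternion
      by_cases hm4 : 4 ≤ m
      · exfalso
        apply hkill 4
        · intro y hy
          obtain ⟨i, rfl⟩ := hdecomp y hy
          have h2 : (b * a ^ i) ^ 2 = a ^ 2 ^ (m - 2) := by
            rw [hsq, hconj, hb2, inv_zpow]
            have hc : Commute (a ^ i)⁻¹ (a ^ 2 ^ (m - 2)) :=
              (((Commute.refl a).zpow_left i).inv_left).pow_right _
            rw [hc.eq, mul_assoc, inv_mul_cancel, mul_one]
          calc (b * a ^ i) ^ 4 = ((b * a ^ i) ^ 2) ^ 2 := by rw [← pow_mul]
            _ = 1 := by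
              rw [h2, ← pow_mul, ← pow_succ]
              have : m - 2 + 1 = m - 1 := by omega
              rw [this, hapow]
        · apply hane 4 (by norm_num)
          calc 4 < 2 ^ 3 := by norm_num
            _ ≤ 2 ^ (m - 1) := Nat.pow_le_pow_right (by norm_num) (by omega)
      · have hm3' : m = 3 := by omega
        subst hm3'
        refine ⟨by simpa using hm, a, b, by simpa using ha, hb, by simpa using hb2, hconj⟩
    · -- modular
      exfalso
      set c := a ^ 2 ^ (m - 3) with hc
      have hcord : orderOf c = 4 := by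
        rw [hc, orderOf_pow_of_dvd (by positivity) (by rw [ha]; exact pow_dvd_pow 2 (by omega)), ha,
          Nat.pow_div (by omega) (by norm_num)]
        have : m - 1 - (m - 3) = 2 := by omega
        rw [this]
      have hcb : c * b = b * c := by
        have h1 : b * c * b⁻¹ = c := by
          rw [hc, ← conj_pow, hconj, ← pow_mul]
          have : (1 + 2 ^ (m - 2)) * 2 ^ (m - 3) = 2 ^ (m - 3) + 2 ^ (m - 1) * 2 ^ (m - 4) := by
            rw [add_mul, one_mul, ← pow_add, ← pow_add]
            congr 2
            omega
          rw [this, pow_add, pow_mul, hapow, one_pow, mul_one]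
        have := congrArg (fun t => t * b) h1
        simpa [mul_assoc] using this.symm
      have hcA : c ∈ zpowers a := npow_mem_zpowers a _
      set B := closure ({c, b} : Set T) with hB
      have hBc : IsMulCommutative B := isMulCommutative_of_forall B (comm_closure_pair hcb)
      have hcB : c ∈ B := subset_closure (by simp)
      have hbB : b ∈ B := subset_closure (by simp)
      have hlt : Nat.card (zpowers c) < Nat.card B := by
        have hle : zpowers c ≤ B := zpowers_le.mpr hcB
        rcases (Subgroup.card_le_of_le hle).lt_or_eq with h | h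
        · exact h
        · exfalso
          have : zpowers c = B := Subgroup.eq_of_le_of_card_ge hle h.symm.le
          apply hb
          have hbc : b ∈ zpowers c := by rw [this]; exact hbB
          exact (zpowers_le.mpr hcA) hbc
      obtain ⟨k, hk⟩ := (hT.to_subgroup B).exists_card_eq
      have h8 : 8 ≤ Nat.card B := by
        rw [Nat.card_zpowers, hcord, hk] at hlt
        rw [hk]
        have hk3 : 3 ≤ k := by
          by_contra hlt'
          push Not at hlt'
          have : (2 : ℕ) ^ k ≤ 2 ^ 2 := Nat.pow_le_pow_right (by norm_num) (by omega)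
          omega
        calc 8 = 2 ^ 3 := by norm_num
          _ ≤ 2 ^ k := Nat.pow_le_pow_right (by norm_num) hk3
      have hBcyc : IsCyclic B := isCyclic_of_na8 hT hna B hBc h8
      have hb1 : b ≠ 1 := fun h => hb (h ▸ one_mem _)
      have hbord : orderOf b = 2 := orderOf_eq_prime hb2 hb1
      have hc2ord : orderOf (c ^ 2) = 2 := by
        rw [orderOf_pow_of_dvd (by norm_num) (by rw [hcord]; norm_num), hcord]
      have := eq_of_orderOf_two_of_isCyclic hBcyc hbB (B.pow_mem hcB 2) hbord hc2ord
      apply hb
      rw [this]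
      exact (zpowers a).pow_mem hcA 2
    · -- semidihedral
      exfalso
      apply hkill 4
      · intro y hy
        obtain ⟨i, rfl⟩ := hdecomp y hy
        have h2 : (b * a ^ i) ^ 2 = (a ^ 2 ^ (m - 2)) ^ i := by
          rw [hsq, hconj, hb2, mul_one, ← zpow_natCast a, ← zpow_natCast a, ← zpow_mul, ← zpow_mul,
            ← zpow_add]
          congr 1
          have : 1 ≤ 2 ^ (m - 2) := Nat.one_le_two_pow
          push_cast [this]
          ring
        calc (b * a ^ i) ^ 4 = ((b * a ^ i) ^ 2) ^ 2 := by rw [← pow_mul]
          _ = 1 := by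
            rw [h2, ← zpow_natCast, ← zpow_mul, mul_comm, zpow_mul, zpow_natCast, ← pow_mul, ← pow_succ]
            have : m - 2 + 1 = m - 1 := by omega
            rw [this, hapow, one_zpow]
      · apply hane 4 (by norm_num)
        calc 4 < 2 ^ 3 := by norm_num
          _ ≤ 2 ^ (m - 1) := Nat.pow_le_pow_right (by norm_num) (by omega)

end main

end Cfsg.Agent.Lib.Helper73
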