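import Mathlib
import Cfsg.Agent.Lib.Helper73.QuatIso

/-!
(helper73) Quaternion groups of order 8 given by a standard generating pair.
-/

set_option autoImplicit false

namespace Cfsg.Agent.Lib.Helper73

open Subgroup

theorem q8_pair_decide : ∀ c d : QuaternionGroup 2, c ^ 2 ≠ 1 → d ≠ 1 → d ≠ c → d ≠ c ^ 2 → d ≠ c ^ 3 →
    d ^ 2 = c ^ 2 ∧ d * c * d⁻¹ = c⁻¹ := by decide

theorem q8_invol_decide : ∀ x y : QuaternionGroup 2, x ^ 2 = 1 → x ≠ 1 → y ^ 2 ≠ 1 → x = y ^ 2 := by
  decide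

theorem q8_pow_four_decide : ∀ x : QuaternionGroup 2, x ^ 4 = 1 := by decide

theorem q8_sq_central_decide : ∀ x y : QuaternionGroup 2, x * y ^ 2 = y ^ 2 * x := by decide

/-- `(a, b)` is a standard generating pair of a quaternion group of order `8` -/
structure Q8Pair {N : Type*} [Group N] (a b : N) : Prop where
  card : Nat.card N = 8
  ord : orderOf a = 4
  nmem : b ∉ zpowers a
  sq : b ^ 2 = a ^ 2
  conj : b * a * b⁻¹ = a⁻¹

namespace Q8Pair

variable {N : Type*} [Group N] {a b : N}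

theorem finite (h : Q8Pair a b) : Finite N := Nat.finite_of_card_ne_zero (by rw [h.card]; norm_num)

theorem equiv (h : Q8Pair a b) : Nonempty (QuaternionGroup 2 ≃* N) := by
  have := h.finite
  apply quaternion_equiv a b 2 (by norm_num)
  · have : (2 * 2 : ℕ) = orderOf a := by rw [h.ord]
    rw [this]; exact pow_orderOf_eq_one a
  · exact h.sq
  · exact h.conj
  · exact zpowers_sup_zpowers_eq_top a b (by rw [h.card, h.ord]) h.nmem
  · rw [h.card]

theorem pow_four (h : Q8Pair a b) (x : N) : x ^ 4 = 1 := by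
  obtain ⟨e⟩ := h.equiv
  have := q8_pow_four_decide (e.symm x)
  rw [← map_pow] at this
  exact (MulEquiv.map_eq_one_iff e.symm).mp this

theorem sq_central (h : Q8Pair a b) (x y : N) : x * y ^ 2 = y ^ 2 * x := by
  obtain ⟨e⟩ := h.equiv
  have := q8_sq_central_decide (e.symm x) (e.symm y)
  rw [← map_pow, ← map_mul, ← map_mul] at this
  exact e.symm.injective this

/-- the unique involution -/
theorem invol (h : Q8Pair a b) {x y : N} (hx : x ^ 2 = 1) (hx1 : x ≠ 1) (hy : y ^ 2 ≠ 1) : x = y ^ 2 := by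
  obtain ⟨e⟩ := h.equiv
  have := q8_invol_decide (e.symm x) (e.symm y) (by rw [← map_pow, hx, map_one])
    (fun h1 => hx1 ((MulEquiv.map_eq_one_iff e.symm).mp h1))
    (fun h1 => hy (by rw [← map_pow] at h1; exact (MulEquiv.map_eq_one_iff e.symm).mp h1))
  rw [← map_pow] at this
  exact e.symm.injective this

theorem a_sq_ne (h : Q8Pair a b) : a ^ 2 ≠ 1 := by
  intro h1
  have := orderOf_dvd_of_pow_eq_one h1
  rw [h.ord] at this
  norm_num at this

theorem orderOf_eq_four (h : Q8Pair a b) {c : N} (hc : c ^ 2 ≠ 1) : orderOf c = 4 := by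
  have h4 := h.pow_four c
  exact orderOf_eq_prime_pow (p := 2) (n := 1) (by simpa using hc) (by simpa using h4)

/-- any element of order four together with any element outside its cyclic group is again a standard pair -/
theorem pair_of (h : Q8Pair a b) {c d : N} (hc : c ^ 2 ≠ 1) (hd : d ∉ zpowers c) : Q8Pair c d := by
  obtain ⟨e⟩ := h.equiv
  have hne : ∀ k : ℕ, d ≠ c ^ k := fun k hk => hd (hk ▸ npow_mem_zpowers c k)
  have := q8_pair_decide (e.symm c) (e.symm d)
    (fun h1 => hc (by rw [← map_pow] at h1; exact (MulEquiv.map_eq_one_iff e.symm).mp h1))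
    (fun h1 => hne 0 (by rw [pow_zero]; exact (MulEquiv.map_eq_one_iff e.symm).mp h1))
    (fun h1 => hne 1 (by rw [pow_one]; exact e.symm.injective h1))
    (fun h1 => hne 2 (by rw [← map_pow] at h1; exact e.symm.injective h1))
    (fun h1 => hne 3 (by rw [← map_pow] at h1; exact e.symm.injective h1))
  obtain ⟨h1, h2⟩ := this
  refine ⟨h.card, h.orderOf_eq_four hc, hd, ?_, ?_⟩
  · rw [← map_pow, ← map_pow] at h1
    exact e.symm.injective h1
  · rw [← map_inv, ← map_inv, ← map_mul, ← map_mul] at h2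
    exact e.symm.injective h2

theorem index_zpowers (h : Q8Pair a b) : (zpowers a).index = 2 := by
  have h1 := Subgroup.index_mul_card (zpowers a)
  rw [Nat.card_zpowers, h.ord, h.card] at h1
  omega

/-- elements outside `⟨a⟩` are of the form `b * a ^ i` -/
theorem exists_eq_mul_zpow (h : Q8Pair a b) {y : N} (hy : y ∉ zpowers a) : ∃ i : ℤ, y = b * a ^ i := by
  have h1 : b⁻¹ * y ∈ zpowers a := by
    rw [Subgroup.mul_mem_iff_of_index_two h.index_zpowers]
    constructor
    · intro h'; exact absurd (by simpa using inv_mem h') h.nmem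
    · intro h'; exact absurd h' hy
  obtain ⟨i, hi⟩ := mem_zpowers_iff.mp h1
  exact ⟨i, by rw [hi, mul_inv_cancel_left]⟩

/-- the group is not commutative -/
theorem not_comm (h : Q8Pair a b) : b * a ≠ a * b := by
  intro h1
  have h2 : b * a * b⁻¹ = a := by rw [h1, mul_inv_cancel_right]
  rw [h.conj] at h2
  have h3 : a ^ 2 = 1 := by
    rw [pow_two]
    nth_rewrite 1 [← h2]
    exact inv_mul_cancel a
  exact h.a_sq_ne h3

end Q8Pair

/-- a subgroup `N` of `G` which is quaternion of order `8` with standard pair `a, b` (elements of `G`) -/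
structure Q8Sub {G : Type*} [Group G] (N : Subgroup G) (a b : G) : Prop where
  card : Nat.card N = 8
  ha : a ∈ N
  hb : b ∈ N
  ord : orderOf a = 4
  nmem : b ∉ zpowers a
  sq : b ^ 2 = a ^ 2
  conj : b * a * b⁻¹ = a⁻¹

theorem coe_mem_zpowers_iff' {G : Type*} [Group G] {T : Subgroup G} (a' y' : T) :
    (y' : G) ∈ Subgroup.zpowers (a' : G) ↔ y' ∈ Subgroup.zpowers a' := by
  simp only [Subgroup.mem_zpowers_iff]
  constructor
  · rintro ⟨i, hi⟩
    exact ⟨i, Subtype.ext (by simpa using hi)⟩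
  · rintro ⟨i, hi⟩
    exact ⟨i, by simpa using congrArg Subtype.val hi⟩

namespace Q8Sub

variable {G : Type*} [Group G] {N : Subgroup G} {a b : G}

theorem toPair (h : Q8Sub N a b) : Q8Pair (⟨a, h.ha⟩ : N) ⟨b, h.hb⟩ where
  card := h.card
  ord := by rw [Subgroup.orderOf_mk]; exact h.ord
  nmem := by
    intro h1
    exact h.nmem ((coe_mem_zpowers_iff' (⟨a, h.ha⟩ : N) ⟨b, h.hb⟩).mpr h1)
  sq := Subtype.ext h.sq
  conj := Subtype.ext h.conj

theorem ofPair {a' b' : N} (h : Q8Pair a' b') : Q8Sub N (a' : G) (b' : G) where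
  card := h.card
  ha := a'.2
  hb := b'.2
  ord := by rw [← h.ord, Subgroup.orderOf_coe]
  nmem := by
    intro h1
    exact h.nmem ((coe_mem_zpowers_iff' a' b').mp h1)
  sq := congrArg Subtype.val h.sq
  conj := congrArg Subtype.val h.conj

theorem pow_four (h : Q8Sub N a b) {x : G} (hx : x ∈ N) : x ^ 4 = 1 :=
  congrArg Subtype.val (h.toPair.pow_four ⟨x, hx⟩)

theorem sq_central (h : Q8Sub N a b) {x y : G} (hx : x ∈ N) (hy : y ∈ N) : x * y ^ 2 = y ^ 2 * x :=
  congrArg Subtype.val (h.toPair.sq_central ⟨x, hx⟩ ⟨y, hy⟩)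

theorem invol (h : Q8Sub N a b) {x y : G} (hxN : x ∈ N) (hyN : y ∈ N) (hx : x ^ 2 = 1) (hx1 : x ≠ 1)
    (hy : y ^ 2 ≠ 1) : x = y ^ 2 := by
  have := h.toPair.invol (x := ⟨x, hxN⟩) (y := ⟨y, hyN⟩) (Subtype.ext hx)
    (fun h1 => hx1 (congrArg Subtype.val h1)) (fun h1 => hy (congrArg Subtype.val h1))
  exact congrArg Subtype.val this

theorem a_sq_ne (h : Q8Sub N a b) : a ^ 2 ≠ 1 := fun h1 => h.toPair.a_sq_ne (Subtype.ext h1)

theorem pair_of (h : Q8Sub N a b) {c d : G} (hcN : c ∈ N) (hdN : d ∈ N) (hc : c ^ 2 ≠ 1)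
    (hd : d ∉ zpowers c) : Q8Sub N c d := by
  have := h.toPair.pair_of (c := ⟨c, hcN⟩) (d := ⟨d, hdN⟩) (fun h1 => hc (congrArg Subtype.val h1))
    (fun h1 => hd ((coe_mem_zpowers_iff' (⟨c, hcN⟩ : N) ⟨d, hdN⟩).mpr h1))
  exact ofPair this

/-- elements of `N` outside `⟨a⟩` are of the form `b * a ^ i` -/
theorem exists_eq_mul_zpow (h : Q8Sub N a b) {y : G} (hyN : y ∈ N) (hy : y ∉ zpowers a) :
    ∃ i : ℤ, y = b * a ^ i := by
  obtain ⟨i, hi⟩ := h.toPair.exists_eq_mul_zpow (y := ⟨y, hyN⟩)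
    (fun h1 => hy ((coe_mem_zpowers_iff' (⟨a, h.ha⟩ : N) ⟨y, hyN⟩).mpr h1))
  exact ⟨i, by simpa using congrArg Subtype.val hi⟩

theorem not_comm (h : Q8Sub N a b) : b * a ≠ a * b := fun h1 => h.toPair.not_comm (Subtype.ext h1)

theorem zpowers_le (h : Q8Sub N a b) : zpowers a ≤ N := Subgroup.zpowers_le.mpr h.ha

end Q8Sub

end Cfsg.Agent.Lib.Helper73
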