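import Cfsg.Agent.Lib.Helper73.NoAb8Aut
import Cfsg.Agent.Lib.Helper73.Q8Struct

/-!
(helper73) Tools for the analysis of 2-groups with an odd-order group of automorphisms, minimal with
respect to containing a noncyclic abelian subgroup of order 8.
-/

set_option autoImplicit false

namespace Cfsg.Agent.Lib.Helper73

open Subgroup
open scoped commutatorElement

section stab

variable {P : Type*} [Group P]

/-- stability: an automorphism of odd order fixing the `2`-element `y` and mapping `x` to `x * y` has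
`y = 1` -/
theorem eq_one_of_stable (σ : MulAut P) (n : ℕ) (hn : Odd n) (hσ : σ ^ n = 1) {x y : P} (k : ℕ)
    (hy2 : y ^ 2 ^ k = 1) (hx : σ x = x * y) (hy : σ y = y) : y = 1 := by
  have hpow : ∀ j : ℕ, (σ ^ j) x = x * y ^ j := by
    intro j
    induction j with
    | zero => simp
    | succ j ih =>
      rw [pow_succ', MulAut.mul_apply, ih, map_mul, map_pow, hx, hy, mul_assoc, ← pow_succ']
  have h1 := hpow n
  rw [hσ, MulAut.one_apply] at h1
  have h2 : y ^ n = 1 := by
    have h3 : x * y ^ n = x * 1 := by rw [mul_one]; exact h1.symm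
    exact mul_left_cancel h3
  have h3 : orderOf y ∣ n := orderOf_dvd_of_pow_eq_one h2
  have h4 : orderOf y ∣ 2 ^ k := orderOf_dvd_of_pow_eq_one hy2
  have h5 : orderOf y = 1 :=
    Nat.eq_one_of_dvd_coprimes (Nat.Coprime.pow_right k hn.coprime_two_right) h3 h4
  exact orderOf_eq_one_iff.mp h5

theorem pow_apply_mem (σ : MulAut P) (Y : Subgroup P) (h : ∀ y ∈ Y, σ y ∈ Y) (j : ℕ) :
    ∀ y ∈ Y, (σ ^ j) y ∈ Y := by
  induction j with
  | zero => intro y hy; simpa using hy
  | succ j ih =>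
    intro y hy
    rw [pow_succ', MulAut.mul_apply]
    exact h _ (ih y hy)

theorem inv_apply_mem (σ : MulAut P) (n : ℕ) (hn : Odd n) (hσ : σ ^ n = 1) (Y : Subgroup P)
    (h : ∀ y ∈ Y, σ y ∈ Y) : ∀ y ∈ Y, σ⁻¹ y ∈ Y := by
  obtain ⟨m, rfl⟩ := hn
  have h1 : σ⁻¹ = σ ^ (2 * m) := by
    rw [inv_eq_iff_mul_eq_one, ← pow_succ']
    exact hσ
  rw [h1]
  exact pow_apply_mem σ Y h _

/-- restriction of an automorphism to an invariant subgroup -/
def restrictAut (σ : MulAut P) (Y : Subgroup P) (h : ∀ y ∈ Y, σ y ∈ Y) (h' : ∀ y ∈ Y, σ⁻¹ y ∈ Y) :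
    MulAut Y where
  toFun y := ⟨σ y, h y y.2⟩
  invFun y := ⟨σ⁻¹ y, h' y y.2⟩
  left_inv y := Subtype.ext (by simp)
  right_inv y := Subtype.ext (by simp)
  map_mul' x y := Subtype.ext (by simp)

theorem restrictAut_pow_apply (σ : MulAut P) (Y : Subgroup P) (h : ∀ y ∈ Y, σ y ∈ Y)
    (h' : ∀ y ∈ Y, σ⁻¹ y ∈ Y) (j : ℕ) (y : Y) :
    (((restrictAut σ Y h h') ^ j) y : P) = (σ ^ j) (y : P) := by
  induction j with
  | zero => simp
  | succ j ih =>
    rw [pow_succ', MulAut.mul_apply, pow_succ', MulAut.mul_apply, ← ih]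
    rfl

end stab

section dichotomy

variable {P : Type*} [Group P] [Finite P]

/-- the dichotomy for an invariant subgroup without noncyclic abelian subgroups of order `8` on which an
automorphism of odd order acts nontrivially -/
theorem inv_dichotomy (hP : IsPGroup 2 P) (n : ℕ) (hn : Odd n) (σ : MulAut P) (hσ : σ ^ n = 1)
    (Y : Subgroup P) (hσY : ∀ y ∈ Y, σ y ∈ Y)
    (hna : ∀ B : Subgroup P, B ≤ Y → IsMulCommutative B → Nat.card B = 8 → IsCyclic B)
    {y0 : P} (hy0 : y0 ∈ Y) (hmove : σ y0 ≠ y0) :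
    (Nat.card Y = 4 ∧ ∀ y ∈ Y, y ^ 2 = 1) ∨ (∃ a b : P, Q8Sub Y a b) := by
  have hσY' := inv_apply_mem σ n hn hσ Y hσY
  set ρ := restrictAut σ Y hσY hσY' with hρ
  have hna' : NA8 Y := by
    intro B' hB'c hB'8
    have h1 := hna (B'.map Y.subtype) (map_subtype_le _)
      (by
        apply isMulCommutative_of_forall
        intro x hx y hy
        obtain ⟨x', hx', rfl⟩ := hx
        obtain ⟨y', hy', rfl⟩ := hy
        have := hB'c.is_comm.comm ⟨x', hx'⟩ ⟨y', hy'⟩
        exact congrArg (fun t : B' => ((t : Y) : P)) this)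
      (by rw [Subgroup.card_map_of_injective Y.subtype_injective, hB'8])
    have e := (B'.equivMapOfInjective Y.subtype Y.subtype_injective)
    exact isCyclic_of_surjective e.symm e.symm.surjective
  have hρn : ρ ^ n = 1 := by
    ext y
    rw [restrictAut_pow_apply, hσ]
    rfl
  have hρ1 : ρ ≠ 1 := by
    intro h
    apply hmove
    have := DFunLike.congr_fun h ⟨y0, hy0⟩
    exact congrArg Subtype.val this
  rcases na8_odd_aut (hP.to_subgroup Y) hna' ρ n hn hρn hρ1 with ⟨h4, hexp⟩ | ⟨h8, a, b, h1, h2, h3, h4⟩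
  · left
    refine ⟨h4, fun y hy => ?_⟩
    exact congrArg Subtype.val (hexp ⟨y, hy⟩)
  · right
    exact ⟨a, b, Q8Sub.ofPair ⟨h8, h1, h2, h3, h4⟩⟩

/-- irreducibility of the action on a four-group -/
theorem eq_of_invariant_of_four (n : ℕ) (hn : Odd n) (σ : MulAut P) (hσ : σ ^ n = 1)
    (Y : Subgroup P) (hY4 : Nat.card Y = 4) (hexp : ∀ y ∈ Y, y ^ 2 = 1)
    {y0 : P} (hy0 : y0 ∈ Y) (hmove : σ y0 ≠ y0)
    (W : Subgroup P) (hWY : W ≤ Y) (hσW : ∀ w ∈ W, σ w ∈ W) (hσY : ∀ y ∈ Y, σ y ∈ Y) (hW : W ≠ ⊥) :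
    W = Y := by
  have hdvd : Nat.card W ∣ 4 := hY4 ▸ Subgroup.card_dvd_of_le hWY
  have h1 : Nat.card W ∈ Nat.divisors 4 := Nat.mem_divisors.mpr ⟨hdvd, by norm_num⟩
  have h2 : Nat.divisors 4 = {1, 2, 4} := by decide
  rw [h2] at h1
  simp only [Finset.mem_insert, Finset.mem_singleton] at h1
  rcases h1 with h | h | h
  · exact absurd (Subgroup.card_eq_one.mp h) hW
  · exfalso
    obtain ⟨w, hwW, hw1⟩ : ∃ w ∈ W, w ≠ 1 := by
      by_contra hcon
      push Not at hcon
      apply hW
      rw [eq_bot_iff]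
      intro x hx
      exact Subgroup.mem_bot.mpr (hcon x hx)
    have hw2 : w ^ 2 = 1 := hexp w (hWY hwW)
    have hWeq : W = zpowers w := by
      symm
      apply Subgroup.eq_of_le_of_card_ge (zpowers_le.mpr hwW)
      rw [h, Nat.card_zpowers, orderOf_eq_prime hw2 hw1]
    have hWmem : ∀ x ∈ W, x = 1 ∨ x = w := by
      intro x hx
      rw [hWeq] at hx
      exact mem_zpowers_involution hw2 hx
    have hσw : σ w = w := by
      rcases hWmem _ (hσW w hwW) with h3 | h3
      · exact absurd ((MulEquiv.map_eq_one_iff σ).mp h3) hw1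
      · exact h3
    have hy0W : y0 ∉ W := by
      intro h3
      rcases hWmem _ h3 with h4 | h4
      · apply hmove; rw [h4, map_one]
      · apply hmove; rw [h4, hσw]
    have hσy0W : σ y0 ∉ W := by
      intro h3
      rcases hWmem _ h3 with h4 | h4
      · apply hy0W
        rw [(MulEquiv.map_eq_one_iff σ).mp h4]; exact one_mem _
      · apply hy0W
        have : σ y0 = σ w := by rw [h4, hσw]
        rw [σ.injective this]; exact hwW
    have hidx : (W.subgroupOf Y).index = 2 := by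
      have h3 := Cfsg.Agent.Lib.Helper54.card_mul_relIndex hWY
      rw [h, hY4] at h3
      show W.relIndex Y = 2
      omega
    have hmem : y0⁻¹ * σ y0 ∈ W := by
      have h3 := Subgroup.mul_mem_iff_of_index_two hidx (a := (⟨y0⁻¹, Y.inv_mem hy0⟩ : Y))
        (b := ⟨σ y0, hσY y0 hy0⟩)
      have h4 : ((⟨y0⁻¹, Y.inv_mem hy0⟩ : Y) ∈ W.subgroupOf Y ↔
          (⟨σ y0, hσY y0 hy0⟩ : Y) ∈ W.subgroupOf Y) := by
        rw [mem_subgroupOf, mem_subgroupOf]
        constructor
        · intro h5; exact absurd (by simpa using W.inv_mem h5) hy0W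
        · intro h5; exact absurd h5 hσy0W
      have h5 := h3.mpr h4
      rw [mem_subgroupOf] at h5
      exact h5
    rcases hWmem _ hmem with h3 | h3
    · apply hmove
      have := congrArg (fun t => y0 * t) h3
      simpa using this
    · apply hw1
      apply eq_one_of_stable σ n hn hσ 1 (by simpa using hw2) (x := y0) _ hσw
      have := congrArg (fun t => y0 * t) h3
      simpa using this
  · exact Subgroup.eq_of_le_of_card_ge hWY (by rw [h, hY4])

end dichotomy

end Cfsg.Agent.Lib.Helper73
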