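import Cfsg.Agent.Lib.Helper73.NoAb8Core1

/-!
(helper73) More tools: central series lemma, quaternion centralizing lemmas, averaging.
-/

set_option autoImplicit false

namespace Cfsg.Agent.Lib.Helper73

open Subgroup
open scoped commutatorElement

/-- in a `2`-group a normal subgroup of order `> 2` containing the central involution `z` contains an
element outside `⟨z⟩` which is central modulo `⟨z⟩` -/
theorem exists_comm_mem_zpowers {X : Type*} [Group X] [Finite X] (hX : IsPGroup 2 X) (Q : Subgroup X)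
    [Q.Normal] {z : X} (hzc : z ∈ center X) (hz2 : z ^ 2 = 1) (hQ : 2 < Nat.card Q) :
    ∃ c ∈ Q, c ∉ zpowers z ∧ ∀ x : X, ⁅c, x⁆ ∈ zpowers z := by
  have : Fact (Nat.Prime 2) := ⟨Nat.prime_two⟩
  set Z := zpowers z with hZ
  have hZn : Z.Normal := Cfsg.Agent.S0016.zpowers_normal_of_mem_center hzc
  set π := QuotientGroup.mk' Z with hπ
  have hπs : Function.Surjective π := QuotientGroup.mk'_surjective Z
  have hQ'n : (Q.map π).Normal := Subgroup.Normal.map inferInstance π hπs
  have hQ'ne : Q.map π ≠ ⊥ := by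
    intro h
    have hle : Q ≤ Z := by
      intro q hq
      have h1 : π q ∈ Q.map π := mem_map_of_mem π hq
      rw [h, mem_bot] at h1
      have : q ∈ π.ker := h1
      rwa [QuotientGroup.ker_mk'] at this
    have h1 := Subgroup.card_le_of_le hle
    have h2 : Nat.card Z ≤ 2 := by
      rw [Nat.card_zpowers]; exact orderOf_le_of_pow_eq_one (by norm_num) hz2
    omega
  have hX' : IsPGroup 2 (X ⧸ Z) := hX.to_quotient Z
  obtain ⟨c', hc'Q, hc'1, hc'c⟩ := exists_ne_one_mem_center_of_normal' hX' (Q.map π) hQ'ne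
  obtain ⟨c, hcQ, rfl⟩ := hc'Q
  refine ⟨c, hcQ, ?_, ?_⟩
  · intro h
    apply hc'1
    have : c ∈ π.ker := by rw [QuotientGroup.ker_mk']; exact h
    exact this
  · intro x
    have h1 : π ⁅c, x⁆ = 1 := by
      rw [commutatorElement_def, map_mul, map_mul, map_mul, map_inv, map_inv]
      have := mem_center_iff.mp hc'c (π x)
      rw [← this]; group
    have : ⁅c, x⁆ ∈ π.ker := h1
    rwa [QuotientGroup.ker_mk'] at this

namespace Q8Sub

variable {G : Type*} [Group G] {N : Subgroup G} {c d : G}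

theorem mem_centralizer_of_comm (h : Q8Sub N c d) {f : G}
    (hfc : f * c = c * f) (hfd : f * d = d * f) : f ∈ centralizer (N : Set G) := by
  rw [mem_centralizer_iff]
  intro x hx
  by_cases hxc : x ∈ zpowers c
  · obtain ⟨i, rfl⟩ := mem_zpowers_iff.mp hxc
    have : Commute f c := hfc
    exact (this.zpow_right i).eq.symm
  · obtain ⟨i, rfl⟩ := h.exists_eq_mul_zpow hx hxc
    have h1 : Commute f c := hfc
    have h2 : Commute f d := hfd
    exact ((h2.mul_right (h1.zpow_right i)).eq).symm

/-- an involution normalizing `N` and centralizing `c` induces an inner automorphism of `N` -/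
theorem centralizes_or (h : Q8Sub N c d) {e : G}
    (heN : ∀ x ∈ N, e * x * e⁻¹ ∈ N) (hec : e * c = c * e) (he2 : e ^ 2 = 1) :
    e ∈ centralizer (N : Set G) ∨ e * c⁻¹ ∈ centralizer (N : Set G) := by
  have hc' : Commute e c := hec
  have hconjN : e * d * e⁻¹ ∈ N := heN d h.hb
  have hconjc : e * d * e⁻¹ ∉ zpowers c := by
    intro h1
    apply h.nmem
    obtain ⟨i, hi⟩ := mem_zpowers_iff.mp h1
    have : d = c ^ i := by
      have h2 : e * d * e⁻¹ = e * c ^ i * e⁻¹ := by
        rw [← hi, (hc'.zpow_right i).eq, mul_inv_cancel_right]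
      have h3 := mul_right_cancel h2
      exact mul_left_cancel h3
    rw [this]; exact zpow_mem_zpowers c i
  obtain ⟨i, hi⟩ := h.exists_eq_mul_zpow hconjN hconjc
  have hei : e⁻¹ = e := by rw [inv_eq_iff_mul_eq_one, ← pow_two, he2]
  have h1 : d = d * c ^ i * c ^ i := by
    have h2 : e * (e * d * e⁻¹) * e⁻¹ = d := by
      rw [hei]
      calc e * (e * d * e) * e = (e * e) * d * (e * e) := by group
        _ = d := by rw [← pow_two, he2, one_mul, mul_one]
    have h3 : e * (e * d * e⁻¹) * e⁻¹ = (e * d * e⁻¹) * (e * c ^ i * e⁻¹) := by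
      nth_rewrite 1 [hi]
      group
    rw [h3, hi, (hc'.zpow_right i).eq, mul_inv_cancel_right] at h2
    exact h2.symm
  have h2 : c ^ i * c ^ i = 1 := by
    have : d * (c ^ i * c ^ i) = d * 1 := by rw [mul_one, ← mul_assoc]; exact h1.symm
    exact mul_left_cancel this
  have h3 : c ^ i = 1 ∨ c ^ i = c ^ 2 := by
    by_cases h4 : c ^ i = 1
    · left; exact h4
    · right
      exact h.invol (N.zpow_mem h.ha i) h.ha (by rw [pow_two]; exact h2) h4 h.a_sq_ne
  rcases h3 with h3 | h3
  · left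
    apply h.mem_centralizer_of_comm hec
    rw [h3, mul_one] at hi
    have := congrArg (fun t => t * e) hi
    simpa [mul_assoc] using this
  · right
    have hc4 : c ^ 4 = 1 := h.pow_four h.ha
    have hc3 : c ^ 2 * c = c⁻¹ := by
      rw [eq_inv_iff_mul_eq_one, ← pow_succ, ← pow_succ]; exact hc4
    apply h.mem_centralizer_of_comm
    · rw [mul_assoc, inv_mul_cancel, mul_one, ← mul_assoc, ← hec, mul_assoc, mul_inv_cancel, mul_one]
    · have h4 : c⁻¹ * d = d * c := by
        have := h.conj
        rw [← this]; group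
      have h5 : e * d = d * c ^ 2 * e := by
        rw [h3] at hi
        have := congrArg (fun t => t * e) hi
        simpa [mul_assoc] using this
      have h6 : c ^ 2 * e = e * c ^ 2 := ((hc'.pow_right 2).eq).symm
      calc e * c⁻¹ * d = e * (c⁻¹ * d) := by rw [mul_assoc]
        _ = e * (d * c) := by rw [h4]
        _ = (e * d) * c := by rw [mul_assoc]
        _ = d * c ^ 2 * e * c := by rw [h5]
        _ = d * (c ^ 2 * e) * c := by rw [mul_assoc d]
        _ = d * (e * c ^ 2) * c := by rw [h6]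
        _ = d * (e * (c ^ 2 * c)) := by rw [mul_assoc, mul_assoc]
        _ = d * (e * c⁻¹) := by rw [hc3]

end Q8Sub

/-- averaging: if the group `𝒦` of odd order acts without proper invariant normal subgroups having trivial
action on the quotient, then the fixed points lie in the commutator subgroup -/
theorem fixed_mem_commutator {P : Type*} [Group P] [Finite P] (hP : IsPGroup 2 P)
    (𝒦 : Subgroup (MulAut P)) (hodd : Odd (Nat.card 𝒦))
    (hβ : ∀ N : Subgroup P, N.Normal → (∀ σ ∈ 𝒦, ∀ x ∈ N, σ x ∈ N) →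
      (∀ σ ∈ 𝒦, ∀ x : P, x⁻¹ * σ x ∈ N) → N = ⊤)
    {x : P} (hx : ∀ σ ∈ 𝒦, σ x = x) : x ∈ commutator P := by
  classical
  have : Fintype 𝒦 := Fintype.ofFinite 𝒦
  let θ : P →* Abelianization P := ∏ σ : 𝒦, (Abelianization.of).comp ((σ : MulAut P).toMonoidHom)
  have hθ : ∀ y : P, θ y = ∏ σ : 𝒦, Abelianization.of ((σ : MulAut P) y) := by
    intro y
    simp [θ]
  have hθτ : ∀ τ ∈ 𝒦, ∀ y : P, θ (τ y) = θ y := by
    intro τ hτ y
    rw [hθ, hθ]
    exact Fintype.prod_equiv (Equiv.mulRight (⟨τ, hτ⟩ : 𝒦)) _ _ (fun σ => by simp [MulAut.mul_apply])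
  have hker := hβ θ.ker inferInstance
    (fun σ hσ y hy => by
      rw [MonoidHom.mem_ker] at hy ⊢
      rw [hθτ σ hσ, hy])
    (fun σ hσ y => by rw [MonoidHom.mem_ker, map_mul, map_inv, hθτ σ hσ, inv_mul_cancel])
  have h1 : θ x = 1 := by
    have : x ∈ θ.ker := by rw [hker]; exact mem_top x
    exact this
  rw [hθ] at h1
  have h2 : ∏ σ : 𝒦, Abelianization.of ((σ : MulAut P) x) = Abelianization.of x ^ Nat.card 𝒦 := by
    rw [Finset.prod_congr rfl (fun σ _ => by rw [hx σ σ.2]), Finset.prod_const, Finset.card_univ,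
      Nat.card_eq_fintype_card]
  rw [h2, ← map_pow] at h1
  have h3 : x ^ Nat.card 𝒦 ∈ commutator P := by
    rw [← Abelianization.ker_of]; exact h1
  obtain ⟨k, hk⟩ := hP x
  have hcop : (Nat.card 𝒦).Coprime (orderOf x) := by
    have : orderOf x ∣ 2 ^ k := orderOf_dvd_of_pow_eq_one hk
    exact Nat.Coprime.coprime_dvd_right this (Nat.Coprime.pow_right k hodd.coprime_two_right)
  obtain ⟨m, hm⟩ := exists_pow_eq_self_of_coprime hcop
  rw [← hm]
  exact Subgroup.pow_mem _ h3 m

end Cfsg.Agent.Lib.Helper73
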