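import Cfsg.Agent.Lib.Helper73.NoAb8Core2

/-!
(helper73) The case of a proper invariant normal subgroup with trivial action on the quotient.
-/

set_option autoImplicit false

namespace Cfsg.Agent.Lib.Helper73

open Subgroup
open scoped commutatorElement

section general

variable {G : Type*} [Group G]

/-- a power of `x` outside `N` whose square lies in `N` -/
theorem exists_zpowers_sq_mem {x : G} (k : ℕ) (hk : x ^ 2 ^ k = 1) (N : Subgroup G) (hx : x ∉ N) :
    ∃ y ∈ zpowers x, y ∉ N ∧ y ^ 2 ∈ N := by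
  induction k generalizing x with
  | zero =>
    exfalso
    apply hx
    have : x = 1 := by simpa using hk
    rw [this]; exact N.one_mem
  | succ k ih =>
    by_cases h : x ^ 2 ∈ N
    · exact ⟨x, mem_zpowers x, hx, h⟩
    · obtain ⟨y, hy, h1, h2⟩ := ih (x := x ^ 2) (by rw [← pow_mul, ← pow_succ']; exact hk) h
      exact ⟨y, (zpowers_le.mpr (npow_mem_zpowers x 2)) hy, h1, h2⟩

theorem zpow_mem_iff_even {N : Subgroup G} {x : G} (hx : x ∉ N) (hx2 : x ^ 2 ∈ N) (k : ℤ) :
    x ^ k ∈ N ↔ Even k := by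
  constructor
  · intro h
    by_contra hodd
    rw [Int.not_even_iff_odd] at hodd
    obtain ⟨j, rfl⟩ := hodd
    apply hx
    have h1 : x ^ (2 * j + 1) = (x ^ 2) ^ j * x := by
      rw [zpow_add, zpow_one, zpow_mul, zpow_ofNat]
    rw [h1] at h
    have h2 : (x ^ 2) ^ j ∈ N := N.zpow_mem hx2 j
    exact (N.mul_mem_cancel_left h2).mp h
  · rintro ⟨j, rfl⟩
    have h1 : x ^ (j + j) = (x ^ 2) ^ j := by
      rw [← two_mul, zpow_mul, zpow_ofNat]
    rw [h1]
    exact N.zpow_mem hx2 j

/-- index two from a generator modulo `N` whose square lies in `N` -/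
theorem index_eq_two_of_sup_zpowers {N : Subgroup G} [hN : N.Normal] {x : G} (hx : x ∉ N) (hx2 : x ^ 2 ∈ N)
    (htop : zpowers x ⊔ N = ⊤) : N.index = 2 := by
  rw [index_eq_two_iff]
  refine ⟨x, fun g => ?_⟩
  have hg : g ∈ zpowers x ⊔ N := by rw [htop]; exact mem_top g
  rw [mem_sup_normal_iff] at hg
  obtain ⟨y, hy, n, hn, rfl⟩ := hg
  obtain ⟨k, rfl⟩ := mem_zpowers_iff.mp hy
  have h1 : x ^ k * n ∈ N ↔ Even k := by
    rw [N.mul_mem_cancel_right hn]; exact zpow_mem_iff_even hx hx2 k
  have h2 : x ^ k * n * x ∈ N ↔ Even (k + 1) := by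
    have h3 : x ^ k * n * x = x ^ (k + 1) * (x⁻¹ * n * x) := by
      rw [zpow_add, zpow_one]; group
    have h4 : x⁻¹ * n * x ∈ N := by
      have := hN.conj_mem n hn x⁻¹
      simpa using this
    rw [h3, N.mul_mem_cancel_right h4]
    exact zpow_mem_iff_even hx hx2 (k + 1)
  rw [h1, h2, Int.even_add_one]
  by_cases hk : Even k
  · exact Or.inr ⟨hk, fun h => h hk⟩
  · exact Or.inl ⟨hk, hk⟩

end general

namespace Q8Sub

variable {G : Type*} [Group G] {N : Subgroup G} {a b : G}

/-- elements of `N` central in `N` -/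
theorem center_cases (h : Q8Sub N a b) {x : G} (hx : x ∈ N) (hxc : x ∈ centralizer (N : Set G)) :
    x = 1 ∨ x = a ^ 2 := by
  by_cases hx2 : x ^ 2 = 1
  · by_cases hx1 : x = 1
    · left; exact hx1
    · right; exact h.invol hx h.ha hx2 hx1 h.a_sq_ne
  · exfalso
    -- pick d ∈ N outside zpowers x
    have hord : orderOf x = 4 := h.toPair.orderOf_eq_four (c := ⟨x, hx⟩)
      (fun h1 => hx2 (congrArg Subtype.val h1)) ▸ (Subgroup.orderOf_mk x hx).symm
    obtain ⟨d, hdN, hd⟩ : ∃ d ∈ N, d ∉ zpowers x := by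
      by_contra hcon
      push Not at hcon
      have hle : N ≤ zpowers x := fun y hy => hcon y hy
      have := Nat.le_of_dvd (by rw [Nat.card_zpowers, hord]; norm_num) (Subgroup.card_dvd_of_le hle)
      rw [h.card, Nat.card_zpowers, hord] at this
      omega
    have hp := h.pair_of hx hdN hx2 hd
    apply hp.not_comm
    exact (mem_centralizer_iff.mp hxc d hdN)

/-- for `c` centralizing `N`, outside `N`, with square in `N`, the subgroup `⟨a⟩⟨c⟩` is a noncyclic abelian
subgroup of order at least `8` -/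
theorem noncyclic_sup [Finite G] (hG : IsPGroup 2 G) (h : Q8Sub N a b) {c : G}
    (hc : c ∈ centralizer (N : Set G)) (hcN : c ∉ N) (hc2 : c ^ 2 ∈ N) :
    IsMulCommutative (zpowers a ⊔ zpowers c : Subgroup G) ∧ ¬ IsCyclic (zpowers a ⊔ zpowers c : Subgroup G) ∧
      8 ≤ Nat.card (zpowers a ⊔ zpowers c : Subgroup G) := by
  have : Fact (Nat.Prime 2) := ⟨Nat.prime_two⟩
  set B := zpowers a ⊔ zpowers c with hB
  have hac : a * c = c * a := (mem_centralizer_iff.mp hc a h.ha)
  have hcomm : ∀ x ∈ B, ∀ y ∈ B, x * y = y * x := by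
    apply comm_sup
    · intro x hx y hy
      obtain ⟨i, rfl⟩ := mem_zpowers_iff.mp hx
      obtain ⟨j, rfl⟩ := mem_zpowers_iff.mp hy
      rw [← zpow_add, ← zpow_add, add_comm]
    · intro x hx y hy
      obtain ⟨i, rfl⟩ := mem_zpowers_iff.mp hx
      obtain ⟨j, rfl⟩ := mem_zpowers_iff.mp hy
      rw [← zpow_add, ← zpow_add, add_comm]
    · intro x hx y hy
      obtain ⟨i, rfl⟩ := mem_zpowers_iff.mp hx
      obtain ⟨j, rfl⟩ := mem_zpowers_iff.mp hy
      have : Commute a c := hac
      exact ((this.zpow_left i).zpow_right j).eq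
  have haB : a ∈ B := (le_sup_left : zpowers a ≤ B) (mem_zpowers a)
  have hcB : c ∈ B := (le_sup_right : zpowers c ≤ B) (mem_zpowers c)
  refine ⟨isMulCommutative_of_forall B hcomm, ?_, ?_⟩
  · intro hcyc
    have hzord : orderOf (a ^ 2) = 2 := by
      rw [orderOf_pow_of_dvd (by norm_num) (by rw [h.ord]; norm_num), h.ord]
    have hzB : a ^ 2 ∈ B := B.pow_mem haB 2
    have hc2c : c ^ 2 ∈ centralizer (N : Set G) := (centralizer (N : Set G)).pow_mem hc 2
    rcases h.center_cases hc2 hc2c with h1 | h1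
    · -- c is an involution
      have hc1 : c ≠ 1 := fun h2 => hcN (h2 ▸ N.one_mem)
      have hcord : orderOf c = 2 := orderOf_eq_prime h1 hc1
      have := eq_of_orderOf_two_of_isCyclic hcyc hcB hzB hcord hzord
      exact hcN (this ▸ N.pow_mem h.ha 2)
    · -- c² = a², so a * c is an involution
      have hac2 : (a * c) ^ 2 = 1 := by
        have : Commute a c := hac
        rw [this.mul_pow, h1, ← pow_add]
        have : (2 + 2 : ℕ) = orderOf a := by rw [h.ord]
        rw [this]; exact pow_orderOf_eq_one a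
      have hac1 : a * c ≠ 1 := by
        intro h2
        apply hcN
        have : c = a⁻¹ := by
          rw [eq_inv_iff_mul_eq_one, ← hac]; exact h2
        rw [this]; exact N.inv_mem h.ha
      have hacord : orderOf (a * c) = 2 := orderOf_eq_prime hac2 hac1
      have := eq_of_orderOf_two_of_isCyclic hcyc (B.mul_mem haB hcB) hzB hacord hzord
      apply hcN
      have h3 : c = a⁻¹ * a ^ 2 := by rw [← this]; group
      rw [h3]
      exact N.mul_mem (N.inv_mem h.ha) (N.pow_mem h.ha 2)
  · have hlt : Nat.card (zpowers a) < Nat.card B := by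
      have hle : zpowers a ≤ B := le_sup_left
      rcases (Subgroup.card_le_of_le hle).lt_or_eq with h1 | h1
      · exact h1
      · exfalso
        have : zpowers a = B := Subgroup.eq_of_le_of_card_ge hle h1.symm.le
        apply hcN
        have hca : c ∈ zpowers a := by rw [this]; exact hcB
        exact h.zpowers_le hca
    obtain ⟨k, hk⟩ := (hG.to_subgroup B).exists_card_eq
    rw [Nat.card_zpowers, h.ord, hk] at hlt
    rw [hk]
    have hk3 : 3 ≤ k := by
      by_contra hlt'
      push Not at hlt'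
      have : (2 : ℕ) ^ k ≤ 2 ^ 2 := Nat.pow_le_pow_right (by norm_num) (by omega)
      omega
    calc 8 = 2 ^ 3 := by norm_num
      _ ≤ 2 ^ k := Nat.pow_le_pow_right (by norm_num) hk3

/-- a noncyclic abelian subgroup of order `8` normalizing `N` and meeting it in a subgroup of order at
least `4` contains an element outside `N` inducing an inner automorphism of `N` -/
theorem exists_inner_of_abelian_eight [Finite G] (h : Q8Sub N a b)
    (A : Subgroup G) (hAc : IsMulCommutative A) (hAnc : ¬ IsCyclic A) (hA8 : Nat.card A = 8)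
    (hAN : ∀ e ∈ A, ∀ x ∈ N, e * x * e⁻¹ ∈ N) (h4 : 4 ≤ Nat.card (A ⊓ N : Subgroup G)) :
    ∃ e ∈ A, e ∉ N ∧ ∃ q ∈ N, e * q ∈ centralizer (N : Set G) := by
  have hAcomm := comm_of_isMulCommutative hAc
  set D := A ⊓ N with hD
  have hDA : D ≤ A := inf_le_left
  have hDN : D ≤ N := inf_le_right
  have hdvd : Nat.card D ∣ 8 := hA8 ▸ Subgroup.card_dvd_of_le hDA
  have hne8 : Nat.card D ≠ 8 := by
    intro h8
    have h1 : D = A := Subgroup.eq_of_le_of_card_ge hDA (by rw [h8, hA8])
    have h2 : D = N := Subgroup.eq_of_le_of_card_ge hDN (by rw [h8, h.card])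
    have hNA : N = A := h2.symm.trans h1
    apply h.not_comm
    exact hAcomm b (hNA ▸ h.hb) a (hNA ▸ h.ha)
  have hD4 : Nat.card D = 4 := by
    have h1 : Nat.card D ∈ Nat.divisors 8 := Nat.mem_divisors.mpr ⟨hdvd, by norm_num⟩
    have h2 : Nat.divisors 8 = {1, 2, 4, 8} := by decide
    rw [h2] at h1
    simp only [Finset.mem_insert, Finset.mem_singleton] at h1
    omega
  -- an element of order 4 in D
  obtain ⟨c, hcD, hc2⟩ : ∃ c ∈ D, c ^ 2 ≠ 1 := by
    by_contra hcon
    push Not at hcon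
    have hle : D ≤ zpowers (a ^ 2) := by
      intro x hx
      by_cases hx1 : x = 1
      · rw [hx1]; exact one_mem _
      · rw [h.invol (hDN hx) h.ha (hcon x hx) hx1 h.a_sq_ne]; exact mem_zpowers _
    have hzord : orderOf (a ^ 2) = 2 := by
      rw [orderOf_pow_of_dvd (by norm_num) (by rw [h.ord]; norm_num), h.ord]
    have := Subgroup.card_le_of_le hle
    rw [Nat.card_zpowers, hzord, hD4] at this
    omega
  have hcA : c ∈ A := hDA hcD
  have hcN : c ∈ N := hDN hcD
  have hcord : orderOf c = 4 := by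
    have := h.toPair.orderOf_eq_four (c := ⟨c, hcN⟩) (fun h1 => hc2 (congrArg Subtype.val h1))
    rwa [Subgroup.orderOf_mk] at this
  have hDeq : zpowers c = D := by
    apply Subgroup.eq_of_le_of_card_ge (Subgroup.zpowers_le.mpr hcD)
    rw [Nat.card_zpowers, hcord, hD4]
  have hc4 : c ^ 4 = 1 := h.pow_four hcN
  -- an element y of A outside ⟨c⟩
  obtain ⟨y, hyA, hyc⟩ : ∃ y ∈ A, y ∉ zpowers c := by
    by_contra hcon
    push Not at hcon
    have hle : A ≤ zpowers c := fun x hx => hcon x hx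
    have := Subgroup.card_le_of_le hle
    rw [Nat.card_zpowers, hcord, hA8] at this
    omega
  have hcle : zpowers c ≤ A := Subgroup.zpowers_le.mpr hcA
  have hidx : ((zpowers c).subgroupOf A).index = 2 := by
    have h3 := Cfsg.Agent.Lib.Helper54.card_mul_relIndex hcle
    rw [Nat.card_zpowers, hcord, hA8] at h3
    show (zpowers c).relIndex A = 2
    omega
  have hy2c : y ^ 2 ∈ zpowers c := by
    have h3 := Subgroup.mul_mem_iff_of_index_two hidx (a := (⟨y, hyA⟩ : A)) (b := ⟨y, hyA⟩)
    have h5 := h3.mpr Iff.rfl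
    rw [mem_subgroupOf] at h5
    rw [pow_two]
    exact h5
  have hy8 : y ^ 8 = 1 := by
    have := pow_card_eq_one' (G := A) (x := ⟨y, hyA⟩)
    rw [hA8] at this
    exact congrArg Subtype.val this
  have hy4 : y ^ 4 = 1 := by
    by_contra hne
    apply hAnc
    have hord : orderOf y = 2 ^ 3 :=
      orderOf_eq_prime_pow (p := 2) (n := 2) (by simpa using hne) (by simpa using hy8)
    apply isCyclic_of_orderOf_eq_card (⟨y, hyA⟩ : A)
    rw [Subgroup.orderOf_mk, hord, hA8]; norm_num
  -- an involution e of A outside ⟨c⟩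
  obtain ⟨e, heA, he2, hec⟩ : ∃ e ∈ A, e ^ 2 = 1 ∧ e ∉ zpowers c := by
    by_cases hy2 : y ^ 2 = 1
    · exact ⟨y, hyA, hy2, hyc⟩
    · have hy2N : y ^ 2 ∈ N := hDN (hDeq ▸ hy2c)
      have h1 : y ^ 2 = c ^ 2 :=
        h.invol hy2N hcN (by rw [← pow_mul]; exact hy4) hy2 hc2
      refine ⟨y * c, A.mul_mem hyA hcA, ?_, ?_⟩
      · have : Commute y c := hAcomm y hyA c hcA
        rw [this.mul_pow, h1, ← pow_add]; exact hc4
      · intro h2
        apply hyc
        have := (zpowers c).mul_mem h2 ((zpowers c).inv_mem (mem_zpowers c))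
        simpa using this
  have heN : e ∉ N := by
    intro h1
    apply hec
    rw [hDeq]
    exact ⟨heA, h1⟩
  obtain ⟨d, hdN, hd⟩ : ∃ d ∈ N, d ∉ zpowers c := by
    by_contra hcon
    push Not at hcon
    have hle : N ≤ zpowers c := fun y hy => hcon y hy
    have := Subgroup.card_le_of_le hle
    rw [h.card, Nat.card_zpowers, hcord] at this
    omega
  have hp := h.pair_of hcN hdN hc2 hd
  rcases hp.centralizes_or (hAN e heA) (hAcomm e heA c hcA) he2 with h1 | h1
  · exact ⟨e, heA, heN, 1, N.one_mem, by rw [mul_one]; exact h1⟩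
  · exact ⟨e, heA, heN, c⁻¹, N.inv_mem hcN, h1⟩

end Q8Sub

end Cfsg.Agent.Lib.Helper73
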