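import Cfsg.Agent.Lib.Helper73.NoAb8Core3

/-!
(helper73) The minimal setup and the case of a proper invariant normal subgroup with trivial action on the
quotient.
-/

set_option autoImplicit false

namespace Cfsg.Agent.Lib.Helper73

open Subgroup
open scoped commutatorElement

/-- `P` is a `2`-group with a group `𝒦` of automorphisms of odd order, containing a noncyclic abelian
subgroup of order `8`, while no proper `𝒦`-invariant subgroup does -/
structure MinSetup (P : Type*) [Group P] (𝒦 : Subgroup (MulAut P)) : Prop where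
  two : IsPGroup 2 P
  odd : Odd (Nat.card 𝒦)
  h8 : ∃ A : Subgroup P, IsMulCommutative A ∧ ¬ IsCyclic A ∧ Nat.card A = 8
  hmin : ∀ Y : Subgroup P, Y ≠ ⊤ → (∀ σ ∈ 𝒦, ∀ y ∈ Y, σ y ∈ Y) →
    ∀ B : Subgroup P, B ≤ Y → IsMulCommutative B → Nat.card B = 8 → IsCyclic B

namespace MinSetup

variable {P : Type*} [Group P] [Finite P] {𝒦 : Subgroup (MulAut P)}

omit [Finite P] in
theorem pow_card (_hs : MinSetup P 𝒦) {σ : MulAut P} (hσ : σ ∈ 𝒦) : σ ^ Nat.card 𝒦 = 1 := by
  have := pow_card_eq_one' (G := 𝒦) (x := ⟨σ, hσ⟩)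
  exact congrArg Subtype.val this

theorem contra (hs : MinSetup P 𝒦) {Y : Subgroup P} (hY : Y ≠ ⊤) (hinv : ∀ σ ∈ 𝒦, ∀ y ∈ Y, σ y ∈ Y)
    {B : Subgroup P} (hBY : B ≤ Y) (hBc : IsMulCommutative B) (hBnc : ¬ IsCyclic B)
    (hB8 : 8 ≤ Nat.card B) : False := by
  obtain ⟨B0, h0, h1, h2, h3⟩ := exists_noncyclic_card_eight B (hs.two.to_subgroup B) hBc hBnc hB8
  exact h2 (hs.hmin Y hY hinv B0 (h0.trans hBY) h1 h3)

theorem dich (hs : MinSetup P 𝒦) {Y : Subgroup P} (hY : Y ≠ ⊤) (hinv : ∀ σ ∈ 𝒦, ∀ y ∈ Y, σ y ∈ Y)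
    {σ : MulAut P} (hσ : σ ∈ 𝒦) {y0 : P} (hy0 : y0 ∈ Y) (hmove : σ y0 ≠ y0) :
    (Nat.card Y = 4 ∧ ∀ y ∈ Y, y ^ 2 = 1) ∨ (∃ a b : P, Q8Sub Y a b) :=
  inv_dichotomy hs.two _ hs.odd σ (hs.pow_card hσ) Y (hinv σ hσ) (hs.hmin Y hY hinv) hy0 hmove

omit [Finite P] in
theorem sup_zpowers_invariant {N : Subgroup P} (hNinv : ∀ σ ∈ 𝒦, ∀ y ∈ N, σ y ∈ N) {x : P}
    (hx : ∀ σ ∈ 𝒦, x⁻¹ * σ x ∈ N) : ∀ σ ∈ 𝒦, ∀ y ∈ N ⊔ zpowers x, σ y ∈ N ⊔ zpowers x := by
  intro σ hσ y hy
  have h1 : (N ⊔ zpowers x).map σ.toMonoidHom ≤ N ⊔ zpowers x := by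
    rw [Subgroup.map_sup, MonoidHom.map_zpowers]
    apply sup_le
    · rintro _ ⟨n, hn, rfl⟩
      exact (le_sup_left : N ≤ N ⊔ zpowers x) (hNinv σ hσ n hn)
    · rw [zpowers_le]
      have : σ x = x * (x⁻¹ * σ x) := by group
      show σ x ∈ _
      rw [this]
      exact mul_mem ((le_sup_right : zpowers x ≤ _) (mem_zpowers x)) ((le_sup_left : N ≤ _) (hx σ hσ))
  exact h1 (mem_map_of_mem _ hy)

/-- if `𝒦` acts trivially then `P` is abelian -/
theorem comm_of_trivial (hs : MinSetup P 𝒦) (htriv : ∀ σ ∈ 𝒦, ∀ x : P, σ x = x) :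
    ∀ x y : P, x * y = y * x := by
  obtain ⟨A, hAc, hAnc, hA8⟩ := hs.h8
  have hAtop : A = ⊤ := by
    by_contra hne
    exact hs.contra hne (fun σ hσ y hy => by rw [htriv σ hσ]; exact hy) le_rfl hAc hAnc hA8.ge
  intro x y
  exact comm_of_isMulCommutative hAc x (hAtop ▸ mem_top x) y (hAtop ▸ mem_top y)

/-- the case of a proper invariant normal subgroup with trivial action on the quotient -/
theorem alpha_case (hs : MinSetup P 𝒦) (hnab : ∃ x y : P, x * y ≠ y * x)
    (N : Subgroup P) (hNn : N.Normal) (hNtop : N ≠ ⊤) (hNinv : ∀ σ ∈ 𝒦, ∀ x ∈ N, σ x ∈ N)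
    (htriv : ∀ σ ∈ 𝒦, ∀ x : P, x⁻¹ * σ x ∈ N) :
    ∃ a b : P, N.index = 2 ∧ Q8Sub N a b ∧ N ⊔ centralizer (N : Set P) = ⊤ := by
  have : Fact (Nat.Prime 2) := ⟨Nat.prime_two⟩
  obtain ⟨x0, y0', hxy⟩ := hnab
  have hP := hs.two
  -- some automorphism moves some element of N
  obtain ⟨σ, hσ, y0, hy0, hmove⟩ : ∃ σ ∈ 𝒦, ∃ y0 ∈ N, σ y0 ≠ y0 := by
    by_contra hcon
    push Not at hcon
    apply hxy
    apply hs.comm_of_trivial
    intro τ hτ x
    have h1 : x⁻¹ * τ x = 1 := by
      obtain ⟨k, hk⟩ := hP (x⁻¹ * τ x)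
      apply eq_one_of_stable τ _ hs.odd (hs.pow_card hτ) k hk (x := x)
      · group
      · exact hcon τ hτ _ (htriv τ hτ x)
    have := congrArg (fun t => x * t) h1
    simpa using this
  have hσn := hs.pow_card hσ
  rcases hs.dich hNtop hNinv hσ hy0 hmove with ⟨hN4, hexp⟩ | ⟨a, b, hQ⟩
  · -- the four-group case is impossible
    exfalso
    have hNbot : N ≠ ⊥ := by
      intro h
      rw [h, Subgroup.card_bot] at hN4
      omega
    -- N is central
    have hNc : N ≤ center P := by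
      set W := N ⊓ center P with hW
      have hWne : W ≠ ⊥ := by
        obtain ⟨z, hzN, hz1, hzc⟩ := exists_ne_one_mem_center_of_normal' hP N hNbot
        intro h
        apply hz1
        have : z ∈ W := ⟨hzN, hzc⟩
        rw [h] at this
        exact Subgroup.mem_bot.mp this
      have hWinv : ∀ w ∈ W, σ w ∈ W := by
        intro w hw
        have hw1 : w ∈ N := (Subgroup.mem_inf.mp hw).1
        have hw2 : w ∈ center P := (Subgroup.mem_inf.mp hw).2
        have hc : σ w ∈ center P := by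
          rw [mem_center_iff]
          intro g
          have h1 := mem_center_iff.mp hw2 (σ⁻¹ g)
          have h2 := congrArg σ h1
          simpa using h2
        exact Subgroup.mem_inf.mpr ⟨hNinv σ hσ w hw1, hc⟩
      have := eq_of_invariant_of_four _ hs.odd σ hσn N hN4 hexp hy0 hmove W inf_le_left hWinv
        (hNinv σ hσ) hWne
      rw [← this]
      exact inf_le_right
    obtain ⟨x, hx⟩ : ∃ x : P, x ∉ N := by
      by_contra hcon
      push Not at hcon
      exact hNtop (eq_top_iff.mpr fun x _ => hcon x)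
    set B := N ⊔ zpowers x with hB
    have hBinv : ∀ τ ∈ 𝒦, ∀ y ∈ B, τ y ∈ B :=
      sup_zpowers_invariant hNinv (fun τ hτ => htriv τ hτ x)
    have hBcomm : ∀ u ∈ B, ∀ v ∈ B, u * v = v * u := by
      apply comm_sup
      · intro u hu v _
        exact (mem_center_iff.mp (hNc hu) v).symm
      · intro u hu v hv
        obtain ⟨i, rfl⟩ := mem_zpowers_iff.mp hu
        obtain ⟨j, rfl⟩ := mem_zpowers_iff.mp hv
        rw [← zpow_add, ← zpow_add, add_comm]
      · intro u hu v _
        exact (mem_center_iff.mp (hNc hu) v).symm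
    have hBc : IsMulCommutative B := isMulCommutative_of_forall B hBcomm
    have hNB : N ≤ B := le_sup_left
    have hBnc : ¬ IsCyclic B := by
      intro hcyc
      have e := Subgroup.subgroupOfEquivOfLe hNB
      have : IsCyclic (N.subgroupOf B) := inferInstance
      have hNcyc : IsCyclic N := isCyclic_of_surjective e e.surjective
      obtain ⟨g, hg⟩ := hNcyc.exists_generator
      have h1 : orderOf g = Nat.card N := orderOf_eq_card_of_forall_mem_zpowers hg
      have h2 : g ^ 2 = 1 := Subtype.ext (by simpa using hexp g g.2)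
      have h3 : orderOf g ∣ 2 := orderOf_dvd_of_pow_eq_one h2
      rw [h1, hN4] at h3
      norm_num at h3
    have hB8 : 8 ≤ Nat.card B := by
      have hlt : Nat.card N < Nat.card B := by
        rcases (Subgroup.card_le_of_le hNB).lt_or_eq with h1 | h1
        · exact h1
        · exfalso
          have : N = B := Subgroup.eq_of_le_of_card_ge hNB h1.symm.le
          apply hx
          rw [this]
          exact (le_sup_right : zpowers x ≤ B) (mem_zpowers x)
      obtain ⟨k, hk⟩ := (hP.to_subgroup B).exists_card_eq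
      rw [hN4, hk] at hlt
      rw [hk]
      have hk3 : 3 ≤ k := by
        by_contra hlt'
        push Not at hlt'
        have : (2 : ℕ) ^ k ≤ 2 ^ 2 := Nat.pow_le_pow_right (by norm_num) (by omega)
        omega
      calc 8 = 2 ^ 3 := by norm_num
        _ ≤ 2 ^ k := Nat.pow_le_pow_right (by norm_num) hk3
    have hBtop : B = ⊤ := by
      by_contra hne
      exact hs.contra hne hBinv le_rfl hBc hBnc hB8
    exact hxy (hBcomm x0 (hBtop ▸ mem_top x0) y0' (hBtop ▸ mem_top y0'))
  · -- the quaternion case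
    refine ⟨a, b, ?_⟩
    set C := centralizer (N : Set P) with hC
    have hσinvN : ∀ τ ∈ 𝒦, ∀ x ∈ N, τ⁻¹ x ∈ N := fun τ hτ =>
      inv_apply_mem τ _ hs.odd (hs.pow_card hτ) N (hNinv τ hτ)
    have hCinv : ∀ τ ∈ 𝒦, ∀ c ∈ C, τ c ∈ C := by
      intro τ hτ c hc
      rw [hC, mem_centralizer_iff]
      intro x hx
      have h1 := mem_centralizer_iff.mp hc (τ⁻¹ x) (hσinvN τ hτ x hx)
      have h2 := congrArg τ h1
      simpa using h2
    -- the involution of N is fixed by 𝒦
    have hz2 : (a ^ 2) ^ 2 = 1 := by rw [← pow_mul]; exact hQ.pow_four hQ.ha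
    have hzfix : ∀ τ ∈ 𝒦, τ (a ^ 2) = a ^ 2 := by
      intro τ hτ
      apply hQ.invol (hNinv τ hτ _ (N.pow_mem hQ.ha 2)) hQ.ha
      · rw [← map_pow, hz2, map_one]
      · intro h1
        exact hQ.a_sq_ne ((MulEquiv.map_eq_one_iff τ).mp h1)
      · exact hQ.a_sq_ne
    -- 𝒦 centralizes C
    have hCfix : ∀ τ ∈ 𝒦, ∀ c ∈ C, τ c = c := by
      intro τ hτ c hc
      have h1 : c⁻¹ * τ c ∈ N := htriv τ hτ c
      have h2 : c⁻¹ * τ c ∈ C := C.mul_mem (C.inv_mem hc) (hCinv τ hτ c hc)
      have h3 : c⁻¹ * τ c = 1 := by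
        rcases hQ.center_cases h1 h2 with h4 | h4
        · exact h4
        · apply eq_one_of_stable τ _ hs.odd (hs.pow_card hτ) 1 (x := c)
          · rw [h4]; simpa using hz2
          · group
          · rw [h4]; exact hzfix τ hτ
      have := congrArg (fun t => c * t) h3
      simpa using this
    -- the key claim: N C = P
    have hM : N ⊔ C = ⊤ := by
      by_contra hMne
      have hMinv : ∀ τ ∈ 𝒦, ∀ y ∈ N ⊔ C, τ y ∈ N ⊔ C := by
        intro τ hτ y hy
        have h1 : (N ⊔ C).map τ.toMonoidHom ≤ N ⊔ C := by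
          rw [Subgroup.map_sup]
          apply sup_le
          · rintro _ ⟨n, hn, rfl⟩
            exact (le_sup_left : N ≤ N ⊔ C) (hNinv τ hτ n hn)
          · rintro _ ⟨c, hc, rfl⟩
            exact (le_sup_right : C ≤ N ⊔ C) (hCinv τ hτ c hc)
        exact h1 (mem_map_of_mem _ hy)
      have hCN : C ≤ N := by
        intro c0 hc0
        by_contra hc0N
        obtain ⟨k, hk⟩ := hP c0
        obtain ⟨c, hcz, hcN, hc2⟩ := exists_zpowers_sq_mem k hk N hc0N
        have hcC : c ∈ C := (zpowers_le.mpr hc0) hcz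
        obtain ⟨h1, h2, h3⟩ := hQ.noncyclic_sup hP hcC hcN hc2
        refine hs.contra hMne hMinv ?_ h1 h2 h3
        apply sup_le
        · exact (hQ.zpowers_le).trans le_sup_left
        · exact (zpowers_le.mpr hcC).trans le_sup_right
      obtain ⟨x1, hx1⟩ : ∃ x : P, x ∉ N := by
        by_contra hcon
        push Not at hcon
        exact hNtop (eq_top_iff.mpr fun x _ => hcon x)
      obtain ⟨k, hk⟩ := hP x1
      obtain ⟨x, -, hxN, hx2⟩ := exists_zpowers_sq_mem k hk N hx1
      set Y2 := N ⊔ zpowers x with hY2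
      have hY2inv : ∀ τ ∈ 𝒦, ∀ y ∈ Y2, τ y ∈ Y2 :=
        sup_zpowers_invariant hNinv (fun τ hτ => htriv τ hτ x)
      have hNY2 : N ≤ Y2 := le_sup_left
      have hlt : Nat.card N < Nat.card Y2 := by
        rcases (Subgroup.card_le_of_le hNY2).lt_or_eq with h1 | h1
        · exact h1
        · exfalso
          have : N = Y2 := Subgroup.eq_of_le_of_card_ge hNY2 h1.symm.le
          apply hxN
          rw [this]
          exact (le_sup_right : zpowers x ≤ Y2) (mem_zpowers x)
      have hY2top : Y2 = ⊤ := by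
        by_contra hne
        rcases hs.dich hne hY2inv hσ (hNY2 hy0) hmove with ⟨h4, -⟩ | ⟨a', b', hQ'⟩
        · rw [hQ.card, h4] at hlt; omega
        · rw [hQ.card, hQ'.card] at hlt; omega
      have hidx : N.index = 2 :=
        index_eq_two_of_sup_zpowers hxN hx2 (by rw [sup_comm]; exact hY2top)
      obtain ⟨A, hAc, hAnc, hA8⟩ := hs.h8
      have h4 : 4 ≤ Nat.card (A ⊓ N : Subgroup P) := by
        have h1 : N.relIndex A ∣ 2 := hidx ▸ Subgroup.relIndex_dvd_index_of_normal N A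
        have h2 := Cfsg.Agent.Lib.Helper54.card_mul_relIndex (inf_le_right : N ⊓ A ≤ A)
        rw [Subgroup.inf_relIndex_right, hA8] at h2
        have h3 : N.relIndex A ≤ 2 := Nat.le_of_dvd (by norm_num) h1
        rw [inf_comm]
        by_contra hlt4
        push Not at hlt4
        have : Nat.card (N ⊓ A : Subgroup P) * N.relIndex A ≤ 3 * 2 :=
          Nat.mul_le_mul (by omega) h3
        omega
      obtain ⟨e, heA, heN, q, hqN, heq⟩ := hQ.exists_inner_of_abelian_eight A hAc hAnc hA8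
        (fun e _ x hx => hNn.conj_mem x hx e) h4
      apply heN
      have h1 : e * q ∈ N := hCN heq
      have := N.mul_mem h1 (N.inv_mem hqN)
      simpa using this
    -- C is not contained in N
    have hCN : ¬ C ≤ N := by
      intro hle
      apply hNtop
      rw [← hM]
      exact (sup_eq_left.mpr hle).symm
    obtain ⟨c0, hc0, hc0N⟩ : ∃ c0 ∈ C, c0 ∉ N := by
      by_contra hcon
      push Not at hcon
      exact hCN (fun c hc => hcon c hc)
    obtain ⟨k, hk⟩ := hP c0
    obtain ⟨c, hcz, hcN, hc2⟩ := exists_zpowers_sq_mem k hk N hc0N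
    have hcC : c ∈ C := (zpowers_le.mpr hc0) hcz
    set Y3 := N ⊔ zpowers c with hY3
    have hY3inv : ∀ τ ∈ 𝒦, ∀ y ∈ Y3, τ y ∈ Y3 :=
      sup_zpowers_invariant hNinv (fun τ hτ => by
        rw [hCfix τ hτ c hcC, inv_mul_cancel]; exact N.one_mem)
    have hY3top : Y3 = ⊤ := by
      by_contra hne
      obtain ⟨h1, h2, h3⟩ := hQ.noncyclic_sup hP hcC hcN hc2
      refine hs.contra hne hY3inv ?_ h1 h2 h3
      apply sup_le
      · exact (hQ.zpowers_le).trans le_sup_left
      · exact le_sup_right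
    exact ⟨index_eq_two_of_sup_zpowers hcN hc2 (by rw [sup_comm]; exact hY3top), hQ, hM⟩

end MinSetup

end Cfsg.Agent.Lib.Helper73
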