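import Cfsg.Agent.Lib.Helper73.NoAb8Core4
import Cfsg.Agent.Lib.Helper97.PStable2
import Cfsg.Agent.Lib.Helper86.P4Two
import Cfsg.Agent.Lib.Helper86.EssChain

/-!
(helper73) The case without proper invariant normal subgroups with trivial action on the quotient:
the Frattini subgroup is central.
-/

set_option autoImplicit false

namespace Cfsg.Agent.Lib.Helper73

open Subgroup
open scoped commutatorElement

theorem center_apply_mem {P : Type*} [Group P] (σ : MulAut P) {w : P} (hw : w ∈ center P) :
    σ w ∈ center P := by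
  rw [mem_center_iff]
  intro g
  have h1 := mem_center_iff.mp hw (σ⁻¹ g)
  have h2 := congrArg σ h1
  simpa using h2

theorem frattini_ne_top {P : Type*} [Group P] [Finite P] [Nontrivial P] : frattini P ≠ ⊤ := by
  intro h
  rcases eq_top_or_exists_le_coatom (⊥ : Subgroup P) with h1 | ⟨M, hM, -⟩
  · exact bot_ne_top h1
  · have h2 := frattini_le_coatom hM
    rw [h] at h2
    exact hM.1 (top_le_iff.mp h2)

/-- a subgroup of index at most two contains the Frattini subgroup of a `2`-group -/
theorem frattini_le_of_card_le_two_mul {P : Type*} [Group P] [Finite P] (_hP : IsPGroup 2 P)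
    (C : Subgroup P) (hC : Nat.card P ≤ 2 * Nat.card C) : frattini P ≤ C := by
  have : Fact (Nat.Prime 2) := ⟨Nat.prime_two⟩
  by_cases hCtop : C = ⊤
  · rw [hCtop]; exact le_top
  have h1 := Subgroup.card_mul_index C
  have hidx : C.index = 2 := by
    have h2 : C.index ≤ 2 := by
      by_contra hlt
      push Not at hlt
      have hpos : 0 < Nat.card C := Nat.card_pos
      have : Nat.card C * 3 ≤ Nat.card C * C.index := Nat.mul_le_mul_left _ hlt
      omega
    have h3 : C.index ≠ 1 := fun h => hCtop (Subgroup.index_eq_one.mp h)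
    have h4 : C.index ≠ 0 := Subgroup.index_ne_zero_of_finite
    omega
  have hCn : C.Normal := Subgroup.normal_of_index_eq_two hidx
  apply Cfsg.Agent.Lib.Helper86.frattini_le_of_quotient_elemAb 2 C
  · rw [commutator_def]
    rw [Subgroup.commutator_le]
    intro x _ y _
    have h5 : ∀ u : P, u * u ∈ C := fun u => by
      have := Subgroup.sq_mem_of_index_two hidx u
      rwa [pow_two] at this
    rw [commutatorElement_def]
    by_cases hx : x ∈ C
    · have : x * y * x⁻¹ * y⁻¹ = x * (y * x⁻¹ * y⁻¹) := by group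
      rw [this]
      exact C.mul_mem hx (hCn.conj_mem _ (C.inv_mem hx) y)
    · by_cases hy : y ∈ C
      · have : x * y * x⁻¹ * y⁻¹ = (x * y * x⁻¹) * y⁻¹ := by group
        rw [this]
        exact C.mul_mem (hCn.conj_mem _ hy x) (C.inv_mem hy)
      · have hxy : x * y ∈ C := (Subgroup.mul_mem_iff_of_index_two hidx).mpr ⟨fun h => absurd h hx, fun h => absurd h hy⟩
        have hxy' : x⁻¹ * y⁻¹ ∈ C := by
          rw [Subgroup.mul_mem_iff_of_index_two hidx]
          constructor
          · intro h; exact absurd (by simpa using C.inv_mem h) hx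
          · intro h; exact absurd (by simpa using C.inv_mem h) hy
        have : x * y * x⁻¹ * y⁻¹ = (x * y) * (x⁻¹ * y⁻¹) := by group
        rw [this]
        exact C.mul_mem hxy hxy'
  · intro x
    exact Subgroup.sq_mem_of_index_two hidx x

namespace MinSetup

variable {P : Type*} [Group P] [Finite P] {𝒦 : Subgroup (MulAut P)}

/-- In case (β) the Frattini subgroup is central. -/
theorem frattini_le_center (hs : MinSetup P 𝒦) (hnab : ∃ x y : P, x * y ≠ y * x)
    (hβ : ∀ N : Subgroup P, N.Normal → (∀ σ ∈ 𝒦, ∀ x ∈ N, σ x ∈ N) →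
      (∀ σ ∈ 𝒦, ∀ x : P, x⁻¹ * σ x ∈ N) → N = ⊤) : frattini P ≤ center P := by
  have : Fact (Nat.Prime 2) := ⟨Nat.prime_two⟩
  have hP := hs.two
  have hnt : Nontrivial P := by
    obtain ⟨x, y, hxy⟩ := hnab
    refine ⟨⟨x, 1, ?_⟩⟩
    rintro rfl
    simp at hxy
  set Φ := frattini P with hΦ
  have hΦn : Φ.Normal := inferInstance
  have hΦtop : Φ ≠ ⊤ := frattini_ne_top
  have hΦinv : ∀ σ ∈ 𝒦, ∀ y ∈ Φ, σ y ∈ Φ := fun σ _ y hy =>
    Cfsg.Agent.Lib.Helper86.frattini_apply_mem σ y hy
  by_cases hfix : ∀ σ ∈ 𝒦, ∀ y ∈ Φ, σ y = y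
  · -- the centralizer of Φ is everything
    have hC : centralizer (Φ : Set P) = ⊤ := by
      apply hβ
      · exact inferInstance
      · intro σ hσ c hc
        rw [mem_centralizer_iff]
        intro f hf
        have h1 := mem_centralizer_iff.mp hc f hf
        have h2 := congrArg σ h1
        rw [map_mul, map_mul, hfix σ hσ f hf] at h2
        exact h2
      · intro σ hσ x
        rw [mem_centralizer_iff]
        intro f hf
        have h1 : σ (x * f * x⁻¹) = x * f * x⁻¹ := hfix σ hσ _ (hΦn.conj_mem f hf x)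
        rw [map_mul, map_mul, hfix σ hσ f hf, map_inv] at h1
        -- σ x * f * (σ x)⁻¹ = x * f * x⁻¹
        have h2 : f * (x⁻¹ * σ x) = x⁻¹ * (x * f * x⁻¹) * σ x := by group
        rw [h2, ← h1]
        group
    intro f hf
    rw [mem_center_iff]
    intro g
    have : g ∈ centralizer (Φ : Set P) := hC ▸ mem_top g
    exact (mem_centralizer_iff.mp this f hf).symm
  · push Not at hfix
    obtain ⟨σ, hσ, y0, hy0, hmove⟩ := hfix
    have hσn := hs.pow_card hσ
    have hΦbot : Φ ≠ ⊥ := by
      intro h
      rw [h, Subgroup.mem_bot] at hy0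
      rw [hy0, map_one] at hmove
      exact hmove rfl
    rcases hs.dich hΦtop hΦinv hσ hy0 hmove with ⟨h4, hexp⟩ | ⟨a, b, hQ⟩
    · set W := Φ ⊓ center P with hW
      have hWne : W ≠ ⊥ := by
        obtain ⟨z, hzN, hz1, hzc⟩ := exists_ne_one_mem_center_of_normal' hP Φ hΦbot
        intro h
        apply hz1
        have : z ∈ W := Subgroup.mem_inf.mpr ⟨hzN, hzc⟩
        rw [h] at this
        exact Subgroup.mem_bot.mp this
      have hWinv : ∀ w ∈ W, σ w ∈ W := by
        intro w hw
        have hw1 : w ∈ Φ := (Subgroup.mem_inf.mp hw).1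
        have hw2 : w ∈ center P := (Subgroup.mem_inf.mp hw).2
        exact Subgroup.mem_inf.mpr ⟨hΦinv σ hσ w hw1, center_apply_mem σ hw2⟩
      have := eq_of_invariant_of_four _ hs.odd σ hσn Φ h4 hexp hy0 hmove W inf_le_left hWinv
        (hΦinv σ hσ) hWne
      rw [← this]
      exact inf_le_right
    · -- Hobby: a quaternion group is not a Frattini subgroup
      exfalso
      obtain ⟨z, hz⟩ : ∃ z : P, z = a ^ 2 := ⟨_, rfl⟩
      have hz2 : z ^ 2 = 1 := by rw [hz, ← pow_mul]; exact hQ.pow_four hQ.ha
      have hzΦ : z ∈ Φ := hz ▸ Φ.pow_mem hQ.ha 2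
      have hz1 : z ≠ 1 := hz ▸ hQ.a_sq_ne
      have hzc : z ∈ center P := by
        rw [mem_center_iff]
        intro g
        have h1 : g * z * g⁻¹ = a ^ 2 := by
          apply hQ.invol (hΦn.conj_mem z hzΦ g) hQ.ha
          · rw [conj_pow, hz2]; group
          · intro h
            apply hz1
            have : z = g⁻¹ * (g * z * g⁻¹) * g := by group
            rw [this, h]; group
          · exact hQ.a_sq_ne
        rw [← hz] at h1
        calc g * z = g * z * g⁻¹ * g := by group
          _ = z * g := by rw [h1]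
      obtain ⟨c, hcΦ, hcz, hcomm⟩ := exists_comm_mem_zpowers hP Φ hzc hz2 (by rw [hQ.card]; norm_num)
      have hstep := card_centralizer_step (p := 2) (zpowers z) (⊤ : Subgroup P)
        (by rw [Nat.card_zpowers]; exact orderOf_le_of_pow_eq_one (by norm_num) hz2)
        (fun d hd g _ => by
          obtain ⟨i, rfl⟩ := mem_zpowers_iff.mp hd
          exact ((mem_center_iff.mp (Subgroup.zpow_mem _ hzc i) g).symm : _ = _)) c
        (fun g _ => hcomm g)
      rw [Subgroup.card_top, top_inf_eq] at hstep
      have hle := frattini_le_of_card_le_two_mul hP _ hstep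
      have hcc : c ∈ centralizer (Φ : Set P) := by
        rw [mem_centralizer_iff]
        intro f hf
        have := mem_centralizer_iff.mp (hle hf) c (Set.mem_singleton c)
        exact this.symm
      rcases hQ.center_cases hcΦ hcc with h1 | h1
      · exact hcz (h1 ▸ one_mem _)
      · rw [← hz] at h1
        exact hcz (h1 ▸ mem_zpowers z)

end MinSetup

end Cfsg.Agent.Lib.Helper73
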