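import Cfsg.Agent.Lib.Helper73.NoAb8Core5

/-!
(helper73) The case without proper invariant normal subgroups with trivial action on the quotient:
the group is special.
-/

set_option autoImplicit false

namespace Cfsg.Agent.Lib.Helper73

open Subgroup
open scoped commutatorElement

theorem not_isCyclic_of_exp_two {P : Type*} [Group P] (B : Subgroup P) (hexp : ∀ y ∈ B, y ^ 2 = 1)
    (h : 2 < Nat.card B) : ¬ IsCyclic B := by
  intro hcyc
  obtain ⟨g, hg⟩ := hcyc.exists_generator
  have h1 : orderOf g = Nat.card B := orderOf_eq_card_of_forall_mem_zpowers hg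
  have h2 : g ^ 2 = 1 := Subtype.ext (by simpa using hexp g g.2)
  have h3 : orderOf g ≤ 2 := orderOf_le_of_pow_eq_one (by norm_num) h2
  omega

theorem commutator_apply_mem {P : Type*} [Group P] (σ : MulAut P) {x : P} (hx : x ∈ commutator P) :
    σ x ∈ commutator P := by
  have h : (commutator P).Characteristic := inferInstance
  have h2 := (Subgroup.characteristic_iff_map_le.mp h) σ
  exact h2 (Subgroup.mem_map_of_mem _ hx)

theorem commutatorElement_mem_commutator {P : Type*} [Group P] (x y : P) : ⁅x, y⁆ ∈ commutator P := by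
  rw [_root_.commutator_def]
  exact Subgroup.commutator_mem_commutator (mem_top x) (mem_top y)

theorem commutator_ne_bot {P : Type*} [Group P] (hnab : ∃ x y : P, x * y ≠ y * x) :
    commutator P ≠ ⊥ := by
  intro h
  obtain ⟨x, y, hxy⟩ := hnab
  apply hxy
  have h1 := commutatorElement_mem_commutator x y
  rw [h, Subgroup.mem_bot, commutatorElement_eq_one_iff_mul_comm] at h1
  exact h1

theorem center_ne_top {P : Type*} [Group P] (hnab : ∃ x y : P, x * y ≠ y * x) :
    center P ≠ ⊤ := by
  intro h
  obtain ⟨x, y, hxy⟩ := hnab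
  apply hxy
  have h1 : y ∈ center P := h ▸ mem_top y
  exact mem_center_iff.mp h1 x

/-- if commutators are central and squares are central then the commutator subgroup has exponent 2 -/
theorem commutator_exp_two {P : Type*} [Group P] (hD : commutator P ≤ center P)
    (hsq : ∀ x : P, x ^ 2 ∈ center P) : ∀ d ∈ commutator P, d ^ 2 = 1 := by
  have key : ∀ d ∈ commutator P, d ∈ center P ∧ d ^ 2 = 1 := by
    intro d hd
    rw [commutator_eq_closure] at hd
    induction hd using Subgroup.closure_induction with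
    | mem d hd =>
      obtain ⟨x, y, rfl⟩ := hd
      have hc : ⁅x, y⁆ ∈ center P := hD (commutatorElement_mem_commutator x y)
      refine ⟨hc, ?_⟩
      -- ⁅x, y⁆ ^ 2 = ⁅x ^ 2, y⁆ = 1
      have h1 : ⁅x ^ 2, y⁆ = 1 := by
        rw [commutatorElement_eq_one_iff_mul_comm]
        exact (mem_center_iff.mp (hsq x) y).symm
      have h2 : ⁅x ^ 2, y⁆ = ⁅x, y⁆ ^ 2 := by
        have h3 : ⁅x ^ 2, y⁆ = x * ⁅x, y⁆ * x⁻¹ * ⁅x, y⁆ := by
          simp only [commutatorElement_def, pow_two]; group
        have h4 : x * ⁅x, y⁆ = ⁅x, y⁆ * x := mem_center_iff.mp hc x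
        rw [h3, h4, mul_inv_cancel_right, pow_two]
      rw [← h2, h1]
    | one => exact ⟨one_mem _, one_pow 2⟩
    | mul a b _ _ ha hb =>
      refine ⟨mul_mem ha.1 hb.1, ?_⟩
      have h1 : a * b = b * a := (mem_center_iff.mp ha.1 b).symm
      rw [pow_two]
      calc a * b * (a * b) = a * (b * a) * b := by group
        _ = a * (a * b) * b := by rw [h1]
        _ = a ^ 2 * b ^ 2 := by rw [pow_two, pow_two]; group
        _ = 1 := by rw [ha.2, hb.2, one_mul]
    | inv a _ ha =>
      refine ⟨inv_mem ha.1, ?_⟩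
      rw [inv_pow, ha.2, inv_one]
  exact fun d hd => (key d hd).2

namespace MinSetup

variable {P : Type*} [Group P] [Finite P] {𝒦 : Subgroup (MulAut P)}

/-- In case (β) the group is extraspecial of order at least `32` or special with centre of order `4`. -/
theorem beta_case (hs : MinSetup P 𝒦) (hnab : ∃ x y : P, x * y ≠ y * x)
    (hβ : ∀ N : Subgroup P, N.Normal → (∀ σ ∈ 𝒦, ∀ x ∈ N, σ x ∈ N) →
      (∀ σ ∈ 𝒦, ∀ x : P, x⁻¹ * σ x ∈ N) → N = ⊤) :
    (Cfsg.IsExtraspecial 2 P ∧ 32 ≤ Nat.card P) ∨
      (Cfsg.IsSpecial 2 P ∧ Nat.card (center P) = 4) := by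
  have : Fact (Nat.Prime 2) := ⟨Nat.prime_two⟩
  have hP := hs.two
  have hΦZ := hs.frattini_le_center hnab hβ
  have hDΦ : commutator P ≤ frattini P := by
    rw [_root_.commutator_def, Subgroup.commutator_le]
    intro x _ y _
    exact Cfsg.Agent.Lib.Helper97.commutatorElement_mem_frattini hP x y
  have hDZ : commutator P ≤ center P := hDΦ.trans hΦZ
  have hDbot := commutator_ne_bot hnab
  have hZtop := center_ne_top hnab
  have hΦbot : frattini P ≠ ⊥ := by
    intro h
    rw [h] at hDΦ
    exact hDbot (le_bot_iff.mp hDΦ)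
  have hZinv : ∀ σ ∈ 𝒦, ∀ y ∈ center P, σ y ∈ center P := fun σ _ y hy => center_apply_mem σ hy
  have hΦinv : ∀ σ ∈ 𝒦, ∀ y ∈ frattini P, σ y ∈ frattini P := fun σ _ y hy =>
    Cfsg.Agent.Lib.Helper86.frattini_apply_mem σ y hy
  have hDinv : ∀ σ ∈ 𝒦, ∀ y ∈ commutator P, σ y ∈ commutator P := fun σ _ y hy =>
    commutator_apply_mem σ hy
  have hZcomm : ∀ u ∈ center P, ∀ v ∈ center P, u * v = v * u := fun u hu v _ =>
    (mem_center_iff.mp hu v).symm
  by_cases hfix : ∀ σ ∈ 𝒦, ∀ y ∈ center P, σ y = y
  · have hZD : center P ≤ commutator P := fun z hz =>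
      fixed_mem_commutator hP 𝒦 hs.odd hβ (fun σ hσ => hfix σ hσ z hz)
    have hDeq : commutator P = center P := le_antisymm hDZ hZD
    have hΦeq : frattini P = center P := le_antisymm hΦZ (hZD.trans hDΦ)
    have hspec : Cfsg.IsSpecial 2 P := ⟨hP, hΦeq, hDeq⟩
    have hexp : ∀ z ∈ center P, z ^ 2 = 1 := by
      intro z hz
      apply commutator_exp_two hDZ _ z (hZD hz)
      intro x
      exact hΦZ (Cfsg.Agent.Lib.Helper97.pow_prime_mem_frattini hP x)
    have hZlt : Nat.card (center P) < 8 := by
      by_contra hge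
      push Not at hge
      exact hs.contra hZtop hZinv le_rfl (isMulCommutative_of_forall _ hZcomm)
        (not_isCyclic_of_exp_two _ hexp (by omega)) hge
    obtain ⟨k, hk⟩ := (hP.to_subgroup (center P)).exists_card_eq
    have hZbot : center P ≠ ⊥ := by
      intro h
      rw [h] at hDZ
      exact hDbot (le_bot_iff.mp hDZ)
    have hk0 : k ≠ 0 := by
      intro h
      rw [h, pow_zero] at hk
      exact hZbot (Subgroup.card_eq_one.mp hk)
    have hk3 : k < 3 := by
      by_contra h
      push Not at h
      have : (2 : ℕ) ^ 3 ≤ 2 ^ k := Nat.pow_le_pow_right (by norm_num) h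
      omega
    have hk12 : k = 1 ∨ k = 2 := by omega
    rcases hk12 with rfl | rfl
    · left
      refine ⟨⟨hspec, by simpa using hk⟩, ?_⟩
      have hZ2 : Nat.card (center P) = 2 := by simpa using hk
      obtain ⟨A, hAc, hAnc, hA8⟩ := hs.h8
      have hAcomm := comm_of_isMulCommutative hAc
      obtain ⟨n, hn⟩ := hP.exists_card_eq
      have hAtop : A ≠ ⊤ := by
        intro h
        obtain ⟨x, y, hxy⟩ := hnab
        exact hxy (hAcomm x (h ▸ mem_top x) y (h ▸ mem_top y))
      by_contra hlt
      push Not at hlt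
      have h1 := Subgroup.card_mul_index A
      rw [hA8] at h1
      have hidx : A.index = 2 := by
        have h3 : A.index ≠ 1 := fun h => hAtop (Subgroup.index_eq_one.mp h)
        have h4 : A.index ≠ 0 := Subgroup.index_ne_zero_of_finite
        have h5 : A.index < 4 := by
          by_contra h6
          push Not at h6
          have : 8 * 4 ≤ 8 * A.index := Nat.mul_le_mul_left _ h6
          omega
        have h6 : A.index ≠ 3 := by
          intro h7
          rw [h7, hn] at h1
          have : 3 ∣ 2 ^ n := ⟨8, by omega⟩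
          have := (Nat.Prime.dvd_of_dvd_pow (by norm_num : Nat.Prime 3) this)
          omega
        omega
      obtain ⟨y, hy⟩ : ∃ y : P, y ∉ A := by
        by_contra hcon
        push Not at hcon
        exact hAtop (eq_top_iff.mpr fun x _ => hcon x)
      have hstep := card_centralizer_step (p := 2) (center P) A hZ2.le
        (fun d hd g _ => ((mem_center_iff.mp hd g).symm : _ = _)) y
        (fun g _ => hDZ (commutatorElement_mem_commutator y g))
      have hle : A ⊓ centralizer ({y} : Set P) ≤ center P := by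
        intro a ha
        have haA : a ∈ A := (Subgroup.mem_inf.mp ha).1
        have hay : y * a = a * y :=
          mem_centralizer_iff.mp (Subgroup.mem_inf.mp ha).2 y (Set.mem_singleton y)
        rw [mem_center_iff]
        intro g
        by_cases hg : g ∈ A
        · exact hAcomm g hg a haA
        · have h7 : y⁻¹ * g ∈ A := by
            rw [Subgroup.mul_mem_iff_of_index_two hidx]
            constructor
            · intro h'; exact absurd (by simpa using inv_mem h') hy
            · intro h'; exact absurd h' hg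
          have h8 : g = y * (y⁻¹ * g) := by group
          have h9 := hAcomm (y⁻¹ * g) h7 a haA
          rw [h8, mul_assoc, h9, ← mul_assoc, hay, mul_assoc]
      have := Subgroup.card_le_of_le hle
      omega
    · right
      exact ⟨hspec, by simpa using hk⟩
  · push Not at hfix
    obtain ⟨σ, hσ, z0, hz0, hmove⟩ := hfix
    have hσn := hs.pow_card hσ
    rcases hs.dich hZtop hZinv hσ hz0 hmove with ⟨h4, hexp⟩ | ⟨a, b, hQ⟩
    · right
      have hΦeq : frattini P = center P :=
        eq_of_invariant_of_four _ hs.odd σ hσn (center P) h4 hexp hz0 hmove (frattini P) hΦZ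
          (hΦinv σ hσ) (hZinv σ hσ) hΦbot
      have hDeq : commutator P = center P :=
        eq_of_invariant_of_four _ hs.odd σ hσn (center P) h4 hexp hz0 hmove (commutator P) hDZ
          (hDinv σ hσ) (hZinv σ hσ) hDbot
      exact ⟨⟨hP, hΦeq, hDeq⟩, h4⟩
    · exfalso
      exact hQ.not_comm (hZcomm b hQ.hb a hQ.ha)

/-- the core theorem on `2`-groups -/
theorem core (hs : MinSetup P 𝒦) :
    (∀ x y : P, x * y = y * x) ∨ (Cfsg.IsExtraspecial 2 P ∧ 32 ≤ Nat.card P) ∨
      (∃ (N : Subgroup P) (a b : P), N.index = 2 ∧ Q8Sub N a b ∧ N ⊔ centralizer (N : Set P) = ⊤) ∨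
      (Cfsg.IsSpecial 2 P ∧ Nat.card (center P) = 4) := by
  by_cases hab : ∀ x y : P, x * y = y * x
  · left; exact hab
  right
  push Not at hab
  by_cases hβ : ∀ N : Subgroup P, N.Normal → (∀ σ ∈ 𝒦, ∀ x ∈ N, σ x ∈ N) →
      (∀ σ ∈ 𝒦, ∀ x : P, x⁻¹ * σ x ∈ N) → N = ⊤
  · rcases hs.beta_case hab hβ with h | h
    · left; exact h
    · right; right; exact h
  · push Not at hβ
    obtain ⟨N, hNn, hNinv, htriv, hNtop⟩ := hβ
    obtain ⟨a, b, h1, h2, h3⟩ := hs.alpha_case hab N hNn hNtop hNinv htriv
    right; left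
    exact ⟨N, a, b, h1, h2, h3⟩

end MinSetup

end Cfsg.Agent.Lib.Helper73
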