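/-
helper73: a local criterion for a strongly closed subgroup `Q` to be normal in a saturated fusion system `F`:
it suffices that for every fully automized receptive `R` not containing `Q` there is a normal `p`-subgroup `K` of
`Aut_F(R)` containing the conjugation by some element of `N_S(R)` outside `R`.
(The skeleton is the one of `Helper87.isNormal_of_chain`.)
All declarations live in `Cfsg.Agent.Lib.Helper73`.
-/
import Cfsg.Agent.Lib.Helper87.FusionNormal

set_option autoImplicit false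

namespace Cfsg.Agent.Lib.Helper73
open Cfsg Cfsg.FusionSystem Cfsg.Agent.Lib.Helper87
open scoped Pointwise commutatorElement

variable {Ω : Type*} [Group Ω] {S : Subgroup Ω}

/-- **Local normality criterion.** -/
theorem isNormal_of_local (F : FusionSystem S) [Finite S] {p : ℕ} [Fact p.Prime] (hS : IsPGroup p S)
    (hF : F.IsSaturated p) (Q : Subgroup Ω) (hQ : F.StronglyClosed Q)
    (hloc : ∀ R : Subgroup Ω, F.IsFullyAutomized p R → F.IsReceptive R → ¬ Q ≤ R →
      ∃ K : Subgroup (MulAut R), K ≤ F.autGroup R ∧ (∀ α ∈ F.autGroup R, ∀ β ∈ K, α * β * α⁻¹ ∈ K) ∧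
        IsPGroup p K ∧ ∃ (x : Ω) (hx : x ∈ normalizerIn S R), x ∉ R ∧ conjAut R x hx.2 ∈ K) :
    F.IsNormal Q := by
  have hQS : Q ≤ S := hQ.1
  have hQn : ∀ g ∈ S, ∀ x ∈ Q, g * x * g⁻¹ ∈ Q := fun g hg x hx => StronglyClosed_conj_mem hQ hg hx
  have hSN : S ≤ normalizerIn S Q := le_normalizerIn_of_conj_mem hQn
  have key : ∀ P : Subgroup Ω, F.Hom P ⊆ (normalizerSystem F Q hQS).Hom P := by
    refine alperin_weak' F (normalizerSystem F Q hQS) hS hF ?_
    intro R hRa hRr IH α hα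
    have hRS : R ≤ S := hRa.1
    have hφ : R.subtype.comp (α : R ≃* R).toMonoidHom ∈ F.Hom R := (mem_autGroup_iff F hRS).1 hα
    have hαinv : α⁻¹ ∈ F.autGroup R := Subgroup.inv_mem _ hα
    refine ⟨hφ, hRS.trans hSN, fun x => hSN (hRS (α x).2), ?_⟩
    by_cases hQR : Q ≤ R
    · have hsup : R ⊔ Q = R := sup_eq_left.2 hQR
      refine ⟨(R.subtype.comp (α : R ≃* R).toMonoidHom).comp (MulEquiv.subgroupCongr hsup).toMonoidHom,
        hom_of_eq_on F hsup.symm hφ (fun x hx hx' => rfl), fun x => rfl, ?_⟩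
      rw [map_subgroupOf_eq_iff]
      constructor
      · intro x hx
        exact StronglyClosed_aut_mem hQ hRS hα (r := ⟨(x : Ω), hsup.le x.2⟩) hx
      · intro q hq
        have h1 : ((α⁻¹ ⟨q, hQR hq⟩ : R) : Ω) ∈ Q := StronglyClosed_aut_mem hQ hRS hαinv (r := ⟨q, hQR hq⟩) hq
        refine ⟨⟨((α⁻¹ ⟨q, hQR hq⟩ : R) : Ω), (le_sup_left : R ≤ R ⊔ Q) (α⁻¹ ⟨q, hQR hq⟩).2⟩, h1, ?_⟩
        show ((α (α⁻¹ ⟨q, hQR hq⟩) : R) : Ω) = q
        rw [MulAut.apply_inv_self]
    · obtain ⟨K, hKle, hKn, hKp, x, hxNS, hxR, hcx⟩ := hloc R hRa hRr hQR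
      obtain ⟨X, ψ, hψ, hRX, hXN, hψα, hXK⟩ :=
        exists_extension_of_normal_isPGroup F hRa hRr K hKle hKn hKp α hα
      have hxX : x ∈ X := hXK x hxNS hcx
      have hcard : Nat.card R < Nat.card X := by
        have hfinX : Finite X := finite_of_le (hXN.trans (normalizerIn_le S R))
        by_contra hlt
        push Not at hlt
        have := Subgroup.eq_of_le_of_card_ge hRX hlt
        rw [this] at hxR
        exact hxR hxX
      obtain ⟨-, -, -, ψh, hψh, hψhe, hψhQ⟩ := IH X hcard hψ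
      rw [map_subgroupOf_eq_iff] at hψhQ
      have hle : R ⊔ Q ≤ X ⊔ Q := sup_le_sup_right hRX Q
      refine ⟨ψh.comp (Subgroup.inclusion hle), restrict_mem F hψh hle, ?_, ?_⟩
      · intro r
        have h1 := hψhe ⟨(r : Ω), hRX r.2⟩
        have h2 := hψα (r : Ω) r.2 (hRX r.2)
        exact h1.trans h2
      · rw [map_subgroupOf_eq_iff]
        constructor
        · intro y hy
          exact hψhQ.1 _ hy
        · intro q hq
          obtain ⟨z, hz, hzq⟩ := hψhQ.2 q hq
          refine ⟨⟨(z : Ω), (le_sup_right : Q ≤ R ⊔ Q) hz⟩, hz, ?_⟩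
          rw [← hzq]
          rfl
  refine ⟨hQS, fun P φ hφ => ?_⟩
  obtain ⟨-, -, -, ψ, hψ, h1, h2⟩ := key P hφ
  exact ⟨ψ, hψ, h1, h2⟩

end Cfsg.Agent.Lib.Helper73
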