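import Cfsg.Agent.Lib.Helper73.SubgroupCount

set_option autoImplicit false

namespace Cfsg.Agent.Lib.Helper73

open scoped Pointwise

/-- In a group of order `p ^ m`, the number of normal subgroups of order `p ^ s` (`s ≤ m`) is `≡ 1 [MOD p]`. -/
theorem card_normal_subgroups_card_prime_pow_modEq_one {G : Type*} [Group G] [Finite G] (p m s : ℕ)
    (hp : p.Prime) (hG : Nat.card G = p ^ m) (hs : s ≤ m) :
    Nat.card {H : Subgroup G // H.Normal ∧ Nat.card H = p ^ s} ≡ 1 [MOD p] := by
  have : Fact p.Prime := ⟨hp⟩
  have hdiv : p ^ s ∣ Nat.card G := hG ▸ pow_dvd_pow p hs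
  have h1 := card_subgroups_card_prime_pow_modEq_one p s hp hdiv
  let S : SubMulAction (ConjAct G) (Subgroup G) :=
    ⟨{H | Nat.card H = p ^ s}, fun g H hH => by
      have := Nat.card_congr (Subgroup.equivSMul g H).toEquiv
      rw [Set.mem_ofPred_eq] at hH ⊢
      rw [← this]; exact hH⟩
  have hpG : IsPGroup p (ConjAct G) := IsPGroup.of_card (n := m) hG
  have h2 := hpG.card_modEq_card_fixedPoints S
  have e : MulAction.fixedPoints (ConjAct G) S ≃ {H : Subgroup G // H.Normal ∧ Nat.card H = p ^ s} :=
    { toFun := fun x => ⟨x.1.1, by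
        constructor
        · constructor
          intro n hn g
          have h3 : ConjAct.toConjAct g • x.1 = x.1 := x.2 (ConjAct.toConjAct g)
          have h4 : (ConjAct.toConjAct g • x.1 : S).1 = x.1.1 := by rw [h3]
          rw [← h4]
          have := Subgroup.smul_mem_pointwise_smul n (ConjAct.toConjAct g) x.1.1 hn
          rwa [ConjAct.toConjAct_smul] at this
        · exact x.1.2⟩
      invFun := fun H => ⟨⟨H.1, H.2.2⟩, by
        intro g
        apply Subtype.ext
        exact H.2.1.conjAct g⟩
      left_inv := by intro x; rfl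
      right_inv := by intro H; rfl }
  rw [Nat.card_congr e] at h2
  exact h2.symm.trans h1

end Cfsg.Agent.Lib.Helper73
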