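import Mathlib

/-!
# S3265 module [GRAPH] (helper73, for helper29): a graph in which any two distinct non-adjacent
vertices have a common neighbour, and which is not complete, is connected of diameter `2`.
-/

set_option autoImplicit false

namespace Cfsg.Agent.Lib.Helper73.OddProd

theorem connected_diam_two {V : Type*} [Finite V] (G : SimpleGraph V)
    (h2 : ∀ u v : V, u ≠ v → ¬ G.Adj u v → ∃ w, G.Adj u w ∧ G.Adj w v)
    (hne : ∃ u v : V, u ≠ v ∧ ¬ G.Adj u v) : G.Connected ∧ G.diam = 2 := by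
  obtain ⟨u0, v0, huv0, hadj0⟩ := hne
  have hnon : Nonempty V := ⟨u0⟩
  have hle : ∀ u v : V, G.edist u v ≤ 2 := by
    intro u v
    by_cases huv : u = v
    · subst huv; simp
    · by_cases hadj : G.Adj u v
      · rw [SimpleGraph.edist_eq_one_iff_adj.mpr hadj]; norm_num
      · obtain ⟨w, h1, h3⟩ := h2 u v huv hadj
        have := SimpleGraph.edist_le (SimpleGraph.Walk.cons h1 (SimpleGraph.Walk.cons h3 SimpleGraph.Walk.nil))
        simpa using this
  have hediam : G.ediam ≤ 2 := SimpleGraph.ediam_le_of_edist_le hle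
  have hnt : G.ediam ≠ ⊤ := by
    intro h
    rw [h] at hediam
    simp at hediam
  refine ⟨SimpleGraph.connected_of_ediam_ne_top hnt, ?_⟩
  have h0 : G.edist u0 v0 ≠ 0 := fun h => huv0 (SimpleGraph.edist_eq_zero_iff.mp h)
  have h1 : G.edist u0 v0 ≠ 1 := fun h => hadj0 (SimpleGraph.edist_eq_one_iff_adj.mp h)
  have h2' : G.edist u0 v0 ≤ 2 := hle u0 v0
  have h3 : G.edist u0 v0 = 2 := by
    generalize G.edist u0 v0 = d at h0 h1 h2'
    have hd : d ≠ ⊤ := by
      intro h
      rw [h] at h2'
      simp at h2'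
    lift d to ℕ using hd
    have h0' : d ≠ 0 := by exact_mod_cast h0
    have h1' : d ≠ 1 := by exact_mod_cast h1
    have h2'' : d ≤ 2 := by exact_mod_cast h2'
    have : d = 2 := by omega
    rw [this]; rfl
  have h4 : G.ediam = 2 := le_antisymm hediam (h3 ▸ SimpleGraph.edist_le_ediam)
  rw [SimpleGraph.diam, h4]
  rfl

end Cfsg.Agent.Lib.Helper73.OddProd
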