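import Mathlib

/-!
# S3265 module [NONADJ] (helper73, for helper29): in `Sym(n)`, `n ≥ 5`, every class of
involutions contains two distinct elements whose product has even order.
-/

set_option autoImplicit false

namespace Cfsg.Agent.Lib.Helper73.OddProd

open Equiv

/-- the product of two disjoint transpositions has order `2` -/
theorem orderOf_swap_mul_swap {α : Type*} [DecidableEq α] [Fintype α] (p q r s : α)
    (h : [p, q, r, s].Nodup) : orderOf (swap p q * swap r s) = 2 := by
  have hd : Perm.Disjoint (swap p q) (swap r s) := Perm.disjoint_swap_swap h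
  simp only [List.nodup_cons, List.mem_cons, List.not_mem_nil, or_false, not_or, not_false_eq_true,
    List.nodup_nil, and_true] at h
  obtain ⟨⟨hpq, hpr, hps⟩, ⟨hqr, hqs⟩, hrs⟩ := h
  apply orderOf_eq_prime
  · rw [hd.commute.mul_pow, pow_two, pow_two, swap_mul_self, swap_mul_self, mul_one]
  · intro h1
    have h2 := congrArg (fun f : Perm α => f p) h1
    simp only [Perm.mul_apply, Perm.one_apply] at h2
    rw [swap_apply_of_ne_of_ne hpr hps, swap_apply_left] at h2
    exact hpq h2.symm

theorem exists_nonadj (n : ℕ) (hn : 5 ≤ n) (t : Perm (Fin n)) (ht : orderOf t = 2) :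
    ∃ x y : Perm (Fin n), IsConj t x ∧ IsConj t y ∧ x ≠ y ∧ ¬ Odd (orderOf (x * y)) ∧
      ¬ Odd (orderOf (y * x)) := by
  have htt : t * t = 1 := by
    have := pow_orderOf_eq_one t
    rwa [ht, pow_two] at this
  have hti : t⁻¹ = t := inv_eq_of_mul_eq_one_left htt
  have htt' : ∀ p, t (t p) = p := fun p => by
    have := congrArg (fun f : Perm (Fin n) => f p) htt
    simpa using this
  have ht1 : t ≠ 1 := by
    intro h; rw [h, orderOf_one] at ht; omega
  obtain ⟨a, ha⟩ : ∃ a, t a ≠ a := by
    by_contra hcon
    push Not at hcon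
    exact ht1 (Perm.ext hcon)
  -- the common conclusion
  have key : ∀ x y : Perm (Fin n), x * x = 1 → y * y = 1 → IsConj t x → IsConj t y →
      orderOf (x * y) = 2 →
      ∃ x y : Perm (Fin n), IsConj t x ∧ IsConj t y ∧ x ≠ y ∧ ¬ Odd (orderOf (x * y)) ∧
        ¬ Odd (orderOf (y * x)) := by
    intro x y hx hy hcx hcy hord
    refine ⟨x, y, hcx, hcy, ?_, ?_, ?_⟩
    · intro hxy
      rw [← hxy, hx, orderOf_one] at hord
      omega
    · rw [hord]; decide
    · have : y * x = (x * y)⁻¹ := by
        rw [mul_inv_rev, inv_eq_of_mul_eq_one_left hx, inv_eq_of_mul_eq_one_left hy]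
      rw [this, orderOf_inv, hord]; decide
  set b := t a with hb
  have hba : b ≠ a := ha
  have htb : t b = a := htt' a
  by_cases hc : ∃ c, c ≠ a ∧ c ≠ b ∧ t c ≠ c
  · obtain ⟨c, hca, hcb, htc⟩ := hc
    set d := t c with hd
    have htd : t d = c := htt' c
    have hdb : d ≠ b := by
      intro h
      apply hca
      rw [← htd, h, htb]
    have hda : d ≠ a := by
      intro h
      apply hcb
      rw [← htd, h]
    -- `x = t`, `y = (b c) t (b c)`
    have hxy : t * (swap b c * t * (swap b c)⁻¹) = swap a d * swap b c := by
      rw [swap_inv]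
      calc t * (swap b c * t * swap b c) = (t * swap b c) * t * swap b c := by group
        _ = (swap (t b) (t c) * t) * t * swap b c := by rw [mul_swap_eq_swap_mul t b c]
        _ = swap a d * (t * t) * swap b c := by rw [htb, ← hd]; group
        _ = swap a d * swap b c := by rw [htt, mul_one]
    refine key t (swap b c * t * (swap b c)⁻¹) htt ?_ (IsConj.refl t)
      (isConj_iff.mpr ⟨swap b c, rfl⟩) ?_
    · rw [swap_inv]
      calc swap b c * t * swap b c * (swap b c * t * swap b c)
          = swap b c * t * (swap b c * swap b c) * t * swap b c := by group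
        _ = 1 := by rw [swap_mul_self, mul_one, mul_assoc (swap b c), htt, mul_one, swap_mul_self]
    · rw [hxy]
      apply orderOf_swap_mul_swap
      simp only [List.nodup_cons, List.mem_cons, List.not_mem_nil, or_false, not_or,
        not_false_eq_true, List.nodup_nil, and_true]
      exact ⟨⟨hda.symm, hba.symm, hca.symm⟩, ⟨hdb, htc⟩, hcb.symm⟩
  · push Not at hc
    have hts : t = swap a b := by
      ext p
      by_cases hpa : p = a
      · rw [hpa, swap_apply_left]
      · by_cases hpb : p = b
        · rw [hpb, swap_apply_right, htb]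
        · rw [swap_apply_of_ne_of_ne hpa hpb, hc p hpa hpb]
    -- two more points
    have hcard : 1 < ((Finset.univ.erase a).erase b).card := by
      rw [Finset.card_erase_of_mem (by simp [hba]), Finset.card_erase_of_mem (Finset.mem_univ a),
        Finset.card_univ, Fintype.card_fin]
      omega
    obtain ⟨c, hc', d, hd', hcd⟩ := Finset.one_lt_card.mp hcard
    simp only [Finset.mem_erase, Finset.mem_univ, and_true] at hc' hd'
    refine key t (swap c d) htt (swap_mul_self c d) (IsConj.refl t) ?_ ?_
    · rw [hts]; exact Perm.isConj_swap hba.symm hcd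
    · rw [hts]
      apply orderOf_swap_mul_swap
      simp only [List.nodup_cons, List.mem_cons, List.not_mem_nil, or_false, not_or,
        not_false_eq_true, List.nodup_nil, and_true]
      exact ⟨⟨hba.symm, hc'.2.symm, hd'.2.symm⟩, ⟨hc'.1.symm, hd'.1.symm⟩, hcd⟩

end Cfsg.Agent.Lib.Helper73.OddProd
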