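import Mathlib
import Cfsg.Prelude.Def_Characters
import Cfsg.Agent.Lib.Helper75.Clifford
import Cfsg.Agent.Lib.Helper77.Linear
import Cfsg.Agent.Lib.Helper78.CharMore

/-!
# MODULE [PSIX] for Peterfalvi (12.7) = S1540 (helper73, for helper74)

Fourier coefficients of a character on a cyclic subgroup are integers.
-/

set_option autoImplicit false

namespace Cfsg.Agent.Lib.Helper73.PF127PsiX

open Cfsg
open scoped ComplexConjugate

/-- MODULE [PSIX] -/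
theorem sum_pow_mul_eq_card_mul_int {N : Type*} [Group N] [Fintype N] (ψ : N → ℂ)
    (hψ : IsCharacter N ψ) (x : N) (r : ℕ) (hr : 0 < r) (hx : orderOf x = r) (ζ : ℂˣ)
    (hζ : ζ ^ r = 1) :
    ∃ B : ℤ, ∑ i ∈ Finset.range r, ψ (x ^ i) * ((ζ⁻¹ : ℂˣ) : ℂ) ^ i = (r : ℂ) * B := by
  classical
  set C : Subgroup N := Subgroup.zpowers x with hC
  have hfin : IsOfFinOrder x := isOfFinOrder_of_finite x
  let g : C := ⟨x, Subgroup.mem_zpowers x⟩
  have hg : ∀ c : C, c ∈ Subgroup.zpowers g := by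
    intro c
    obtain ⟨k, hk⟩ := Subgroup.mem_zpowers_iff.mp c.2
    rw [Subgroup.mem_zpowers_iff]
    exact ⟨k, Subtype.ext (by simpa using hk)⟩
  have hog : orderOf g = r := by
    rw [← hx]
    exact Subgroup.orderOf_mk x (Subgroup.mem_zpowers x)
  have hoζ : orderOf ζ ∣ orderOf g := by
    rw [hog]; exact orderOf_dvd_of_pow_eq_one hζ
  let lam : C →* ℂˣ := monoidHomOfForallMemZpowers hg hoζ
  have hlam : lam g = ζ := monoidHomOfForallMemZpowers_apply_gen hg hoζ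
  have hlampow : ∀ i : ℕ, lam ⟨x ^ i, Subgroup.pow_mem _ (Subgroup.mem_zpowers x) i⟩ = ζ ^ i := by
    intro i
    have : (⟨x ^ i, Subgroup.pow_mem _ (Subgroup.mem_zpowers x) i⟩ : C) = g ^ i := by
      apply Subtype.ext; simp [g]
    rw [this, map_pow, hlam]
  let χ : IrrCharacter C :=
    ⟨fun c => ((lam c : ℂˣ) : ℂ), Cfsg.Agent.Lib.Helper77.isIrrCharacter_of_monoidHom lam⟩
  obtain ⟨n, hn⟩ := Cfsg.Agent.Lib.Helper78.IsCharacter.exists_nat_classInner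
    (Cfsg.Agent.Lib.Helper75.isCharacter_res C hψ) χ
  -- unfold the inner product
  have hnorm : ‖(ζ : ℂ)‖ = 1 := by
    apply Complex.norm_eq_one_of_pow_eq_one (n := r)
    · rw [← Units.val_pow_eq_pow_val, hζ, Units.val_one]
    · exact hr.ne'
  have hconj : ∀ i : ℕ, conj (((ζ ^ i : ℂˣ) : ℂ)) = ((ζ⁻¹ : ℂˣ) : ℂ) ^ i := by
    intro i
    rw [Units.val_pow_eq_pow_val, map_pow, Units.val_inv_eq_inv_val, RCLike.inv_eq_conj hnorm]
  have hcard : Nat.card C = r := by rw [hC, Nat.card_zpowers, hx]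
  have hsum : ∑ c : C, ψ c * conj (((lam c : ℂˣ) : ℂ)) =
      ∑ i ∈ Finset.range r, ψ (x ^ i) * ((ζ⁻¹ : ℂˣ) : ℂ) ^ i := by
    subst hx
    rw [← Fin.sum_univ_eq_sum_range (fun i => ψ (x ^ i) * ((ζ⁻¹ : ℂˣ) : ℂ) ^ i) (orderOf x)]
    rw [← Equiv.sum_comp (finEquivZPowers hfin)]
    apply Finset.sum_congr rfl
    intro i _
    rw [finEquivZPowers_apply, hlampow, hconj]
  have hcl : classInner (fun c : C => ψ c) (χ : C → ℂ) =
      (Nat.card C : ℂ)⁻¹ * ∑ c : C, ψ c * conj (((lam c : ℂˣ) : ℂ)) := rfl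
  rw [hcl, hsum, hcard] at hn
  refine ⟨n, ?_⟩
  have hr0 : (r : ℂ) ≠ 0 := by exact_mod_cast hr.ne'
  have h2 : (r : ℂ) * ((r : ℂ)⁻¹ * ∑ i ∈ Finset.range r, ψ (x ^ i) * ((ζ⁻¹ : ℂˣ) : ℂ) ^ i) =
      (r : ℂ) * (n : ℂ) := by rw [hn]
  rw [← mul_assoc, mul_inv_cancel₀ hr0, one_mul] at h2
  rw [h2]
  push_cast
  rfl

end Cfsg.Agent.Lib.Helper73.PF127PsiX
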