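import Mathlib

set_option autoImplicit false

namespace Cfsg.Agent.Lib.Helper73

open QuaternionGroup in
theorem zmod_two_mul_eq_zero {n : ℕ} [NeZero n] (j : ZMod (2 * n)) (h : j + j = 0) :
    j = 0 ∨ j = (n : ZMod (2 * n)) := by
  have hn : 0 < n := Nat.pos_of_ne_zero (NeZero.ne n)
  have h2n : NeZero (2 * n) := ⟨by omega⟩
  have hj : ((2 * j.val : ℕ) : ZMod (2 * n)) = 0 := by
    rw [Nat.cast_mul, ZMod.natCast_zmod_val, Nat.cast_two, two_mul j, h]
  rw [ZMod.natCast_eq_zero_iff] at hj
  have hlt : j.val < 2 * n := ZMod.val_lt j
  have hdvd : n ∣ j.val := by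
    obtain ⟨k, hk⟩ := hj
    exact ⟨k, by nlinarith⟩
  obtain ⟨k, hk⟩ := hdvd
  have hk2 : k = 0 ∨ k = 1 := by
    have : k < 2 := by
      by_contra hc
      push Not at hc
      nlinarith
    omega
  rcases hk2 with rfl | rfl
  · left
    have : j.val = 0 := by omega
    exact (ZMod.val_eq_zero j).mp this
  · right
    have : j.val = n := by omega
    rw [← ZMod.natCast_zmod_val j, this]

open QuaternionGroup in
/-- In a generalized quaternion group, everything commuting with a noncentral element `q` lies in a
fixed cyclic subgroup. -/
theorem quaternion_centralizer_le_zpowers {n : ℕ} [NeZero n] (q : QuaternionGroup n)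
    (hq : ∃ v, q * v ≠ v * q) :
    ∃ g : QuaternionGroup n, ∀ y, y * q = q * y → y ∈ Subgroup.zpowers g := by
  obtain ⟨v, hv⟩ := hq
  rcases q with i | i
  · -- q = a i, non central: i + i ≠ 0
    have hi : i + i ≠ 0 := by
      intro h0
      apply hv
      rcases v with k | k
      · rw [a_mul_a, a_mul_a, add_comm]
      · rw [a_mul_xa, xa_mul_a]
        congr 1
        have : -i = i := by rw [neg_eq_iff_add_eq_zero]; exact h0
        rw [sub_eq_add_neg, this]
    refine ⟨a 1, ?_⟩
    intro y hy
    rcases y with j | j
    · refine ⟨(j.val : ℤ), ?_⟩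
      show a 1 ^ ((j.val : ℕ) : ℤ) = a j
      rw [zpow_natCast, a_one_pow, ZMod.natCast_zmod_val]
    · exfalso
      rw [xa_mul_a, a_mul_xa] at hy
      have h1 : j + i = j - i := by simpa using hy
      apply hi
      have : i = -i := by
        have := add_left_cancel (a := j) (b := i) (c := -i) (by rw [h1, sub_eq_add_neg])
        exact this
      calc i + i = i + -i := by rw [← this]
        _ = 0 := add_neg_cancel i
  · -- q = xa i
    refine ⟨xa i, ?_⟩
    intro y hy
    rcases y with j | j
    · rw [a_mul_xa, xa_mul_a] at hy
      have h1 : i - j = i + j := by simpa using hy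
      have h2 : j + j = 0 := by
        have : -j = j := add_left_cancel (a := i) (by rw [← sub_eq_add_neg, h1])
        calc j + j = -j + j := by rw [this]
          _ = 0 := neg_add_cancel j
      rcases zmod_two_mul_eq_zero j h2 with rfl | rfl
      · rw [a_zero]; exact one_mem _
      · rw [← xa_sq i]; exact pow_mem (Subgroup.mem_zpowers _) 2
    · rw [xa_mul_xa, xa_mul_xa] at hy
      have h1 : (n : ZMod (2 * n)) + i - j = n + j - i := by simpa using hy
      have h2 : (j - i) + (j - i) = 0 := by
        have h3 : i - j = j - i := by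
          have := add_left_cancel (a := (n : ZMod (2 * n))) (b := i - j) (c := j - i)
            (by rw [← add_sub_assoc, ← add_sub_assoc, h1])
          exact this
        calc (j - i) + (j - i) = (i - j) + (j - i) := by rw [h3]
          _ = 0 := by ring
      rcases zmod_two_mul_eq_zero (j - i) h2 with h | h
      · have : j = i := sub_eq_zero.mp h
        rw [this]; exact Subgroup.mem_zpowers _
      · have : j = i + (n : ZMod (2 * n)) := by rw [← h]; ring
        rw [this]
        have : xa (i + (n : ZMod (2 * n))) = xa i ^ 3 := by
          rw [pow_succ, xa_sq, a_mul_xa]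
          congr 1
          have hnn : (n : ZMod (2 * n)) + n = 0 := by
            have : ((2 * n : ℕ) : ZMod (2 * n)) = 0 := ZMod.natCast_self _
            rw [Nat.cast_mul, Nat.cast_two, two_mul (n : ZMod (2 * n))] at this
            exact this
          have : -(n : ZMod (2 * n)) = n := by rw [neg_eq_iff_add_eq_zero]; exact hnn
          rw [sub_eq_add_neg, this]
        rw [this]
        exact pow_mem (Subgroup.mem_zpowers _) 3

end Cfsg.Agent.Lib.Helper73
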