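import Mathlib

set_option autoImplicit false

namespace Cfsg.Agent.Lib.Helper73

/-- If a group is generated by pairwise commuting elements, it is commutative. -/
theorem comm_of_closure_eq_top {T : Type*} [Group T] (s : Set T) (hgen : Subgroup.closure s = ⊤)
    (hcomm : ∀ a ∈ s, ∀ b ∈ s, a * b = b * a) (a b : T) : a * b = b * a := by
  have h1 : ∀ c ∈ s, c ∈ Subgroup.center T := by
    intro c hc
    have h2 : Subgroup.closure s ≤ Subgroup.centralizer {c} := by
      rw [Subgroup.closure_le]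
      intro d hd
      rw [SetLike.mem_coe, Subgroup.mem_centralizer_iff]
      intro e he
      rw [Set.mem_singleton_iff] at he
      subst he
      exact hcomm e hc d hd
    rw [hgen] at h2
    rw [Subgroup.mem_center_iff]
    intro g
    have := h2 (Subgroup.mem_top g)
    rw [Subgroup.mem_centralizer_iff] at this
    exact (this c rfl).symm
  have h3 : Subgroup.closure s ≤ Subgroup.center T := by
    rw [Subgroup.closure_le]; exact h1
  rw [hgen] at h3
  have := h3 (Subgroup.mem_top a)
  rw [Subgroup.mem_center_iff] at this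
  exact (this b).symm

/-- Exactness of the quaternion relations in a group with a unique involution. -/
theorem quat_relations_exact {T : Type*} [Group T] [Finite T] (hT : IsPGroup 2 T)
    (u : T) (hu : orderOf u = 2) (huu : ∀ t : T, orderOf t = 2 → t = u)
    (hna : ∃ a b : T, a * b ≠ b * a) (N : ℕ) (hN : 0 < N) (hcard : Nat.card T = 4 * N)
    (K : Set T) (hKc : ∀ k ∈ K, ∀ t : T, k * t = t * k) (hK2 : ∀ k ∈ K, k ^ 2 = 1)
    (x y k₁ k₂ k₃ : T) (hk₁ : k₁ ∈ K) (hk₂ : k₂ ∈ K) (hk₃ : k₃ ∈ K)
    (hgen : Subgroup.closure ({x, y} ∪ K) = ⊤)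
    (h1 : x ^ (2 * N) = k₁) (h2 : y ^ 2 = x ^ N * k₂) (h3 : y * x * y⁻¹ = x⁻¹ * k₃) :
    k₁ = 1 ∧ k₂ = 1 ∧ k₃ = 1 := by
  have : Fact (Nat.Prime 2) := ⟨Nat.prime_two⟩
  have hu2 : u ^ 2 = 1 := by rw [← hu]; exact pow_orderOf_eq_one u
  have hK1u : ∀ k ∈ K, k = 1 ∨ k = u := by
    intro k hk
    have := orderOf_dvd_of_pow_eq_one (hK2 k hk)
    rcases (Nat.dvd_prime Nat.prime_two).mp this with h | h
    · left; exact orderOf_eq_one_iff.mp h
    · right; exact huu k h
  have hinv : ∀ t : T, t ^ 2 = 1 → t = 1 ∨ t = u := by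
    intro t ht
    have := orderOf_dvd_of_pow_eq_one ht
    rcases (Nat.dvd_prime Nat.prime_two).mp this with h | h
    · left; exact orderOf_eq_one_iff.mp h
    · right; exact huu t h
  -- x and y do not commute
  have hxy : x * y ≠ y * x := by
    intro hc
    obtain ⟨a, b, hab⟩ := hna
    apply hab
    apply comm_of_closure_eq_top _ hgen
    rintro c ((rfl | rfl) | hc') d ((rfl | rfl) | hd')
    · rfl
    · exact hc
    · exact (hKc d hd' _).symm
    · exact hc.symm
    · rfl
    · exact (hKc d hd' _).symm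
    · exact hKc c hc' _
    · exact hKc c hc' _
    · exact hKc c hc' _
  have hx1 : x ≠ 1 := by
    rintro rfl
    apply hxy; rw [one_mul, mul_one]
  set A := Subgroup.zpowers x with hA
  have hyA : y ∉ A := by
    intro hy
    obtain ⟨j, rfl⟩ := Subgroup.mem_zpowers_iff.mp hy
    apply hxy
    exact ((Commute.refl x).zpow_right j).eq
  -- every nontrivial subgroup contains u
  have huA : u ∈ A := by
    have hAne : Nontrivial A := ⟨⟨⟨x, Subgroup.mem_zpowers x⟩, 1, fun h => hx1 (congrArg Subtype.val h)⟩⟩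
    have hAp : IsPGroup 2 A := hT.to_subgroup A
    obtain ⟨k, hk0, hk⟩ := hAp.nontrivial_iff_card.mp hAne
    have hdvd : 2 ∣ Nat.card A := by rw [hk]; exact dvd_pow_self 2 hk0.ne'
    obtain ⟨t, ht⟩ := exists_prime_orderOf_dvd_card' 2 hdvd
    have : orderOf (t : T) = 2 := by rw [Subgroup.orderOf_coe, ht]
    rw [← huu _ this]; exact t.2
  have hKA : ∀ k ∈ K, k ∈ A := by
    intro k hk
    rcases hK1u k hk with rfl | rfl
    · exact one_mem _
    · exact huA
  -- y normalizes A
  have hyn : y ∈ Subgroup.normalizer (A : Set T) := by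
    apply Subgroup.mem_normalizer_fintype
    rintro _ ⟨j, rfl⟩
    have : y * x ^ j * y⁻¹ = (y * x * y⁻¹) ^ j := by rw [conj_zpow]
    rw [SetLike.mem_coe, this, h3]
    exact Subgroup.zpow_mem _ (mul_mem (inv_mem (Subgroup.mem_zpowers x)) (hKA _ hk₃)) j
  have hyc : ∀ a ∈ A, y * a * y⁻¹ ∈ A := fun a ha => (Subgroup.mem_normalizer_iff.mp hyn a).mp ha
  have hyc' : ∀ a ∈ A, y⁻¹ * a * y ∈ A := by
    intro a ha
    have := (Subgroup.mem_normalizer_iff.mp (inv_mem hyn) a).mp ha
    rwa [inv_inv] at this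
  have hy2A : y ^ 2 ∈ A := by
    rw [h2]; exact mul_mem (Subgroup.pow_mem _ (Subgroup.mem_zpowers x) _) (hKA _ hk₂)
  -- index two
  have hP : ∀ t : T, t ∈ A ∨ t * y⁻¹ ∈ A := by
    intro t
    have ht : t ∈ Subgroup.closure ({x, y} ∪ K) := by rw [hgen]; trivial
    induction ht using Subgroup.closure_induction with
    | mem c hc =>
      rcases hc with (rfl | rfl) | hc
      · left; exact Subgroup.mem_zpowers _
      · right; rw [mul_inv_cancel]; exact one_mem _
      · left; exact hKA c hc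
    | one => left; exact one_mem _
    | mul t₁ t₂ _ _ ih₁ ih₂ =>
      rcases ih₁ with ha | ha <;> rcases ih₂ with hb | hb
      · left; exact mul_mem ha hb
      · right; rw [mul_assoc]; exact mul_mem ha hb
      · right
        have : t₁ * t₂ * y⁻¹ = (t₁ * y⁻¹) * (y * t₂ * y⁻¹) := by group
        rw [this]; exact mul_mem ha (hyc _ hb)
      · left
        have : t₁ * t₂ = (t₁ * y⁻¹) * (y * (t₂ * y⁻¹) * y⁻¹) * y ^ 2 := by group
        rw [this]; exact mul_mem (mul_mem ha (hyc _ hb)) hy2A
    | inv t _ ih =>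
      rcases ih with ha | ha
      · left; exact inv_mem ha
      · right
        have : t⁻¹ * y⁻¹ = (y⁻¹ * (t * y⁻¹)⁻¹ * y) * (y ^ 2)⁻¹ := by group
        rw [this]; exact mul_mem (hyc' _ (inv_mem ha)) (inv_mem hy2A)
  have hidx : A.index = 2 := by
    rw [Subgroup.index_eq_two_iff]
    refine ⟨y⁻¹, fun b => ?_⟩
    rcases hP b with hb | hb
    · right
      refine ⟨hb, fun hb' => hyA ?_⟩
      have : y = (b * y⁻¹)⁻¹ * b := by group
      rw [this]; exact mul_mem (inv_mem hb') hb
    · left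
      refine ⟨hb, fun hb' => hyA ?_⟩
      have : y = (b * y⁻¹)⁻¹ * b := by group
      rw [this]; exact mul_mem (inv_mem hb) hb'
  have hox : orderOf x = 2 * N := by
    have := Subgroup.index_mul_card A
    rw [hidx, hcard, Nat.card_zpowers] at this
    omega
  have hk₁1 : k₁ = 1 := by rw [← h1, ← hox]; exact pow_orderOf_eq_one x
  have hxN : x ^ N = u := by
    apply huu
    apply orderOf_eq_prime
    · rw [← pow_mul, mul_comm, ← hox]; exact pow_orderOf_eq_one x
    · exact pow_ne_one_of_lt_orderOf hN.ne' (by rw [hox]; omega)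
  have hy1 : y ≠ 1 := fun h => hyA (h ▸ one_mem _)
  have hk₂1 : k₂ = 1 := by
    rcases hK1u k₂ hk₂ with h | h
    · exact h
    · exfalso
      rw [hxN, h, ← pow_two, hu2] at h2
      rcases hinv y h2 with h4 | h4
      · exact hy1 h4
      · exact hyA (h4 ▸ huA)
  have hk₃1 : k₃ = 1 := by
    rcases hK1u k₃ hk₃ with h | h
    · exact h
    · exfalso
      rw [hxN, hk₂1, mul_one] at h2
      have h5 : (y * x) ^ 2 = 1 := by
        have : (y * x) ^ 2 = (y * x * y⁻¹) * y ^ 2 * x := by rw [pow_two, pow_two]; group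
        rw [this, h3, h, h2, mul_assoc x⁻¹, ← pow_two, hu2, mul_one, inv_mul_cancel]
      rcases hinv _ h5 with h4 | h4
      · apply hyA
        have : y = x⁻¹ := mul_eq_one_iff_eq_inv.mp h4
        rw [this]; exact inv_mem (Subgroup.mem_zpowers x)
      · apply hyA
        have : y = u * x⁻¹ := by rw [← h4]; group
        rw [this]; exact mul_mem huA (inv_mem (Subgroup.mem_zpowers x))
  exact ⟨hk₁1, hk₂1, hk₃1⟩

end Cfsg.Agent.Lib.Helper73
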