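import Mathlib
import Cfsg.Agent.Lib.Helper24.Blackburn3

/-!
# S3888 MODULE R2-A, part 1: the configuration `ESC`

A copy of helper24's `ESConfig` API (Lib/Helper24/Blackburn1-3) in which `E` is only assumed to be a
normal subgroup of order `p ^ 3` and exponent `p` (not the set of ALL elements of order dividing `p`).
All proofs are helper24's; only the field `hEmem` is replaced by `hEexp`.
-/

set_option autoImplicit false

open scoped commutatorElement

namespace Cfsg.Agent.Lib.Helper73.R2A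

open Cfsg.Agent.Lib.Helper24

universe u

structure ESC (p : ℕ) (K : Type u) [Group K] where
  E : Subgroup K
  Z₁ : Subgroup K
  hEn : E.Normal
  hEexp : ∀ x ∈ E, x ^ p = 1
  hEcard : Nat.card E = p ^ 3
  hZ₁mem : ∀ x, x ∈ Z₁ ↔ x ∈ E ∧ ∀ y ∈ E, y * x = x * y
  hZ₁card : Nat.card Z₁ = p
  hZ₁cen : Z₁ ≤ Subgroup.center K
  hEcomm : ∀ x ∈ E, ∀ y ∈ E, ⁅x, y⁆ ∈ Z₁

/-! ### from Blackburn1 -/

namespace ESC

variable {p : ℕ} {K : Type u} [Group K] (c : ESC p K)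

theorem z_comm {z : K} (hz : z ∈ c.Z₁) (g : K) : g * z = z * g :=
  Subgroup.mem_center_iff.mp (c.hZ₁cen hz) g

theorem Z₁_le_E : c.Z₁ ≤ c.E := fun x hx => ((c.hZ₁mem x).mp hx).1

theorem Z₁_normal : c.Z₁.Normal := normal_of_le_center' c.Z₁ c.hZ₁cen

/-- The elements acting trivially on `E / Z₁`. -/
def D : Subgroup K where
  carrier := {g | ∀ x ∈ c.E, ⁅x, g⁆ ∈ c.Z₁}
  one_mem' := by
    intro x _
    rw [commutatorElement_one_right]
    exact c.Z₁.one_mem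
  mul_mem' := by
    intro g h hg hh x hx
    rw [commutatorElement_mul_right_eq_mul_conj]
    have h1 := hg x hx
    have h2 := hh x hx
    have e : ⁅x, g⁆ * g * ⁅x, h⁆ * g⁻¹ = ⁅x, g⁆ * ⁅x, h⁆ := by
      rw [mul_assoc ⁅x, g⁆, c.z_comm h2 g]
      group
    rw [e]
    exact c.Z₁.mul_mem h1 h2
  inv_mem' := by
    intro g hg x hx
    rw [commutatorElement_inv_right]
    have h1 : ⁅g, x⁆ ∈ c.Z₁ := by
      rw [← commutatorElement_inv]
      exact c.Z₁.inv_mem (hg x hx)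
    have e : g⁻¹ * ⁅g, x⁆ * g = ⁅g, x⁆ := by
      rw [mul_assoc, ← c.z_comm h1 g]
      group
    rw [e]
    exact h1

theorem mem_D {g : K} : g ∈ c.D ↔ ∀ x ∈ c.E, ⁅x, g⁆ ∈ c.Z₁ := Iff.rfl

/-- The preimage in `E` of the fixed points of `K` on `E / Z₁`. -/
def ZL : Subgroup K where
  carrier := {x | x ∈ c.E ∧ ∀ g : K, ⁅x, g⁆ ∈ c.Z₁}
  one_mem' := by
    refine ⟨c.E.one_mem, fun g => ?_⟩
    rw [commutatorElement_one_left]
    exact c.Z₁.one_mem
  mul_mem' := by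
    rintro x y ⟨hx, hx'⟩ ⟨hy, hy'⟩
    refine ⟨c.E.mul_mem hx hy, fun g => ?_⟩
    rw [commutatorElement_mul_left_eq_conj_mul]
    have e : x * ⁅y, g⁆ * x⁻¹ = ⁅y, g⁆ := by
      rw [c.z_comm (hy' g) x]
      group
    rw [e]
    exact c.Z₁.mul_mem (hy' g) (hx' g)
  inv_mem' := by
    rintro x ⟨hx, hx'⟩
    refine ⟨c.E.inv_mem hx, fun g => ?_⟩
    rw [commutatorElement_inv_left]
    have h1 : ⁅g, x⁆ ∈ c.Z₁ := by
      rw [← commutatorElement_inv]
      exact c.Z₁.inv_mem (hx' g)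
    have e : x⁻¹ * ⁅g, x⁆ * x = ⁅g, x⁆ := by
      rw [mul_assoc, ← c.z_comm h1 x]
      group
    rw [e]
    exact h1

theorem mem_ZL {x : K} : x ∈ c.ZL ↔ x ∈ c.E ∧ ∀ g : K, ⁅x, g⁆ ∈ c.Z₁ := Iff.rfl

theorem ZL_le_E : c.ZL ≤ c.E := fun _ hx => hx.1

theorem Z₁_le_ZL : c.Z₁ ≤ c.ZL := by
  intro z hz
  refine ⟨c.Z₁_le_E hz, fun g => ?_⟩
  have : ⁅z, g⁆ = 1 := commutatorElement_eq_one_iff_mul_comm.mpr (c.z_comm hz g).symm
  rw [this]
  exact c.Z₁.one_mem

theorem E_le_D : c.E ≤ c.D := fun g hg x hx => c.hEcomm x hx g hg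

theorem ZL_normal : c.ZL.Normal := by
  have := c.hEn
  constructor
  rintro x ⟨hx, hx'⟩ g
  refine ⟨c.hEn.conj_mem x hx g, fun h => ?_⟩
  -- `⁅g x g⁻¹, h⁆ = g ⁅x, g⁻¹ h g⁆ g⁻¹`
  have e : ⁅g * x * g⁻¹, h⁆ = g * ⁅x, g⁻¹ * h * g⁆ * g⁻¹ := by
    simp only [commutatorElement_def]; group
  rw [e]
  exact c.Z₁_normal.conj_mem _ (hx' _) g

/-- `C = C_K(E)`. -/
def C : Subgroup K := Subgroup.centralizer (c.E : Set K)

theorem C_le_D : c.C ≤ c.D := by
  intro g hg x hx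
  have : ⁅x, g⁆ = 1 := by
    rw [commutatorElement_eq_one_iff_mul_comm]
    exact (Subgroup.mem_centralizer_iff.mp hg x hx)
  rw [this]
  exact c.Z₁.one_mem

theorem C_normal : c.C.Normal := by
  have := c.hEn
  exact Subgroup.normal_centralizer

theorem E_inf_C : c.E ⊓ c.C = c.Z₁ := by
  ext x
  rw [Subgroup.mem_inf, c.hZ₁mem]
  constructor
  · rintro ⟨hx, hx'⟩
    exact ⟨hx, fun y hy => Subgroup.mem_centralizer_iff.mp hx' y hy⟩
  · rintro ⟨hx, hx'⟩
    exact ⟨hx, Subgroup.mem_centralizer_iff.mpr hx'⟩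

theorem pow_eq_one_of_mem_E {x : K} (hx : x ∈ c.E) : x ^ p = 1 := c.hEexp x hx

end ESC

/-! ### from Blackburn2 -/

namespace ESC

variable {p : ℕ} [hp : Fact p.Prime] {K : Type u} [Group K] [Finite K] (c : ESC p K)

include hp

theorem E_not_le_Z₁ : ¬ c.E ≤ c.Z₁ := by
  intro h
  have h1 := Subgroup.card_le_of_le h
  rw [c.hEcard, c.hZ₁card] at h1
  have h2 : p ^ 1 < p ^ 3 := Nat.pow_lt_pow_right hp.out.one_lt (by norm_num)
  rw [pow_one] at h2
  omega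

theorem E_not_comm : ¬ ∀ x ∈ c.E, ∀ y ∈ c.E, x * y = y * x := by
  intro h
  apply c.E_not_le_Z₁
  intro x hx
  rw [c.hZ₁mem]
  exact ⟨hx, fun y hy => h y hy x hx⟩

/-- `D = E C`. -/
theorem D_eq (hK : IsPGroup p K) : c.D = c.E ⊔ c.C := by
  have hle : c.E ⊔ c.C ≤ c.D := sup_le c.E_le_D c.C_le_D
  symm
  apply Subgroup.eq_of_le_of_card_ge hle
  -- generators of `E`
  obtain ⟨e₁, he₁E, he₁Z⟩ : ∃ e₁ ∈ c.E, e₁ ∉ c.Z₁ := by
    by_contra hcon
    push Not at hcon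
    exact c.E_not_le_Z₁ hcon
  set Y₁ := Subgroup.closure ((c.Z₁ : Set K) ∪ {e₁}) with hY₁
  have hY₁E : Y₁ ≤ c.E := by
    rw [hY₁, Subgroup.closure_le]
    rintro x (hx | hx)
    · exact c.Z₁_le_E hx
    · rw [Set.mem_singleton_iff] at hx; rw [hx]; exact he₁E
  have hY₁comm : ∀ x ∈ Y₁, ∀ y ∈ Y₁, x * y = y * x := by
    have hgen : ∀ s ∈ ((c.Z₁ : Set K) ∪ {e₁}), ∀ t ∈ ((c.Z₁ : Set K) ∪ {e₁}), s * t = t * s := by
      rintro s (hs | hs) t (ht | ht)
      · exact (c.z_comm ht s)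
      · exact (c.z_comm hs t).symm
      · exact (c.z_comm ht s)
      · rw [Set.mem_singleton_iff] at hs ht; rw [hs, ht]
    have := Subgroup.isMulCommutative_closure hgen
    intro x hx y hy
    exact setLike_mul_comm hx hy
  have hY₁ne : ¬ c.E ≤ Y₁ := by
    intro h
    exact c.E_not_comm (fun x hx y hy => hY₁comm x (h hx) y (h hy))
  obtain ⟨e₂, he₂E, he₂Y⟩ : ∃ e₂ ∈ c.E, e₂ ∉ Y₁ := by
    by_contra hcon
    push Not at hcon
    exact hY₁ne hcon
  set Y₂ := Subgroup.closure ((Y₁ : Set K) ∪ {e₂}) with hY₂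
  have hY₂E : Y₂ ≤ c.E := by
    rw [hY₂, Subgroup.closure_le]
    rintro x (hx | hx)
    · exact hY₁E hx
    · rw [Set.mem_singleton_iff] at hx; rw [hx]; exact he₂E
  have hlt1 : Nat.card c.Z₁ < Nat.card Y₁ := card_lt_card_adjoin c.Z₁ e₁ he₁Z
  have hlt2 : Nat.card Y₁ < Nat.card Y₂ := card_lt_card_adjoin Y₁ e₂ he₂Y
  have hY₂eq : Y₂ = c.E := by
    apply Subgroup.eq_of_le_of_card_ge hY₂E
    obtain ⟨k1, hk1⟩ := (hK.to_subgroup Y₁).exists_card_eq
    obtain ⟨k2, hk2⟩ := (hK.to_subgroup Y₂).exists_card_eq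
    rw [c.hZ₁card, hk1] at hlt1
    rw [hk1, hk2] at hlt2
    have h1 : 1 < k1 := by
      have : p ^ 1 < p ^ k1 := by simpa using hlt1
      exact (Nat.pow_lt_pow_iff_right hp.out.one_lt).mp this
    have h2 : k1 < k2 := (Nat.pow_lt_pow_iff_right hp.out.one_lt).mp hlt2
    rw [c.hEcard, hk2]
    exact Nat.pow_le_pow_right hp.out.pos (by omega)
  -- centralizer of `E`
  have hCeq : c.C = Subgroup.centralizer ({e₁} : Set K) ⊓ Subgroup.centralizer ({e₂} : Set K) := by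
    have hZtop : Subgroup.centralizer ((c.Z₁ : Subgroup K) : Set K) = ⊤ := by
      rw [eq_top_iff]
      intro g _
      rw [Subgroup.mem_centralizer_iff]
      intro z hz
      exact (c.z_comm hz g).symm
    unfold ESC.C
    conv_lhs => rw [← hY₂eq, hY₂, centralizer_adjoin, hY₁, centralizer_adjoin, hZtop, top_inf_eq]
  -- counting
  have h1 := card_dvd_card_centralizer_mul c.D c.Z₁ c.hZ₁cen e₁ (fun w hw => by
    rw [← commutatorElement_inv]
    exact c.Z₁.inv_mem (hw e₁ he₁E))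
  have h2 := card_dvd_card_centralizer_mul (c.D ⊓ Subgroup.centralizer ({e₁} : Set K)) c.Z₁
    c.hZ₁cen e₂ (fun w hw => by
      rw [← commutatorElement_inv]
      exact c.Z₁.inv_mem (hw.1 e₂ he₂E))
  have h3 : Nat.card (c.D ⊓ Subgroup.centralizer ({e₁} : Set K) ⊓
      Subgroup.centralizer ({e₂} : Set K) : Subgroup K) ∣ Nat.card c.C := by
    apply Subgroup.card_dvd_of_le
    rw [hCeq, inf_assoc]
    exact inf_le_right
  rw [c.hZ₁card] at h1 h2
  have h4 : Nat.card c.D ∣ Nat.card c.C * p * p :=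
    h1.trans (Nat.mul_dvd_mul_right (h2.trans (Nat.mul_dvd_mul_right h3 p)) p)
  -- order of `E C`
  have hCn := c.C_normal
  have h5 : Nat.card (c.C ⊔ c.E : Subgroup K) = Nat.card c.C * c.C.relIndex (c.C ⊔ c.E) :=
    card_eq_mul_relIndex le_sup_left
  rw [Subgroup.relIndex_sup_left] at h5
  have h6 : c.C.relIndex c.E = p ^ 2 := by
    have h7 : Nat.card (c.C.subgroupOf c.E) = p := by
      rw [card_subgroupOf_eq_card_inf, inf_comm, c.E_inf_C, c.hZ₁card]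
    have h8 := (c.C.subgroupOf c.E).card_mul_index
    rw [h7, c.hEcard] at h8
    have h9 : p * (c.C.subgroupOf c.E).index = p * p ^ 2 := by rw [h8]; ring
    exact Nat.eq_of_mul_eq_mul_left hp.out.pos h9
  rw [h6] at h5
  rw [sup_comm, h5]
  apply Nat.le_of_dvd (Nat.mul_pos Nat.card_pos (pow_pos hp.out.pos 2))
  have : Nat.card c.C * p ^ 2 = Nat.card c.C * p * p := by ring
  rw [this]
  exact h4

/-- All commutators of elements of `E` with elements of `K` lie in `Z_L`. -/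
theorem comm_mem_ZL (hK : IsPGroup p K) {x : K} (hx : x ∈ c.E) (g : K) : ⁅x, g⁆ ∈ c.ZL := by
  have hEn := c.hEn
  have hnil : Group.IsNilpotent K := hK.isNilpotent
  have h1 : Nat.card (⁅c.E, (⊤ : Subgroup K)⁆ : Subgroup K) ∣ p ^ 2 :=
    Cfsg.Agent.S0128.card_commutator_top_dvd hK c.E 2 (by rw [c.hEcard])
  have h2 : Nat.card (⁅⁅c.E, (⊤ : Subgroup K)⁆, (⊤ : Subgroup K)⁆ : Subgroup K) ∣ p ^ 1 :=
    Cfsg.Agent.S0128.card_commutator_top_dvd hK _ 1 h1
  have hE₁E : ⁅c.E, (⊤ : Subgroup K)⁆ ≤ c.E := Subgroup.commutator_le_left c.E ⊤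
  have hE₂E : ⁅⁅c.E, (⊤ : Subgroup K)⁆, (⊤ : Subgroup K)⁆ ≤ c.E :=
    (Subgroup.commutator_le_left _ ⊤).trans hE₁E
  have hE₂Z : ⁅⁅c.E, (⊤ : Subgroup K)⁆, (⊤ : Subgroup K)⁆ ≤ c.Z₁ := by
    by_cases hb : ⁅⁅c.E, (⊤ : Subgroup K)⁆, (⊤ : Subgroup K)⁆ = ⊥
    · rw [hb]; exact bot_le
    · obtain ⟨z', hz'mem, hz'c, hz'o⟩ := exists_central_orderOf_eq_prime hK _ hb
      have hle : Subgroup.zpowers z' ≤ ⁅⁅c.E, (⊤ : Subgroup K)⁆, (⊤ : Subgroup K)⁆ :=
        Subgroup.zpowers_le.mpr hz'mem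
      have heq : Subgroup.zpowers z' = ⁅⁅c.E, (⊤ : Subgroup K)⁆, (⊤ : Subgroup K)⁆ := by
        apply Subgroup.eq_of_le_of_card_ge hle
        rw [Nat.card_zpowers, hz'o]
        exact Nat.le_of_dvd hp.out.pos (by simpa using h2)
      intro y hy
      rw [c.hZ₁mem]
      refine ⟨hE₂E hy, fun w _ => ?_⟩
      rw [← heq] at hy
      have hyc : y ∈ Subgroup.center K := (Subgroup.zpowers_le.mpr hz'c) hy
      exact Subgroup.mem_center_iff.mp hyc w
  have hxg : ⁅x, g⁆ ∈ ⁅c.E, (⊤ : Subgroup K)⁆ :=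
    Subgroup.commutator_mem_commutator hx (Subgroup.mem_top g)
  refine ⟨hE₁E hxg, fun h => hE₂Z ?_⟩
  exact Subgroup.commutator_mem_commutator hxg (Subgroup.mem_top h)

/-- If `K` does not act trivially on `E / Z₁` then `Z_L` has order `p ^ 2`. -/
theorem card_ZL (hK : IsPGroup p K) (hD : c.D ≠ ⊤) : Nat.card c.ZL = p ^ 2 := by
  have hne1 : ¬ c.E ≤ c.ZL := by
    intro h
    apply hD
    rw [eq_top_iff]
    intro g _ x hx
    exact (h hx).2 g
  have hne2 : ¬ c.ZL ≤ c.Z₁ := by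
    intro h
    apply hD
    rw [eq_top_iff]
    intro g _ x hx
    exact h (c.comm_mem_ZL hK hx g)
  have hlt1 : Nat.card c.Z₁ < Nat.card c.ZL :=
    card_lt_of_le_of_ne c.Z₁_le_ZL (fun h => hne2 (le_of_eq h.symm))
  have hlt2 : Nat.card c.ZL < Nat.card c.E :=
    card_lt_of_le_of_ne c.ZL_le_E (fun h => hne1 (le_of_eq h.symm))
  obtain ⟨k, hk⟩ := (hK.to_subgroup c.ZL).exists_card_eq
  rw [c.hZ₁card, hk] at hlt1
  rw [c.hEcard, hk] at hlt2
  have h1 : 1 < k := by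
    have : p ^ 1 < p ^ k := by simpa using hlt1
    exact (Nat.pow_lt_pow_iff_right hp.out.one_lt).mp this
  have h2 : k < 3 := (Nat.pow_lt_pow_iff_right hp.out.one_lt).mp hlt2
  have : k = 2 := by omega
  rw [hk, this]

end ESC

/-! ### from Blackburn3 -/

namespace ESC

variable {p : ℕ} [hp : Fact p.Prime] {K : Type u} [Group K] [Finite K] (c : ESC p K)

include hp

/-- `T = C_K(Z_L)`. -/
def T : Subgroup K := Subgroup.centralizer (c.ZL : Set K)

omit hp [Finite K] in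
theorem T_normal : c.T.Normal := by
  have := c.ZL_normal
  exact Subgroup.normal_centralizer

omit hp [Finite K] in
theorem C_le_T : c.C ≤ c.T := by
  intro g hg
  rw [T, Subgroup.mem_centralizer_iff]
  intro y hy
  exact Subgroup.mem_centralizer_iff.mp hg y (c.ZL_le_E hy)

theorem ZL_comm (hK : IsPGroup p K) (hD : c.D ≠ ⊤) {x y : K} (hx : x ∈ c.ZL) (hy : y ∈ c.ZL) :
    x * y = y * x := by
  have h1 : Nat.card c.ZL ∣ p ^ 2 := by rw [c.card_ZL hK hD]
  have := mul_comm_of_card_dvd_sq h1 (⟨x, hx⟩ : c.ZL) ⟨y, hy⟩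
  exact congrArg Subtype.val this

theorem ZL_le_T (hK : IsPGroup p K) (hD : c.D ≠ ⊤) : c.ZL ≤ c.T := by
  intro x hx
  rw [T, Subgroup.mem_centralizer_iff]
  intro y hy
  exact c.ZL_comm hK hD hy hx

theorem T_inf_E (hK : IsPGroup p K) (hD : c.D ≠ ⊤)
    (hrk : ∀ B : Subgroup K, IsMulCommutative B → (∀ x ∈ B, x ^ p = 1) → Nat.card B ≤ p ^ 2)
    {x : K} (hxT : x ∈ c.T) (hxp : x ^ p = 1) : x ∈ c.ZL := by
  have hcomm : IsMulCommutative c.ZL :=
    ⟨⟨fun a b => Subtype.ext (c.ZL_comm hK hD a.2 b.2)⟩⟩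
  exact mem_of_mem_centralizer_of_rank hrk c.ZL hcomm
    (fun y hy => c.pow_eq_one_of_mem_E (c.ZL_le_E hy)) (c.card_ZL hK hD) x hxT hxp

theorem E_not_le_T (hK : IsPGroup p K) (hD : c.D ≠ ⊤)
    (hrk : ∀ B : Subgroup K, IsMulCommutative B → (∀ x ∈ B, x ^ p = 1) → Nat.card B ≤ p ^ 2) :
    ¬ c.E ≤ c.T := by
  intro h
  have hle : c.E ≤ c.ZL := fun x hx =>
    c.T_inf_E hK hD hrk (h hx) (c.pow_eq_one_of_mem_E hx)
  have h1 := Subgroup.card_le_of_le hle
  rw [c.hEcard, c.card_ZL hK hD] at h1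
  have h2 : p ^ 2 < p ^ 3 := Nat.pow_lt_pow_right hp.out.one_lt (by norm_num)
  omega

theorem T_index (hK : IsPGroup p K) (hD : c.D ≠ ⊤)
    (hrk : ∀ B : Subgroup K, IsMulCommutative B → (∀ x ∈ B, x ^ p = 1) → Nat.card B ≤ p ^ 2) :
    c.T.index = p := by
  have := c.ZL_normal
  have hdvd : c.T.index ∣ p := index_centralizer_dvd_prime hK c.ZL (c.card_ZL hK hD)
  rcases (Nat.dvd_prime hp.out).mp hdvd with h | h
  · exfalso
    apply c.E_not_le_T hK hD hrk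
    rw [Subgroup.index_eq_one.mp h]
    exact le_top
  · exact h

/-- Every element of `E` is a power of `e` times an element of `Z_L`, for `e ∈ E ∖ Z_L`. -/
theorem decomp_E (hK : IsPGroup p K) (hD : c.D ≠ ⊤)
    (hrk : ∀ B : Subgroup K, IsMulCommutative B → (∀ x ∈ B, x ^ p = 1) → Nat.card B ≤ p ^ 2)
    {e : K} (heE : e ∈ c.E) (heZ : e ∉ c.ZL) {x : K} (hx : x ∈ c.E) :
    ∃ i : ℕ, ∃ y ∈ c.ZL, x = e ^ i * y := by
  have hTn := c.T_normal
  have heT : e ∉ c.T := fun h => heZ (c.T_inf_E hK hD hrk h (c.pow_eq_one_of_mem_E heE))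
  obtain ⟨i, t, ht, hxt⟩ := exists_pow_mul_of_index_prime c.T (c.T_index hK hD hrk) e heT x
  refine ⟨i, t, ?_, hxt⟩
  have hte : t = (e ^ i)⁻¹ * x := by rw [hxt]; group
  have htE : t ∈ c.E := by
    rw [hte]
    exact c.E.mul_mem (c.E.inv_mem (c.E.pow_mem heE i)) hx
  exact c.T_inf_E hK hD hrk ht (c.pow_eq_one_of_mem_E htE)

/-- Every element of `K` is a power of `e` times an element of `T`. -/
theorem decomp_K (hK : IsPGroup p K) (hD : c.D ≠ ⊤)
    (hrk : ∀ B : Subgroup K, IsMulCommutative B → (∀ x ∈ B, x ^ p = 1) → Nat.card B ≤ p ^ 2)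
    {e : K} (heE : e ∈ c.E) (heZ : e ∉ c.ZL) (g : K) :
    ∃ i : ℕ, ∃ t ∈ c.T, g = e ^ i * t := by
  have hTn := c.T_normal
  have heT : e ∉ c.T := fun h => heZ (c.T_inf_E hK hD hrk h (c.pow_eq_one_of_mem_E heE))
  exact exists_pow_mul_of_index_prime c.T (c.T_index hK hD hrk) e heT g

omit hp [Finite K] in
theorem D_normal : c.D.Normal := by
  have := c.hEn
  constructor
  intro g hg h x hx
  have hx' : h⁻¹ * x * h ∈ c.E := by
    have := c.hEn.conj_mem x hx h⁻¹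
    simpa using this
  have e : ⁅x, h * g * h⁻¹⁆ = h * ⁅h⁻¹ * x * h, g⁆ * h⁻¹ := by
    simp only [commutatorElement_def]; group
  rw [e]
  exact c.Z₁_normal.conj_mem _ (hg _ hx') h

/-- Decomposition of `Z_L` modulo `Z₁`. -/
theorem decomp_ZL (hK : IsPGroup p K) (hD : c.D ≠ ⊤) {l : K} (hl : l ∈ c.ZL) (hlZ : l ∉ c.Z₁)
    {y : K} (hy : y ∈ c.ZL) : ∃ j : ℕ, ∃ w ∈ c.Z₁, y = l ^ j * w := by
  have hZn := c.Z₁_normal
  have hrel : c.Z₁.relIndex c.ZL = p := by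
    have h1 := card_eq_mul_relIndex c.Z₁_le_ZL
    rw [c.card_ZL hK hD, c.hZ₁card] at h1
    have h2 : p * c.Z₁.relIndex c.ZL = p * p := by rw [← h1]; ring
    exact Nat.eq_of_mul_eq_mul_left hp.out.pos h2
  exact exists_pow_mul_of_relIndex_prime c.Z₁ c.ZL hrel l hl hlZ y hy

/-- Elements of `T ⊓ D` are products of an element of `Z_L` and an element of `C`. -/
theorem decomp_T₀ (hK : IsPGroup p K) (hD : c.D ≠ ⊤)
    (hrk : ∀ B : Subgroup K, IsMulCommutative B → (∀ x ∈ B, x ^ p = 1) → Nat.card B ≤ p ^ 2)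
    {t : K} (htT : t ∈ c.T) (htD : t ∈ c.D) : ∃ y ∈ c.ZL, ∃ c' ∈ c.C, t = y * c' := by
  have hCn := c.C_normal
  rw [c.D_eq hK] at htD
  have h1 : t ∈ ((c.E ⊔ c.C : Subgroup K) : Set K) := htD
  rw [Subgroup.mul_normal] at h1
  obtain ⟨x, hx, c', hc', hxc⟩ := h1
  refine ⟨x, ?_, c', hc', hxc.symm⟩
  have hxT : x ∈ c.T := by
    have : x = t * c'⁻¹ := by rw [← hxc]; group
    rw [this]
    exact c.T.mul_mem htT (c.T.inv_mem (c.C_le_T hc'))
  exact c.T_inf_E hK hD hrk hxT (c.pow_eq_one_of_mem_E hx)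

/-- `D` has index `p`. -/
theorem D_index (hK : IsPGroup p K) (hD : c.D ≠ ⊤)
    (hrk : ∀ B : Subgroup K, IsMulCommutative B → (∀ x ∈ B, x ^ p = 1) → Nat.card B ≤ p ^ 2) :
    c.D.index = p := by
  have hZn := c.Z₁_normal
  -- an element `e ∈ E ∖ Z_L`
  obtain ⟨e, heE, heZ⟩ : ∃ e ∈ c.E, e ∉ c.ZL := by
    by_contra hcon
    push Not at hcon
    have h1 := Subgroup.card_le_of_le (show c.E ≤ c.ZL from hcon)
    rw [c.hEcard, c.card_ZL hK hD] at h1
    have h2 : p ^ 2 < p ^ 3 := Nat.pow_lt_pow_right hp.out.one_lt (by norm_num)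
    omega
  -- work in the quotient by `Z₁`
  let π := QuotientGroup.mk' c.Z₁
  have hπ : Function.Surjective π := QuotientGroup.mk'_surjective c.Z₁
  have hZLc : c.ZL.map π ≤ Subgroup.center (K ⧸ c.Z₁) := by
    rintro _ ⟨y, hy, rfl⟩
    rw [Subgroup.mem_center_iff]
    intro g
    obtain ⟨g', rfl⟩ := hπ g
    have h1 : ⁅y, g'⁆ ∈ c.Z₁ := hy.2 g'
    have h2 : π ⁅y, g'⁆ = 1 := by
      rw [QuotientGroup.mk'_apply]; exact (QuotientGroup.eq_one_iff _).mpr h1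
    rw [map_commutatorElement, commutatorElement_eq_one_iff_mul_comm] at h2
    exact h2.symm
  have hdvd := card_dvd_card_centralizer_mul (⊤ : Subgroup (K ⧸ c.Z₁)) (c.ZL.map π) hZLc (π e)
    (fun w _ => by
      obtain ⟨w', rfl⟩ := hπ w
      rw [← map_commutatorElement]
      refine Subgroup.mem_map_of_mem _ ?_
      rw [← commutatorElement_inv]
      exact c.ZL.inv_mem (c.comm_mem_ZL hK heE w'))
  rw [top_inf_eq, Subgroup.card_top] at hdvd
  -- the centralizer of `π e` is the image of `D`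
  have hcent : Subgroup.centralizer ({π e} : Set (K ⧸ c.Z₁)) ≤ c.D.map π := by
    intro g hg
    obtain ⟨g', rfl⟩ := hπ g
    refine Subgroup.mem_map_of_mem _ ?_
    intro x hx
    obtain ⟨i, y, hy, hxy⟩ := c.decomp_E hK hD hrk heE heZ hx
    have h1 : π ⁅x, g'⁆ = 1 := by
      rw [map_commutatorElement, commutatorElement_eq_one_iff_mul_comm, hxy, map_mul, map_pow]
      have hc1 : Commute (π e) (π g') := by
        have := Subgroup.mem_centralizer_singleton_iff.mp hg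
        exact this.symm
      have hc2 : Commute (π y) (π g') :=
        (Subgroup.mem_center_iff.mp (hZLc (Subgroup.mem_map_of_mem _ hy)) (π g')).symm
      exact ((hc1.pow_left i).mul_left hc2).eq
    rw [QuotientGroup.mk'_apply] at h1
    exact (QuotientGroup.eq_one_iff _).mp h1
  have hcardZL : Nat.card (c.ZL.map π) = p := by
    have h1 : (c.ZL.map π).index = c.ZL.index :=
      Subgroup.index_map_eq c.ZL hπ (by rw [QuotientGroup.ker_mk']; exact c.Z₁_le_ZL)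
    have h2 := (c.ZL.map π).card_mul_index
    have h3 := c.ZL.card_mul_index
    have h4 := Subgroup.card_eq_card_quotient_mul_card_subgroup c.Z₁
    rw [h1] at h2
    rw [c.card_ZL hK hD] at h3
    rw [c.hZ₁card] at h4
    -- card (ZL.map π) * idx = card Q, p^2 * idx = card K = card Q * p
    have hpos : 0 < c.ZL.index := Nat.pos_of_ne_zero (Subgroup.index_ne_zero_of_finite)
    have h5 : Nat.card (c.ZL.map π) * c.ZL.index * p = p * c.ZL.index * p := by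
      rw [h2, ← h4, ← h3]; ring
    have h6 : Nat.card (c.ZL.map π) * (c.ZL.index * p) = p * (c.ZL.index * p) := by
      rw [← mul_assoc, h5, mul_assoc]
    exact Nat.eq_of_mul_eq_mul_right (Nat.mul_pos hpos hp.out.pos) h6
  rw [hcardZL] at hdvd
  -- compare indices
  have hDn := c.D_normal
  have h7 : Nat.card (K ⧸ c.Z₁) ∣ Nat.card (c.D.map π) * p :=
    hdvd.trans (Nat.mul_dvd_mul_right (Subgroup.card_dvd_of_le hcent) p)
  have h8 : (c.D.map π).index = c.D.index :=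
    Subgroup.index_map_eq c.D hπ (by
      rw [QuotientGroup.ker_mk']; exact c.Z₁_le_E.trans c.E_le_D)
  have h9 := (c.D.map π).card_mul_index
  rw [h8] at h9
  rw [← h9] at h7
  have hpos : 0 < Nat.card (c.D.map π) := Nat.card_pos
  have h10 : c.D.index ∣ p := Nat.dvd_of_mul_dvd_mul_left hpos h7
  rcases (Nat.dvd_prime hp.out).mp h10 with h | h
  · exact absurd (Subgroup.index_eq_one.mp h) hD
  · exact h

end ESC

end Cfsg.Agent.Lib.Helper73.R2A
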