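import Mathlib
import Cfsg.Agent.Lib.Helper73.R2A1
import Cfsg.Agent.Lib.Helper24.Blackburn6
import Cfsg.Agent.Lib.Helper49.RankOneCyclic
import Cfsg.Prelude.Def_CaseTheorems

/-!
# S3888 MODULE R2-A, part 2: building the configuration; `C_G(E)` is cyclic; orders
-/

set_option autoImplicit false

open scoped commutatorElement

namespace Cfsg.Agent.Lib.Helper73.R2A

open Cfsg.Agent.Lib.Helper24

universe u

variable {p : ℕ} [hp : Fact p.Prime] {K : Type u} [Group K] [Finite K]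

include hp

/-- The configuration attached to a normal subgroup of order `p ^ 3` and exponent `p` of a
`p`-group of rank at most two. -/
theorem exists_ESC (hK : IsPGroup p K)
    (hrk : ∀ B : Subgroup K, IsMulCommutative B → (∀ x ∈ B, x ^ p = 1) → Nat.card B ≤ p ^ 2)
    (E : Subgroup K) (hEn : E.Normal) (hEcard : Nat.card E = p ^ 3) (hEexp : ∀ x ∈ E, x ^ p = 1) :
    ∃ c : ESC p K, c.E = E := by
  -- `E` is not commutative
  have hnc : ¬ ∀ a b : E, a * b = b * a := by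
    intro hc
    have h1 := hrk E ⟨⟨hc⟩⟩ hEexp
    rw [hEcard] at h1
    have h2 : p ^ 2 < p ^ 3 := Nat.pow_lt_pow_right hp.out.one_lt (by norm_num)
    omega
  obtain ⟨hZcard, hZcomm⟩ := center_of_card_cube hEcard hnc
  set Z₁ : Subgroup K := (Subgroup.center E).map E.subtype with hZ₁
  have hZ₁card : Nat.card Z₁ = p := by
    rw [hZ₁, Subgroup.card_map_of_injective E.subtype_injective, hZcard]
  have hZ₁mem : ∀ x, x ∈ Z₁ ↔ x ∈ E ∧ ∀ y ∈ E, y * x = x * y := by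
    intro x
    constructor
    · rintro ⟨z, hz, rfl⟩
      refine ⟨z.2, fun y hy => ?_⟩
      have h1 := Subgroup.mem_center_iff.mp hz ⟨y, hy⟩
      exact congrArg Subtype.val h1
    · rintro ⟨hx, hxy⟩
      refine ⟨⟨x, hx⟩, ?_, rfl⟩
      apply Subgroup.mem_center_iff.mpr
      intro g
      apply Subtype.ext
      exact hxy g g.2
  have hZ₁n : Z₁.Normal := by
    constructor
    intro x hx g
    rw [hZ₁mem] at hx ⊢
    refine ⟨hEn.conj_mem x hx.1 g, fun y hy => ?_⟩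
    have h1 := hx.2 (g⁻¹ * y * g⁻¹⁻¹) (hEn.conj_mem y hy g⁻¹)
    rw [inv_inv] at h1
    calc y * (g * x * g⁻¹) = g * ((g⁻¹ * y * g) * x) * g⁻¹ := by group
      _ = g * (x * (g⁻¹ * y * g)) * g⁻¹ := by rw [h1]
      _ = g * x * g⁻¹ * y := by group
  have hZ₁ne : Z₁ ≠ ⊥ := by
    intro hb
    rw [hb, Subgroup.card_bot] at hZ₁card
    exact hp.out.one_lt.ne hZ₁card
  obtain ⟨z, hzZ, hzc, hzo⟩ := exists_central_orderOf_eq_prime hK Z₁ hZ₁ne
  have hzpow : Subgroup.zpowers z = Z₁ := by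
    apply Subgroup.eq_of_le_of_card_ge
    · rw [Subgroup.zpowers_le]; exact hzZ
    · rw [Nat.card_zpowers, hzo, hZ₁card]
  have hZ₁cen : Z₁ ≤ Subgroup.center K := by
    rw [← hzpow, Subgroup.zpowers_le]
    exact hzc
  have hEcomm : ∀ x ∈ E, ∀ y ∈ E, ⁅x, y⁆ ∈ Z₁ := by
    intro x hx y hy
    refine ⟨⁅(⟨x, hx⟩ : E), ⟨y, hy⟩⁆, hZcomm _ _, ?_⟩
    rw [map_commutatorElement]
    rfl
  exact ⟨⟨E, Z₁, hEn, hEexp, hEcard, hZ₁mem, hZ₁card, hZ₁cen, hEcomm⟩, rfl⟩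

namespace ESC

variable (c : ESC p K)

omit [Finite K] in
/-- `|E C| = p ^ 2 |C|`. -/
theorem card_sup_EC : Nat.card (c.E ⊔ c.C : Subgroup K) = Nat.card c.C * p ^ 2 := by
  have hCn := c.C_normal
  have h5 : Nat.card (c.C ⊔ c.E : Subgroup K) = Nat.card c.C * c.C.relIndex (c.C ⊔ c.E) :=
    card_eq_mul_relIndex le_sup_left
  rw [Subgroup.relIndex_sup_left] at h5
  have h6 : c.C.relIndex c.E = p ^ 2 := by
    have h7 : Nat.card (c.C.subgroupOf c.E) = p := by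
      rw [card_subgroupOf_eq_card_inf, inf_comm, c.E_inf_C, c.hZ₁card]
    have h8 := (c.C.subgroupOf c.E).card_mul_index
    rw [h7, c.hEcard] at h8
    have h9 : p * (c.C.subgroupOf c.E).index = p * p ^ 2 := by rw [h8]; ring
    exact Nat.eq_of_mul_eq_mul_left hp.out.pos h9
  rw [h6] at h5
  rw [sup_comm, h5]

omit [Finite K] hp in
theorem Z₁_le_C : c.Z₁ ≤ c.C := by
  rw [← c.E_inf_C]; exact inf_le_right

/-- an abelian subgroup of order `p ^ 2` of `E` -/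
theorem exists_abelian_sq (hK : IsPGroup p K) :
    ∃ A : Subgroup K, A ≤ c.E ∧ IsMulCommutative A ∧ Nat.card A = p ^ 2 := by
  obtain ⟨e₁, he₁E, he₁Z⟩ : ∃ e₁ ∈ c.E, e₁ ∉ c.Z₁ := by
    by_contra hcon
    push Not at hcon
    exact c.E_not_le_Z₁ hcon
  set Y₁ := Subgroup.closure ((c.Z₁ : Set K) ∪ {e₁}) with hY₁
  have hY₁E : Y₁ ≤ c.E := by
    rw [hY₁, Subgroup.closure_le]
    rintro x (hx | hx)
    · exact c.Z₁_le_E hx
    · rw [Set.mem_singleton_iff] at hx; rw [hx]; exact he₁E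
  have hY₁comm : IsMulCommutative Y₁ := by
    have hgen : ∀ s ∈ ((c.Z₁ : Set K) ∪ {e₁}), ∀ t ∈ ((c.Z₁ : Set K) ∪ {e₁}), s * t = t * s := by
      rintro s (hs | hs) t (ht | ht)
      · exact (c.z_comm ht s)
      · exact (c.z_comm hs t).symm
      · exact (c.z_comm ht s)
      · rw [Set.mem_singleton_iff] at hs ht; rw [hs, ht]
    exact Subgroup.isMulCommutative_closure hgen
  have hY₁ne : Y₁ ≠ c.E := by
    intro h
    apply c.E_not_comm
    intro x hx y hy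
    rw [← h] at hx hy
    exact setLike_mul_comm hx hy
  have hlt1 : Nat.card c.Z₁ < Nat.card Y₁ := card_lt_card_adjoin c.Z₁ e₁ he₁Z
  have hlt2 : Nat.card Y₁ < Nat.card c.E := card_lt_of_le_of_ne hY₁E hY₁ne
  refine ⟨Y₁, hY₁E, hY₁comm, ?_⟩
  obtain ⟨k, hk⟩ := (hK.to_subgroup Y₁).exists_card_eq
  rw [c.hZ₁card, hk] at hlt1
  rw [c.hEcard, hk] at hlt2
  have h1 : 1 < k := by
    have : p ^ 1 < p ^ k := by simpa using hlt1
    exact (Nat.pow_lt_pow_iff_right hp.out.one_lt).mp this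
  have h2 : k < 3 := (Nat.pow_lt_pow_iff_right hp.out.one_lt).mp hlt2
  have : k = 2 := by omega
  rw [hk, this]

/-- elements of order `p` of `C_G(E)` lie in `Z₁` -/
theorem mem_Z₁_of_mem_C (hK : IsPGroup p K)
    (hrk : ∀ B : Subgroup K, IsMulCommutative B → (∀ x ∈ B, x ^ p = 1) → Nat.card B ≤ p ^ 2)
    {t : K} (htC : t ∈ c.C) (htp : t ^ p = 1) : t ∈ c.Z₁ := by
  obtain ⟨A, hAE, hAc, hAcard⟩ := c.exists_abelian_sq hK
  have h1 : t ∈ A := by
    apply mem_of_mem_centralizer_of_rank hrk A hAc (fun x hx => c.hEexp x (hAE hx)) hAcard t _ htp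
    rw [Subgroup.mem_centralizer_iff]
    intro a ha
    exact Subgroup.mem_centralizer_iff.mp htC a (hAE ha)
  rw [← c.E_inf_C]
  exact ⟨hAE h1, htC⟩

/-- A subgroup all of whose elements of order `p` lie in `Z₁` is cyclic. -/
theorem isCyclic_of_forall_mem_Z₁ (hp2 : p ≠ 2) (hK : IsPGroup p K) (Q : Subgroup K)
    (hQ : ∀ t ∈ Q, t ^ p = 1 → t ∈ c.Z₁) : IsCyclic Q := by
  apply Cfsg.Agent.Lib.Helper49.isCyclic_of_pRankLE_one hp2 (hK.to_subgroup Q)
  intro B _ hB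
  have hle : B.map Q.subtype ≤ c.Z₁ := by
    rintro _ ⟨b, hb, rfl⟩
    apply hQ _ b.2
    have := hB b hb
    have h2 := congrArg Subtype.val this
    simpa using h2
  have h1 := Subgroup.card_le_of_le hle
  rw [Subgroup.card_map_of_injective Q.subtype_injective, c.hZ₁card] at h1
  rw [pow_one]
  exact h1

theorem C_cyclic (hp2 : p ≠ 2) (hK : IsPGroup p K)
    (hrk : ∀ B : Subgroup K, IsMulCommutative B → (∀ x ∈ B, x ^ p = 1) → Nat.card B ≤ p ^ 2) :
    IsCyclic c.C :=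
  c.isCyclic_of_forall_mem_Z₁ hp2 hK c.C (fun _ ht htp => c.mem_Z₁_of_mem_C hK hrk ht htp)

/-- If `ρ` has order `p ^ (m + 1)` and every element of order `p` of `⟨ρ⟩` lies in `Z₁`, then
`Z₁ = ⟨ρ ^ (p ^ m)⟩`. -/
theorem Z₁_eq_zpowers (ρ : K) (m : ℕ) (hρ : orderOf ρ = p ^ (m + 1))
    (hQ : ∀ t ∈ Subgroup.zpowers ρ, t ^ p = 1 → t ∈ c.Z₁) :
    c.Z₁ = Subgroup.zpowers (ρ ^ p ^ m) ∧ orderOf (ρ ^ p ^ m) = p := by
  have hord : orderOf (ρ ^ p ^ m) = p := by
    rw [orderOf_pow' ρ (pow_pos hp.out.pos m).ne', hρ, Nat.gcd_eq_right (pow_dvd_pow p (Nat.le_succ m)),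
      pow_succ, Nat.mul_div_cancel_left _ (pow_pos hp.out.pos m)]
  refine ⟨?_, hord⟩
  symm
  apply Subgroup.eq_of_le_of_card_ge
  · rw [Subgroup.zpowers_le]
    apply hQ _ (Subgroup.pow_mem _ (Subgroup.mem_zpowers ρ) _)
    have := pow_orderOf_eq_one (ρ ^ p ^ m)
    rwa [hord] at this
  · rw [Nat.card_zpowers, hord, c.hZ₁card]

end ESC

end Cfsg.Agent.Lib.Helper73.R2A
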