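import Mathlib
import Cfsg.Agent.Lib.Helper73.R2A2

/-!
# S3888 MODULE R2-A, part 3: the case `G = E C_G(E)` (type (b))
-/

set_option autoImplicit false

open scoped commutatorElement

namespace Cfsg.Agent.Lib.Helper73.R2A

open Cfsg.Agent.Lib.Helper24

universe u

variable {p : ℕ} [hp : Fact p.Prime] {K : Type u} [Group K] [Finite K]

include hp

/-- two non-commuting elements of `E` generate `E` -/
theorem ESC.closure_pair_eq (c : ESC p K) {x y : K} (hx : x ∈ c.E) (hy : y ∈ c.E)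
    (hxy : x * y ≠ y * x) : Subgroup.closure ({x, y} : Set K) = c.E := by
  have hle : Subgroup.closure ({x, y} : Set K) ≤ c.E := by
    rw [Subgroup.closure_le]
    rintro t (ht | ht)
    · rw [ht]; exact hx
    · rw [Set.mem_singleton_iff] at ht; rw [ht]; exact hy
  apply Subgroup.eq_of_le_of_card_ge hle
  have hdvd : Nat.card (Subgroup.closure ({x, y} : Set K)) ∣ p ^ 3 := by
    rw [← c.hEcard]; exact Subgroup.card_dvd_of_le hle
  obtain ⟨j, hj3, hj⟩ := (Nat.dvd_prime_pow hp.out).mp hdvd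
  rw [c.hEcard, hj]
  apply Nat.pow_le_pow_right hp.out.pos
  by_contra hlt
  push Not at hlt
  have hdvd2 : Nat.card (Subgroup.closure ({x, y} : Set K)) ∣ p ^ 2 := by
    rw [hj]; exact pow_dvd_pow p (by omega)
  have hxm : x ∈ Subgroup.closure ({x, y} : Set K) := Subgroup.subset_closure (by simp)
  have hym : y ∈ Subgroup.closure ({x, y} : Set K) := Subgroup.subset_closure (by simp)
  have := mul_comm_of_card_dvd_sq hdvd2 (⟨x, hxm⟩ : Subgroup.closure ({x, y} : Set K)) ⟨y, hym⟩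
  exact hxy (congrArg Subtype.val this)

theorem caseB (hp2 : p ≠ 2) (n : ℕ) (hG : Nat.card K = p ^ n) (hK : IsPGroup p K)
    (hrk : ∀ B : Subgroup K, IsMulCommutative B → (∀ x ∈ B, x ^ p = 1) → Nat.card B ≤ p ^ 2)
    (c : ESC p K) (hD : c.D = ⊤) :
    3 ≤ n ∧ ∃ x y z : K, Subgroup.closure ({x, y, z} : Set K) = ⊤ ∧ x ^ p = 1 ∧ y ^ p = 1 ∧
      z ^ p ^ (n - 2) = 1 ∧ x * z = z * x ∧ y * z = z * y ∧
      x⁻¹ * y * x = y * z ^ p ^ (n - 3) := by
  have hEC : c.E ⊔ c.C = ⊤ := by rw [← c.D_eq hK, hD]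
  have hcard : p ^ n = Nat.card c.C * p ^ 2 := by
    rw [← c.card_sup_EC, hEC, Subgroup.card_top, hG]
  obtain ⟨m, hm⟩ := (hK.to_subgroup c.C).exists_card_eq
  have hnm : n = m + 2 := by
    rw [hm, ← pow_add] at hcard
    exact Nat.pow_right_injective hp.out.two_le hcard
  have hm1 : 1 ≤ m := by
    by_contra h0
    have h0' : m = 0 := by omega
    have h1 := Subgroup.card_le_of_le c.Z₁_le_C
    rw [c.hZ₁card, hm, h0', pow_zero] at h1
    have := hp.out.one_lt
    omega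
  obtain ⟨m', rfl⟩ : ∃ m', m = m' + 1 := ⟨m - 1, by omega⟩
  subst hnm
  refine ⟨by omega, ?_⟩
  -- a generator of `C`
  have hcyc := c.C_cyclic hp2 hK hrk
  obtain ⟨g, hg⟩ := hcyc.exists_generator
  have hgo : orderOf (g : K) = p ^ (m' + 1) := by
    rw [Subgroup.orderOf_coe, orderOf_eq_card_of_forall_mem_zpowers hg, hm]
  obtain ⟨hZ₁eq, hwo⟩ := c.Z₁_eq_zpowers (g : K) m' hgo (fun t ht htp =>
    c.mem_Z₁_of_mem_C hK hrk ((Subgroup.zpowers_le.mpr g.2) ht) htp)
  set w := (g : K) ^ p ^ m' with hw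
  -- non-commuting elements of `E`
  obtain ⟨x, hx, y, hy, hxy⟩ : ∃ x ∈ c.E, ∃ y ∈ c.E, x * y ≠ y * x := by
    have := c.E_not_comm
    push Not at this
    exact this
  set ζ := y⁻¹ * x⁻¹ * y * x with hζ
  have hζZ : ζ ∈ c.Z₁ := by
    have h1 := c.hEcomm y⁻¹ (c.E.inv_mem hy) x⁻¹ (c.E.inv_mem hx)
    have e : ⁅y⁻¹, x⁻¹⁆ = ζ := by rw [commutatorElement_def, hζ]; group
    rwa [e] at h1
  have hζ1 : ζ ≠ 1 := by
    intro h1
    apply hxy
    have e : y * x = x * y * ζ := by rw [hζ]; group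
    rw [e, h1, mul_one]
  rw [hZ₁eq] at hζZ
  obtain ⟨k, hk⟩ := (Submonoid.mem_powers_iff _ _).mp (mem_powers_iff_mem_zpowers.mpr hζZ)
  have hkp : ¬ p ∣ k := by
    rintro ⟨k', rfl⟩
    apply hζ1
    rw [← hk, pow_mul, ← hwo, pow_orderOf_eq_one, one_pow]
  have hcop : (p ^ (m' + 1)).Coprime k :=
    Nat.Coprime.pow_left _ ((Nat.Prime.coprime_iff_not_dvd hp.out).mpr hkp)
  set z := (g : K) ^ k with hz
  have hzC : z ∈ c.C := c.C.pow_mem g.2 k
  have hzo : orderOf z = p ^ (m' + 1) := by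
    rw [hz, Nat.Coprime.orderOf_pow (by rw [hgo]; exact hcop), hgo]
  have hzpow : z ^ p ^ m' = ζ := by
    rw [hz, ← pow_mul, mul_comm, pow_mul, ← hw, hk]
  have hzC' : Subgroup.zpowers z = c.C := by
    apply Subgroup.eq_of_le_of_card_ge (Subgroup.zpowers_le.mpr hzC)
    rw [Nat.card_zpowers, hzo, hm]
  refine ⟨x, y, z, ?_, c.hEexp x hx, c.hEexp y hy, ?_, ?_, ?_, ?_⟩
  · rw [eq_top_iff, ← hEC]
    apply sup_le
    · rw [← c.closure_pair_eq hx hy hxy]
      apply Subgroup.closure_mono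
      intro t ht
      rcases ht with ht | ht
      · left; exact ht
      · right; left; exact ht
    · rw [← hzC', Subgroup.zpowers_le]
      exact Subgroup.subset_closure (by simp)
  · have e : m' + 1 + 2 - 2 = m' + 1 := by omega
    rw [e, ← hzo, pow_orderOf_eq_one]
  · exact Subgroup.mem_centralizer_iff.mp hzC x hx
  · exact Subgroup.mem_centralizer_iff.mp hzC y hy
  · have e : m' + 1 + 2 - 3 = m' := by omega
    rw [e, hzpow, hζ]
    group

end Cfsg.Agent.Lib.Helper73.R2A
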