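import Mathlib
import Cfsg.Agent.Lib.Helper73.R2A3

/-!
# S3888 MODULE R2-A, part 4: the case `D ≠ ⊤`: the cyclic subgroup `Q = ⟨r⟩ C`
-/

set_option autoImplicit false

open scoped commutatorElement

namespace Cfsg.Agent.Lib.Helper73.R2A

open Cfsg.Agent.Lib.Helper24

universe u

variable {p : ℕ} [hp : Fact p.Prime] {K : Type u} [Group K] [Finite K]

include hp

omit [Finite K] in
/-- powers of an element outside a normal subgroup of index `p` -/
theorem dvd_of_pow_mem_of_index_prime (H : Subgroup K) [hHn : H.Normal] (hidx : H.index = p)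
    (x : K) (hx : x ∉ H) (i : ℕ) (hi : x ^ i ∈ H) : p ∣ i := by
  have hcard : Nat.card (K ⧸ H) = p := by rw [← Subgroup.index_eq_card]; exact hidx
  have : Finite (K ⧸ H) := Nat.finite_of_card_ne_zero (by rw [hcard]; exact hp.out.ne_zero)
  have hx1 : (QuotientGroup.mk x : K ⧸ H) ≠ 1 := by
    intro h
    exact hx ((QuotientGroup.eq_one_iff x).mp h)
  have ho : orderOf (QuotientGroup.mk x : K ⧸ H) = p := by
    have hdvd : orderOf (QuotientGroup.mk x : K ⧸ H) ∣ p := by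
      rw [← hcard]; exact orderOf_dvd_natCard _
    rcases (Nat.dvd_prime hp.out).mp hdvd with h | h
    · exact absurd (orderOf_eq_one_iff.mp h) hx1
    · exact h
  rw [← ho]
  apply orderOf_dvd_of_pow_eq_one
  rw [← QuotientGroup.mk_pow]
  exact (QuotientGroup.eq_one_iff _).mpr hi

namespace ESC

variable (c : ESC p K)

/-- orders in the case `D ≠ ⊤` -/
theorem card_C_of_D_ne_top (n : ℕ) (hG : Nat.card K = p ^ n) (hK : IsPGroup p K)
    (hrk : ∀ B : Subgroup K, IsMulCommutative B → (∀ x ∈ B, x ^ p = 1) → Nat.card B ≤ p ^ 2)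
    (hD : c.D ≠ ⊤) : ∃ m : ℕ, 1 ≤ m ∧ n = m + 3 ∧ Nat.card c.C = p ^ m := by
  have hDidx := c.D_index hK hD hrk
  have h1 := c.D.card_mul_index
  rw [hDidx, c.D_eq hK, c.card_sup_EC, hG] at h1
  obtain ⟨m, hm⟩ := (hK.to_subgroup c.C).exists_card_eq
  refine ⟨m, ?_, ?_, hm⟩
  · by_contra h0
    have h0' : m = 0 := by omega
    have h2 := Subgroup.card_le_of_le c.Z₁_le_C
    rw [c.hZ₁card, hm, h0', pow_zero] at h2
    have := hp.out.one_lt
    omega
  · rw [hm] at h1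
    have h3 : p ^ (m + 3) = p ^ n := by rw [← h1]; ring
    exact (Nat.pow_right_injective hp.out.two_le h3).symm

/-- The key cyclic subgroup in the case `D ≠ ⊤`. -/
theorem exists_rho (hp2 : p ≠ 2) (hK : IsPGroup p K)
    (hrk : ∀ B : Subgroup K, IsMulCommutative B → (∀ x ∈ B, x ^ p = 1) → Nat.card B ≤ p ^ 2)
    (hD : c.D ≠ ⊤) (m : ℕ) (hm : Nat.card c.C = p ^ m) :
    ∃ ρ : K, ρ ∈ c.T ∧ ρ ∉ c.D ∧ orderOf ρ = p ^ (m + 1) ∧ c.C ≤ Subgroup.zpowers ρ ∧
      ∀ t ∈ Subgroup.zpowers ρ, t ^ p = 1 → t ∈ c.Z₁ := by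
  have hTn := c.T_normal
  have hDn := c.D_normal
  have hCn := c.C_normal
  have hDidx := c.D_index hK hD hrk
  -- an element of `E` outside `Z_L`
  obtain ⟨e₀, he₀E, he₀Z⟩ : ∃ e ∈ c.E, e ∉ c.ZL := by
    by_contra hcon
    push Not at hcon
    have h1 := Subgroup.card_le_of_le (show c.E ≤ c.ZL from hcon)
    rw [c.hEcard, c.card_ZL hK hD] at h1
    have h2 : p ^ 2 < p ^ 3 := Nat.pow_lt_pow_right hp.out.one_lt (by norm_num)
    omega
  -- an element of `T` outside `D`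
  obtain ⟨r, hrT, hrD⟩ : ∃ r ∈ c.T, r ∉ c.D := by
    by_contra hcon
    push Not at hcon
    apply hD
    rw [eq_top_iff]
    intro g _
    obtain ⟨i, t, ht, hgt⟩ := c.decomp_K hK hD hrk he₀E he₀Z g
    rw [hgt]
    exact c.D.mul_mem (c.D.pow_mem (c.E_le_D he₀E) i) (hcon t ht)
  -- `r ^ p ∈ C`
  have hrpC : r ^ p ∈ c.C := by
    set l := ⁅e₀, r⁆ with hl
    have hlZL : l ∈ c.ZL := c.comm_mem_ZL hK he₀E r
    have hlr : l * r = r * l := Subgroup.mem_centralizer_iff.mp hrT l hlZL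
    have hconj : e₀ * r * e₀⁻¹ = l * r := by rw [hl, commutatorElement_def]; group
    have hlp : l ^ p = 1 := c.hEexp l (c.ZL_le_E hlZL)
    have h1 : e₀ * r ^ p * e₀⁻¹ = r ^ p := by
      rw [← conj_pow, hconj, (show Commute l r from hlr).mul_pow, hlp, one_mul]
    have h2 : e₀ * r ^ p = r ^ p * e₀ := by
      calc e₀ * r ^ p = (e₀ * r ^ p * e₀⁻¹) * e₀ := by group
        _ = r ^ p * e₀ := by rw [h1]
    have hrpT : r ^ p ∈ c.T := c.T.pow_mem hrT p
    unfold ESC.C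
    rw [Subgroup.mem_centralizer_iff]
    intro x hx
    obtain ⟨i, y, hy, hxy⟩ := c.decomp_E hK hD hrk he₀E he₀Z hx
    have hc1 : Commute (e₀ ^ i) (r ^ p) := (show Commute e₀ (r ^ p) from h2).pow_left i
    have hc2 : Commute y (r ^ p) := Subgroup.mem_centralizer_iff.mp hrpT y hy
    rw [hxy]
    exact (hc1.mul_left hc2).eq
  -- the subgroup `Q`
  set Q : Subgroup K := Subgroup.zpowers r ⊔ c.C with hQ
  have hrQ : r ∈ Q := (le_sup_left : Subgroup.zpowers r ≤ Q) (Subgroup.mem_zpowers r)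
  have hCQ : c.C ≤ Q := le_sup_right
  have hQT : Q ≤ c.T := sup_le (Subgroup.zpowers_le.mpr hrT) c.C_le_T
  have hQdec : ∀ u ∈ Q, ∃ i : ℕ, ∃ c' ∈ c.C, u = r ^ i * c' := by
    intro u hu
    have h1 : u ∈ ((Subgroup.zpowers r ⊔ c.C : Subgroup K) : Set K) := hu
    rw [Subgroup.mul_normal] at h1
    obtain ⟨a, ha, b, hb, hab⟩ := h1
    obtain ⟨i, hi⟩ := (Submonoid.mem_powers_iff _ _).mp (mem_powers_iff_mem_zpowers.mpr ha)
    exact ⟨i, b, hb, by rw [hi]; exact hab.symm⟩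
  have hQD : c.D ⊓ Q = c.C := by
    apply le_antisymm
    · rintro u ⟨huD, huQ⟩
      obtain ⟨i, c', hc', rfl⟩ := hQdec u huQ
      have h1 : r ^ i ∈ c.D := by
        have : r ^ i = (r ^ i * c') * c'⁻¹ := by group
        rw [this]
        exact c.D.mul_mem huD (c.D.inv_mem (c.C_le_D hc'))
      obtain ⟨j, rfl⟩ := dvd_of_pow_mem_of_index_prime c.D hDidx r hrD i h1
      rw [pow_mul]
      exact c.C.mul_mem (c.C.pow_mem hrpC j) hc'
    · exact le_inf c.C_le_D hCQ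
  have hQZ : ∀ t ∈ Q, t ^ p = 1 → t ∈ c.Z₁ := by
    intro t htQ htp
    have h1 : t ∈ c.ZL := c.T_inf_E hK hD hrk (hQT htQ) htp
    have h2 : t ∈ c.C := by
      rw [← hQD]
      exact ⟨c.E_le_D (c.ZL_le_E h1), htQ⟩
    rw [← c.E_inf_C]
    exact ⟨c.ZL_le_E h1, h2⟩
  have hQcyc : IsCyclic Q := c.isCyclic_of_forall_mem_Z₁ hp2 hK Q hQZ
  -- the order of `Q`
  have hQcard : Nat.card Q = p ^ (m + 1) := by
    have h1 : Nat.card Q = Nat.card (c.D ⊓ Q : Subgroup K) * (c.D ⊓ Q).relIndex Q :=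
      card_eq_mul_relIndex inf_le_right
    rw [Subgroup.inf_relIndex_right, hQD, hm] at h1
    have h2 : c.D.relIndex Q ∣ p := by
      have h3 := Subgroup.relIndex_dvd_index_of_normal c.D Q
      rwa [hDidx] at h3
    rcases (Nat.dvd_prime hp.out).mp h2 with h | h
    · exfalso
      exact hrD ((Subgroup.relIndex_eq_one.mp h) hrQ)
    · rw [h1, h, pow_succ]
  obtain ⟨g, hg⟩ := hQcyc.exists_generator
  have hgo : orderOf (g : K) = p ^ (m + 1) := by
    rw [Subgroup.orderOf_coe, orderOf_eq_card_of_forall_mem_zpowers hg, hQcard]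
  have hgQ : Subgroup.zpowers (g : K) = Q := by
    apply Subgroup.eq_of_le_of_card_ge (Subgroup.zpowers_le.mpr g.2)
    rw [Nat.card_zpowers, hgo, hQcard]
  refine ⟨(g : K), hQT g.2, ?_, hgo, ?_, ?_⟩
  · intro hgD
    apply hrD
    have : Q ≤ c.D := by rw [← hgQ]; exact Subgroup.zpowers_le.mpr hgD
    exact this hrQ
  · rw [hgQ]; exact hCQ
  · rw [hgQ]; exact hQZ

end ESC

end Cfsg.Agent.Lib.Helper73.R2A
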