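import Mathlib
import Cfsg.Agent.Lib.Helper73.R2A4

/-!
# S3888 MODULE R2-A, part 5: the case `D ≠ ⊤` (type (c)) and the main theorem
-/

set_option autoImplicit false

open scoped commutatorElement

namespace Cfsg.Agent.Lib.Helper73.R2A

open Cfsg.Agent.Lib.Helper24

universe u

section conj

variable {K : Type u} [Group K]

/-- conjugation `u ↦ g⁻¹ u g` -/
def cj (g u : K) : K := g⁻¹ * u * g

theorem cj_mul (g u v : K) : cj g (u * v) = cj g u * cj g v := by unfold cj; group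

theorem cj_pow (g u : K) (a : ℕ) : cj g (u ^ a) = cj g u ^ a := by
  induction a with
  | zero => unfold cj; simp
  | succ a ih => rw [pow_succ, cj_mul, ih, pow_succ]

theorem cj_pow_succ (g u : K) (a : ℕ) : cj (g ^ (a + 1)) u = cj g (cj (g ^ a) u) := by
  unfold cj; rw [pow_succ]; group

theorem cj_central (g u : K) (h : g * u = u * g) : cj g u = u := by
  unfold cj
  rw [mul_assoc, ← h]; group

/-- the action of the powers of `x` when `x` acts by `ρ ↦ ρ y`, `y ↦ y ζ`, `ζ` central -/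
theorem cj_pow_formulas (x ρ y ζ : K) (hρ : cj x ρ = ρ * y) (hy : cj x y = y * ζ)
    (hζ : ∀ g : K, g * ζ = ζ * g) (a : ℕ) :
    cj (x ^ a) y = y * ζ ^ a ∧ cj (x ^ a) ρ = ρ * y ^ a * ζ ^ (a.choose 2) := by
  have hζx : cj x ζ = ζ := cj_central x ζ (hζ x)
  have hyζ : Commute y ζ := hζ y
  induction a with
  | zero => unfold cj; simp
  | succ a ih =>
    obtain ⟨ih1, ih2⟩ := ih
    constructor
    · rw [cj_pow_succ, ih1, cj_mul, cj_pow, hy, hζx, pow_succ]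
      group
    · rw [cj_pow_succ, ih2, cj_mul, cj_mul, cj_pow, cj_pow, hρ, hy, hζx, hyζ.mul_pow]
      have hch : (a + 1).choose 2 = a + a.choose 2 := by
        rw [show (2 : ℕ) = 1 + 1 from rfl, Nat.choose_succ_succ, Nat.choose_one_right]
      have e1 : ζ ^ (a + 1).choose 2 = ζ ^ a * ζ ^ a.choose 2 := by rw [hch, pow_add]
      have e2 : y ^ (a + 1) = y * y ^ a := pow_succ' y a
      rw [e1, e2]
      group

end conj

variable {p : ℕ} [hp : Fact p.Prime] {K : Type u} [Group K] [Finite K]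

include hp

namespace ESC

variable (c : ESC p K)

/-- generation in the case `D ≠ ⊤` -/
theorem closure_eq_top (hK : IsPGroup p K)
    (hrk : ∀ B : Subgroup K, IsMulCommutative B → (∀ x ∈ B, x ^ p = 1) → Nat.card B ≤ p ^ 2)
    (hD : c.D ≠ ⊤) {x y ρ : K} (hxE : x ∈ c.E) (hxZ : x ∉ c.ZL) (hyZL : y ∈ c.ZL)
    (hyZ : y ∉ c.Z₁) (hρT : ρ ∈ c.T) (hρD : ρ ∉ c.D) (hCρ : c.C ≤ Subgroup.zpowers ρ) :
    Subgroup.closure ({x, y, ρ} : Set K) = ⊤ := by
  have hDn := c.D_normal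
  have hDidx := c.D_index hK hD hrk
  set H := Subgroup.closure ({x, y, ρ} : Set K) with hH
  have hxH : x ∈ H := Subgroup.subset_closure (by simp)
  have hyH : y ∈ H := Subgroup.subset_closure (by simp)
  have hρH : ρ ∈ H := Subgroup.subset_closure (by simp)
  have hCH : c.C ≤ H := hCρ.trans (Subgroup.zpowers_le.mpr hρH)
  have hZLH : c.ZL ≤ H := by
    intro t ht
    obtain ⟨j, w, hw, rfl⟩ := c.decomp_ZL hK hD hyZL hyZ ht
    exact H.mul_mem (H.pow_mem hyH j) (hCH (c.Z₁_le_C hw))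
  have hTH : c.T ≤ H := by
    intro t ht
    obtain ⟨i, d, hd, rfl⟩ := exists_pow_mul_of_index_prime c.D hDidx ρ hρD t
    refine H.mul_mem (H.pow_mem hρH i) ?_
    have hdT : d ∈ c.T := by
      have : d = (ρ ^ i)⁻¹ * (ρ ^ i * d) := by group
      rw [this]
      exact c.T.mul_mem (c.T.inv_mem (c.T.pow_mem hρT i)) ht
    obtain ⟨y', hy', c', hc', rfl⟩ := c.decomp_T₀ hK hD hrk hdT hd
    exact H.mul_mem (hZLH hy') (hCH hc')
  rw [eq_top_iff]
  intro g _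
  obtain ⟨i, t, ht, rfl⟩ := c.decomp_K hK hD hrk hxE hxZ g
  exact H.mul_mem (H.pow_mem hxH i) (hTH ht)


theorem caseC (hp2 : p ≠ 2) (n : ℕ) (hG : Nat.card K = p ^ n) (hK : IsPGroup p K)
    (hrk : ∀ B : Subgroup K, IsMulCommutative B → (∀ x ∈ B, x ^ p = 1) → Nat.card B ≤ p ^ 2)
    (hD : c.D ≠ ⊤) :
    4 ≤ n ∧ ∃ (s : ℕ) (x y z : K), (s = 1 ∨ ¬ IsSquare (s : ZMod p)) ∧
      Subgroup.closure ({x, y, z} : Set K) = ⊤ ∧ x ^ p = 1 ∧ y ^ p = 1 ∧ z ^ p ^ (n - 2) = 1 ∧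
      y * z = z * y ∧ x⁻¹ * y * x = y * z ^ (s * p ^ (n - 3)) ∧ x⁻¹ * z * x = y * z := by
  obtain ⟨m, hm1, rfl, hm⟩ := c.card_C_of_D_ne_top n hG hK hrk hD
  refine ⟨by omega, ?_⟩
  obtain ⟨ρ, hρT, hρD, hρo, hCρ, hρZ⟩ := c.exists_rho hp2 hK hrk hD m hm
  have hTn := c.T_normal
  have hEn := c.hEn
  obtain ⟨hZ₁eq, hwo⟩ := c.Z₁_eq_zpowers ρ m hρo hρZ
  set w := ρ ^ p ^ m with hw
  have e2 : m + 3 - 2 = m + 1 := by omega
  have e3 : m + 3 - 3 = m := by omega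
  rw [e2, e3]
  have hρpow : ρ ^ p ^ (m + 1) = 1 := by rw [← hρo]; exact pow_orderOf_eq_one ρ
  -- the element `x`
  obtain ⟨e, heE, hel⟩ : ∃ e ∈ c.E, ⁅e, ρ⁆ ∉ c.Z₁ := by
    by_contra hcon
    push Not at hcon
    exact hρD hcon
  obtain ⟨x, hxE, helx⟩ : ∃ x ∈ c.E, ⁅x⁻¹, ρ⁆ ∉ c.Z₁ :=
    ⟨e⁻¹, c.E.inv_mem heE, by rwa [inv_inv]⟩
  have hxZL : x ∉ c.ZL := by
    intro h
    exact helx ((c.ZL.inv_mem h).2 ρ)
  have hxp : x ^ p = 1 := c.hEexp x hxE
  have hxT : x ∉ c.T := fun h => hxZL (c.T_inf_E hK hD hrk h hxp)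
  -- the element `y`
  set y := ρ⁻¹ * x⁻¹ * ρ * x with hy
  have hyE : y ∈ c.E := by
    have h1 : ρ⁻¹ * x⁻¹ * ρ ∈ c.E := by
      have := hEn.conj_mem x⁻¹ (c.E.inv_mem hxE) ρ⁻¹
      rwa [inv_inv] at this
    rw [hy]
    exact c.E.mul_mem h1 hxE
  have hyT : y ∈ c.T := by
    have h1 : x⁻¹ * ρ * x ∈ c.T := by
      have := hTn.conj_mem ρ hρT x⁻¹
      rwa [inv_inv] at this
    have e : y = ρ⁻¹ * (x⁻¹ * ρ * x) := by rw [hy]; group
    rw [e]
    exact c.T.mul_mem (c.T.inv_mem hρT) h1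
  have hyp : y ^ p = 1 := c.hEexp y hyE
  have hyZL : y ∈ c.ZL := c.T_inf_E hK hD hrk hyT hyp
  have hyZ : y ∉ c.Z₁ := by
    intro h
    apply helx
    have e1 : ⁅x⁻¹, ρ⁆ = ρ * y * ρ⁻¹ := by
      rw [commutatorElement_def, hy]; group
    rw [e1, c.z_comm h ρ, mul_inv_cancel_right]
    exact h
  have hyρ : y * ρ = ρ * y := Subgroup.mem_centralizer_iff.mp hρT y hyZL
  -- the element `ζ`
  set ζ := y⁻¹ * x⁻¹ * y * x with hζ
  have hζZ : ζ ∈ c.Z₁ := by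
    have h1 := c.hEcomm y⁻¹ (c.E.inv_mem hyE) x⁻¹ (c.E.inv_mem hxE)
    have e : ⁅y⁻¹, x⁻¹⁆ = ζ := by rw [commutatorElement_def, hζ]; group
    rwa [e] at h1
  have hζc : ∀ g : K, g * ζ = ζ * g := fun g => c.z_comm hζZ g
  have hζ1 : ζ ≠ 1 := by
    intro h1
    have hyx : y * x = x * y := by
      have e : y * x = x * y * ζ := by rw [hζ]; group
      rw [e, h1, mul_one]
    apply hxT
    unfold ESC.T
    rw [Subgroup.mem_centralizer_iff]
    intro t ht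
    obtain ⟨j, w', hw', rfl⟩ := c.decomp_ZL hK hD hyZL hyZ ht
    have hc1 : Commute (y ^ j) x := (show Commute y x from hyx).pow_left j
    have hc2 : Commute w' x := (c.z_comm hw' x).symm
    exact (hc1.mul_left hc2).eq
  have hζw : ζ ∈ Subgroup.zpowers w := by rw [← hZ₁eq]; exact hζZ
  obtain ⟨k, hk⟩ := (Submonoid.mem_powers_iff _ _).mp (mem_powers_iff_mem_zpowers.mpr hζw)
  have hkp : ¬ p ∣ k := by
    rintro ⟨k', rfl⟩
    apply hζ1
    rw [← hk, pow_mul, ← hwo, pow_orderOf_eq_one, one_pow]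
  -- the basic relations
  have hcjρ : cj x ρ = ρ * y := by unfold cj; rw [hy]; group
  have hcjy : cj x y = y * ζ := by unfold cj; rw [hζ]; group
  by_cases hsq : IsSquare (k : ZMod p)
  · -- rescale `x`
    obtain ⟨r0, hr0⟩ := hsq
    have hk0 : (k : ZMod p) ≠ 0 := by
      rw [Ne, ZMod.natCast_eq_zero_iff]; exact hkp
    have hr00 : r0 ≠ 0 := by
      rintro rfl
      rw [mul_zero] at hr0
      exact hk0 hr0
    set a := (r0⁻¹).val with ha
    have hacast : (a : ZMod p) = r0⁻¹ := by rw [ha, ZMod.natCast_zmod_val]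
    have hap : ¬ p ∣ a := by
      rw [← ZMod.natCast_eq_zero_iff, hacast]
      exact inv_ne_zero hr00
    have hmod : k * a ^ 2 ≡ 1 [MOD p] := by
      rw [← ZMod.natCast_eq_natCast_iff]
      push_cast
      rw [hacast, hr0]
      field_simp
    obtain ⟨f1, f2⟩ := cj_pow_formulas x ρ y ζ hcjρ hcjy hζc a
    set x' := x ^ a with hx'
    set y' := y ^ a * ζ ^ (a.choose 2) with hy'
    have hx'E : x' ∈ c.E := c.E.pow_mem hxE a
    have hx'T : x' ∉ c.T := fun h => hap ((pow_mem_iff_dvd c.T x hxp hxT a).mp h)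
    have hx'ZL : x' ∉ c.ZL := fun h => hx'T (c.ZL_le_T hK hD h)
    have hy'ZL : y' ∈ c.ZL :=
      c.ZL.mul_mem (c.ZL.pow_mem hyZL a) (c.ZL.pow_mem (c.Z₁_le_ZL hζZ) _)
    have hy'Z : y' ∉ c.Z₁ := by
      intro h
      have h1 : y ^ a ∈ c.Z₁ := by
        have e : y ^ a = y' * (ζ ^ (a.choose 2))⁻¹ := by rw [hy']; group
        rw [e]
        exact c.Z₁.mul_mem h (c.Z₁.inv_mem (c.Z₁.pow_mem hζZ _))
      exact hap ((pow_mem_iff_dvd c.Z₁ y hyp hyZ a).mp h1)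
    have hy'ρ : y' * ρ = ρ * y' := Subgroup.mem_centralizer_iff.mp hρT y' hy'ZL
    have hζa : ζ ^ (a * a) = w := by
      rw [← hk, ← pow_mul]
      have h1 : w ^ (k * (a * a)) = w ^ 1 := by
        rw [pow_eq_pow_iff_modEq, hwo]
        have : k * (a * a) = k * a ^ 2 := by ring
        rw [this]; exact hmod
      rw [h1, pow_one]
    refine ⟨1, x', y', ρ, Or.inl rfl, ?_, c.hEexp x' hx'E, c.hEexp y' (c.ZL_le_E hy'ZL), hρpow,
      hy'ρ, ?_, ?_⟩
    · exact c.closure_eq_top hK hrk hD hx'E hx'ZL hy'ZL hy'Z hρT hρD hCρ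
    · -- `x'⁻¹ y' x' = y' ζ^(a²)`
      have h1 : cj x' y' = y' * ζ ^ (a * a) := by
        rw [hy', cj_mul, cj_pow, cj_pow, f1, cj_central x' ζ (hζc x'),
          (show Commute y (ζ ^ a) from (show Commute y ζ from hζc y).pow_right a).mul_pow, ← pow_mul]
        have hc : Commute (ζ ^ (a * a)) (ζ ^ a.choose 2) := (Commute.refl ζ).pow_pow _ _
        rw [mul_assoc, hc.eq, ← mul_assoc]
      have h2 : x'⁻¹ * y' * x' = cj x' y' := rfl
      rw [h2, h1, hζa, one_mul]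
    · have h2 : x'⁻¹ * ρ * x' = cj x' ρ := rfl
      rw [h2, f2, mul_assoc, ← hy', hy'ρ]
  · refine ⟨k, x, y, ρ, Or.inr hsq, ?_, hxp, hyp, hρpow, hyρ, ?_, ?_⟩
    · exact c.closure_eq_top hK hrk hD hxE hxZL hyZL hyZ hρT hρD hCρ
    · have h2 : x⁻¹ * y * x = cj x y := rfl
      rw [h2, hcjy, mul_comm k, pow_mul, ← hw, hk]
    · have h2 : x⁻¹ * ρ * x = cj x ρ := rfl
      rw [h2, hcjρ, hyρ]

end ESC

end Cfsg.Agent.Lib.Helper73.R2A
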