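import Mathlib
import Cfsg.Agent.Lib.Helper73.R2A5

/-!
# S3888 MODULE R2-A (for helper70): odd `p`-groups of rank at most two with a normal subgroup of
order `p ^ 3` and exponent `p` are of type (b) or (c)
-/

set_option autoImplicit false

namespace Cfsg.Agent.Lib.Helper73.R2A

universe u

theorem rank_two_caseA {G : Type u} [Group G] [Finite G] {p : ℕ} [Fact p.Prime] (hp : p ≠ 2) (n : ℕ) (hG : Nat.card G = p ^ n) (hrk : Cfsg.PRankLE p 2 G) (E : Subgroup G) (hEn : E.Normal) (hEc : Nat.card E = p ^ 3) (hEe : ∀ x ∈ E, x ^ p = 1) :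
    (3 ≤ n ∧ ∃ x y z : G, Subgroup.closure ({x, y, z} : Set G) = ⊤ ∧ x ^ p = 1 ∧ y ^ p = 1 ∧ z ^ p ^ (n - 2) = 1 ∧ x * z = z * x ∧ y * z = z * y ∧ x⁻¹ * y * x = y * z ^ p ^ (n - 3)) ∨
    (4 ≤ n ∧ ∃ (s : ℕ) (x y z : G), (s = 1 ∨ ¬ IsSquare (s : ZMod p)) ∧ Subgroup.closure ({x, y, z} : Set G) = ⊤ ∧ x ^ p = 1 ∧ y ^ p = 1 ∧ z ^ p ^ (n - 2) = 1 ∧ y * z = z * y ∧ x⁻¹ * y * x = y * z ^ (s * p ^ (n - 3)) ∧ x⁻¹ * z * x = y * z) := by
  have hK : IsPGroup p G := IsPGroup.of_card hG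
  obtain ⟨c, -⟩ := exists_ESC hK hrk E hEn hEc hEe
  by_cases hD : c.D = ⊤
  · left
    exact caseB hp n hG hK hrk c hD
  · right
    exact c.caseC hp n hG hK hrk hD

end Cfsg.Agent.Lib.Helper73.R2A
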