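import Cfsg.Agent.Lib.Helper73.Scn3Fpf2

/-!
(helper73) `2`-groups without normal abelian subgroups of rank `3` with odd automorphisms: a maximal
invariant normal abelian subgroup of exponent at least four with a nontrivial action is self-centralizing.
-/

set_option autoImplicit false

namespace Cfsg.Agent.Lib.Helper73.Scn3

open Subgroup
open scoped commutatorElement

variable {X : Type*} [Group X] {A : Subgroup (MulAut X)}

theorem comm_mul_right_of' {g x y : X} (h : x * ⁅g, y⁆ = ⁅g, y⁆ * x) :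
    ⁅g, x * y⁆ = ⁅g, x⁆ * ⁅g, y⁆ := by
  have h1 : ⁅g, x * y⁆ = ⁅g, x⁆ * (x * ⁅g, y⁆ * x⁻¹) := by
    simp only [commutatorElement_def]; group
  rw [h1, h, mul_inv_cancel_right]

theorem comm_mul_left_of' {x y g : X} (h : x * ⁅y, g⁆ = ⁅y, g⁆ * x) :
    ⁅x * y, g⁆ = ⁅y, g⁆ * ⁅x, g⁆ := by
  have h1 : ⁅x * y, g⁆ = x * ⁅y, g⁆ * x⁻¹ * ⁅x, g⁆ := by
    simp only [commutatorElement_def]; group
  rw [h1, h, mul_inv_cancel_right]

/-- the square of a product -/
theorem sq_mul_eq (n m : X) : (n * m) ^ 2 = n ^ 2 * ⁅n⁻¹, m⁆ * m ^ 2 := by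
  simp only [commutatorElement_def, pow_two]; group

namespace EData

variable {U W : Subgroup X} {τ : MulAut X} {j : ℕ}

/-- the subgroup is self-centralizing -/
theorem self_centralizing [Finite X] (ed : EData X A U W τ j) :
    ∀ g : X, (∀ u ∈ U, g * u = u * g) → g ∈ U := by
  have : Fact (Nat.Prime 2) := ⟨Nat.prime_two⟩
  have bd := ed.bd
  have hs := bd.hs
  have hUn : U.Normal := bd.Un
  by_contra hcon
  push Not at hcon
  obtain ⟨g₀, hg₀c, hg₀U⟩ := hcon
  set C := centralizer (U : Set X) with hC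
  have hCn : C.Normal := inferInstance
  have hCU : ¬ C ≤ U := by
    intro h
    apply hg₀U
    apply h
    rw [hC, mem_centralizer_iff]
    intro u hu
    exact (hg₀c u hu).symm
  have hUC : U ≤ C := by
    intro u hu
    rw [hC, mem_centralizer_iff]
    intro v hv
    exact bd.Uc v hv u hu
  set N := sqCen U ⊓ C with hN
  have hUN : U ≤ N := le_inf (le_sqCen U) hUC
  have hNn : N.Normal := normal_of_le_cenMod U N hUN (fun g hg => hg.1.2)
  have hNi : ∀ σ ∈ A, ∀ b ∈ N, σ b ∈ N := by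
    intro σ hσ b hb
    refine ⟨sqCen_apply_mem U σ (bd.Ui σ hσ) hb.1, ?_⟩
    change σ b ∈ centralizer (U : Set X)
    rw [mem_centralizer_iff]
    intro u hu
    have h1 : σ⁻¹ u ∈ U :=
      inv_apply_mem σ (Nat.card A) hs.odd (hs.pow_card hσ) U (bd.Ui σ hσ) u hu
    have h2 := mem_centralizer_iff.mp hb.2 _ h1
    have h3 := congrArg σ h2
    simpa using h3
  -- elementwise facts
  have hcomm : ∀ n ∈ N, ∀ u ∈ U, n * u = u * n := fun n hn u hu =>
    (mem_centralizer_iff.mp hn.2 u hu).symm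
  have hsq : ∀ n ∈ N, n ^ 2 ∈ U := fun n hn => hn.1.1
  have hcU : ∀ n ∈ N, ∀ x : X, ⁅n, x⁆ ∈ U := fun n hn x => hn.1.2 x
  have hcW : ∀ n ∈ N, ∀ m ∈ N, ⁅n, m⁆ ∈ W := by
    intro n hn m hm
    apply bd.Wmem _ (hcU n hn m)
    have h1 : ⁅n, m * m⁆ = ⁅n, m⁆ * ⁅n, m⁆ := comm_mul_right_of' (hcomm m hm _ (hcU n hn m))
    have h2 : ⁅n, m * m⁆ = 1 := by
      rw [commutatorElement_eq_one_iff_mul_comm, ← pow_two]
      exact hcomm n hn _ (hsq m hm)
    rw [pow_two, ← h1, h2]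
  -- the power map
  have hQW : ∀ n ∈ N, (n ^ 2) ^ 2 ^ (j + 1) ∈ W := fun n hn => ed.pi_mem (hsq n hn)
  have hQmul : ∀ n ∈ N, ∀ m ∈ N,
      ((n * m) ^ 2) ^ 2 ^ (j + 1) = (n ^ 2) ^ 2 ^ (j + 1) * (m ^ 2) ^ 2 ^ (j + 1) := by
    intro n hn m hm
    have hc := hcW n⁻¹ (N.inv_mem hn) m hm
    rw [sq_mul_eq, ed.pi_mul (U.mul_mem (hsq n hn) (bd.WU hc)) (hsq m hm),
      ed.pi_mul (hsq n hn) (bd.WU hc), ed.pi_W hc, mul_one]
  have hQU : ∀ u ∈ U, (u ^ 2) ^ 2 ^ (j + 1) = 1 := by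
    intro u hu
    rw [← pow_mul, ← pow_succ']
    exact ed.exp u hu
  have hQinv : ∀ n ∈ N, ((n⁻¹) ^ 2) ^ 2 ^ (j + 1) = ((n ^ 2) ^ 2 ^ (j + 1))⁻¹ := by
    intro n hn
    rw [inv_pow, inv_pow]
  have hQσ : ∀ σ : MulAut X, ∀ n : X, ((σ n) ^ 2) ^ 2 ^ (j + 1) = σ ((n ^ 2) ^ 2 ^ (j + 1)) := by
    intro σ n
    rw [map_pow, map_pow]
  obtain ⟨n, hnC, hnU, hnS⟩ := exists_sqCen_not_mem hs.two U C hCn hCU
  have hnN : n ∈ N := ⟨hnS, hnC⟩
  by_cases hK : ∃ m ∈ N, m ∉ U ∧ (m ^ 2) ^ 2 ^ (j + 1) = 1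
  · -- an involution outside `U`
    obtain ⟨m, hmN, hmU, hmQ⟩ := hK
    obtain ⟨y, hy, hy2⟩ := ed.sq_surj _ (hsq m hmN) hmQ
    set t := m * y⁻¹ with ht
    have htN : t ∈ N := N.mul_mem hmN (hUN (U.inv_mem hy))
    have htU : t ∉ U := by
      intro h
      apply hmU
      have : m = t * y := by rw [ht, inv_mul_cancel_right]
      rw [this]
      exact U.mul_mem h hy
    have ht2 : t ^ 2 = 1 := by
      have h1 : Commute m y⁻¹ := hcomm m hmN _ (U.inv_mem hy)
      rw [ht, h1.mul_pow, inv_pow, hy2, mul_inv_cancel]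
    have htW : ∀ x : X, ⁅t, x⁆ ∈ W := by
      intro x
      have hcU' := hcU t htN x
      apply bd.Wmem _ hcU'
      set c := ⁅t, x⁆ with hc
      have h1 : c⁻¹ * t = x * t * x⁻¹ := by
        rw [hc]; simp only [commutatorElement_def]; group
      have h2 : (c⁻¹ * t) ^ 2 = 1 := by
        rw [h1, conj_pow, ht2, mul_one, mul_inv_cancel]
      have h3 : Commute c⁻¹ t := (hcomm t htN _ (U.inv_mem hcU')).symm
      rw [h3.mul_pow, ht2, mul_one, inv_pow, inv_eq_one] at h2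
      exact h2
    exact htU (bd.WU (hs.mem_of_sq_eq_one W bd.Wc bd.W2 bd.W4 ht2 htW))
  · push Not at hK
    have hKU : ∀ m ∈ N, (m ^ 2) ^ 2 ^ (j + 1) = 1 → m ∈ U := by
      intro m hm hQ
      by_contra hmU
      exact hK m hm hmU hQ
    set a := (n ^ 2) ^ 2 ^ (j + 1) with ha
    have haW : a ∈ W := hQW n hnN
    have ha1 : a ≠ 1 := fun h => hnU (hKU n hnN h)
    have hτn : τ n ∈ N := hNi τ bd.τA n hnN
    have hnτn : n * τ n ∈ N := N.mul_mem hnN hτn
    -- the elements of `N`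
    have helems : ∀ m ∈ N, ∃ y u, u ∈ U ∧ m = y * u ∧
        (y = 1 ∨ y = n ∨ y = τ n ∨ y = n * τ n) := by
      intro m hm
      have key : ∀ y ∈ N, (m ^ 2) ^ 2 ^ (j + 1) = (y ^ 2) ^ 2 ^ (j + 1) → y⁻¹ * m ∈ U := by
        intro y hy h
        apply hKU _ (N.mul_mem (N.inv_mem hy) hm)
        rw [hQmul _ (N.inv_mem hy) _ hm, hQinv y hy, h, inv_mul_cancel]
      rcases bd.W_elems haW ha1 _ (hQW m hm) with h | h | h | h
      · exact ⟨1, m, hKU m hm h, by rw [one_mul], Or.inl rfl⟩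
      · exact ⟨n, n⁻¹ * m, key n hnN h, by rw [mul_inv_cancel_left], Or.inr (Or.inl rfl)⟩
      · exact ⟨τ n, (τ n)⁻¹ * m, key _ hτn (by rw [h, hQσ]), by rw [mul_inv_cancel_left],
          Or.inr (Or.inr (Or.inl rfl))⟩
      · exact ⟨n * τ n, (n * τ n)⁻¹ * m, key _ hnτn (by rw [h, hQmul n hnN _ hτn, hQσ]),
          by rw [mul_inv_cancel_left], Or.inr (Or.inr (Or.inr rfl))⟩
    -- `τ (τ n)`
    obtain ⟨u₁, hu₁, hττ⟩ : ∃ u₁ ∈ U, τ (τ n) = n * τ n * u₁ := by
      have hm : τ (τ n) ∈ N := hNi τ bd.τA _ hτn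
      refine ⟨(n * τ n)⁻¹ * τ (τ n), ?_, by rw [mul_inv_cancel_left]⟩
      apply hKU _ (N.mul_mem (N.inv_mem hnτn) hm)
      rw [hQmul _ (N.inv_mem hnτn) _ hm, hQinv _ hnτn, hQmul n hnN _ hτn, hQσ, hQσ, hQσ, ← ha,
        bd.tau_tau_W haW, inv_mul_cancel]
    -- `n` and `τ n` commute
    have hc1 : ⁅n, τ n⁆ = 1 := by
      have hcW' := hcW n hnN _ hτn
      apply bd.fpfW hcW'
      have hcen : ∀ w ∈ W, ∀ x : X, x * w = w * x := fun w hw x => mem_center_iff.mp (bd.Wc hw) x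
      rw [map_commutatorElement, hττ]
      have h1 : ⁅τ n, n * τ n * u₁⁆ = ⁅τ n, n * τ n⁆ * ⁅τ n, u₁⁆ :=
        comm_mul_right_of' (hcen _ (hcW _ hτn _ (hUN hu₁)) _)
      have h2 : ⁅τ n, u₁⁆ = 1 := by
        rw [commutatorElement_eq_one_iff_mul_comm]
        exact hcomm _ hτn _ hu₁
      have h3 : ⁅τ n, n * τ n⁆ = ⁅τ n, n⁆ * ⁅τ n, τ n⁆ :=
        comm_mul_right_of' (hcen _ (hcW _ hτn _ hτn) _)
      rw [h1, h2, mul_one, h3, commutatorElement_self, mul_one, ← commutatorElement_inv,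
        bd.W_inv hcW']
    have hnτ : Commute n (τ n) := commutatorElement_eq_one_iff_mul_comm.mp hc1
    -- `N` is abelian
    have hcn : ∀ m ∈ N, Commute m n := by
      intro m hm
      obtain ⟨y, u, hu, rfl, hy⟩ := helems m hm
      have hun : Commute u n := (hcomm n hnN u hu).symm
      rcases hy with h | h | h | h <;> rw [h]
      · exact (Commute.one_left n).mul_left hun
      · exact (Commute.refl n).mul_left hun
      · exact hnτ.symm.mul_left hun
      · exact ((Commute.refl n).mul_left hnτ.symm).mul_left hun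
    have hcτn : ∀ m ∈ N, Commute m (τ n) := by
      intro m hm
      obtain ⟨y, u, hu, rfl, hy⟩ := helems m hm
      have hun : Commute u (τ n) := (hcomm _ hτn u hu).symm
      rcases hy with h | h | h | h <;> rw [h]
      · exact (Commute.one_left _).mul_left hun
      · exact hnτ.mul_left hun
      · exact (Commute.refl _).mul_left hun
      · exact (hnτ.mul_left (Commute.refl _)).mul_left hun
    have hNc : ∀ x ∈ N, ∀ y ∈ N, x * y = y * x := by
      intro x hx m hm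
      obtain ⟨y, u, hu, rfl, hy⟩ := helems m hm
      have hxu : Commute x u := hcomm x hx u hu
      rcases hy with h | h | h | h <;> rw [h]
      · exact (Commute.one_right x).mul_right hxu
      · exact (hcn x hx).mul_right hxu
      · exact (hcτn x hx).mul_right hxu
      · exact ((hcn x hx).mul_right (hcτn x hx)).mul_right hxu
    have := bd.Umax N hNn hNc hNi hUN
    exact hnU (this ▸ hnN)

end EData

end Cfsg.Agent.Lib.Helper73.Scn3
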