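import Cfsg.Agent.Lib.Helper73.Scn3C

/-!
(helper73) `2`-groups without normal abelian subgroups of rank `3` with odd automorphisms: the
self-centralizing case of exponent four.
-/

set_option autoImplicit false

namespace Cfsg.Agent.Lib.Helper73.Scn3

open Subgroup
open scoped commutatorElement

variable {X : Type*} [Group X] {A : Subgroup (MulAut X)}

/-- an element all of whose commutators are central commutes with the commutator subgroup -/
theorem commute_commutator_of {v : X} (hv : ∀ x : X, ⁅v, x⁆ ∈ center X) :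
    ∀ d ∈ commutator X, v * d = d * v := by
  intro d hd
  have hker : commutator X ≤ (Cfsg.Agent.Lib.Helper86.commHom v hv).ker := by
    rw [_root_.commutator_def, Subgroup.commutator_le]
    intro a _ b _
    rw [MonoidHom.mem_ker, map_commutatorElement, commutatorElement_eq_one_iff_mul_comm,
      Cfsg.Agent.Lib.Helper86.commHom_apply, Cfsg.Agent.Lib.Helper86.commHom_apply]
    exact mem_center_iff.mp (hv b) _
  exact (Cfsg.Agent.Lib.Helper86.mem_commHom_ker v hv d).mp (hker hd)

theorem comm_pow_right_of {v : X} (hv : ∀ x : X, ⁅v, x⁆ ∈ center X) (x : X) (m : ℕ) :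
    ⁅v, x ^ m⁆ = ⁅v, x⁆ ^ m := by
  rw [← Cfsg.Agent.Lib.Helper86.commHom_apply v hv, map_pow, Cfsg.Agent.Lib.Helper86.commHom_apply]

namespace CData

variable {U W : Subgroup X} {τ : MulAut X}

/-- the case of exponent four -/
theorem caseB34 [Finite X] (cd : CData X A U W τ 0) :
    Cfsg.IsSpecial 2 X ∧ Nat.card X = 64 ∧ Nat.card {x : X // orderOf x = 2} = 3 ∧
      ∀ x : X, orderOf x = 2 → x ∈ center X := by
  have : Fact (Nat.Prime 2) := ⟨Nat.prime_two⟩
  have ed := cd.ed
  have bd := ed.bd
  have hs := bd.hs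
  have hWn : W.Normal := bd.Wn
  have hcen : ∀ w ∈ W, ∀ x : X, x * w = w * x := fun w hw x => mem_center_iff.mp (bd.Wc hw) x
  have hsqU : ∀ u ∈ U, u ^ 2 ∈ W := by
    intro u hu
    have := ed.pi_mem hu
    simpa using this
  have hcW : ∀ u ∈ U, ∀ x : X, ⁅u, x⁆ ∈ W := fun u hu x =>
    bd.Wmem _ (bd.comm_mem_U hu x) (bd.comm_pow hu x 2 (bd.Wc (hsqU u hu)))
  have hXU : commutator X ≤ U := by
    intro d hd
    apply cd.cent
    intro u hu
    exact (commute_commutator_of (fun g => bd.Wc (hcW u hu g)) d hd).symm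
  have hos : ∀ v ∈ U, ∀ g : X, ⁅v, g⁆ = 1 → ⁅τ v, g⁆ = 1 := fun v hv g h =>
    cd.os U ⊤ le_rfl (fun v hv => bd.tau_U hv) (fun g _ => mem_top _) (fun v hv g _ => hcW v hv g)
      (fun g _ v hv => by
        rw [commutatorElement_eq_one_iff_mul_comm]
        exact bd.Uc v hv _ (cd.orbit_mem U hXU g)) hv (mem_top g) h
  have hcentv : ∀ v ∈ U, v ^ 2 ≠ 1 → ∀ g : X, ⁅v, g⁆ = 1 → g ∈ U := by
    intro v hv hv2 g hg
    have hg' := hos v hv g hg
    have c1 : Commute g v := (commutatorElement_eq_one_iff_mul_comm.mp hg).symm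
    have c2 : Commute g (τ v) := (commutatorElement_eq_one_iff_mul_comm.mp hg').symm
    apply cd.cent
    intro u hu
    obtain ⟨z, hz, hze, hzu⟩ := ed.U_elems hv (by simpa using hv2) u hu
    have hzW : z ∈ W := bd.Wmem z hz (by simpa using hze)
    have c0 : Commute g z := hcen z hzW g
    rcases hzu with h | h | h | h <;> rw [h]
    · exact c0
    · exact c0.mul_right c1
    · exact c0.mul_right c2
    · exact c0.mul_right (c1.mul_right c2)
  have hsq : ∀ x : X, x ^ 2 ∈ W := by
    intro x
    by_cases hx : x ∈ U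
    · exact hsqU x hx
    have hx2U : x ^ 2 ∈ U := by
      apply cd.cent
      intro u hu
      have h1 : ⁅u, x ^ 2⁆ = ⁅u, x⁆ ^ 2 := comm_pow_right_of (fun g => bd.Wc (hcW u hu g)) x 2
      have h2 : ⁅u, x ^ 2⁆ = 1 := by rw [h1]; exact bd.W2 _ (hcW u hu x)
      exact (commutatorElement_eq_one_iff_mul_comm.mp h2).symm
    apply bd.Wmem _ hx2U
    by_contra h
    apply hx
    apply hcentv (x ^ 2) hx2U h x
    rw [commutatorElement_eq_one_iff_mul_comm, pow_two, mul_assoc]
  have hXW : commutator X ≤ W := by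
    rw [_root_.commutator_def, Subgroup.commutator_le]
    intro x _ y _
    have : ⁅x, y⁆ = x ^ 2 * (x⁻¹ * y) ^ 2 * (y ^ 2)⁻¹ := by
      simp only [commutatorElement_def, pow_two]; group
    rw [this]
    exact W.mul_mem (W.mul_mem (hsq x) (hsq _)) (W.inv_mem (hsq y))
  have hΦ : frattini X ≤ W := Cfsg.Agent.Lib.Helper86.frattini_le_of_quotient_elemAb 2 W hXW hsq
  have hZW : center X = W := by
    apply le_antisymm _ bd.Wc
    intro z hz
    have hzU := hs.center_le_of_max bd.Un bd.Uc bd.Ui bd.Umax hz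
    apply bd.Wmem z hzU
    by_contra h
    obtain ⟨x, y, hxy⟩ := hs.nab
    apply hxy
    have hall : ∀ g : X, g ∈ U := fun g => hcentv z hzU h g (by
      rw [commutatorElement_eq_one_iff_mul_comm]
      exact (mem_center_iff.mp hz g).symm)
    exact bd.Uc x (hall x) y (hall y)
  have st := bd.star_of_frattini_le hZW hΦ
  have h4 : Nat.card (center X) = 4 := by rw [hZW]; exact bd.W4
  -- the order
  have hU16 : Nat.card U = 16 := by
    let π : U →* X := MonoidHom.mk' (fun u => (u : X) ^ 2)
      (fun a b => (show Commute (a : X) b from bd.Uc a a.2 b b.2).mul_pow 2)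
    have h1 : Nat.card π.ker * Nat.card π.range = Nat.card U := by
      rw [← Subgroup.index_ker]; exact Subgroup.card_mul_index _
    have hr : π.range = W := by
      apply le_antisymm
      · rintro _ ⟨u, rfl⟩
        exact hsqU u u.2
      · intro w hw
        obtain ⟨u, hu, hue⟩ := ed.surj w hw
        refine ⟨⟨u, hu⟩, ?_⟩
        change u ^ 2 = w
        simpa using hue
    have hk : Nat.card π.ker = Nat.card W := by
      apply Nat.card_congr
      exact
        { toFun := fun u => ⟨u.1.1, bd.Wmem _ u.1.2 (MonoidHom.mem_ker.mp u.2)⟩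
          invFun := fun w => ⟨⟨w.1, bd.WU w.2⟩, MonoidHom.mem_ker.mpr (bd.W2 w.1 w.2)⟩
          left_inv := fun u => rfl
          right_inv := fun w => rfl }
    rw [hk, hr, bd.W4] at h1
    omega
  have hUtop : U ≠ ⊤ := by
    intro h
    obtain ⟨x, y, hxy⟩ := hs.nab
    exact hxy (bd.Uc x (h ▸ mem_top x) y (h ▸ mem_top y))
  have hi1 : U.index ≠ 1 := fun h => hUtop (Subgroup.index_eq_one.mp h)
  have hi2 : U.index ≠ 2 := by
    intro h
    apply hUtop
    apply hs.gen
    intro σ hσ x
    rw [Subgroup.mul_mem_iff_of_index_two h, inv_mem_iff]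
    constructor
    · exact bd.Ui σ hσ x
    · intro hx
      have := inv_apply_mem σ (Nat.card A) hs.odd (hs.pow_card hσ) U (bd.Ui σ hσ) _ hx
      simpa using this
  have h64 : Nat.card X = 64 := by
    apply le_antisymm (hs.card_le_64 st h4)
    obtain ⟨k, hk⟩ := hs.two.exists_card_eq
    have hdvd : U.index ∣ 2 ^ k := hk ▸ Subgroup.index_dvd_card U
    obtain ⟨i, -, hie⟩ := (Nat.dvd_prime_pow Nat.prime_two).mp hdvd
    have hi : 2 ≤ i := by
      by_contra hcon
      push Not at hcon
      interval_cases i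
      · exact hi1 (by simpa using hie)
      · exact hi2 (by simpa using hie)
    have h5 : 2 ^ 2 ≤ U.index := by
      rw [hie]
      exact Nat.pow_le_pow_right (by norm_num) hi
    have h6 := Subgroup.card_mul_index U
    rw [hU16] at h6
    rw [← h6]
    omega
  exact hs.special_four st h4 h64

end CData

end Cfsg.Agent.Lib.Helper73.Scn3
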