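import Cfsg.Agent.Lib.Helper73.Scn3B34

/-!
(helper73) `2`-groups without normal abelian subgroups of rank `3` with odd automorphisms: the
self-centralizing case of exponent at least eight does not occur.
-/

set_option autoImplicit false

namespace Cfsg.Agent.Lib.Helper73.Scn3

open Subgroup
open scoped commutatorElement

variable {X : Type*} [Group X] {A : Subgroup (MulAut X)}

namespace CData

variable {U W : Subgroup X} {τ : MulAut X} {j : ℕ}

/-- the case of exponent at least eight -/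
theorem caseB38 [Finite X] (cd : CData X A U W τ (j + 1)) : False := by
  have : Fact (Nat.Prime 2) := ⟨Nat.prime_two⟩
  have ed := cd.ed
  have bd := ed.bd
  have hs := bd.hs
  have hUn : U.Normal := bd.Un
  have hcen : ∀ w ∈ W, ∀ x : X, x * w = w * x := fun w hw x => mem_center_iff.mp (bd.Wc hw) x
  have he : 2 ^ (j + 1 + 1) = 4 * 2 ^ j := by ring
  -- the elements of order at most four
  let U₂ : Subgroup X :=
    { carrier := {u | u ∈ U ∧ u ^ 4 = 1}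
      one_mem' := ⟨U.one_mem, one_pow 4⟩
      mul_mem' := by
        rintro a b ⟨ha, ha4⟩ ⟨hb, hb4⟩
        exact ⟨U.mul_mem ha hb, by
          rw [(show Commute a b from bd.Uc a ha b hb).mul_pow, ha4, hb4, one_mul]⟩
      inv_mem' := by
        rintro a ⟨ha, ha4⟩
        exact ⟨U.inv_mem ha, by rw [inv_pow, ha4, inv_one]⟩ }
  have hU₂U : U₂ ≤ U := fun u hu => hu.1
  have hU₂τ : ∀ v ∈ U₂, τ v ∈ U₂ := fun v hv =>
    ⟨bd.tau_U hv.1, by rw [← map_pow, hv.2, map_one]⟩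
  have hsq₂ : ∀ v ∈ U₂, v ^ 2 ∈ W := fun v hv =>
    bd.Wmem _ (U.pow_mem hv.1 2) (by rw [← pow_mul]; exact hv.2)
  have hcW₂ : ∀ v ∈ U₂, ∀ x : X, ⁅v, x⁆ ∈ W := fun v hv x =>
    bd.Wmem _ (bd.comm_mem_U hv.1 x) (bd.comm_pow hv.1 x 2 (bd.Wc (hsq₂ v hv)))
  have hcW₂' : ∀ v ∈ U₂, ∀ x : X, ⁅x, v⁆ ∈ W := fun v hv x => by
    rw [← commutatorElement_inv]
    exact W.inv_mem (hcW₂ v hv x)
  have hπ₂ : ∀ c ∈ U₂, c ^ 2 ^ (j + 1 + 1) = 1 := fun c hc => by
    rw [he, pow_mul, hc.2, one_pow]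
  -- the centralizer of `U₂`
  set C₂ := centralizer (U₂ : Set X) with hC₂
  have hmemC₂ : ∀ g : X, g ∈ C₂ ↔ ∀ v ∈ U₂, v * g = g * v := fun g => mem_centralizer_iff
  have hXC₂ : commutator X ≤ C₂ := by
    intro d hd
    rw [hmemC₂]
    intro v hv
    exact commute_commutator_of (fun g => bd.Wc (hcW₂ v hv g)) d hd
  have hos₂ : ∀ v ∈ U₂, ∀ g : X, ⁅v, g⁆ = 1 → ⁅τ v, g⁆ = 1 := fun v hv g h =>
    cd.os U₂ ⊤ hU₂U hU₂τ (fun g _ => mem_top _) (fun v hv g _ => hcW₂ v hv g)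
      (fun g _ v hv => by
        rw [commutatorElement_eq_one_iff_mul_comm]
        exact (hmemC₂ _).mp (cd.orbit_mem C₂ hXC₂ g) v hv) hv (mem_top g) h
  have hdich : ∀ v ∈ U₂, v ^ 2 ≠ 1 → ∀ g : X, ⁅v, g⁆ = 1 → g ∈ C₂ := by
    intro v hv hv2 g hg
    have hg' := hos₂ v hv g hg
    have c1 : Commute v g := commutatorElement_eq_one_iff_mul_comm.mp hg
    have c2 : Commute (τ v) g := commutatorElement_eq_one_iff_mul_comm.mp hg'
    rw [hmemC₂]
    intro u hu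
    have key : ∀ y ∈ U₂, Commute y g → u ^ 2 = y ^ 2 → Commute u g := by
      intro y hy hyg h
      have hz : u * y⁻¹ ∈ W := by
        apply bd.Wmem _ (U.mul_mem hu.1 (U.inv_mem hy.1))
        rw [(show Commute u y⁻¹ from bd.Uc u hu.1 _ (U.inv_mem hy.1)).mul_pow, inv_pow, h,
          mul_inv_cancel]
      have : u = (u * y⁻¹) * y := by rw [inv_mul_cancel_right]
      rw [this]
      exact (show Commute (u * y⁻¹) g from (hcen _ hz g).symm).mul_left hyg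
    rcases bd.W_elems (hsq₂ v hv) hv2 _ (hsq₂ u hu) with h | h | h | h
    · exact key 1 U₂.one_mem (Commute.one_left g) (by rw [h, one_pow])
    · exact key v hv c1 h
    · exact key (τ v) (hU₂τ v hv) c2 (by rw [h, map_pow])
    · exact key (v * τ v) (U₂.mul_mem hv (hU₂τ v hv)) (c1.mul_left c2) (by
        rw [h, (show Commute v (τ v) from bd.Uc v hv.1 _ (bd.tau_U hv.1)).mul_pow, map_pow])
  -- the elements of order at most two modulo `U`
  set N := sqCen U with hN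
  have hNτ : ∀ n ∈ N, τ n ∈ N := fun n hn =>
    sqCen_apply_mem U τ (fun u hu => bd.tau_U hu) hn
  have hsq : ∀ n ∈ N, n ^ 2 ∈ U := fun n hn => hn.1
  have hcU : ∀ n ∈ N, ∀ x : X, ⁅n, x⁆ ∈ U := fun n hn x => hn.2 x
  have hδmul : ∀ n : X, ∀ u ∈ U, ∀ v ∈ U, ⁅n, u * v⁆ = ⁅n, u⁆ * ⁅n, v⁆ := fun n u hu v hv =>
    comm_mul_right_of' (bd.Uc u hu _ (bd.comm_mem_U' hv n))
  have hδpow : ∀ n : X, ∀ u ∈ U, ∀ m : ℕ, ⁅n, u ^ m⁆ = ⁅n, u⁆ ^ m := by
    intro n u hu m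
    induction m with
    | zero => simp
    | succ m ih => rw [pow_succ, hδmul n _ (U.pow_mem hu m) u hu, ih, pow_succ]
  have hδinv : ∀ n : X, ∀ u ∈ U, ⁅n, u⁻¹⁆ = (⁅n, u⁆)⁻¹ := by
    intro n u hu
    have := hδmul n u hu u⁻¹ (U.inv_mem hu)
    rw [mul_inv_cancel, commutatorElement_one_right] at this
    exact eq_inv_of_mul_eq_one_right this.symm
  have hrel : ∀ n ∈ N, ∀ u ∈ U, ⁅n, ⁅n, u⁆⁆ * ⁅n, u⁆ ^ 2 = 1 := by
    intro n hn u hu
    have hd : ⁅n, u⁆ ∈ U := bd.comm_mem_U' hu n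
    have h1 : ⁅n, ⁅n, u⁆ * u⁆ * (⁅n, u⁆ * u) = n ^ 2 * u * (n ^ 2)⁻¹ := by
      simp only [commutatorElement_def, pow_two]; group
    have h2 : n ^ 2 * u * (n ^ 2)⁻¹ = u := by
      rw [bd.Uc _ (hsq n hn) u hu, mul_inv_cancel_right]
    rw [h2, hδmul n _ hd u hu] at h1
    have h3 : ⁅n, ⁅n, u⁆⁆ * ⁅n, u⁆ * ⁅n, u⁆ = 1 := by
      have : ⁅n, ⁅n, u⁆⁆ * ⁅n, u⁆ * (⁅n, u⁆ * u) = (⁅n, ⁅n, u⁆⁆ * ⁅n, u⁆ * ⁅n, u⁆) * u := by
        group
      rw [this] at h1
      exact mul_eq_right.mp h1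
    rw [pow_two, ← mul_assoc]
    exact h3
  -- an element of order four which is a square
  obtain ⟨a, haW, ha1⟩ : ∃ a ∈ W, a ≠ 1 := by
    by_contra hcon
    push Not at hcon
    have : W = ⊥ := (eq_bot_iff_forall W).mpr hcon
    have h4 := bd.W4
    rw [this, Subgroup.card_bot] at h4
    omega
  obtain ⟨u₁, hu₁, hu₁e⟩ := ed.surj a haW
  set u₃ := u₁ ^ 2 ^ j with hu₃
  have hu₃U : u₃ ∈ U := U.pow_mem hu₁ _
  have hu₃4 : u₃ ^ 4 = a := by
    rw [hu₃, ← pow_mul, mul_comm, ← he]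
    exact hu₁e
  have hu₃8 : u₃ ^ 8 = 1 := by
    rw [show 8 = 4 * 2 from rfl, pow_mul, hu₃4]
    exact bd.W2 a haW
  set v := u₃ ^ 2 with hv
  have hvU₂ : v ∈ U₂ := ⟨U.pow_mem hu₃U 2, by rw [hv, ← pow_mul]; exact hu₃8⟩
  have hv2 : v ^ 2 = a := by rw [hv, ← pow_mul]; exact hu₃4
  have hv21 : v ^ 2 ≠ 1 := by rw [hv2]; exact ha1
  -- elements of `N` outside `C₂` invert `v`
  have hinv : ∀ n ∈ N, n ∉ C₂ → ⁅n, v⁆ = v ^ 2 := by
    intro n hn hnC
    have hd : ⁅n, u₃⁆ ∈ U₂ :=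
      ⟨bd.comm_mem_U' hu₃U n, bd.comm_pow' hu₃U n 4 (bd.Wc (hu₃4 ▸ haW))⟩
    have h1 := hrel n hn u₃ hu₃U
    have h2 : ⁅n, u₃⁆ ^ 2 = ⁅n, v⁆ := (hδpow n u₃ hu₃U 2).symm
    set y := ⁅n, u₃⁆ * v⁻¹ with hy
    have hyU₂ : y ∈ U₂ := U₂.mul_mem hd (U₂.inv_mem hvU₂)
    have hδy : ⁅n, y⁆ = 1 := by
      rw [hy, hδmul n _ hd.1 _ (U.inv_mem hvU₂.1), hδinv n v hvU₂.1]
      have h3 : ⁅n, ⁅n, u₃⁆⁆ = (⁅n, v⁆)⁻¹ := by
        rw [← h2]
        exact eq_inv_of_mul_eq_one_left h1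
      rw [h3, ← mul_inv_rev, inv_eq_one, ← pow_two]
      exact bd.W2 _ (hcW₂' v hvU₂ n)
    have hy2 : y ^ 2 = 1 := by
      by_contra h
      apply hnC
      apply hdich y hyU₂ h n
      rw [← commutatorElement_inv, hδy, inv_one]
    have h4 : ⁅n, u₃⁆ = y * v := by rw [hy, inv_mul_cancel_right]
    rw [← h2, h4, (show Commute y v from bd.Uc y hyU₂.1 v hvU₂.1).mul_pow, hy2, one_mul]
  have hconj : ∀ n ∈ N, n ∉ C₂ → n * v * n⁻¹ = v⁻¹ := by
    intro n hn hnC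
    have h1 := hinv n hn hnC
    have h2 : n * v * n⁻¹ = ⁅n, v⁆ * v := by simp only [commutatorElement_def]; group
    rw [h2, h1]
    have : v ^ 2 * v * v = 1 := by
      rw [mul_assoc, ← pow_two, ← pow_add]
      exact hvU₂.2
    exact eq_inv_of_mul_eq_one_left this
  have hC₂τ : ∀ g ∈ C₂, τ g ∈ C₂ := by
    intro g hg
    rw [hmemC₂] at hg ⊢
    intro v' hv'
    have h1 := hg _ (hU₂τ _ (hU₂τ _ hv'))
    have h2 := congrArg τ h1
    rw [map_mul, map_mul, cd.cube] at h2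
    exact h2
  have hNC₂ : N ≤ C₂ := by
    intro n hn
    by_contra hnC
    have hτn : τ n ∉ C₂ := by
      intro h
      apply hnC
      have := hC₂τ _ (hC₂τ _ h)
      rwa [cd.cube] at this
    have hττn : τ (τ n) ∉ C₂ := by
      intro h
      apply hτn
      have := hC₂τ _ (hC₂τ _ h)
      rwa [cd.cube] at this
    have c0 := hconj n hn hnC
    have c1 := hconj _ (hNτ n hn) hτn
    have c2 := hconj _ (hNτ _ (hNτ n hn)) hττn
    have h1 : n⁻¹ * v⁻¹ * n = v := by rw [← c0]; group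
    have key : ∀ m : X, m * v * m⁻¹ = v⁻¹ → n⁻¹ * m ∈ C₂ := by
      intro m hm
      apply hdich v hvU₂ hv21
      rw [commutatorElement_eq_one_iff_mul_comm]
      have h2 : m * v = v⁻¹ * m := by rw [← hm]; group
      calc v * (n⁻¹ * m) = (n⁻¹ * v⁻¹ * n) * (n⁻¹ * m) := by rw [h1]
        _ = n⁻¹ * (v⁻¹ * m) := by group
        _ = n⁻¹ * (m * v) := by rw [h2]
        _ = n⁻¹ * m * v := by group
    apply hnC
    exact cd.mem_of_fixed' C₂ hXC₂ (key _ c1) (key _ c2)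
  -- commutators of `N` with `U` lie in `W`
  have hUNW : ∀ n ∈ N, ∀ u ∈ U, ⁅n, u⁆ ∈ W := by
    intro n hn u hu
    set d := ⁅n, u⁆ with hd
    have hdU : d ∈ U := bd.comm_mem_U' hu n
    apply bd.Wmem d hdU
    have hδd : ⁅n, d⁆ = (d ^ 2)⁻¹ := eq_inv_of_mul_eq_one_left (hrel n hn u hu)
    have hnC := hNC₂ hn
    have hstep : ∀ i : ℕ, d ^ 2 ^ (i + 2) = 1 → d ^ 2 ^ (i + 1) = 1 := by
      intro i hi
      have h1 : d ^ 2 ^ i ∈ U₂ := ⟨U.pow_mem hdU _, by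
        rw [← pow_mul, show (4 : ℕ) = 2 ^ 2 from rfl, ← pow_add]
        exact hi⟩
      have h2 : ⁅n, d ^ 2 ^ i⁆ = 1 := by
        rw [commutatorElement_eq_one_iff_mul_comm]
        exact ((hmemC₂ n).mp hnC _ h1).symm
      rw [hδpow n d hdU, hδd, inv_pow, inv_eq_one, ← pow_mul, ← pow_succ'] at h2
      exact h2
    have hall : ∀ i : ℕ, d ^ 2 ^ (i + 1) = 1 → d ^ 2 = 1 := by
      intro i
      induction i with
      | zero =>
        intro h
        simpa using h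
      | succ i ih =>
        intro h
        exact ih (hstep i h)
    have h := ed.exp d hdU
    rw [show j + 1 + 2 = (j + 2) + 1 by omega] at h
    exact hall _ h
  -- commutators of `N`
  have hNN : ∀ n ∈ N, ∀ m ∈ N, ⁅n, m⁆ ∈ U₂ := by
    intro n hn m hm
    set c := ⁅n, m⁆ with hc
    have hcU' : c ∈ U := hcU n hn m
    refine ⟨hcU', ?_⟩
    have h1 : ⁅n, m * m⁆ = c * ⁅m, c⁆ * c := by
      rw [hc]; simp only [commutatorElement_def]; group
    have h2 : ⁅n, m * m⁆ ∈ W := by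
      rw [← pow_two]
      exact hUNW n hn _ (hsq m hm)
    have h3 : ⁅m, c⁆ ∈ W := hUNW m hm c hcU'
    have h4 : c * ⁅m, c⁆ * c = c ^ 2 * ⁅m, c⁆ := by
      rw [mul_assoc, ← hcen _ h3 c, ← mul_assoc, pow_two]
    have h5 : c ^ 2 ∈ W := by
      have : c ^ 2 = ⁅n, m * m⁆ * (⁅m, c⁆)⁻¹ := by rw [h1, h4, mul_inv_cancel_right]
      rw [this]
      exact W.mul_mem h2 (W.inv_mem h3)
    rw [show (4 : ℕ) = 2 * 2 from rfl, pow_mul]
    exact bd.W2 _ h5
  -- the power map on `N`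
  have hQW : ∀ n ∈ N, (n ^ 2) ^ 2 ^ (j + 1 + 1) ∈ W := fun n hn => ed.pi_mem (hsq n hn)
  have hQmul : ∀ n ∈ N, ∀ m ∈ N, ((n * m) ^ 2) ^ 2 ^ (j + 1 + 1) =
      (n ^ 2) ^ 2 ^ (j + 1 + 1) * (m ^ 2) ^ 2 ^ (j + 1 + 1) := by
    intro n hn m hm
    have hc := hNN n⁻¹ (N.inv_mem hn) m hm
    rw [sq_mul_eq, ed.pi_mul (U.mul_mem (hsq n hn) hc.1) (hsq m hm),
      ed.pi_mul (hsq n hn) hc.1, hπ₂ _ hc, mul_one]
  have hQσ : ∀ σ : MulAut X, ∀ n : X,
      ((σ n) ^ 2) ^ 2 ^ (j + 1 + 1) = σ ((n ^ 2) ^ 2 ^ (j + 1 + 1)) := by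
    intro σ n
    rw [map_pow, map_pow]
  have hker : ∀ m ∈ N, ∀ u ∈ U, u * (m * u * m⁻¹) = 1 → u ∈ W := by
    intro m hm u hu h
    have h1 : ⁅m, u⁆ = (u ^ 2)⁻¹ := by
      have : m * u * m⁻¹ = u⁻¹ := eq_inv_of_mul_eq_one_right h
      rw [commutatorElement_def, this, pow_two, mul_inv_rev]
    have h2 : (u ^ 2) ^ 2 = 1 := by
      have := bd.W2 _ (hUNW m hm u hu)
      rw [h1, inv_pow, inv_eq_one] at this
      exact this
    have hu₂ : u ∈ U₂ := ⟨hu, by rw [show (4 : ℕ) = 2 * 2 from rfl, pow_mul]; exact h2⟩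
    have h3 : m * u * m⁻¹ = u := by
      have := (hmemC₂ m).mp (hNC₂ hm) u hu₂
      rw [← this, mul_inv_cancel_right]
    rw [h3, ← pow_two] at h
    exact bd.Wmem u hu h
  have hUtop : ¬ (⊤ : Subgroup X) ≤ U := by
    intro h
    obtain ⟨x, y, hxy⟩ := hs.nab
    exact hxy (bd.Uc x (h (mem_top x)) y (h (mem_top y)))
  obtain ⟨n, -, hnU, hnN⟩ := exists_sqCen_not_mem hs.two U ⊤ inferInstance hUtop
  by_cases hK : ∃ m ∈ N, m ∉ U ∧ (m ^ 2) ^ 2 ^ (j + 1 + 1) = 1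
  · obtain ⟨m, hmN, hmU, hmQ⟩ := hK
    obtain ⟨y, hy, hψy⟩ : ∃ y ∈ U, y * (m * y * m⁻¹) = (m ^ 2)⁻¹ := by
      let π : U →* X := MonoidHom.mk' (fun u => (u : X) ^ 2 ^ (j + 1 + 1))
        (fun a b => ed.pi_mul a.2 b.2)
      let f : U →* U := MonoidHom.mk'
        (fun u => ⟨u * (m * u * m⁻¹), U.mul_mem u.2 (hUn.conj_mem u u.2 m)⟩) (by
          intro a b
          apply Subtype.ext
          change (a * b : X) * (m * (a * b) * m⁻¹) = (a * (m * a * m⁻¹)) * (b * (m * b * m⁻¹))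
          have h1 : m * (a * b : X) * m⁻¹ = (m * a * m⁻¹) * (m * b * m⁻¹) := by group
          have h2 : (b : X) * (m * a * m⁻¹) = (m * a * m⁻¹) * b :=
            bd.Uc _ b.2 _ (hUn.conj_mem a a.2 m)
          rw [h1]
          calc (a * b : X) * ((m * a * m⁻¹) * (m * b * m⁻¹))
              = a * (b * (m * a * m⁻¹)) * (m * b * m⁻¹) := by group
            _ = a * ((m * a * m⁻¹) * b) * (m * b * m⁻¹) := by rw [h2]
            _ = (a * (m * a * m⁻¹)) * (b * (m * b * m⁻¹)) := by group)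
      have hπf : ∀ u, π (f u) = 1 := by
        intro u
        change ((u : X) * (m * u * m⁻¹)) ^ 2 ^ (j + 1 + 1) = 1
        have hw := ed.pi_mem u.2
        rw [ed.pi_mul u.2 (hUn.conj_mem u u.2 m), conj_pow, hcen _ hw m, mul_inv_cancel_right,
          ← pow_two]
        exact bd.W2 _ hw
      have hW : W ≤ π.range := by
        intro w hw
        obtain ⟨u, hu, rfl⟩ := ed.surj w hw
        exact ⟨⟨u, hu⟩, rfl⟩
      have hkerc : Nat.card f.ker ≤ Nat.card W := by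
        apply Nat.card_le_card_of_injective (fun u : f.ker =>
          (⟨u.1.1, hker m hmN _ u.1.2 (by
            have := u.2
            rw [MonoidHom.mem_ker] at this
            exact congrArg Subtype.val this)⟩ : W))
        intro a b hab
        apply Subtype.ext
        apply Subtype.ext
        have h := congrArg Subtype.val hab
        exact h
      have hcard : Nat.card f.ker ≤ Nat.card π.range := hkerc.trans (Subgroup.card_le_of_le hW)
      obtain ⟨y, hy⟩ := endo_count π f hπf hcard ⟨(m ^ 2)⁻¹, U.inv_mem (hsq m hmN)⟩ (by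
        change ((m ^ 2)⁻¹) ^ 2 ^ (j + 1 + 1) = 1
        rw [inv_pow, hmQ, inv_one])
      exact ⟨y, y.2, congrArg Subtype.val hy⟩
    set t := m * y with ht
    have htN : t ∈ N := N.mul_mem hmN (le_sqCen U hy)
    have htU : t ∉ U := by
      intro h
      apply hmU
      have : m = t * y⁻¹ := by rw [ht, mul_inv_cancel_right]
      rw [this]
      exact U.mul_mem h (U.inv_mem hy)
    have ht2 : t ^ 2 = 1 := by
      have h1 : (m * y) ^ 2 = (m * y * m⁻¹) * (m ^ 2 * y) := by simp only [pow_two]; group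
      have h2 : m ^ 2 * y = y * m ^ 2 := bd.Uc _ (hsq m hmN) y hy
      have h3 : (m * y * m⁻¹) * y = y * (m * y * m⁻¹) := bd.Uc _ (hUn.conj_mem y hy m) y hy
      rw [ht, h1, h2, ← mul_assoc, h3, hψy, inv_mul_cancel]
    have htW : ∀ x : X, ⁅t, x⁆ ∈ W := by
      intro x
      have hcU' := hcU t htN x
      set c := ⁅t, x⁆ with hc
      have h1 : c⁻¹ * t = x * t * x⁻¹ := by
        rw [hc]; simp only [commutatorElement_def]; group
      have h2 : (c⁻¹ * t) ^ 2 = 1 := by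
        rw [h1, conj_pow, ht2, mul_one, mul_inv_cancel]
      have h3 : (c⁻¹ * t) ^ 2 = c⁻¹ * (t * c⁻¹ * t⁻¹) * t ^ 2 := by
        simp only [pow_two]; group
      rw [h3, ht2, mul_one] at h2
      have := hker t htN c⁻¹ (U.inv_mem hcU') h2
      have h4 := W.inv_mem this
      rwa [inv_inv] at h4
    exact htU (bd.WU (hs.mem_of_sq_eq_one W bd.Wc bd.W2 bd.W4 ht2 htW))
  · push Not at hK
    have hKU : ∀ m ∈ N, (m ^ 2) ^ 2 ^ (j + 1 + 1) = 1 → m ∈ U := by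
      intro m hm hQ
      by_contra hmU
      exact hK m hm hmU hQ
    have hv'U : n ^ 2 ∈ U := hsq n hnN
    have hv'e : (n ^ 2) ^ 2 ^ (j + 1 + 1) ≠ 1 := fun h => hnU (hKU n hnN h)
    have hPU : ∀ g ∈ N, g * τ g * τ (τ g) ∈ U := by
      intro g hg
      have hτg := hNτ g hg
      have hττg := hNτ _ hτg
      apply hKU _ (N.mul_mem (N.mul_mem hg hτg) hττg)
      rw [hQmul _ (N.mul_mem hg hτg) _ hττg, hQmul g hg _ hτg, hQσ, hQσ, hQσ]
      exact bd.orbit_W (hQW g hg)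
    have h1 : ⁅τ (n ^ 2), n⁆ = 1 := by
      apply cd.os U N le_rfl (fun u hu => bd.tau_U hu) hNτ
        (fun u hu g hg => by
          rw [← commutatorElement_inv]
          exact W.inv_mem (hUNW g hg u hu))
        (fun g hg u hu => by
          rw [commutatorElement_eq_one_iff_mul_comm]
          exact bd.Uc u hu _ (hPU g hg)) hv'U hnN
      rw [commutatorElement_eq_one_iff_mul_comm, pow_two, mul_assoc]
    have c1 : Commute n (n ^ 2) := (Commute.refl n).pow_right 2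
    have c2 : Commute n (τ (n ^ 2)) := (commutatorElement_eq_one_iff_mul_comm.mp h1).symm
    apply hnU
    apply cd.cent
    intro u hu
    obtain ⟨z, hz, hze, hzu⟩ := ed.U_elems hv'U hv'e u hu
    have c0 : Commute n z := by
      obtain ⟨y, hy, rfl⟩ := ed.sq_surj z hz hze
      have h2 : ⁅n, y ^ 2⁆ = 1 := by
        rw [hδpow n y hy 2]
        exact bd.W2 _ (hUNW n hnN y hy)
      exact commutatorElement_eq_one_iff_mul_comm.mp h2
    rcases hzu with h | h | h | h <;> rw [h]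
    · exact c0
    · exact c0.mul_right c1
    · exact c0.mul_right c2
    · exact c0.mul_right (c1.mul_right c2)

end CData

end Cfsg.Agent.Lib.Helper73.Scn3
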