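import Cfsg.Agent.Lib.Helper73.NoAb8Core6
import Cfsg.Agent.Lib.Helper24.SCN
import Cfsg.Agent.Lib.Helper24.NilAction

/-!
(helper73) `2`-groups without normal abelian subgroups of rank `3` admitting a group of automorphisms of
odd order without proper invariant normal subgroups with trivial action on the quotient: basic lemmas.
-/

set_option autoImplicit false

namespace Cfsg.Agent.Lib.Helper73.Scn3

open Subgroup
open scoped commutatorElement

/-- the setting -/
structure Setup (X : Type*) [Group X] (A : Subgroup (MulAut X)) : Prop where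
  two : IsPGroup 2 X
  odd : Odd (Nat.card A)
  gen : ∀ N : Subgroup X, (∀ σ ∈ A, ∀ x : X, x⁻¹ * σ x ∈ N) → N = ⊤
  rk : ∀ B : Subgroup X, B.Normal → (∀ x ∈ B, ∀ y ∈ B, x * y = y * x) →
    ∀ E : Subgroup X, E ≤ B → (∀ e ∈ E, e ^ 2 = 1) → Nat.card E ≤ 4
  nab : ∃ x y : X, x * y ≠ y * x

variable {X : Type*} [Group X] {A : Subgroup (MulAut X)}

namespace Setup

theorem pow_card (_hs : Setup X A) {σ : MulAut X} (hσ : σ ∈ A) : σ ^ Nat.card A = 1 := by
  have := pow_card_eq_one' (G := A) (x := ⟨σ, hσ⟩)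
  exact congrArg Subtype.val this

/-- fixed points modulo a subgroup containing the commutator subgroup are trivial -/
theorem mem_of_fixed [Finite X] (hs : Setup X A) (N : Subgroup X) (hN : commutator X ≤ N) {x : X}
    (hx : ∀ σ ∈ A, x⁻¹ * σ x ∈ N) : x ∈ N := by
  classical
  have : Fintype A := Fintype.ofFinite A
  let θ : X →* Abelianization X := ∏ σ : A, (Abelianization.of).comp ((σ : MulAut X).toMonoidHom)
  have hθ : ∀ y : X, θ y = ∏ σ : A, Abelianization.of ((σ : MulAut X) y) := by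
    intro y
    simp [θ]
  have hθτ : ∀ τ ∈ A, ∀ y : X, θ (τ y) = θ y := by
    intro τ hτ y
    rw [hθ, hθ]
    exact Fintype.prod_equiv (Equiv.mulRight (⟨τ, hτ⟩ : A)) _ _ (fun σ => by simp [MulAut.mul_apply])
  have hker := hs.gen θ.ker
    (fun σ hσ y => by rw [MonoidHom.mem_ker, map_mul, map_inv, hθτ σ hσ, inv_mul_cancel])
  have h1 : θ x = 1 := by
    have : x ∈ θ.ker := by rw [hker]; exact mem_top x
    exact this
  rw [hθ] at h1
  -- the image of `N` in the abelianization
  let N' : Subgroup (Abelianization X) := N.map Abelianization.of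
  have h2 : ∏ σ : A, Abelianization.of ((σ : MulAut X) x) =
      Abelianization.of x ^ Nat.card A * ∏ σ : A, Abelianization.of (x⁻¹ * (σ : MulAut X) x) := by
    have : ∀ σ : A, Abelianization.of ((σ : MulAut X) x) =
        Abelianization.of x * Abelianization.of (x⁻¹ * (σ : MulAut X) x) := by
      intro σ
      rw [← map_mul, mul_inv_cancel_left]
    rw [Finset.prod_congr rfl (fun σ _ => this σ), Finset.prod_mul_distrib, Finset.prod_const,
      Finset.card_univ, Nat.card_eq_fintype_card]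
  have h3 : ∏ σ : A, Abelianization.of (x⁻¹ * (σ : MulAut X) x) ∈ N' :=
    Subgroup.prod_mem _ (fun σ _ => mem_map_of_mem _ (hx σ σ.2))
  have h4 : Abelianization.of x ^ Nat.card A ∈ N' := by
    rw [h2] at h1
    have : Abelianization.of x ^ Nat.card A =
        (∏ σ : A, Abelianization.of (x⁻¹ * (σ : MulAut X) x))⁻¹ := eq_inv_of_mul_eq_one_left h1
    rw [this]
    exact inv_mem h3
  have h5 : x ^ Nat.card A ∈ N := by
    rw [← map_pow] at h4
    obtain ⟨n, hn, hnx⟩ := h4
    have h6 : n⁻¹ * x ^ Nat.card A ∈ commutator X := by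
      rw [← Abelianization.ker_of, MonoidHom.mem_ker, map_mul, map_inv, hnx, inv_mul_cancel]
    have : x ^ Nat.card A = n * (n⁻¹ * x ^ Nat.card A) := by group
    rw [this]
    exact mul_mem hn (hN h6)
  obtain ⟨k, hk⟩ := hs.two x
  have hcop : (Nat.card A).Coprime (orderOf x) := by
    have : orderOf x ∣ 2 ^ k := orderOf_dvd_of_pow_eq_one hk
    exact Nat.Coprime.coprime_dvd_right this (Nat.Coprime.pow_right k hs.odd.coprime_two_right)
  obtain ⟨m, hm⟩ := exists_pow_eq_self_of_coprime hcop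
  rw [← hm]
  exact Subgroup.pow_mem _ h5 m

/-- a normal subgroup fixed elementwise is central -/
theorem le_center_of_fixed (hs : Setup X A) (B : Subgroup X) (hBn : B.Normal)
    (hfix : ∀ σ ∈ A, ∀ b ∈ B, σ b = b) : B ≤ center X := by
  have h1 := hs.gen (centralizer (B : Set X)) (by
    intro σ hσ x
    rw [mem_centralizer_iff]
    intro b hb
    have h2 : σ (x * b * x⁻¹) = x * b * x⁻¹ := hfix σ hσ _ (hBn.conj_mem b hb x)
    rw [map_mul, map_mul, map_inv, hfix σ hσ b hb] at h2
    -- σ x * b * (σ x)⁻¹ = x * b * x⁻¹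
    have h3 : b * (x⁻¹ * σ x) = x⁻¹ * (x * b * x⁻¹) * σ x := by group
    rw [h3, ← h2]; group)
  intro b hb
  rw [mem_center_iff]
  intro g
  have : g ∈ centralizer (B : Set X) := h1 ▸ mem_top g
  exact (mem_centralizer_iff.mp this b hb).symm

end Setup

/-! ### Central elements modulo a normal subgroup -/

/-- the elements which are central modulo the normal subgroup `U` -/
def cenMod (U : Subgroup X) [hU : U.Normal] : Subgroup X where
  carrier := {g | ∀ x : X, ⁅g, x⁆ ∈ U}
  one_mem' := by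
    intro x
    rw [commutatorElement_one_left]
    exact U.one_mem
  mul_mem' := by
    intro g h hg hh x
    have : ⁅g * h, x⁆ = g * ⁅h, x⁆ * g⁻¹ * ⁅g, x⁆ := by
      simp only [commutatorElement_def]; group
    rw [this]
    exact U.mul_mem (hU.conj_mem _ (hh x) g) (hg x)
  inv_mem' := by
    intro g hg x
    have : ⁅g⁻¹, x⁆ = g⁻¹ * (⁅g, x⁆)⁻¹ * g⁻¹⁻¹ := by
      simp only [commutatorElement_def]; group
    rw [this]
    exact hU.conj_mem _ (U.inv_mem (hg x)) g⁻¹

theorem mem_cenMod (U : Subgroup X) [U.Normal] {g : X} : g ∈ cenMod U ↔ ∀ x : X, ⁅g, x⁆ ∈ U := Iff.rfl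

theorem mem_cenMod' (U : Subgroup X) [U.Normal] {g : X} (hg : g ∈ cenMod U) (x : X) : ⁅x, g⁆ ∈ U := by
  rw [← commutatorElement_inv]
  exact U.inv_mem (hg x)

/-- the elements which are central of order at most two modulo the normal subgroup `U` -/
def sqCen (U : Subgroup X) [hU : U.Normal] : Subgroup X where
  carrier := {g | g ^ 2 ∈ U ∧ g ∈ cenMod U}
  one_mem' := ⟨by rw [one_pow]; exact U.one_mem, (cenMod U).one_mem⟩
  mul_mem' := by
    rintro g h ⟨hg2, hg⟩ ⟨hh2, hh⟩
    refine ⟨?_, (cenMod U).mul_mem hg hh⟩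
    have : (g * h) ^ 2 = g ^ 2 * ⁅g⁻¹, h⁆ * h ^ 2 := by
      simp only [commutatorElement_def, pow_two]; group
    rw [this]
    exact U.mul_mem (U.mul_mem hg2 ((cenMod U).inv_mem hg h)) hh2
  inv_mem' := by
    rintro g ⟨hg2, hg⟩
    refine ⟨?_, (cenMod U).inv_mem hg⟩
    rw [inv_pow]
    exact U.inv_mem hg2

theorem mem_sqCen (U : Subgroup X) [U.Normal] {g : X} :
    g ∈ sqCen U ↔ g ^ 2 ∈ U ∧ ∀ x : X, ⁅g, x⁆ ∈ U := Iff.rfl

theorem le_cenMod (U : Subgroup X) [hU : U.Normal] : U ≤ cenMod U := by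
  intro u hu x
  have : ⁅u, x⁆ = u * (x * u⁻¹ * x⁻¹) := by simp only [commutatorElement_def]; group
  rw [this]
  exact U.mul_mem hu (hU.conj_mem _ (U.inv_mem hu) x)

theorem le_sqCen (U : Subgroup X) [hU : U.Normal] : U ≤ sqCen U :=
  fun u hu => ⟨U.pow_mem hu 2, le_cenMod U hu⟩

/-- a subgroup between `U` and `cenMod U` is normal -/
theorem normal_of_le_cenMod (U : Subgroup X) [U.Normal] (N : Subgroup X) (hUN : U ≤ N)
    (hN : N ≤ cenMod U) : N.Normal := by
  constructor
  intro n hn g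
  have : g * n * g⁻¹ = ⁅g, n⁆ * n := by simp only [commutatorElement_def]; group
  rw [this]
  exact N.mul_mem (hUN (mem_cenMod' U (hN hn) g)) hn

theorem cenMod_apply_mem (U : Subgroup X) [U.Normal] (σ : MulAut X) (hU : ∀ u ∈ U, σ u ∈ U)
    {g : X} (hg : g ∈ cenMod U) : σ g ∈ cenMod U := by
  intro x
  have h1 : ⁅σ g, x⁆ = σ ⁅g, σ⁻¹ x⁆ := by
    rw [map_commutatorElement]; simp
  rw [h1]
  exact hU _ (hg _)

theorem sqCen_apply_mem (U : Subgroup X) [U.Normal] (σ : MulAut X) (hU : ∀ u ∈ U, σ u ∈ U)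
    {g : X} (hg : g ∈ sqCen U) : σ g ∈ sqCen U := by
  refine ⟨?_, cenMod_apply_mem U σ hU hg.2⟩
  rw [← map_pow]
  exact hU _ hg.1

/-- below a normal subgroup not contained in the normal subgroup `Z` there is an element outside `Z`,
central modulo `Z` with square in `Z` -/
theorem exists_sqCen_not_mem [Finite X] (hX : IsPGroup 2 X) (Z K : Subgroup X) [Z.Normal]
    (hKn : K.Normal) (hKZ : ¬ K ≤ Z) : ∃ r ∈ K, r ∉ Z ∧ r ∈ sqCen Z := by
  have : Fact (Nat.Prime 2) := ⟨Nat.prime_two⟩
  have : Group.IsNilpotent X := hX.isNilpotent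
  obtain ⟨y, hyK, hyZ, hy⟩ := Cfsg.Agent.Lib.Helper24.exists_mem_not_mem_comm_mem Z ⊤ K
    (by rw [normalizer_eq_top]) hKZ
  have hyc : y ∈ cenMod Z := fun x => hy x (mem_top x)
  obtain ⟨k, hk⟩ := hX y
  obtain ⟨r, hr, hrZ, hr2⟩ := exists_zpowers_sq_mem k hk Z hyZ
  refine ⟨r, (zpowers_le.mpr hyK) hr, hrZ, hr2, (zpowers_le.mpr hyc) hr⟩

namespace Setup

/-- an involution which is central modulo a central four-group lies in the four-group -/
theorem mem_of_sq_eq_one [Finite X] (hs : Setup X A) (W : Subgroup X) (hWc : W ≤ center X)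
    (hW2 : ∀ w ∈ W, w ^ 2 = 1) (hW4 : Nat.card W = 4) {t : X} (ht : t ^ 2 = 1)
    (htn : ∀ x : X, ⁅t, x⁆ ∈ W) : t ∈ W := by
  by_contra htW
  have hWn : W.Normal := by
    constructor
    intro w hw g
    have := mem_center_iff.mp (hWc hw) g
    rw [this, mul_inv_cancel_right]
    exact hw
  set B := closure ((W : Set X) ∪ {t}) with hB
  have hBn : B.Normal := Cfsg.Agent.Lib.Helper24.adjoin_normal W t htn
  have hBeq : B = W ⊔ zpowers t := by
    rw [hB, Subgroup.closure_union, closure_eq, zpowers_eq_closure]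
  have hBc : ∀ x ∈ B, ∀ y ∈ B, x * y = y * x := by
    rw [hBeq]
    apply comm_sup
    · intro x hx y _
      exact (mem_center_iff.mp (hWc hx) y).symm
    · intro x hx y hy
      obtain ⟨i, rfl⟩ := mem_zpowers_iff.mp hx
      obtain ⟨j, rfl⟩ := mem_zpowers_iff.mp hy
      rw [← zpow_add, ← zpow_add, add_comm]
    · intro x hx y _
      exact (mem_center_iff.mp (hWc hx) y).symm
  -- the elements of square one form a subgroup of `B`
  let S : Subgroup X :=
    { carrier := {e | e ∈ B ∧ e ^ 2 = 1}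
      one_mem' := ⟨B.one_mem, one_pow 2⟩
      mul_mem' := by
        rintro a b ⟨ha, ha2⟩ ⟨hb, hb2⟩
        refine ⟨B.mul_mem ha hb, ?_⟩
        have h1 : a * b = b * a := hBc a ha b hb
        calc (a * b) ^ 2 = a * (b * a) * b := by rw [pow_two]; group
          _ = a * (a * b) * b := by rw [h1]
          _ = a ^ 2 * b ^ 2 := by rw [pow_two, pow_two]; group
          _ = 1 := by rw [ha2, hb2, one_mul]
      inv_mem' := by
        rintro a ⟨ha, ha2⟩
        exact ⟨B.inv_mem ha, by rw [inv_pow, ha2, inv_one]⟩ }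
  have hBS : B ≤ S := by
    rw [hB, closure_le]
    rintro e (he | he)
    · exact ⟨subset_closure (Or.inl he), hW2 e he⟩
    · rw [Set.mem_singleton_iff] at he; subst he
      exact ⟨subset_closure (Or.inr rfl), ht⟩
  have h1 := hs.rk B hBn hBc B le_rfl (fun e he => (hBS he).2)
  have h2 := Cfsg.Agent.Lib.Helper24.card_lt_card_adjoin W t htW
  rw [← hB] at h2
  omega

/-- a maximal invariant normal abelian subgroup -/
theorem exists_max [Finite X] (_hs : Setup X A) :
    ∃ U : Subgroup X, U.Normal ∧ (∀ x ∈ U, ∀ y ∈ U, x * y = y * x) ∧ (∀ σ ∈ A, ∀ u ∈ U, σ u ∈ U) ∧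
      ∀ B : Subgroup X, B.Normal → (∀ x ∈ B, ∀ y ∈ B, x * y = y * x) →
        (∀ σ ∈ A, ∀ b ∈ B, σ b ∈ B) → U ≤ B → B = U := by
  let S : Type _ := {B : Subgroup X // B.Normal ∧ (∀ x ∈ B, ∀ y ∈ B, x * y = y * x) ∧
    (∀ σ ∈ A, ∀ b ∈ B, σ b ∈ B)}
  have : Nonempty S := ⟨⟨⊥, inferInstance, fun x hx y hy => by
    rw [mem_bot.mp hx, mem_bot.mp hy], fun σ _ b hb => by rw [mem_bot.mp hb, map_one]; exact one_mem _⟩⟩
  obtain ⟨⟨U, hUn, hUc, hUi⟩, hmax⟩ := Finite.exists_max (fun B : S => Nat.card B.1)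
  refine ⟨U, hUn, hUc, hUi, fun B hBn hBc hBi hUB => ?_⟩
  have h1 := hmax ⟨B, hBn, hBc, hBi⟩
  exact (eq_of_le_of_card_ge hUB h1).symm

/-- the centre lies in every maximal invariant normal abelian subgroup -/
theorem center_le_of_max (_hs : Setup X A) {U : Subgroup X} (hUn : U.Normal)
    (hUc : ∀ x ∈ U, ∀ y ∈ U, x * y = y * x) (hUi : ∀ σ ∈ A, ∀ u ∈ U, σ u ∈ U)
    (hmax : ∀ B : Subgroup X, B.Normal → (∀ x ∈ B, ∀ y ∈ B, x * y = y * x) →
        (∀ σ ∈ A, ∀ b ∈ B, σ b ∈ B) → U ≤ B → B = U) : center X ≤ U := by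
  have h1 := hmax (center X ⊔ U) (Subgroup.sup_normal _ _)
    (comm_sup (fun x hx y _ => (mem_center_iff.mp hx y).symm) hUc
      (fun x hx y _ => (mem_center_iff.mp hx y).symm))
    (by
      intro σ hσ b hb
      have h2 : (center X ⊔ U).map σ.toMonoidHom ≤ center X ⊔ U := by
        rw [Subgroup.map_sup]
        apply sup_le_sup
        · rintro _ ⟨z, hz, rfl⟩
          exact center_apply_mem σ hz
        · rintro _ ⟨u, hu, rfl⟩
          exact hUi σ hσ u hu
      exact h2 (mem_map_of_mem _ hb))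
    le_sup_right
  rw [← h1]
  exact le_sup_left

/-- if the centre is a maximal invariant normal abelian subgroup then the Frattini subgroup is central -/
theorem frattini_le_center [Finite X] (hs : Setup X A)
    (hmax : ∀ B : Subgroup X, B.Normal → (∀ x ∈ B, ∀ y ∈ B, x * y = y * x) →
      (∀ σ ∈ A, ∀ b ∈ B, σ b ∈ B) → center X ≤ B → B = center X) : frattini X ≤ center X := by
  have : Fact (Nat.Prime 2) := ⟨Nat.prime_two⟩
  by_contra hcon
  set K := frattini X ⊔ center X with hK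
  have hKn : K.Normal := Subgroup.sup_normal _ _
  have hKZ : ¬ K ≤ center X := fun h => hcon (le_sup_left.trans h)
  obtain ⟨r, hrK, hrZ, hr⟩ := exists_sqCen_not_mem hs.two (center X) K hKn hKZ
  set R := K ⊓ sqCen (center X) with hR
  have hZR : center X ≤ R := le_inf le_sup_right (le_sqCen _)
  have hRn : R.Normal := normal_of_le_cenMod (center X) R hZR (fun g hg => hg.2.2)
  have hKi : ∀ σ ∈ A, ∀ b ∈ K, σ b ∈ K := by
    intro σ _ b hb
    have h2 : K.map σ.toMonoidHom ≤ K := by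
      rw [hK, Subgroup.map_sup]
      apply sup_le_sup
      · have h : (frattini X).Characteristic := frattini_characteristic
        exact (Subgroup.characteristic_iff_map_le.mp h) σ
      · rintro _ ⟨z, hz, rfl⟩
        exact center_apply_mem σ hz
    exact h2 (mem_map_of_mem _ hb)
  have hRi : ∀ σ ∈ A, ∀ b ∈ R, σ b ∈ R := fun σ hσ b hb =>
    ⟨hKi σ hσ b hb.1, sqCen_apply_mem _ σ (fun u hu => center_apply_mem σ hu) hb.2⟩
  have hRc : ∀ x ∈ R, ∀ y ∈ R, x * y = y * x := by
    intro x hx y hy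
    have hxc : ∀ g : X, ⁅x, g⁆ ∈ center X := hx.2.2
    have hker : frattini X ≤ (Cfsg.Agent.Lib.Helper86.commHom x hxc).ker := by
      apply Cfsg.Agent.Lib.Helper86.frattini_le_of_quotient_elemAb 2
      · rw [commutator_def, Subgroup.commutator_le]
        intro a _ b _
        rw [MonoidHom.mem_ker, map_commutatorElement, commutatorElement_eq_one_iff_mul_comm]
        exact (mem_center_iff.mp (hxc a) _).symm
      · intro g
        rw [MonoidHom.mem_ker, map_pow, Cfsg.Agent.Lib.Helper86.commHom_apply]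
        have h3 : ⁅x ^ 2, g⁆ = x * ⁅x, g⁆ * x⁻¹ * ⁅x, g⁆ := by
          simp only [commutatorElement_def, pow_two]; group
        have h4 : x * ⁅x, g⁆ = ⁅x, g⁆ * x := mem_center_iff.mp (hxc g) x
        have h5 : ⁅x ^ 2, g⁆ = 1 := by
          rw [commutatorElement_eq_one_iff_mul_comm]
          exact (mem_center_iff.mp hx.2.1 g).symm
        rw [pow_two]
        rw [h3, h4, mul_inv_cancel_right] at h5
        exact h5
    have hy' : y ∈ (Cfsg.Agent.Lib.Helper86.commHom x hxc).ker := by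
      have : K ≤ (Cfsg.Agent.Lib.Helper86.commHom x hxc).ker := by
        apply sup_le hker
        intro z hz
        rw [Cfsg.Agent.Lib.Helper86.mem_commHom_ker]
        exact mem_center_iff.mp hz x
      exact this hy.1
    exact (Cfsg.Agent.Lib.Helper86.mem_commHom_ker x hxc y).mp hy'
  have h1 := hmax R hRn hRc hRi hZR
  apply hrZ
  rw [← h1]
  exact ⟨hrK, hr⟩

end Setup

end Cfsg.Agent.Lib.Helper73.Scn3
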