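import Cfsg.Agent.Lib.Helper73.Scn3B2

/-!
(helper73) `2`-groups without normal abelian subgroups of rank `3` with odd automorphisms: the
self-centralizing case, the automorphism group has order three; the orbit lemma.
-/

set_option autoImplicit false

namespace Cfsg.Agent.Lib.Helper73.Scn3

open Subgroup
open scoped commutatorElement

variable {X : Type*} [Group X] {A : Subgroup (MulAut X)}

namespace BData

variable {U W : Subgroup X} {τ : MulAut X}

/-- an automorphism which is trivial on `W` is trivial -/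
theorem aut_eq_one [Finite X] (bd : BData X A U W τ)
    (hcent : ∀ g : X, (∀ u ∈ U, g * u = u * g) → g ∈ U) {σ : MulAut X} (hσ : σ ∈ A)
    (hσW : ∀ w ∈ W, σ w = w) : σ = 1 := by
  have hs := bd.hs
  have hσU : ∀ u ∈ U, σ u = u :=
    hs.fix_of_fix_omega U bd.Uc hσ (bd.Ui σ hσ) (fun u hu hu2 => hσW u (bd.Wmem u hu hu2))
  apply MulEquiv.ext
  intro x
  rw [MulAut.one_apply]
  set y := x⁻¹ * σ x with hy
  have hyU : y ∈ U := by
    apply hcent
    intro u hu
    have h1 : x * u * x⁻¹ ∈ U := bd.Un.conj_mem u hu x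
    have h2 := hσU _ h1
    rw [map_mul, map_mul, map_inv, hσU u hu] at h2
    have h3 : σ x * u = x * u * x⁻¹ * σ x := by rw [← h2, inv_mul_cancel_right]
    rw [hy, mul_assoc, h3]
    group
  have hσy : σ y = y := hσU y hyU
  have hσx : σ x = x * y := by rw [hy, mul_inv_cancel_left]
  obtain ⟨k, hk⟩ := hs.two y
  have := eq_one_of_stable σ (Nat.card A) hs.odd (hs.pow_card hσ) k hk hσx hσy
  rw [hσx, this, mul_one]

theorem aut_eq_one_of_fix [Finite X] (bd : BData X A U W τ)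
    (hcent : ∀ g : X, (∀ u ∈ U, g * u = u * g) → g ∈ U) {σ : MulAut X} (hσ : σ ∈ A)
    {a : X} (ha : a ∈ W) (ha1 : a ≠ 1) (hσa : σ a = a) : σ = 1 := by
  have hs := bd.hs
  have helems := bd.W_elems ha ha1
  have hτa := bd.tau_W ha
  have triv : ∀ ρ ∈ A, ρ a = a → ρ (τ a) = τ a → ρ = 1 := by
    intro ρ hρ h1 h2
    apply bd.aut_eq_one hcent hρ
    intro w hw
    rcases helems w hw with h | h | h | h <;> rw [h]
    · exact map_one ρ
    · exact h1
    · exact h2
    · rw [map_mul, h1, h2]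
  rcases helems _ (bd.Wi σ hσ _ hτa) with h | h | h | h
  · exfalso
    have h1 := (MulEquiv.map_eq_one_iff σ).mp h
    exact ha1 ((MulEquiv.map_eq_one_iff τ).mp h1)
  · exfalso
    have h1 : σ (τ a) = σ a := by rw [h, hσa]
    have h2 := σ.injective h1
    exact ha1 (bd.fpfW ha h2)
  · exact triv σ hσ hσa h
  · -- `σ` swaps two elements, so its square is trivial
    have h1 : (σ * σ) a = a := by rw [MulAut.mul_apply, hσa, hσa]
    have h2 : (σ * σ) (τ a) = τ a := by
      rw [MulAut.mul_apply, h, map_mul, hσa, h, ← mul_assoc, ← pow_two, bd.W2 a ha, one_mul]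
    have h3 : σ * σ = 1 := triv _ (A.mul_mem hσ hσ) h1 h2
    obtain ⟨m, hm⟩ := hs.odd
    have h4 := hs.pow_card hσ
    rw [hm, pow_succ, pow_mul, pow_two, h3, one_pow, one_mul] at h4
    exact h4

end BData

/-- the data of the self-centralizing case -/
structure CData (X : Type*) [Group X] (A : Subgroup (MulAut X)) (U W : Subgroup X)
    (τ : MulAut X) (j : ℕ) : Prop where
  ed : EData X A U W τ j
  cent : ∀ g : X, (∀ u ∈ U, g * u = u * g) → g ∈ U
  cube : ∀ x : X, τ (τ (τ x)) = x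
  Aeq : ∀ σ ∈ A, σ = 1 ∨ σ = τ ∨ σ = τ * τ

variable {U W : Subgroup X} {τ : MulAut X} {j : ℕ}

theorem EData.cdata [Finite X] (ed : EData X A U W τ j) : CData X A U W τ j := by
  have bd := ed.bd
  have hcent := ed.self_centralizing
  obtain ⟨a, ha, ha1⟩ : ∃ a ∈ W, a ≠ 1 := by
    by_contra hcon
    push Not at hcon
    have : W = ⊥ := (eq_bot_iff_forall W).mpr hcon
    have h4 := bd.W4
    rw [this, Subgroup.card_bot] at h4
    omega
  have helems := bd.W_elems ha ha1
  have hcube : τ * τ * τ = 1 := by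
    apply bd.aut_eq_one_of_fix hcent (A.mul_mem (A.mul_mem bd.τA bd.τA) bd.τA) ha ha1
    rw [MulAut.mul_apply, MulAut.mul_apply]
    exact bd.cube_W ha
  refine ⟨ed, hcent, fun x => ?_, fun σ hσ => ?_⟩
  · have := congrArg (fun ρ : MulAut X => ρ x) hcube
    simpa [MulAut.mul_apply] using this
  · rcases helems _ (bd.Wi σ hσ a ha) with h | h | h | h
    · exfalso
      exact ha1 ((MulEquiv.map_eq_one_iff σ).mp h)
    · exact Or.inl (bd.aut_eq_one_of_fix hcent hσ ha ha1 h)
    · right; left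
      have h1 : τ⁻¹ * σ = 1 := by
        apply bd.aut_eq_one_of_fix hcent (A.mul_mem (A.inv_mem bd.τA) hσ) ha ha1
        rw [MulAut.mul_apply, h, MulAut.inv_apply_self]
      exact (inv_mul_eq_one.mp h1).symm
    · right; right
      have h1 : (τ * τ)⁻¹ * σ = 1 := by
        apply bd.aut_eq_one_of_fix hcent (A.mul_mem (A.inv_mem (A.mul_mem bd.τA bd.τA)) hσ) ha ha1
        rw [MulAut.mul_apply, h, ← bd.tau_tau_W ha]
        have : τ (τ a) = (τ * τ) a := by rw [MulAut.mul_apply]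
        rw [this, MulAut.inv_apply_self]
      exact (inv_mul_eq_one.mp h1).symm

namespace CData

theorem orbit_U (cd : CData X A U W τ j) {u : X} (hu : u ∈ U) : u * τ u * τ (τ u) = 1 := by
  have bd := cd.ed.bd
  have h1 := bd.tau_U hu
  have h2 := bd.tau_U h1
  apply bd.fpf _ (U.mul_mem (U.mul_mem hu h1) h2)
  rw [map_mul, map_mul, cd.cube, bd.Uc _ (U.mul_mem h1 h2) u hu, mul_assoc]

/-- fixed points modulo a subgroup containing the commutator subgroup are trivial -/
theorem mem_of_fixed' [Finite X] (cd : CData X A U W τ j) (N : Subgroup X)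
    (hN : commutator X ≤ N) {x : X} (h1 : x⁻¹ * τ x ∈ N) (h2 : x⁻¹ * τ (τ x) ∈ N) : x ∈ N := by
  apply cd.ed.bd.hs.mem_of_fixed N hN
  intro σ hσ
  rcases cd.Aeq σ hσ with rfl | rfl | rfl
  · rw [MulAut.one_apply, inv_mul_cancel]
    exact N.one_mem
  · exact h1
  · rw [MulAut.mul_apply]
    exact h2

/-- the orbit product of an element lies in a subgroup containing the commutator subgroup
for which fixed points are trivial -/
theorem orbit_mem [Finite X] (cd : CData X A U W τ j) (N : Subgroup X)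
    (hN : commutator X ≤ N) (g : X) : g * τ g * τ (τ g) ∈ N := by
  apply cd.mem_of_fixed' N hN
  · rw [map_mul, map_mul, cd.cube]
    have : (g * τ g * τ (τ g))⁻¹ * (τ g * τ (τ g) * g) = ⁅(g * τ g * τ (τ g))⁻¹, g⁻¹⁆ := by
      simp only [commutatorElement_def]; group
    rw [this]
    exact hN (commutatorElement_mem_commutator _ _)
  · rw [map_mul, map_mul, map_mul, map_mul, cd.cube]
    have : (g * τ g * τ (τ g))⁻¹ * (τ (τ g) * g * τ g) =
        ⁅(g * τ g * τ (τ g))⁻¹, (g * τ g)⁻¹⁆ := by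
      simp only [commutatorElement_def]; group
    rw [this]
    exact hN (commutatorElement_mem_commutator _ _)

/-- the orbit lemma -/
theorem os [Finite X] (cd : CData X A U W τ j) (V G : Subgroup X) (hVU : V ≤ U)
    (hVτ : ∀ v ∈ V, τ v ∈ V) (hGτ : ∀ g ∈ G, τ g ∈ G)
    (hVG : ∀ v ∈ V, ∀ g ∈ G, ⁅v, g⁆ ∈ W)
    (hP : ∀ g ∈ G, ∀ v ∈ V, ⁅v, g * τ g * τ (τ g)⁆ = 1)
    {v g : X} (hv : v ∈ V) (hg : g ∈ G) (h : ⁅v, g⁆ = 1) : ⁅τ v, g⁆ = 1 := by
  have bd := cd.ed.bd
  have hcen : ∀ w ∈ W, ∀ x : X, x * w = w * x := fun w hw x => mem_center_iff.mp (bd.Wc hw) x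
  have hτg := hGτ g hg
  have hττg := hGτ _ hτg
  have hτv := hVτ v hv
  have hττv := hVτ _ hτv
  have h1 : ⁅v, g * τ g * τ (τ g)⁆ = ⁅v, g * τ g⁆ * ⁅v, τ (τ g)⁆ :=
    comm_mul_right_of' (hcen _ (hVG v hv _ hττg) _)
  have h2 : ⁅v, g * τ g⁆ = ⁅v, g⁆ * ⁅v, τ g⁆ := comm_mul_right_of' (hcen _ (hVG v hv _ hτg) _)
  have h3 : ⁅v, τ g⁆ = τ ⁅τ (τ v), g⁆ := by rw [map_commutatorElement, cd.cube]
  have h4 : ⁅v, τ (τ g)⁆ = τ (τ ⁅τ v, g⁆) := by
    rw [map_commutatorElement, map_commutatorElement, cd.cube]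
  have h5 := hP g hg v hv
  rw [h1, h2, h, one_mul, h3, h4] at h5
  set a := ⁅τ v, g⁆ with ha
  set b := ⁅τ (τ v), g⁆ with hb
  have haW : a ∈ W := hVG _ hτv g hg
  have hbW : b ∈ W := hVG _ hττv g hg
  have h6 : ⁅τ v * τ (τ v), g⁆ = b * a := comm_mul_left_of' (hcen _ hbW _)
  have h7 : τ v * τ (τ v) = v⁻¹ := by
    have := cd.orbit_U (hVU hv)
    rw [mul_assoc] at this
    exact eq_inv_of_mul_eq_one_right this
  have h8 : ⁅v⁻¹, g⁆ = 1 := by
    rw [commutatorElement_eq_one_iff_mul_comm] at h ⊢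
    have : Commute v g := h
    exact this.inv_left
  rw [h7, h8] at h6
  have h9 : b = a := by
    have : b = a⁻¹ := eq_inv_of_mul_eq_one_left h6.symm
    rw [this, bd.W_inv haW]
  rw [h9] at h5
  have h10 := bd.orbit_W haW
  rw [mul_assoc, h5, mul_one] at h10
  exact h10

end CData

end Cfsg.Agent.Lib.Helper73.Scn3
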