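import Cfsg.Agent.Lib.Helper73.Scn3EndS
import Cfsg.Agent.Lib.Helper54.Coprime

/-!
(helper73) The case `X' = Φ(X) = Z(X)` of order two: `X` is the quaternion group of order `8` or has
order `32` and exactly eleven involutions.
-/

set_option autoImplicit false

namespace Cfsg.Agent.Lib.Helper73.Scn3

open Subgroup
open scoped commutatorElement

variable {X : Type*} [Group X] {A : Subgroup (MulAut X)}

theorem normal_of_commutator_le (B : Subgroup X) (h : commutator X ≤ B) : B.Normal := by
  constructor
  intro b hb g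
  have : g * b * g⁻¹ = ⁅g, b⁆ * b := by simp only [commutatorElement_def]; group
  rw [this]
  exact B.mul_mem (h (commutatorElement_mem_commutator g b)) hb

/-- the join of two subgroups of exponent two commuting with each other has exponent two -/
theorem exp_two_sup {H K : Subgroup X} (hH : ∀ x ∈ H, x ^ 2 = 1) (hK : ∀ x ∈ K, x ^ 2 = 1)
    (hHK : ∀ x ∈ H, ∀ y ∈ K, x * y = y * x) :
    (∀ x ∈ H ⊔ K, x ^ 2 = 1) ∧ ∀ x ∈ H ⊔ K, ∀ y ∈ H ⊔ K, x * y = y * x := by
  have comm_of : ∀ L : Subgroup X, (∀ x ∈ L, x ^ 2 = 1) → ∀ x ∈ L, ∀ y ∈ L, x * y = y * x := by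
    intro L hL x hx y hy
    have h1 := hL x hx
    have h2 := hL y hy
    have h3 := hL (x * y) (L.mul_mem hx hy)
    have hx' : x⁻¹ = x := by rw [pow_two] at h1; exact inv_eq_of_mul_eq_one_left h1
    have hy' : y⁻¹ = y := by rw [pow_two] at h2; exact inv_eq_of_mul_eq_one_left h2
    have hxy' : (x * y)⁻¹ = x * y := by rw [pow_two] at h3; exact inv_eq_of_mul_eq_one_left h3
    rw [← hxy', mul_inv_rev, hx', hy']
  have hc : ∀ x ∈ H ⊔ K, ∀ y ∈ H ⊔ K, x * y = y * x := comm_sup (comm_of H hH) (comm_of K hK) hHK
  refine ⟨?_, hc⟩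
  let S : Subgroup X :=
    { carrier := {e | e ∈ H ⊔ K ∧ e ^ 2 = 1}
      one_mem' := ⟨one_mem _, one_pow 2⟩
      mul_mem' := by
        rintro a b ⟨ha, ha2⟩ ⟨hb, hb2⟩
        refine ⟨mul_mem ha hb, ?_⟩
        have h1 : a * b = b * a := hc a ha b hb
        calc (a * b) ^ 2 = a * (b * a) * b := by rw [pow_two]; group
          _ = a * (a * b) * b := by rw [h1]
          _ = a ^ 2 * b ^ 2 := by rw [pow_two, pow_two]; group
          _ = 1 := by rw [ha2, hb2, one_mul]
      inv_mem' := by
        rintro a ⟨ha, ha2⟩
        exact ⟨inv_mem ha, by rw [inv_pow, ha2, inv_one]⟩ }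
  have hS : H ⊔ K ≤ S := sup_le (fun x hx => ⟨le_sup_left (a := H) hx, hH x hx⟩)
    (fun x hx => ⟨le_sup_right (b := K) hx, hK x hx⟩)
  exact fun x hx => (hS hx).2

namespace Star

/-- a generator of the centre of order two -/
theorem exists_center_gen [Finite X] (st : Star X) (h2 : Nat.card (center X) = 2) :
    ∃ z : X, z ∈ center X ∧ z ≠ 1 ∧ z ^ 2 = 1 ∧ ∀ c ∈ center X, c = 1 ∨ c = z := by
  obtain ⟨z, hzZ, hz⟩ : ∃ z ∈ center X, z ≠ 1 := by
    by_contra hcon
    push Not at hcon
    have : center X = ⊥ := eq_bot_iff.mpr (fun z hz => mem_bot.mpr (hcon z hz))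
    rw [this, Subgroup.card_bot] at h2
    omega
  have hz2 : z ^ 2 = 1 := st.exp _ hzZ
  refine ⟨z, hzZ, hz, hz2, fun c hc => ?_⟩
  have h1 : zpowers z = center X := by
    apply eq_of_le_of_card_ge (zpowers_le.mpr hzZ)
    rw [h2, Nat.card_zpowers, orderOf_eq_prime hz2 hz]
  exact mem_zpowers_involution hz2 (h1 ▸ hc)

/-- all centralizers have index at most two -/
theorem card_le_two_mul_centralizer [Finite X] (st : Star X) (h2 : Nat.card (center X) = 2)
    (g : X) : Nat.card X ≤ 2 * Nat.card (centralizer ({g} : Set X)) := by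
  obtain ⟨z, -, -, -, hz⟩ := st.exists_center_gen h2
  have hc := st.comm_mem
  apply card_le_two_mul_of_forall
  intro x y hx hy
  have hne : ∀ x : X, x ∉ centralizer ({g} : Set X) → ⁅g, x⁆ = z := by
    intro x hx
    refine (hz _ (hc g x)).resolve_left fun h => hx ?_
    rw [mem_centralizer_singleton_iff]
    exact ((commutatorElement_eq_one_iff_mul_comm).mp h).symm
  rw [mem_centralizer_singleton_iff]
  apply Eq.symm
  rw [← commutatorElement_eq_one_iff_mul_comm, comm_mul_right hc, comm_inv_right hc, hne x hx,
    hne y hy, inv_mul_cancel]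

end Star

namespace Setup

variable [Finite X]

omit [Finite X] in
theorem zpowers_exp_two {c : X} (hc2 : c ^ 2 = 1) : ∀ x ∈ zpowers c, x ^ 2 = 1 := by
  intro x hx
  obtain ⟨j, rfl⟩ := mem_zpowers_iff.mp hx
  rw [← zpow_natCast, ← zpow_mul, mul_comm, zpow_mul, zpow_natCast, hc2, one_zpow]

/-- the involutions centralizing a noncentral involution `u` lie in `Z ⊔ ⟨u⟩` -/
theorem invol_centralizer (hs : Setup X A) (st : Star X) {u : X} (hu : u ^ 2 = 1)
    (huZ : u ∉ center X) {c : X} (hc : c ∈ centralizer ({u} : Set X)) (hc2 : c ^ 2 = 1) :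
    c ∈ center X ⊔ zpowers u := by
  by_contra hcM
  set M := center X ⊔ zpowers u with hM
  have h1 := exp_two_sup (H := center X) (K := zpowers u) st.exp (zpowers_exp_two hu)
    (fun x hx y _ => (mem_center_iff.mp hx y).symm)
  have hMc : M ≤ centralizer ({c} : Set X) := by
    apply sup_le
    · intro z hz
      rw [mem_centralizer_singleton_iff]
      exact (mem_center_iff.mp hz c).symm
    · rw [zpowers_le, mem_centralizer_singleton_iff]
      exact (mem_centralizer_singleton_iff.mp hc).symm
  have h2 := exp_two_sup (H := M) (K := zpowers c) h1.1 (zpowers_exp_two hc2) (by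
    intro x hx y hy
    have h3 : zpowers c ≤ centralizer ({x} : Set X) := by
      rw [zpowers_le, mem_centralizer_singleton_iff]
      exact (mem_centralizer_singleton_iff.mp (hMc hx)).symm
    exact (mem_centralizer_singleton_iff.mp (h3 hy)).symm)
  set B := M ⊔ zpowers c with hB
  have hBn : B.Normal := normal_of_commutator_le B (by
    rw [st.comm_eq]; exact le_sup_left.trans le_sup_left)
  have h3 := hs.rk B hBn h2.2 B le_rfl h2.1
  have h4 : 2 * Nat.card (center X) ≤ Nat.card M :=
    two_mul_card_le_of_lt le_sup_left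
      (fun h => huZ (h ▸ (le_sup_right : zpowers u ≤ _) (mem_zpowers u)))
  have h5 : 2 * Nat.card M ≤ Nat.card B :=
    two_mul_card_le_of_lt le_sup_left
      (fun h => hcM (h ▸ (le_sup_right : zpowers c ≤ _) (mem_zpowers c)))
  have h6 : 2 ≤ Nat.card (center X) := by
    have : center X ≠ ⊥ := by
      intro h
      have := st.comm_eq
      rw [h] at this
      exact commutator_ne_bot hs.nab this
    have h7 : 2 * Nat.card (⊥ : Subgroup X) ≤ Nat.card (center X) :=
      two_mul_card_le_of_lt bot_le (Ne.symm this)
    rw [Subgroup.card_bot] at h7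
    omega
  omega

/-- the order is at most `32` -/
theorem card_le_32 (hs : Setup X A) (st : Star X) (h2 : Nat.card (center X) = 2) :
    Nat.card X ≤ 32 := by
  by_cases hall : ∀ t : X, t ^ 2 = 1 → t ∈ center X
  · have h1 := quad_bound (center X) (center X) le_rfl le_rfl
      (fun m hm => by rw [← pow_two]; exact st.exp m hm)
      (fun x => by rw [← pow_two]; exact st.sq_mem hs.two x)
      (fun x y => by
        have : x⁻¹ * y * x * y⁻¹ = ⁅x⁻¹, y⁆ := by simp only [commutatorElement_def, inv_inv]
        rw [this]; exact st.comm_mem _ _)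
      (fun x hx => hall x (by rw [pow_two]; exact hx))
    rw [h2] at h1
    omega
  · push Not at hall
    obtain ⟨u, hu, huZ⟩ := hall
    set C := centralizer ({u} : Set X) with hC
    set M := center X ⊔ zpowers u with hM
    have hZC : center X ≤ C := by
      intro z hz
      rw [hC, mem_centralizer_singleton_iff]
      exact (mem_center_iff.mp hz u).symm
    have huC : u ∈ C := by rw [hC, mem_centralizer_singleton_iff]
    have hMC : M ≤ C := sup_le hZC (zpowers_le.mpr huC)
    have hMexp := exp_two_sup (H := center X) (K := zpowers u) st.exp (zpowers_exp_two hu)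
      (fun x hx y _ => (mem_center_iff.mp hx y).symm)
    have hMcard : Nat.card M = 4 := by
      have hdisj : center X ⊓ zpowers u = ⊥ := by
        rw [eq_bot_iff]
        rintro x ⟨hx1, hx2⟩
        rcases mem_zpowers_involution hu hx2 with h | h
        · exact mem_bot.mpr h
        · exact absurd (h ▸ hx1) huZ
      have h3 := Cfsg.Agent.Lib.Helper54.card_sup_of_le_normalizer (A := zpowers u) (K := center X)
        (by rw [normalizer_eq_top]; exact le_top) hdisj
      have hu1 : u ≠ 1 := fun h => huZ (h ▸ one_mem _)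
      rw [h3, h2, Nat.card_zpowers, orderOf_eq_prime hu hu1]
    have h1 := quad_bound (P := C) (M.subgroupOf C) ((center X).subgroupOf C)
      (fun x hx => by
        rw [mem_subgroupOf] at hx ⊢
        exact le_sup_left (a := center X) hx)
      (by
        intro m hm
        rw [mem_subgroupOf] at hm
        rw [mem_center_iff]
        intro g
        apply Subtype.ext
        show (g : X) * m = m * g
        have h3 : M ≤ centralizer ({(g : X)} : Set X) := by
          apply sup_le
          · intro z hz
            rw [mem_centralizer_singleton_iff]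
            exact (mem_center_iff.mp hz _).symm
          · rw [zpowers_le, mem_centralizer_singleton_iff]
            exact (mem_centralizer_singleton_iff.mp g.2).symm
        exact (mem_centralizer_singleton_iff.mp (h3 hm)).symm)
      (by
        intro m hm
        rw [mem_subgroupOf] at hm
        apply Subtype.ext
        show (m : X) * m = 1
        rw [← pow_two]
        exact hMexp.1 _ hm)
      (by
        intro x
        rw [mem_subgroupOf]
        show (x : X) * x ∈ center X
        rw [← pow_two]
        exact st.sq_mem hs.two _)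
      (by
        intro x y
        rw [mem_subgroupOf]
        show (x : X)⁻¹ * y * x * (y : X)⁻¹ ∈ center X
        have : (x : X)⁻¹ * y * x * (y : X)⁻¹ = ⁅(x : X)⁻¹, (y : X)⁆ := by
          simp only [commutatorElement_def, inv_inv]
        rw [this]; exact st.comm_mem _ _)
      (by
        intro x hx
        rw [mem_subgroupOf]
        have hx' : (x : X) ^ 2 = 1 := by
          rw [pow_two]
          exact congrArg Subtype.val hx
        exact hs.invol_centralizer st hu huZ x.2 hx')
    rw [Nat.card_congr (Subgroup.subgroupOfEquivOfLe hMC).toEquiv,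
      Nat.card_congr (Subgroup.subgroupOfEquivOfLe hZC).toEquiv, hMcard, h2] at h1
    have h3 := st.card_le_two_mul_centralizer h2 u
    rw [← hC] at h3
    omega

/-- the order is not `16` -/
theorem card_ne_16 (hs : Setup X A) (st : Star X) (h2 : Nat.card (center X) = 2)
    (h16 : Nat.card X = 16) : False := by
  have hc := st.comm_mem
  have hZtop : center X ≠ ⊤ := center_ne_top hs.nab
  obtain ⟨a, haZ⟩ : ∃ a, a ∉ center X := by
    by_contra hcon
    push Not at hcon
    exact hZtop (eq_top_iff.mpr fun x _ => hcon x)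
  set C := centralizer ({a} : Set X) with hC
  have h1 := st.card_le_two_mul_centralizer h2 a
  rw [← hC, h16] at h1
  have haC : a ∈ C := by rw [hC, mem_centralizer_singleton_iff]
  have hZC : center X ≤ C := by
    intro z hz
    rw [hC, mem_centralizer_singleton_iff]
    exact (mem_center_iff.mp hz a).symm
  have hCtop : C ≠ ⊤ := by
    intro h
    apply haZ
    rw [mem_center_iff]
    intro g
    have : g ∈ C := h ▸ mem_top g
    rw [hC, mem_centralizer_singleton_iff] at this
    exact this
  have h3 : 2 * Nat.card C ≤ Nat.card (⊤ : Subgroup X) := two_mul_card_le_of_lt le_top hCtop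
  rw [Subgroup.card_top, h16] at h3
  have hC8 : Nat.card C = 8 := by omega
  set D := center X ⊔ zpowers a with hD
  have hDC : D ≤ C := sup_le hZC (zpowers_le.mpr haC)
  have h4 : 2 * Nat.card (center X) ≤ Nat.card D :=
    two_mul_card_le_of_lt le_sup_left
      (fun h => haZ (h ▸ (le_sup_right : zpowers a ≤ _) (mem_zpowers a)))
  have hDcen : ∀ e ∈ D, ∀ c ∈ C, c * e = e * c := by
    intro e he c hc'
    have h5 : D ≤ centralizer ({c} : Set X) := by
      apply sup_le
      · intro z hz
        rw [mem_centralizer_singleton_iff]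
        exact (mem_center_iff.mp hz c).symm
      · rw [zpowers_le, mem_centralizer_singleton_iff]
        rw [hC, mem_centralizer_singleton_iff] at hc'
        exact hc'.symm
    have := h5 he
    rw [mem_centralizer_singleton_iff] at this
    exact this.symm
  have hCc : ∀ x ∈ C, ∀ y ∈ C, x * y = y * x :=
    comm_of_card_le_two_mul C D hDC hDcen (by omega)
  have hCi : C.index = 2 := by
    have := Subgroup.card_mul_index C
    rw [h16, hC8] at this
    omega
  have h6 := card_of_abelian_index_two hc C hCc hCi hs.nab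
  rw [st.comm_eq, h2, hC8] at h6
  omega

/-- a nonabelian group of order `8` in our setting is the quaternion group -/
theorem quaternion_of_card_8 (hs : Setup X A) (h8 : Nat.card X = 8) :
    Nonempty (X ≃* QuaternionGroup 2) := by
  have hna : NA8 X := by
    intro B hBc hB8
    exfalso
    have hB : B = ⊤ := Subgroup.eq_top_of_card_eq B (by rw [hB8, h8])
    obtain ⟨x, y, hxy⟩ := hs.nab
    exact hxy (comm_of_isMulCommutative hBc x (hB ▸ mem_top x) y (hB ▸ mem_top y))
  obtain ⟨σ, hσ, hσ1⟩ : ∃ σ ∈ A, σ ≠ 1 := by
    by_contra hcon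
    push Not at hcon
    have h1 := hs.gen ⊥ (fun σ hσ x => by
      rw [hcon σ hσ, MulAut.one_apply, inv_mul_cancel]; exact one_mem _)
    have h2 : Nat.card (⊥ : Subgroup X) = 8 := by rw [h1, Subgroup.card_top, h8]
    rw [Subgroup.card_bot] at h2
    omega
  rcases na8_odd_aut hs.two hna σ (Nat.card A) hs.odd (hs.pow_card hσ) hσ1 with ⟨h4, -⟩ | ⟨-, a, b, h1, h2, h3, h4⟩
  · omega
  · obtain ⟨e⟩ := (Q8Pair.mk h8 h1 h2 h3 h4 : Q8Pair a b).equiv
    exact ⟨e.symm⟩

/-- if all involutions are central then the order is at most `8` -/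
theorem card_le_8 (hs : Setup X A) (st : Star X) (h2 : Nat.card (center X) = 2)
    (hall : ∀ t : X, t ^ 2 = 1 → t ∈ center X) : Nat.card X ≤ 8 := by
  have h1 := quad_bound (center X) (center X) le_rfl le_rfl
    (fun m hm => by rw [← pow_two]; exact st.exp m hm)
    (fun x => by rw [← pow_two]; exact st.sq_mem hs.two x)
    (fun x y => by
      have : x⁻¹ * y * x * y⁻¹ = ⁅x⁻¹, y⁆ := by simp only [commutatorElement_def, inv_inv]
      rw [this]; exact st.comm_mem _ _)
    (fun x hx => hall x (by rw [pow_two]; exact hx))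
  rw [h2] at h1
  omega

/-- in the case of order `32` there are exactly eleven involutions -/
theorem card_invol_32 (hs : Setup X A) (st : Star X) (h2 : Nat.card (center X) = 2)
    (h32 : Nat.card X = 32) : Nat.card {x : X // orderOf x = 2} = 11 := by
  have hc := st.comm_mem
  obtain ⟨z, hzZ, hz1, hz2, hz⟩ := st.exists_center_gen h2
  obtain ⟨u, hu, huZ⟩ : ∃ u : X, u ^ 2 = 1 ∧ u ∉ center X := by
    by_contra hcon
    push Not at hcon
    have := hs.card_le_8 st h2 hcon
    omega
  have hu1 : u ≠ 1 := fun h => huZ (h ▸ one_mem _)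
  set C := centralizer ({u} : Set X) with hC
  have huC : u ∈ C := by rw [hC, mem_centralizer_singleton_iff]
  have hzC : z ∈ C := by
    rw [hC, mem_centralizer_singleton_iff]
    exact (mem_center_iff.mp hzZ u).symm
  have hCcard : Nat.card C = 16 := by
    have h1 := st.card_le_two_mul_centralizer h2 u
    rw [← hC, h32] at h1
    have hCtop : C ≠ ⊤ := by
      intro h
      apply huZ
      rw [mem_center_iff]
      intro g
      have : g ∈ C := h ▸ mem_top g
      rw [hC, mem_centralizer_singleton_iff] at this
      exact this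
    have h3 : 2 * Nat.card C ≤ Nat.card (⊤ : Subgroup X) := two_mul_card_le_of_lt le_top hCtop
    rw [Subgroup.card_top, h32] at h3
    omega
  have hcomm : ∀ x : X, x ∉ C → ⁅u, x⁆ = z := by
    intro x hx
    refine (hz _ (hc u x)).resolve_left fun h => hx ?_
    rw [hC, mem_centralizer_singleton_iff]
    exact ((commutatorElement_eq_one_iff_mul_comm).mp h).symm
  have hord : ∀ x : X, orderOf x = 2 ↔ x ^ 2 = 1 ∧ x ≠ 1 := by
    intro x
    constructor
    · intro h
      refine ⟨by rw [← h]; exact pow_orderOf_eq_one x, fun h1 => ?_⟩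
      rw [h1, orderOf_one] at h
      omega
    · rintro ⟨h1, h2'⟩
      exact orderOf_eq_prime h1 h2'
  have huz : u * z = z * u := mem_center_iff.mp hzZ u
  -- the involutions
  let J : Set X := {x | x ∉ C ∧ x ^ 2 = 1}
  let J' : Set X := {x | x ∉ C ∧ x ^ 2 ≠ 1}
  have hI : {x : X | orderOf x = 2} = ({u, z, u * z} : Set X) ∪ J := by
    ext x
    simp only [Set.mem_setOf_eq, Set.mem_union, Set.mem_insert_iff, Set.mem_singleton_iff]
    rw [hord]
    constructor
    · rintro ⟨hx2, hx1⟩
      by_cases hxC : x ∈ C
      · left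
        have h1 := hs.invol_centralizer st hu huZ hxC hx2
        rw [Subgroup.mem_sup_of_normal_left] at h1
        obtain ⟨y, hy, w, hw, rfl⟩ := h1
        rcases hz y hy with rfl | rfl <;> rcases mem_zpowers_involution hu hw with rfl | rfl
        · exact absurd (one_mul 1) hx1
        · left; rw [one_mul]
        · right; left; rw [mul_one]
        · right; right; exact huz.symm
      · right
        exact ⟨hxC, hx2⟩
    · rintro ((rfl | rfl | rfl) | ⟨hxC, hx2⟩)
      · exact ⟨hu, hu1⟩
      · exact ⟨hz2, hz1⟩
      · refine ⟨?_, fun h => huZ ?_⟩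
        · rw [pow_two]
          calc u * z * (u * z) = u * (z * u) * z := by group
            _ = u * (u * z) * z := by rw [huz]
            _ = u ^ 2 * z ^ 2 := by rw [pow_two, pow_two]; group
            _ = 1 := by rw [hu, hz2, one_mul]
        · have : u = z⁻¹ := eq_inv_of_mul_eq_one_left h
          rw [this]
          exact inv_mem hzZ
      · refine ⟨hx2, fun h => hxC ?_⟩
        rw [h]; exact one_mem _
  have hdisj : Disjoint ({u, z, u * z} : Set X) J := by
    rw [Set.disjoint_left]
    rintro x (rfl | rfl | rfl) ⟨hxC, -⟩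
    · exact hxC huC
    · exact hxC hzC
    · exact hxC (mul_mem huC hzC)
  have h3 : ({u, z, u * z} : Set X).ncard = 3 := by
    rw [Set.ncard_eq_three]
    refine ⟨u, z, u * z, fun h => huZ (h ▸ hzZ), fun h => hz1 ?_, fun h => hu1 ?_, rfl⟩
    · have : u * 1 = u * z := by rw [mul_one]; exact h
      exact (mul_left_cancel this).symm
    · have : 1 * z = u * z := by rw [one_mul]; exact h
      exact (mul_right_cancel this).symm
  -- the map `x ↦ x * u`
  have himg : (fun x => x * u) '' J = J' := by
    ext y
    simp only [Set.mem_image, Set.mem_setOf_eq, J, J']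
    constructor
    · rintro ⟨x, ⟨hxC, hx2⟩, rfl⟩
      refine ⟨fun h => hxC ?_, ?_⟩
      · have := C.mul_mem h (C.inv_mem huC)
        rwa [mul_inv_cancel_right] at this
      · rw [sq_mul' hc, hx2, hu, one_mul, one_mul, hcomm x hxC]
        exact hz1
    · rintro ⟨hyC, hy2⟩
      refine ⟨y * u, ⟨fun h => hyC ?_, ?_⟩, ?_⟩
      · have := C.mul_mem h (C.inv_mem huC)
        rwa [mul_inv_cancel_right] at this
      · have hy2' : y ^ 2 = z := (hz _ (st.sq_mem hs.two y)).resolve_left hy2
        rw [sq_mul' hc, hy2', hu, mul_one, hcomm y hyC, ← pow_two, hz2]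
      · rw [mul_assoc, ← pow_two, hu, mul_one]
  have hJJ' : J'.ncard = J.ncard := by
    rw [← himg]
    exact Set.ncard_image_of_injective J (mul_left_injective u)
  have hcompl : J ∪ J' = (C : Set X)ᶜ := by
    ext x
    simp only [Set.mem_union, Set.mem_setOf_eq, Set.mem_compl_iff, SetLike.mem_coe, J, J']
    constructor
    · rintro (⟨h, -⟩ | ⟨h, -⟩) <;> exact h
    · intro h
      by_cases hx2 : x ^ 2 = 1
      · exact Or.inl ⟨h, hx2⟩
      · exact Or.inr ⟨h, hx2⟩
  have hdisj' : Disjoint J J' := by
    rw [Set.disjoint_left]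
    rintro x ⟨-, h1⟩ ⟨-, h2'⟩
    exact h2' h1
  have h4 : J.ncard + J'.ncard = 16 := by
    rw [← Set.ncard_union_eq hdisj', hcompl, Set.ncard_compl, h32]
    have : (C : Set X).ncard = 16 := by
      rw [← hCcard]
      exact (Nat.card_coe_set_eq (C : Set X)).symm
    rw [this]
  have h5 : Nat.card {x : X // orderOf x = 2} = ({x : X | orderOf x = 2}).ncard :=
    Nat.card_coe_set_eq _
  rw [h5, hI, Set.ncard_union_eq hdisj, h3]
  omega

/-- the conclusion in the case of a centre of order two -/
theorem extraspecial_two (hs : Setup X A) (st : Star X) (h2 : Nat.card (center X) = 2) :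
    Nonempty (X ≃* QuaternionGroup 2) ∨
      (Cfsg.IsExtraspecial 2 X ∧ Nat.card X = 32 ∧ Nat.card {x : X // orderOf x = 2} = 11) := by
  have : Fact (Nat.Prime 2) := ⟨Nat.prime_two⟩
  obtain ⟨k, hk⟩ := hs.two.exists_card_eq
  have h32 := hs.card_le_32 st h2
  have hk5 : k ≤ 5 := by
    by_contra hlt
    push Not at hlt
    have : (2 : ℕ) ^ 6 ≤ 2 ^ k := Nat.pow_le_pow_right (by norm_num) hlt
    omega
  have hZtop : center X ≠ ⊤ := center_ne_top hs.nab
  interval_cases k
  · exfalso
    apply hZtop
    apply Subgroup.eq_top_of_card_eq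
    have := Subgroup.card_le_card_group (center X)
    rw [hk] at this ⊢
    have : 0 < Nat.card (center X) := Nat.card_pos
    omega
  · exfalso
    apply hZtop
    apply Subgroup.eq_top_of_card_eq
    rw [h2, hk]; norm_num
  · exfalso
    obtain ⟨x, y, hxy⟩ := hs.nab
    apply hxy
    exact comm_of_card_le_two_mul ⊤ (center X) le_top
      (fun d hd c _ => mem_center_iff.mp hd c) (by rw [Subgroup.card_top, hk, h2]; norm_num)
      x (mem_top x) y (mem_top y)
  · left
    exact hs.quaternion_of_card_8 (by rw [hk]; norm_num)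
  · exfalso
    exact hs.card_ne_16 st h2 (by rw [hk]; norm_num)
  · right
    have h32' : Nat.card X = 32 := by rw [hk]; norm_num
    exact ⟨⟨st.isSpecial hs.two, h2⟩, h32', hs.card_invol_32 st h2 h32'⟩

end Setup

end Cfsg.Agent.Lib.Helper73.Scn3
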