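import Cfsg.Agent.Lib.Helper73.Scn3Star

/-!
(helper73) The case `X' = Φ(X) = Z(X)` of order four: `X` has order `64` and exactly three involutions.
-/

set_option autoImplicit false

namespace Cfsg.Agent.Lib.Helper73.Scn3

open Subgroup
open scoped commutatorElement

variable {X : Type*} [Group X] {A : Subgroup (MulAut X)}

theorem two_mul_card_le_of_lt [Finite X] {H K : Subgroup X} (hle : H ≤ K) (hne : H ≠ K) :
    2 * Nat.card H ≤ Nat.card K := by
  have h1 : Nat.card H ∣ Nat.card K := Subgroup.card_dvd_of_le hle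
  have h2 : Nat.card H < Nat.card K := Cfsg.Agent.Lib.Helper24.card_lt_of_le_of_ne hle hne
  obtain ⟨k, hk⟩ := h1
  have hpos : 0 < Nat.card H := Nat.card_pos
  rw [hk] at h2 ⊢
  have : 2 ≤ k := by
    by_contra hlt
    push Not at hlt
    interval_cases k <;> omega
  calc 2 * Nat.card H = Nat.card H * 2 := by ring
    _ ≤ Nat.card H * k := Nat.mul_le_mul_left _ this

theorem card_subtype_ne' {α : Type*} [Finite α] (a : α) :
    Nat.card {x : α // x ≠ a} = Nat.card α - 1 := by
  classical
  have : Fintype α := Fintype.ofFinite α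
  rw [Nat.card_eq_fintype_card, Nat.card_eq_fintype_card, Fintype.card_subtype_compl (· = a),
    Fintype.card_subtype_eq]

namespace Star

theorem sq_mem [Finite X] (st : Star X) (hX : IsPGroup 2 X) (x : X) : x ^ 2 ∈ center X := by
  have : Fact (Nat.Prime 2) := ⟨Nat.prime_two⟩
  rw [← st.frat_eq]
  exact Cfsg.Agent.Lib.Helper97.pow_prime_mem_frattini hX x

theorem comm_mem (st : Star X) (a b : X) : ⁅a, b⁆ ∈ center X := by
  rw [← st.comm_eq]
  exact commutatorElement_mem_commutator a b

theorem isSpecial (st : Star X) (hX : IsPGroup 2 X) : Cfsg.IsSpecial 2 X :=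
  ⟨hX, st.frat_eq, st.comm_eq⟩

theorem comm_sq (st : Star X) (a b : X) : ⁅a, b⁆ ^ 2 = 1 := st.exp _ (st.comm_mem a b)

theorem comm_symm (st : Star X) (a b : X) : ⁅a, b⁆ = ⁅b, a⁆ := by
  have h1 := st.comm_sq b a
  rw [← commutatorElement_inv b a]
  rw [pow_two] at h1
  exact (eq_inv_of_mul_eq_one_left h1).symm

end Star

namespace Setup

variable [Finite X]

/-- all involutions are central -/
theorem invol_mem_center (hs : Setup X A) (st : Star X) (h4 : Nat.card (center X) = 4) {t : X}
    (ht : t ^ 2 = 1) : t ∈ center X :=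
  hs.mem_of_sq_eq_one (center X) le_rfl st.exp h4 ht (fun x => st.comm_mem t x)

/-- there are exactly three involutions -/
theorem card_invol (hs : Setup X A) (st : Star X) (h4 : Nat.card (center X) = 4) :
    Nat.card {x : X // orderOf x = 2} = 3 := by
  have e : {x : X // orderOf x = 2} ≃ {z : center X // z ≠ 1} :=
    { toFun := fun x => ⟨⟨x.1, hs.invol_mem_center st h4 (by
          have := pow_orderOf_eq_one x.1
          rwa [x.2] at this)⟩,
        fun h => by
          have h1 : x.1 = 1 := congrArg Subtype.val h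
          have h2 := x.2
          rw [h1, orderOf_one] at h2
          omega⟩
      invFun := fun z => ⟨z.1.1, by
        apply orderOf_eq_prime (st.exp _ z.1.2)
        intro h
        exact z.2 (Subtype.ext h)⟩
      left_inv := fun x => rfl
      right_inv := fun z => rfl }
  rw [Nat.card_congr e, card_subtype_ne', h4]

theorem card_le_64 (hs : Setup X A) (st : Star X) (h4 : Nat.card (center X) = 4) :
    Nat.card X ≤ 64 := by
  have h1 := quad_bound (center X) (center X) le_rfl le_rfl
    (fun m hm => by rw [← pow_two]; exact st.exp m hm)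
    (fun x => by rw [← pow_two]; exact st.sq_mem hs.two x)
    (fun x y => by
      have : x⁻¹ * y * x * y⁻¹ = ⁅x⁻¹, y⁆ := by simp only [commutatorElement_def, inv_inv]
      rw [this]; exact st.comm_mem _ _)
    (fun x hx => hs.invol_mem_center st h4 (by rw [pow_two]; exact hx))
  rw [h4] at h1
  omega

end Setup

/-- in a group of order `32` with `X' = Φ(X) = Z(X)` of order `4` some noncentral element has a
centralizer of index at most two -/
theorem exists_big_centralizer [Finite X] (st : Star X) (h4 : Nat.card (center X) = 4)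
    (h32 : Nat.card X = 32) :
    ∃ d : X, d ∉ center X ∧ Nat.card X ≤ 2 * Nat.card (centralizer ({d} : Set X)) := by
  have hc := st.comm_mem
  obtain ⟨z₁, hz₁Z, hz₁⟩ : ∃ z₁ ∈ center X, z₁ ≠ 1 := by
    by_contra hcon
    push Not at hcon
    have : center X = ⊥ := eq_bot_iff.mpr (fun z hz => mem_bot.mpr (hcon z hz))
    rw [this, Subgroup.card_bot] at h4
    omega
  have hz₁2 : z₁ ^ 2 = 1 := st.exp _ hz₁Z
  set Z₁ := zpowers z₁ with hZ₁
  have hZ₁mem : ∀ g ∈ Z₁, g = 1 ∨ g = z₁ := fun g hg => mem_zpowers_involution hz₁2 hg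
  have hZ₁Z : Z₁ ≤ center X := zpowers_le.mpr hz₁Z
  have hcardZ₁ : Nat.card Z₁ = 2 := by
    rw [Nat.card_zpowers]; exact orderOf_eq_prime hz₁2 hz₁
  have hidx : ∀ p ∈ center X, ∀ q ∈ center X, p ∉ Z₁ → q ∉ Z₁ → p⁻¹ * q ∈ Z₁ := by
    have h1 : (Z₁.subgroupOf (center X)).index = 2 := by
      have h2 := Subgroup.card_mul_index (Z₁.subgroupOf (center X))
      rw [Nat.card_congr (Subgroup.subgroupOfEquivOfLe hZ₁Z).toEquiv, hcardZ₁, h4] at h2
      omega
    intro p hp q hq hpZ hqZ
    have h3 : (⟨p, hp⟩ : center X)⁻¹ * ⟨q, hq⟩ ∈ Z₁.subgroupOf (center X) := by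
      rw [Subgroup.mul_mem_iff_of_index_two h1, inv_mem_iff]
      simp only [mem_subgroupOf]
      exact ⟨fun h => absurd h hpZ, fun h => absurd h hqZ⟩
    exact h3
  have hne1 : ∀ g x : X, x ∉ centralizer ({g} : Set X) → ⁅g, x⁆ ≠ 1 := by
    intro g x hx h
    apply hx
    rw [mem_centralizer_singleton_iff]
    exact ((commutatorElement_eq_one_iff_mul_comm).mp h).symm
  have hmem1 : ∀ g x : X, ⁅g, x⁆ = 1 → x ∈ centralizer ({g} : Set X) := by
    intro g x h
    rw [mem_centralizer_singleton_iff]
    exact ((commutatorElement_eq_one_iff_mul_comm).mp h).symm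
  have hsplit : ∀ g x y : X, ⁅g, x⁻¹ * y⁆ = (⁅g, x⁆)⁻¹ * ⁅g, y⁆ := by
    intro g x y
    rw [comm_mul_right hc, comm_inv_right hc]
  have claimA : ∀ g : X, (∀ x, ⁅g, x⁆ ∈ Z₁) →
      Nat.card X ≤ 2 * Nat.card (centralizer ({g} : Set X)) := by
    intro g hg
    apply card_le_two_mul_of_forall
    intro x y hx hy
    apply hmem1
    rw [hsplit]
    have e1 : ⁅g, x⁆ = z₁ := (hZ₁mem _ (hg x)).resolve_left (hne1 g x hx)
    have e2 : ⁅g, y⁆ = z₁ := (hZ₁mem _ (hg y)).resolve_left (hne1 g y hy)
    rw [e1, e2, inv_mul_cancel]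
  have claimB : ∀ g : X, (∀ x, ⁅g, x⁆ ∈ Z₁ → ⁅g, x⁆ = 1) →
      Nat.card X ≤ 2 * Nat.card (centralizer ({g} : Set X)) := by
    intro g hg
    apply card_le_two_mul_of_forall
    intro x y hx hy
    apply hmem1
    apply hg
    rw [hsplit]
    exact hidx _ (hc g x) _ (hc g y) (fun h => hne1 g x hx (hg x h)) (fun h => hne1 g y hy (hg y h))
  -- a noncentral element
  obtain ⟨a, haZ⟩ : ∃ a, a ∉ center X := by
    by_contra hcon
    push Not at hcon
    have : center X = ⊤ := eq_top_iff.mpr fun x _ => hcon x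
    rw [this, Subgroup.card_top] at h4
    omega
  by_cases hb : ∃ b, ⁅a, b⁆ ∈ Z₁ ∧ ⁅a, b⁆ ≠ 1
  swap
  · push Not at hb
    exact ⟨a, haZ, claimB a hb⟩
  obtain ⟨b, hbZ₁, hb1⟩ := hb
  have hab : ⁅a, b⁆ = z₁ := (hZ₁mem _ hbZ₁).resolve_left hb1
  have hba : ⁅b, a⁆ = z₁ := by rw [st.comm_symm, hab]
  have hz₁mem : z₁ ∈ Z₁ := mem_zpowers z₁
  -- the subgroup generated by `Z`, `a`, `b`
  set B₀ := center X ⊔ zpowers a ⊔ zpowers b with hB₀
  -- a criterion for all commutators with `d` to lie in `Z₁`
  have crit : ∀ (d : X) (S : Subgroup X), (∀ s ∈ S, ⁅d, s⁆ ∈ Z₁) → ∀ y : X, ⁅d, y⁆ ∈ Z₁ →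
      ∀ s ∈ S ⊔ zpowers y, ⁅d, s⁆ ∈ Z₁ := by
    intro d S hS y hy s hs
    have h1 : S ⊔ zpowers y ≤ commIn hc d Z₁ := by
      apply sup_le
      · intro s hs; exact hS s hs
      · rw [zpowers_le]; exact hy
    exact h1 hs
  have critZ : ∀ d : X, ∀ s ∈ center X, ⁅d, s⁆ ∈ Z₁ := by
    intro d s hs
    have : ⁅d, s⁆ = 1 := by
      rw [commutatorElement_eq_one_iff_mul_comm]; exact mem_center_iff.mp hs d
    rw [this]; exact one_mem _
  have one_mem' : (1 : X) ∈ Z₁ := one_mem _
  by_cases hx : ∃ x, x ∉ B₀
  swap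
  · push Not at hx
    refine ⟨a, haZ, claimA a fun x => ?_⟩
    have h1 := crit a _ (crit a _ (critZ a) a (by rw [commutatorElement_self]; exact one_mem'))
      b (by rw [hab]; exact hz₁mem)
    exact h1 x (hx x)
  obtain ⟨x, hx⟩ := hx
  -- the whole group is generated by `Z`, `a`, `b`, `x`
  have htop : B₀ ⊔ zpowers x = ⊤ := by
    have h1 : 2 * Nat.card (center X) ≤ Nat.card (center X ⊔ zpowers a : Subgroup X) :=
      two_mul_card_le_of_lt le_sup_left (fun h => haZ (h ▸ (le_sup_right : zpowers a ≤ _) (mem_zpowers a)))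
    have h2 : 2 * Nat.card (center X ⊔ zpowers a : Subgroup X) ≤ Nat.card B₀ := by
      apply two_mul_card_le_of_lt le_sup_left
      intro h
      have h3 : b ∈ center X ⊔ zpowers a := h ▸ (le_sup_right : zpowers b ≤ B₀) (mem_zpowers b)
      have h4' : center X ⊔ zpowers a ≤ centralizer ({a} : Set X) := by
        apply sup_le
        · intro z hz
          rw [mem_centralizer_singleton_iff]; exact (mem_center_iff.mp hz a).symm
        · rw [zpowers_le, mem_centralizer_singleton_iff]
      exact hne1 a b (fun hcon => hb1 (by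
        rw [commutatorElement_eq_one_iff_mul_comm]
        exact (mem_centralizer_singleton_iff.mp hcon).symm)) (by
        rw [commutatorElement_eq_one_iff_mul_comm]
        exact (mem_centralizer_singleton_iff.mp (h4' h3)).symm)
    have h3 : 2 * Nat.card B₀ ≤ Nat.card (B₀ ⊔ zpowers x : Subgroup X) :=
      two_mul_card_le_of_lt le_sup_left (fun h => hx (h ▸ (le_sup_right : zpowers x ≤ _) (mem_zpowers x)))
    apply Subgroup.eq_top_of_card_eq
    have h5 := Subgroup.card_le_card_group (B₀ ⊔ zpowers x)
    omega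
  -- one of `a`, `b`, `a * b` works
  have hp := hc a x
  have hq := hc b x
  have key : ∀ d : X, d ∉ center X → ⁅d, a⁆ ∈ Z₁ → ⁅d, b⁆ ∈ Z₁ → ⁅d, x⁆ ∈ Z₁ →
      ∃ d : X, d ∉ center X ∧ Nat.card X ≤ 2 * Nat.card (centralizer ({d} : Set X)) := by
    intro d hd h1 h2 h3
    refine ⟨d, hd, claimA d fun y => ?_⟩
    have h4' := crit d _ (crit d _ (crit d _ (critZ d) a h1) b h2) x h3
    exact h4' y (htop ▸ mem_top y)
  by_cases hpZ : ⁅a, x⁆ ∈ Z₁
  · exact key a haZ (by rw [commutatorElement_self]; exact one_mem') (by rw [hab]; exact hz₁mem) hpZ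
  by_cases hqZ : ⁅b, x⁆ ∈ Z₁
  · refine key b ?_ (by rw [hba]; exact hz₁mem) (by rw [commutatorElement_self]; exact one_mem') hqZ
    intro hbc
    apply hb1
    rw [commutatorElement_eq_one_iff_mul_comm]
    exact mem_center_iff.mp hbc a
  · have hpq : ⁅a * b, x⁆ ∈ Z₁ := by
      rw [comm_mul_left hc]
      have h1 := hidx _ hp _ hq hpZ hqZ
      have h2 : (⁅a, x⁆)⁻¹ = ⁅a, x⁆ := by
        have := st.comm_sq a x
        rw [pow_two] at this
        exact (eq_inv_of_mul_eq_one_left this).symm
      rwa [h2] at h1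
    refine key (a * b) ?_ ?_ ?_ hpq
    · intro habc
      apply hb1
      have h1 : ⁅a, a * b⁆ = 1 := by
        rw [commutatorElement_eq_one_iff_mul_comm]
        exact mem_center_iff.mp habc a
      rw [comm_mul_right hc, commutatorElement_self, one_mul] at h1
      exact h1
    · rw [comm_mul_left hc, commutatorElement_self, one_mul, hba]; exact hz₁mem
    · rw [comm_mul_left hc, commutatorElement_self, mul_one, hab]; exact hz₁mem

namespace Setup

variable [Finite X]

/-- the order is `64` -/
theorem card_eq_64 (hs : Setup X A) (st : Star X) (h4 : Nat.card (center X) = 4)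
    (hmax : ∀ B : Subgroup X, B.Normal → (∀ x ∈ B, ∀ y ∈ B, x * y = y * x) →
      (∀ σ ∈ A, ∀ b ∈ B, σ b ∈ B) → center X ≤ B → B = center X) : Nat.card X = 64 := by
  have : Fact (Nat.Prime 2) := ⟨Nat.prime_two⟩
  have hc := st.comm_mem
  obtain ⟨k, hk⟩ := hs.two.exists_card_eq
  have h64 := hs.card_le_64 st h4
  have hdvd : Nat.card (center X) ∣ Nat.card X := Subgroup.card_subgroup_dvd_card _
  rw [h4, hk] at hdvd
  have hk6 : k ≤ 6 := by
    by_contra hlt
    push Not at hlt
    have : (2 : ℕ) ^ 7 ≤ 2 ^ k := Nat.pow_le_pow_right (by norm_num) hlt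
    omega
  have hcomm' : Nat.card (commutator X) = 4 := by rw [st.comm_eq]; exact h4
  have hZtop : center X ≠ ⊤ := center_ne_top hs.nab
  obtain ⟨a, haZ⟩ : ∃ a, a ∉ center X := by
    by_contra hcon
    push Not at hcon
    exact hZtop (eq_top_iff.mpr fun x _ => hcon x)
  interval_cases k
  · norm_num at hdvd
  · norm_num at hdvd
  · exfalso
    apply hZtop
    apply Subgroup.eq_top_of_card_eq
    rw [h4, hk]; norm_num
  · exfalso
    obtain ⟨x, y, hxy⟩ := hs.nab
    apply hxy
    exact comm_of_card_le_two_mul ⊤ (center X) le_top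
      (fun d hd c _ => mem_center_iff.mp hd c) (by rw [Subgroup.card_top, hk, h4]; norm_num)
      x (mem_top x) y (mem_top y)
  · exfalso
    set D := center X ⊔ zpowers a with hD
    have h1 : 2 * Nat.card (center X) ≤ Nat.card D :=
      two_mul_card_le_of_lt le_sup_left
        (fun h => haZ (h ▸ (le_sup_right : zpowers a ≤ _) (mem_zpowers a)))
    have hDc : ∀ x ∈ D, ∀ y ∈ D, x * y = y * x := by
      apply comm_sup
      · intro x hx y _; exact (mem_center_iff.mp hx y).symm
      · intro x hx y hy
        obtain ⟨i, rfl⟩ := mem_zpowers_iff.mp hx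
        obtain ⟨j, rfl⟩ := mem_zpowers_iff.mp hy
        rw [← zpow_add, ← zpow_add, add_comm]
      · intro x hx y _; exact (mem_center_iff.mp hx y).symm
    have hDtop : D ≠ ⊤ := by
      intro h
      obtain ⟨x, y, hxy⟩ := hs.nab
      exact hxy (hDc x (h ▸ mem_top x) y (h ▸ mem_top y))
    have h2 : 2 * Nat.card D ≤ Nat.card (⊤ : Subgroup X) := two_mul_card_le_of_lt le_top hDtop
    rw [Subgroup.card_top, hk] at h2
    have hDi : D.index = 2 := by
      have := Subgroup.card_mul_index D
      rw [hk] at this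
      have h8 : Nat.card D = 8 := by omega
      rw [h8] at this
      omega
    have h3 := card_of_abelian_index_two hc D hDc hDi hs.nab
    rw [h4, hcomm'] at h3
    omega
  · exfalso
    obtain ⟨d, hdZ, hd⟩ := exists_big_centralizer st h4 hk
    set C := centralizer ({d} : Set X) with hC
    have hdC : d ∈ C := by rw [hC, mem_centralizer_singleton_iff]
    have hZC : center X ≤ C := by
      intro z hz
      rw [hC, mem_centralizer_singleton_iff]
      exact (mem_center_iff.mp hz d).symm
    have hCtop : C ≠ ⊤ := by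
      intro h
      apply hdZ
      rw [mem_center_iff]
      intro g
      have : g ∈ C := h ▸ mem_top g
      rw [hC, mem_centralizer_singleton_iff] at this
      exact this
    have h2 : 2 * Nat.card C ≤ Nat.card (⊤ : Subgroup X) := two_mul_card_le_of_lt le_top hCtop
    rw [Subgroup.card_top, hk] at h2
    rw [hk] at hd
    have hC16 : Nat.card C = 16 := by omega
    set D := center X ⊔ zpowers d with hD
    have hDC : D ≤ C := sup_le hZC (zpowers_le.mpr hdC)
    have h1 : 2 * Nat.card (center X) ≤ Nat.card D :=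
      two_mul_card_le_of_lt le_sup_left
        (fun h => hdZ (h ▸ (le_sup_right : zpowers d ≤ _) (mem_zpowers d)))
    have hDcen : ∀ e ∈ D, ∀ c ∈ C, c * e = e * c := by
      intro e he c hc'
      have h3 : D ≤ centralizer ({c} : Set X) := by
        apply sup_le
        · intro z hz
          rw [mem_centralizer_singleton_iff]
          exact (mem_center_iff.mp hz c).symm
        · rw [zpowers_le, mem_centralizer_singleton_iff]
          rw [hC, mem_centralizer_singleton_iff] at hc'
          exact hc'.symm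
      have := h3 he
      rw [mem_centralizer_singleton_iff] at this
      exact this.symm
    have hCc : ∀ x ∈ C, ∀ y ∈ C, x * y = y * x :=
      comm_of_card_le_two_mul C D hDC hDcen (by omega)
    have hCi : C.index = 2 := by
      have := Subgroup.card_mul_index C
      rw [hk, hC16] at this
      omega
    have hCn : C.Normal := Subgroup.normal_of_index_eq_two hCi
    have hCinv : ∀ σ ∈ A, ∀ c ∈ C, σ c ∈ C := by
      intro σ _ c hcC
      by_contra hcon
      set C' := C.map σ.toMonoidHom with hC'
      have hC'16 : Nat.card C' = 16 := by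
        rw [hC', Subgroup.card_map_of_injective σ.injective, hC16]
      have hC'i : C'.index = 2 := by
        have := Subgroup.card_mul_index C'
        rw [hk, hC'16] at this
        omega
      have hC'c : ∀ x ∈ C', ∀ y ∈ C', x * y = y * x := by
        rintro _ ⟨x, hx, rfl⟩ _ ⟨y, hy, rfl⟩
        show σ x * σ y = σ y * σ x
        rw [← map_mul, ← map_mul, hCc x hx y hy]
      have hne : C ≠ C ⊔ C' := by
        intro h
        apply hcon
        have : C' ≤ C := h ▸ le_sup_right
        exact this (mem_map_of_mem _ hcC)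
      have h3 : 2 * Nat.card C ≤ Nat.card (C ⊔ C' : Subgroup X) := two_mul_card_le_of_lt le_sup_left hne
      have hsup : C ⊔ C' = ⊤ := by
        apply Subgroup.eq_top_of_card_eq
        have := Subgroup.card_le_card_group (C ⊔ C')
        omega
      have hI : C ⊓ C' ≤ center X := by
        intro g hg
        rw [mem_center_iff]
        intro y
        have h5 : C ⊔ C' ≤ centralizer ({g} : Set X) := by
          apply sup_le
          · intro c' hc'
            rw [mem_centralizer_singleton_iff]
            exact hCc c' hc' g hg.1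
          · intro c' hc'
            rw [mem_centralizer_singleton_iff]
            exact hC'c c' hc' g hg.2
        have : y ∈ centralizer ({g} : Set X) := h5 (hsup ▸ mem_top y)
        rw [mem_centralizer_singleton_iff] at this
        exact this
      have h6 : (C ⊓ C').index ≤ C.index * C'.index := Subgroup.index_inf_le
      rw [hCi, hC'i] at h6
      have h7 := Subgroup.card_mul_index (C ⊓ C')
      rw [hk] at h7
      have h8 := Subgroup.card_le_of_le hI
      rw [h4] at h8
      have hpos : 0 < (C ⊓ C').index := Nat.pos_of_ne_zero Subgroup.index_ne_zero_of_finite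
      nlinarith
    have h9 := hmax C hCn hCc hCinv hZC
    rw [h9, h4] at hC16
    omega
  · rw [hk]; norm_num

/-- the conclusion in the case of a centre of order four -/
theorem special_four (hs : Setup X A) (st : Star X) (h4 : Nat.card (center X) = 4)
    (h64 : Nat.card X = 64) :
    Cfsg.IsSpecial 2 X ∧ Nat.card X = 64 ∧ Nat.card {x : X // orderOf x = 2} = 3 ∧
      ∀ x : X, orderOf x = 2 → x ∈ center X :=
  ⟨st.isSpecial hs.two, h64, hs.card_invol st h4, fun x hx => hs.invol_mem_center st h4 (by
    have := pow_orderOf_eq_one x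
    rwa [hx] at this)⟩

end Setup

end Cfsg.Agent.Lib.Helper73.Scn3
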