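import Cfsg.Agent.Lib.Helper73.Scn3EndE

/-!
(helper73) `2`-groups without normal abelian subgroups of rank `3` with odd automorphisms: the case of a
maximal invariant normal abelian subgroup on which the automorphisms act nontrivially, preliminaries.
-/

set_option autoImplicit false

namespace Cfsg.Agent.Lib.Helper73.Scn3

open Subgroup
open scoped commutatorElement

variable {X : Type*} [Group X] {A : Subgroup (MulAut X)}

/-- the elements of order at most two of an abelian subgroup -/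
def omegaOne (U : Subgroup X) (hUc : ∀ x ∈ U, ∀ y ∈ U, x * y = y * x) : Subgroup X where
  carrier := {e | e ∈ U ∧ e ^ 2 = 1}
  one_mem' := ⟨U.one_mem, one_pow 2⟩
  mul_mem' := by
    rintro a b ⟨ha, ha2⟩ ⟨hb, hb2⟩
    refine ⟨U.mul_mem ha hb, ?_⟩
    rw [(show Commute a b from hUc a ha b hb).mul_pow, ha2, hb2, one_mul]
  inv_mem' := by
    rintro a ⟨ha, ha2⟩
    exact ⟨U.inv_mem ha, by rw [inv_pow, ha2, inv_one]⟩

/-- the elements of a four-group -/
theorem four_elems [Finite X] (W : Subgroup X) (h4 : Nat.card W = 4) {a b : X} (ha : a ∈ W)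
    (hb : b ∈ W) (ha1 : a ≠ 1) (hb1 : b ≠ 1) (hab : a ≠ b) (hab1 : a * b ≠ 1) :
    ∀ w ∈ W, w = 1 ∨ w = a ∨ w = b ∨ w = a * b := by
  classical
  let S : Finset X := {1, a, b, a * b}
  have hS : S.card = 4 := by
    have h1 : (1 : X) ∉ ({a, b, a * b} : Finset X) := by
      simp [Ne.symm ha1, Ne.symm hb1, Ne.symm hab1]
    have h2 : a ∉ ({b, a * b} : Finset X) := by
      simp [hab, hb1]
    have h3 : b ∉ ({a * b} : Finset X) := by
      simp [ha1]
    rw [Finset.card_insert_of_notMem h1, Finset.card_insert_of_notMem h2,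
      Finset.card_insert_of_notMem h3, Finset.card_singleton]
  have hSW : (S : Set X) ⊆ (W : Set X) := by
    intro x hx
    simp only [S, Finset.coe_insert, Finset.coe_singleton, Set.mem_insert_iff,
      Set.mem_singleton_iff] at hx
    rcases hx with rfl | rfl | rfl | rfl
    exacts [W.one_mem, ha, hb, W.mul_mem ha hb]
  have hW : (W : Set X).ncard = 4 := by
    rw [← h4]
    exact (Nat.card_coe_set_eq (W : Set X)).symm
  have h5 := Set.eq_of_subset_of_ncard_le hSW (by rw [hW, Set.ncard_coe_finset, hS]) (Set.toFinite _)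
  intro w hw
  have hw' : w ∈ (S : Set X) := by rw [h5]; exact hw
  simpa [S] using hw'

/-- a counting lemma for endomorphisms -/
theorem endo_count {G H : Type*} [Group G] [Finite G] [Group H] (π : G →* H) (f : G →* G)
    (hπf : ∀ u, π (f u) = 1) (hcard : Nat.card f.ker ≤ Nat.card π.range) :
    ∀ u, π u = 1 → ∃ y, f y = u := by
  have h1 : Nat.card f.ker * Nat.card f.range = Nat.card G := by
    rw [← Subgroup.index_ker]; exact Subgroup.card_mul_index _
  have h2 : Nat.card π.ker * Nat.card π.range = Nat.card G := by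
    rw [← Subgroup.index_ker]; exact Subgroup.card_mul_index _
  have hle : f.range ≤ π.ker := by
    rintro _ ⟨y, rfl⟩
    exact hπf y
  have hpos : 0 < Nat.card f.range := Nat.card_pos
  have h3 : Nat.card π.ker ≤ Nat.card f.range := by
    by_contra hcon
    push Not at hcon
    have h4 : Nat.card f.ker * Nat.card f.range < Nat.card π.ker * Nat.card π.range := by
      calc Nat.card f.ker * Nat.card f.range
          ≤ Nat.card π.range * Nat.card f.range := Nat.mul_le_mul_right _ hcard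
        _ < Nat.card π.range * Nat.card π.ker := by
          apply Nat.mul_lt_mul_of_pos_left hcon
          exact lt_of_lt_of_le Nat.card_pos hcard
        _ = Nat.card π.ker * Nat.card π.range := mul_comm _ _
    omega
  have h4 : f.range = π.ker := Subgroup.eq_of_le_of_card_ge hle h3
  intro u hu
  have : u ∈ f.range := by rw [h4]; exact hu
  exact this

/-- an automorphism in `A` which fixes the involutions of an invariant abelian subgroup fixes the
subgroup elementwise -/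
theorem Setup.fix_of_fix_omega (hs : Setup X A) (U : Subgroup X)
    (hUc : ∀ x ∈ U, ∀ y ∈ U, x * y = y * x) {σ : MulAut X} (hσ : σ ∈ A) (hσU : ∀ u ∈ U, σ u ∈ U)
    (hfix : ∀ u ∈ U, u ^ 2 = 1 → σ u = u) : ∀ u ∈ U, σ u = u := by
  have key : ∀ k : ℕ, ∀ u ∈ U, u ^ 2 ^ k = 1 → σ u = u := by
    intro k
    induction k with
    | zero =>
      intro u _ hu
      rw [pow_zero, pow_one] at hu
      rw [hu, map_one]
    | succ k ih =>
      intro u hu huk
      have h1 : σ (u ^ 2) = u ^ 2 :=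
        ih _ (U.pow_mem hu 2) (by rw [← pow_mul, ← pow_succ']; exact huk)
      set y := u⁻¹ * σ u with hy
      have hyU : y ∈ U := U.mul_mem (U.inv_mem hu) (hσU u hu)
      have hy2 : y ^ 2 = 1 := by
        rw [hy, (show Commute u⁻¹ (σ u) from hUc _ (U.inv_mem hu) _ (hσU u hu)).mul_pow, ← map_pow,
          h1, inv_pow, inv_mul_cancel]
      have hσy : σ y = y := hfix y hyU hy2
      have hσu : σ u = u * y := by rw [hy, mul_inv_cancel_left]
      have := eq_one_of_stable σ (Nat.card A) hs.odd (hs.pow_card hσ) 1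
        (by rw [pow_one]; exact hy2) hσu hσy
      rw [hσu, this, mul_one]
  intro u hu
  obtain ⟨k, hk⟩ := hs.two u
  exact key k u hu hk

/-- the data of the case of a nontrivial action -/
structure BData (X : Type*) [Group X] (A : Subgroup (MulAut X)) (U W : Subgroup X)
    (τ : MulAut X) : Prop where
  hs : Setup X A
  Un : U.Normal
  Uc : ∀ x ∈ U, ∀ y ∈ U, x * y = y * x
  Ui : ∀ σ ∈ A, ∀ u ∈ U, σ u ∈ U
  Umax : ∀ B : Subgroup X, B.Normal → (∀ x ∈ B, ∀ y ∈ B, x * y = y * x) →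
      (∀ σ ∈ A, ∀ b ∈ B, σ b ∈ B) → U ≤ B → B = U
  WU : W ≤ U
  Wmem : ∀ u ∈ U, u ^ 2 = 1 → u ∈ W
  W2 : ∀ w ∈ W, w ^ 2 = 1
  W4 : Nat.card W = 4
  Wc : W ≤ center X
  Wi : ∀ σ ∈ A, ∀ w ∈ W, σ w ∈ W
  Wirr : ∀ V : Subgroup X, V ≤ W → (∀ σ ∈ A, ∀ v ∈ V, σ v ∈ V) → V ≠ ⊥ → V = W
  τA : τ ∈ A
  fpf : ∀ u ∈ U, τ u = u → u = 1

theorem Setup.exists_bdata [Finite X] (hs : Setup X A) (U : Subgroup X) (hUn : U.Normal)
    (hUc : ∀ x ∈ U, ∀ y ∈ U, x * y = y * x) (hUi : ∀ σ ∈ A, ∀ u ∈ U, σ u ∈ U)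
    (hmax : ∀ B : Subgroup X, B.Normal → (∀ x ∈ B, ∀ y ∈ B, x * y = y * x) →
      (∀ σ ∈ A, ∀ b ∈ B, σ b ∈ B) → U ≤ B → B = U)
    {σ₀ : MulAut X} (hσ₀ : σ₀ ∈ A) {u₀ : X} (hu₀ : u₀ ∈ U) (hmove : σ₀ u₀ ≠ u₀) :
    ∃ W, BData X A U W σ₀ := by
  have : Fact (Nat.Prime 2) := ⟨Nat.prime_two⟩
  have : Group.IsNilpotent X := hs.two.isNilpotent
  set W := omegaOne U hUc with hW
  have hWU : W ≤ U := fun w hw => hw.1
  have hW2 : ∀ w ∈ W, w ^ 2 = 1 := fun w hw => hw.2
  have hWi : ∀ σ ∈ A, ∀ w ∈ W, σ w ∈ W := fun σ hσ w hw =>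
    ⟨hUi σ hσ w hw.1, by rw [← map_pow, hw.2, map_one]⟩
  have hcard : Nat.card W ≤ 4 := hs.rk U hUn hUc W hWU hW2
  obtain ⟨w₀, hw₀, hw₀m⟩ : ∃ w₀ ∈ W, σ₀ w₀ ≠ w₀ := by
    by_contra hcon
    push Not at hcon
    exact hmove (hs.fix_of_fix_omega U hUc hσ₀ (hUi σ₀ hσ₀) (fun u hu hu2 => hcon u ⟨hu, hu2⟩) u₀ hu₀)
  have hw₀1 : w₀ ≠ 1 := by
    rintro rfl
    exact hw₀m (map_one _)
  have hσw₀1 : σ₀ w₀ ≠ 1 := by
    intro h
    exact hw₀1 ((MulEquiv.map_eq_one_iff σ₀).mp h)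
  have hW4 : Nat.card W = 4 := by
    have h3 : 3 ≤ Nat.card W := by
      have hsub : ({1, w₀, σ₀ w₀} : Set X) ⊆ (W : Set X) := by
        rintro x (rfl | rfl | rfl)
        exacts [W.one_mem, hw₀, hWi σ₀ hσ₀ _ hw₀]
      have h1 : ({1, w₀, σ₀ w₀} : Set X).ncard = 3 :=
        Set.ncard_eq_three.mpr ⟨1, w₀, σ₀ w₀, hw₀1.symm, hσw₀1.symm, hw₀m.symm, rfl⟩
      have h2 := Set.ncard_le_ncard hsub (Set.toFinite _)
      rw [h1] at h2
      rw [← Nat.card_coe_set_eq (W : Set X)] at h2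
      exact h2
    obtain ⟨j, hj⟩ := (hs.two.to_subgroup W).exists_card_eq
    have hj3 : j < 3 := by
      by_contra hcon
      push Not at hcon
      have : 2 ^ 3 ≤ 2 ^ j := Nat.pow_le_pow_right (by norm_num) hcon
      omega
    interval_cases j <;> omega
  have hWirr : ∀ V : Subgroup X, V ≤ W → (∀ v ∈ V, σ₀ v ∈ V) → V ≠ ⊥ → V = W := by
    intro V hVW hVi hV
    exact eq_of_invariant_of_four (Nat.card A) hs.odd σ₀ (hs.pow_card hσ₀) W hW4 hW2 hw₀ hw₀m V hVW
      hVi (hWi σ₀ hσ₀) hV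
  have hfpfW : ∀ w ∈ W, σ₀ w = w → w = 1 := by
    intro w hw hσw
    by_contra hw1
    let F : Subgroup X :=
      { carrier := {w | w ∈ W ∧ σ₀ w = w}
        one_mem' := ⟨W.one_mem, map_one _⟩
        mul_mem' := by
          rintro a b ⟨ha, ha'⟩ ⟨hb, hb'⟩
          exact ⟨W.mul_mem ha hb, by rw [map_mul, ha', hb']⟩
        inv_mem' := by
          rintro a ⟨ha, ha'⟩
          exact ⟨W.inv_mem ha, by rw [map_inv, ha']⟩ }
    have hF : F = W := hWirr F (fun x hx => hx.1) (fun v hv => ⟨hWi σ₀ hσ₀ v hv.1, by rw [hv.2, hv.2]⟩)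
      (by
        intro h
        have : w ∈ F := ⟨hw, hσw⟩
        rw [h, mem_bot] at this
        exact hw1 this)
    have : w₀ ∈ F := hF ▸ hw₀
    exact hw₀m this.2
  have hWn : W.Normal :=
    ⟨fun w hw g => ⟨hUn.conj_mem w hw.1 g, by rw [conj_pow, hw.2, mul_one, mul_inv_cancel]⟩⟩
  have hWc : W ≤ center X := by
    obtain ⟨y, hyW, hy1, hy⟩ := Cfsg.Agent.Lib.Helper24.exists_mem_not_mem_comm_mem ⊥ ⊤ W
      (by rw [normalizer_eq_top]) (by
        intro h
        exact hw₀1 (mem_bot.mp (h hw₀)))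
    have hyc : y ∈ center X := by
      rw [mem_center_iff]
      intro g
      have := hy g (mem_top g)
      rw [mem_bot, commutatorElement_eq_one_iff_mul_comm] at this
      exact this.symm
    have h1 : W ⊓ center X = W := hWirr (W ⊓ center X) inf_le_left
      (fun v hv => ⟨hWi σ₀ hσ₀ v hv.1, center_apply_mem σ₀ hv.2⟩)
      (by
        intro h
        have : y ∈ W ⊓ center X := ⟨hyW, hyc⟩
        rw [h] at this
        exact hy1 this)
    rw [← h1]
    exact inf_le_right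
  have hfpf : ∀ u ∈ U, σ₀ u = u → u = 1 := by
    have key : ∀ k : ℕ, ∀ u ∈ U, σ₀ u = u → u ^ 2 ^ k = 1 → u = 1 := by
      intro k
      induction k with
      | zero =>
        intro u _ _ hu
        rwa [pow_zero, pow_one] at hu
      | succ k ih =>
        intro u hu hσu huk
        have h1 : u ^ 2 = 1 := ih (u ^ 2) (U.pow_mem hu 2) (by rw [map_pow, hσu])
          (by rw [← pow_mul, ← pow_succ']; exact huk)
        exact hfpfW u ⟨hu, h1⟩ hσu
    intro u hu hσu
    obtain ⟨k, hk⟩ := hs.two u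
    exact key k u hu hσu hk
  exact ⟨W, hs, hUn, hUc, hUi, hmax, hWU, fun u hu hu2 => ⟨hu, hu2⟩, hW2, hW4, hWc, hWi,
    fun V hVW hVi hV => hWirr V hVW (hVi σ₀ hσ₀) hV, hσ₀, hfpf⟩

end Cfsg.Agent.Lib.Helper73.Scn3
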