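import Cfsg.Agent.Lib.Helper73.Scn3Fpf

/-!
(helper73) `2`-groups without normal abelian subgroups of rank `3` with odd automorphisms: the case of a
maximal invariant normal abelian subgroup on which the automorphisms act nontrivially, first consequences.
-/

set_option autoImplicit false

namespace Cfsg.Agent.Lib.Helper73.Scn3

open Subgroup
open scoped commutatorElement

variable {X : Type*} [Group X] {A : Subgroup (MulAut X)}

theorem comm_mul_left_of {x y g : X} (h : ⁅y, g⁆ ∈ center X) : ⁅x * y, g⁆ = ⁅x, g⁆ * ⁅y, g⁆ := by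
  have h1 : ⁅x * y, g⁆ = x * ⁅y, g⁆ * x⁻¹ * ⁅x, g⁆ := by
    simp only [commutatorElement_def]; group
  have h2 : x * ⁅y, g⁆ = ⁅y, g⁆ * x := mem_center_iff.mp h x
  have h3 : ⁅x, g⁆ * ⁅y, g⁆ = ⁅y, g⁆ * ⁅x, g⁆ := mem_center_iff.mp h _
  rw [h1, h2, mul_inv_cancel_right, h3]

theorem comm_mul_right_of {g x y : X} (h : ⁅g, y⁆ ∈ center X) : ⁅g, x * y⁆ = ⁅g, x⁆ * ⁅g, y⁆ := by
  have h1 : ⁅g, x * y⁆ = ⁅g, x⁆ * (x * ⁅g, y⁆ * x⁻¹) := by
    simp only [commutatorElement_def]; group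
  have h2 : x * ⁅g, y⁆ = ⁅g, y⁆ * x := mem_center_iff.mp h x
  rw [h1, h2, mul_inv_cancel_right]

namespace BData

variable {U W : Subgroup X} {τ : MulAut X}

theorem tau_W (bd : BData X A U W τ) {w : X} (hw : w ∈ W) : τ w ∈ W := bd.Wi τ bd.τA w hw

theorem tau_U (bd : BData X A U W τ) {u : X} (hu : u ∈ U) : τ u ∈ U := bd.Ui τ bd.τA u hu

theorem fpfW (bd : BData X A U W τ) {w : X} (hw : w ∈ W) (h : τ w = w) : w = 1 :=
  bd.fpf w (bd.WU hw) h

theorem W_comm (bd : BData X A U W τ) {a b : X} (ha : a ∈ W) (hb : b ∈ W) : a * b = b * a :=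
  bd.Uc a (bd.WU ha) b (bd.WU hb)

theorem W_inv (bd : BData X A U W τ) {w : X} (hw : w ∈ W) : w⁻¹ = w := by
  have := bd.W2 w hw
  rw [pow_two] at this
  exact inv_eq_of_mul_eq_one_left this

theorem W_elems [Finite X] (bd : BData X A U W τ) {a : X} (ha : a ∈ W) (ha1 : a ≠ 1) :
    ∀ w ∈ W, w = 1 ∨ w = a ∨ w = τ a ∨ w = a * τ a := by
  apply four_elems W bd.W4 ha (bd.tau_W ha) ha1
  · intro h
    exact ha1 ((MulEquiv.map_eq_one_iff τ).mp h)
  · intro h
    exact ha1 (bd.fpfW ha h.symm)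
  · intro h
    have : τ a = a⁻¹ := eq_inv_of_mul_eq_one_right h
    rw [bd.W_inv ha] at this
    exact ha1 (bd.fpfW ha this)

theorem tau_tau_W [Finite X] (bd : BData X A U W τ) {a : X} (ha : a ∈ W) :
    τ (τ a) = a * τ a := by
  by_cases ha1 : a = 1
  · subst ha1; simp
  have h1 := bd.W_elems ha ha1 (τ (τ a)) (bd.tau_W (bd.tau_W ha))
  rcases h1 with h | h | h | h
  · exfalso
    apply ha1
    have := (MulEquiv.map_eq_one_iff τ).mp h
    exact (MulEquiv.map_eq_one_iff τ).mp this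
  · exfalso
    have h2 : τ (a * τ a) = a * τ a := by rw [map_mul, h, bd.W_comm (bd.tau_W ha) ha]
    have h3 := bd.fpfW (W.mul_mem ha (bd.tau_W ha)) h2
    have : τ a = a⁻¹ := eq_inv_of_mul_eq_one_right h3
    rw [bd.W_inv ha] at this
    exact ha1 (bd.fpfW ha this)
  · exfalso
    have := τ.injective h
    exact ha1 (bd.fpfW ha this)
  · exact h

theorem orbit_W [Finite X] (bd : BData X A U W τ) {a : X} (ha : a ∈ W) :
    a * τ a * τ (τ a) = 1 := by
  rw [bd.tau_tau_W ha, ← pow_two]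
  exact bd.W2 _ (W.mul_mem ha (bd.tau_W ha))

theorem cube_W [Finite X] (bd : BData X A U W τ) {a : X} (ha : a ∈ W) : τ (τ (τ a)) = a := by
  rw [bd.tau_tau_W ha, map_mul, bd.tau_tau_W ha, bd.W_comm ha (bd.tau_W ha), ← mul_assoc, ← pow_two,
    bd.W2 _ (bd.tau_W ha), one_mul]

theorem comm_mem_U (bd : BData X A U W τ) {u : X} (hu : u ∈ U) (x : X) : ⁅u, x⁆ ∈ U := by
  have h1 : ⁅u, x⁆ = u * (x * u⁻¹ * x⁻¹) := by simp only [commutatorElement_def]; group
  rw [h1]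
  exact U.mul_mem hu (bd.Un.conj_mem _ (U.inv_mem hu) x)

theorem comm_mem_U' (bd : BData X A U W τ) {u : X} (hu : u ∈ U) (x : X) : ⁅x, u⁆ ∈ U := by
  rw [← commutatorElement_inv]
  exact U.inv_mem (bd.comm_mem_U hu x)

/-- commutators with elements of `U` are killed by the powers that make the element central -/
theorem comm_pow (bd : BData X A U W τ) {u : X} (hu : u ∈ U) (x : X) (m : ℕ)
    (hm : u ^ m ∈ center X) : ⁅u, x⁆ ^ m = 1 := by
  have h1 : ⁅u, x⁆ = u * (x * u⁻¹ * x⁻¹) := by simp only [commutatorElement_def]; group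
  have h2 : x * u⁻¹ * x⁻¹ ∈ U := bd.Un.conj_mem _ (U.inv_mem hu) x
  rw [h1, (show Commute u (x * u⁻¹ * x⁻¹) from bd.Uc u hu _ h2).mul_pow, conj_pow, inv_pow]
  have h3 : x * (u ^ m)⁻¹ = (u ^ m)⁻¹ * x := mem_center_iff.mp ((center X).inv_mem hm) x
  rw [h3, mul_inv_cancel_right, mul_inv_cancel]

theorem comm_pow' (bd : BData X A U W τ) {u : X} (hu : u ∈ U) (x : X) (m : ℕ)
    (hm : u ^ m ∈ center X) : ⁅x, u⁆ ^ m = 1 := by
  rw [← commutatorElement_inv, inv_pow, bd.comm_pow hu x m hm, inv_one]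

theorem Wn (bd : BData X A U W τ) : W.Normal := by
  constructor
  intro w hw g
  have := mem_center_iff.mp (bd.Wc hw) g
  rw [this, mul_inv_cancel_right]
  exact hw

/-- the structure of the group when the centre is `W` and contains the Frattini subgroup -/
theorem star_of_frattini_le [Finite X] (bd : BData X A U W τ) (hZW : center X = W)
    (hΦ : frattini X ≤ W) : Star X := by
  have : Fact (Nat.Prime 2) := ⟨Nat.prime_two⟩
  have hDΦ : commutator X ≤ frattini X := by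
    rw [_root_.commutator_def, Subgroup.commutator_le]
    intro x _ y _
    exact Cfsg.Agent.Lib.Helper97.commutatorElement_mem_frattini bd.hs.two x y
  have hD : commutator X = W := bd.Wirr _ (hDΦ.trans hΦ)
    (fun σ _ v hv => commutator_apply_mem σ hv) (commutator_ne_bot bd.hs.nab)
  refine ⟨by rw [hD, hZW], le_antisymm (hZW ▸ hΦ) (by rw [hZW, ← hD]; exact hDΦ),
    fun z hz => bd.W2 z (hZW ▸ hz)⟩

/-- the case of exponent two -/
theorem caseB1 [Finite X] (bd : BData X A U W τ) (hexp2 : ∀ u ∈ U, u ^ 2 = 1) :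
    Cfsg.IsSpecial 2 X ∧ Nat.card X = 64 ∧ Nat.card {x : X // orderOf x = 2} = 3 ∧
      ∀ x : X, orderOf x = 2 → x ∈ center X := by
  have hUW : U = W := le_antisymm (fun u hu => bd.Wmem u hu (hexp2 u hu)) bd.WU
  have hZU : center X = U :=
    le_antisymm (bd.hs.center_le_of_max bd.Un bd.Uc bd.Ui bd.Umax) (hUW ▸ bd.Wc)
  have hZW : center X = W := hZU.trans hUW
  have hmax' : ∀ B : Subgroup X, B.Normal → (∀ x ∈ B, ∀ y ∈ B, x * y = y * x) →
      (∀ σ ∈ A, ∀ b ∈ B, σ b ∈ B) → center X ≤ B → B = center X := by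
    rw [hZU]
    exact bd.Umax
  have hΦ := bd.hs.frattini_le_center hmax'
  have st := bd.star_of_frattini_le hZW (hZW ▸ hΦ)
  have h4 : Nat.card (center X) = 4 := by rw [hZW]; exact bd.W4
  exact bd.hs.special_four st h4 (bd.hs.card_eq_64 st h4 hmax')

end BData

/-- the data of the case of exponent at least four -/
structure EData (X : Type*) [Group X] (A : Subgroup (MulAut X)) (U W : Subgroup X)
    (τ : MulAut X) (j : ℕ) : Prop where
  bd : BData X A U W τ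
  exp : ∀ u ∈ U, u ^ 2 ^ (j + 2) = 1
  surj : ∀ w ∈ W, ∃ u ∈ U, u ^ 2 ^ (j + 1) = w

variable {U W : Subgroup X} {τ : MulAut X}

theorem BData.exists_edata [Finite X] (bd : BData X A U W τ) (hexp : ∃ u ∈ U, u ^ 2 ≠ 1) :
    ∃ j, EData X A U W τ j := by
  classical
  obtain ⟨u₁, hu₁, hu₁2⟩ := hexp
  have hex : ∃ k, ∀ u ∈ U, u ^ 2 ^ k = 1 := by
    obtain ⟨k, hk⟩ := bd.hs.two.exists_card_eq
    exact ⟨k, fun u _ => by rw [← hk]; exact pow_card_eq_one'⟩
  have hk1 : ∀ u ∈ U, u ^ 2 ^ (Nat.find hex) = 1 := Nat.find_spec hex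
  have hk2 : 2 ≤ Nat.find hex := by
    by_contra hcon
    push Not at hcon
    have h1 := hk1 u₁ hu₁
    have hk' : Nat.find hex = 0 ∨ Nat.find hex = 1 := by omega
    rcases hk' with h0 | h0
    · rw [h0, pow_zero, pow_one] at h1
      apply hu₁2
      rw [h1, one_pow]
    · rw [h0, pow_one] at h1
      exact hu₁2 h1
  obtain ⟨j, hj⟩ : ∃ j, Nat.find hex = j + 2 := ⟨Nat.find hex - 2, by omega⟩
  have hmin : ¬ ∀ u ∈ U, u ^ 2 ^ (j + 1) = 1 := Nat.find_min hex (by omega)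
  push Not at hmin
  obtain ⟨u₂, hu₂, hu₂e⟩ := hmin
  rw [hj] at hk1
  have hπ : ∀ u ∈ U, u ^ 2 ^ (j + 1) ∈ W := fun u hu =>
    bd.Wmem _ (U.pow_mem hu _) (by rw [← pow_mul, ← pow_succ]; exact hk1 u hu)
  let V : Subgroup X :=
    { carrier := {w | ∃ u ∈ U, u ^ 2 ^ (j + 1) = w}
      one_mem' := ⟨1, U.one_mem, one_pow _⟩
      mul_mem' := by
        rintro a b ⟨u, hu, rfl⟩ ⟨v, hv, rfl⟩
        exact ⟨u * v, U.mul_mem hu hv, (show Commute u v from bd.Uc u hu v hv).mul_pow _⟩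
      inv_mem' := by
        rintro a ⟨u, hu, rfl⟩
        exact ⟨u⁻¹, U.inv_mem hu, inv_pow _ _⟩ }
  have hV : V = W := bd.Wirr V (by rintro _ ⟨u, hu, rfl⟩; exact hπ u hu)
    (by
      rintro σ hσ _ ⟨u, hu, rfl⟩
      exact ⟨σ u, bd.Ui σ hσ u hu, (map_pow σ u _).symm⟩)
    (by
      intro h
      have : u₂ ^ 2 ^ (j + 1) ∈ V := ⟨u₂, hu₂, rfl⟩
      rw [h, mem_bot] at this
      exact hu₂e this)
  refine ⟨j, bd, hk1, fun w hw => ?_⟩
  have : w ∈ V := hV ▸ hw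
  exact this

namespace EData

variable {j : ℕ}

theorem pi_mem (ed : EData X A U W τ j) {u : X} (hu : u ∈ U) : u ^ 2 ^ (j + 1) ∈ W :=
  ed.bd.Wmem _ (U.pow_mem hu _) (by rw [← pow_mul, ← pow_succ]; exact ed.exp u hu)

theorem pi_mul (ed : EData X A U W τ j) {u v : X} (hu : u ∈ U) (hv : v ∈ U) :
    (u * v) ^ 2 ^ (j + 1) = u ^ 2 ^ (j + 1) * v ^ 2 ^ (j + 1) :=
  (show Commute u v from ed.bd.Uc u hu v hv).mul_pow _

theorem pi_W (ed : EData X A U W τ j) {w : X} (hw : w ∈ W) : w ^ 2 ^ (j + 1) = 1 := by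
  rw [pow_succ', pow_mul, ed.bd.W2 w hw, one_pow]

theorem pi_tau (_ed : EData X A U W τ j) (σ : MulAut X) (u : X) :
    (σ u) ^ 2 ^ (j + 1) = σ (u ^ 2 ^ (j + 1)) := (map_pow σ u _).symm

/-- the elements killed by the power map are squares -/
theorem sq_surj [Finite X] (ed : EData X A U W τ j) :
    ∀ u ∈ U, u ^ 2 ^ (j + 1) = 1 → ∃ y ∈ U, y ^ 2 = u := by
  let π : U →* X := MonoidHom.mk' (fun u => (u : X) ^ 2 ^ (j + 1)) (by
    intro a b
    exact ed.pi_mul a.2 b.2)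
  let f : U →* U := MonoidHom.mk' (fun u => u ^ 2) (by
    intro a b
    apply Subtype.ext
    exact (show Commute (a : X) (b : X) from ed.bd.Uc a a.2 b b.2).mul_pow 2)
  have hπf : ∀ u, π (f u) = 1 := by
    intro u
    change (((u ^ 2 : U) : X)) ^ 2 ^ (j + 1) = 1
    rw [Subgroup.coe_pow, ← pow_mul, ← pow_succ']
    exact ed.exp u u.2
  have hW : W ≤ π.range := by
    intro w hw
    obtain ⟨u, hu, rfl⟩ := ed.surj w hw
    exact ⟨⟨u, hu⟩, rfl⟩
  have hker : Nat.card f.ker ≤ Nat.card W := by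
    apply Nat.card_le_card_of_injective (fun u : f.ker => (⟨u.1.1, ed.bd.Wmem _ u.1.2 (by
      have := u.2
      rw [MonoidHom.mem_ker] at this
      exact congrArg Subtype.val this)⟩ : W))
    intro a b hab
    apply Subtype.ext
    apply Subtype.ext
    have h := congrArg Subtype.val hab
    exact h
  have hcard : Nat.card f.ker ≤ Nat.card π.range := hker.trans (Subgroup.card_le_of_le hW)
  intro u hu hue
  obtain ⟨y, hy⟩ := endo_count π f hπf hcard ⟨u, hu⟩ hue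
  exact ⟨y, y.2, congrArg Subtype.val hy⟩

/-- the elements of `U` modulo the kernel of the power map -/
theorem U_elems [Finite X] (ed : EData X A U W τ j) {v : X} (hv : v ∈ U)
    (hve : v ^ 2 ^ (j + 1) ≠ 1) :
    ∀ u ∈ U, ∃ z ∈ U, z ^ 2 ^ (j + 1) = 1 ∧
      (u = z ∨ u = z * v ∨ u = z * τ v ∨ u = z * (v * τ v)) := by
  intro u hu
  have key : ∀ y ∈ U, u ^ 2 ^ (j + 1) = y ^ 2 ^ (j + 1) →
      ∃ z ∈ U, z ^ 2 ^ (j + 1) = 1 ∧ u = z * y := by
    intro y hy h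
    refine ⟨u * y⁻¹, U.mul_mem hu (U.inv_mem hy), ?_, by rw [inv_mul_cancel_right]⟩
    rw [ed.pi_mul hu (U.inv_mem hy), inv_pow, h, mul_inv_cancel]
  have hτv := ed.bd.tau_U hv
  rcases ed.bd.W_elems (ed.pi_mem hv) hve _ (ed.pi_mem hu) with h | h | h | h
  · exact ⟨u, hu, h, Or.inl rfl⟩
  · obtain ⟨z, hz, hze, hzu⟩ := key v hv h
    exact ⟨z, hz, hze, Or.inr (Or.inl hzu)⟩
  · obtain ⟨z, hz, hze, hzu⟩ := key (τ v) hτv (by rw [h, map_pow])
    exact ⟨z, hz, hze, Or.inr (Or.inr (Or.inl hzu))⟩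
  · obtain ⟨z, hz, hze, hzu⟩ := key (v * τ v) (U.mul_mem hv hτv) (by
      rw [h, ed.pi_mul hv hτv, map_pow])
    exact ⟨z, hz, hze, Or.inr (Or.inr (Or.inr hzu))⟩

end EData

end Cfsg.Agent.Lib.Helper73.Scn3
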