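import Cfsg.Agent.Lib.Helper73.Scn3B38

/-!
(helper73) nonabelian `2`-groups without normal abelian subgroups of rank `3` admitting a group `A` of
automorphisms of odd order with `[X, A] = X`: the classification.
-/

set_option autoImplicit false

namespace Cfsg.Agent.Lib.Helper73.Scn3

open Subgroup
open scoped commutatorElement

variable {X : Type*} [Group X] {A : Subgroup (MulAut X)}

namespace Setup

/-- the case of a trivial action on a maximal invariant normal abelian subgroup -/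
theorem caseA [Finite X] (hs : Setup X A) (U : Subgroup X) (hUn : U.Normal)
    (hUc : ∀ x ∈ U, ∀ y ∈ U, x * y = y * x) (hUi : ∀ σ ∈ A, ∀ u ∈ U, σ u ∈ U)
    (hmax : ∀ B : Subgroup X, B.Normal → (∀ x ∈ B, ∀ y ∈ B, x * y = y * x) →
      (∀ σ ∈ A, ∀ b ∈ B, σ b ∈ B) → U ≤ B → B = U)
    (hfix : ∀ σ ∈ A, ∀ u ∈ U, σ u = u) :
    Nonempty (X ≃* QuaternionGroup 2) ∨
      (Cfsg.IsSpecial 2 X ∧ Nat.card X = 64 ∧ Nat.card {x : X // orderOf x = 2} = 3 ∧
        ∀ x : X, orderOf x = 2 → x ∈ center X) ∨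
      (Cfsg.IsExtraspecial 2 X ∧ Nat.card X = 32 ∧ Nat.card {x : X // orderOf x = 2} = 11) := by
  have : Fact (Nat.Prime 2) := ⟨Nat.prime_two⟩
  have hZU : center X = U :=
    le_antisymm (hs.center_le_of_max hUn hUc hUi hmax) (hs.le_center_of_fixed U hUn hfix)
  have hmax' : ∀ B : Subgroup X, B.Normal → (∀ x ∈ B, ∀ y ∈ B, x * y = y * x) →
      (∀ σ ∈ A, ∀ b ∈ B, σ b ∈ B) → center X ≤ B → B = center X := by
    rw [hZU]
    exact hmax
  have hΦZ := hs.frattini_le_center hmax'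
  have hDΦ : commutator X ≤ frattini X := by
    rw [_root_.commutator_def, Subgroup.commutator_le]
    intro x _ y _
    exact Cfsg.Agent.Lib.Helper97.commutatorElement_mem_frattini hs.two x y
  have hZD : center X ≤ commutator X := by
    intro z hz
    apply hs.mem_of_fixed (commutator X) le_rfl
    intro σ hσ
    rw [hfix σ hσ z (hZU ▸ hz), inv_mul_cancel]
    exact one_mem _
  have hDeq : commutator X = center X := le_antisymm (hDΦ.trans hΦZ) hZD
  have hΦeq : frattini X = center X := le_antisymm hΦZ (hZD.trans hDΦ)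
  have hexp : ∀ z ∈ center X, z ^ 2 = 1 := by
    intro z hz
    apply commutator_exp_two (hDΦ.trans hΦZ) _ z (hZD hz)
    intro x
    exact hΦZ (Cfsg.Agent.Lib.Helper97.pow_prime_mem_frattini hs.two x)
  have st : Star X := ⟨hDeq, hΦeq, hexp⟩
  have hcard : Nat.card (center X) ≤ 4 :=
    hs.rk (center X) inferInstance (fun x hx y _ => (mem_center_iff.mp hx y).symm) (center X) le_rfl
      hexp
  have hne : center X ≠ ⊥ := by
    rw [← hDeq]
    exact commutator_ne_bot hs.nab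
  obtain ⟨i, hi⟩ := (hs.two.to_subgroup (center X)).exists_card_eq
  have hi3 : i < 3 := by
    by_contra hcon
    push Not at hcon
    have : 2 ^ 3 ≤ 2 ^ i := Nat.pow_le_pow_right (by norm_num) hcon
    omega
  have hi0 : i ≠ 0 := by
    intro h
    rw [h, pow_zero] at hi
    exact hne (Subgroup.card_eq_one.mp hi)
  have hi' : i = 1 ∨ i = 2 := by omega
  rcases hi' with h | h
  · rw [h, pow_one] at hi
    rcases hs.extraspecial_two st hi with h1 | h1
    · exact Or.inl h1
    · exact Or.inr (Or.inr h1)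
  · rw [h] at hi
    have h4 : Nat.card (center X) = 4 := by rw [hi]; norm_num
    exact Or.inr (Or.inl (hs.special_four st h4 (hs.card_eq_64 st h4 hmax')))

/-- the classification in the abstract setting -/
theorem main [Finite X] (hs : Setup X A) :
    Nonempty (X ≃* QuaternionGroup 2) ∨
      (Cfsg.IsSpecial 2 X ∧ Nat.card X = 64 ∧ Nat.card {x : X // orderOf x = 2} = 3 ∧
        ∀ x : X, orderOf x = 2 → x ∈ center X) ∨
      (Cfsg.IsExtraspecial 2 X ∧ Nat.card X = 32 ∧ Nat.card {x : X // orderOf x = 2} = 11) := by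
  obtain ⟨U, hUn, hUc, hUi, hmax⟩ := hs.exists_max
  by_cases hfix : ∀ σ ∈ A, ∀ u ∈ U, σ u = u
  · exact hs.caseA U hUn hUc hUi hmax hfix
  push Not at hfix
  obtain ⟨σ₀, hσ₀, u₀, hu₀, hmove⟩ := hfix
  obtain ⟨W, bd⟩ := hs.exists_bdata U hUn hUc hUi hmax hσ₀ hu₀ hmove
  right; left
  by_cases hexp2 : ∀ u ∈ U, u ^ 2 = 1
  · exact bd.caseB1 hexp2
  push Not at hexp2
  obtain ⟨j, ed⟩ := bd.exists_edata hexp2
  have cd := ed.cdata
  cases j with
  | zero => exact cd.caseB34
  | succ j => exact cd.caseB38.elim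

end Setup

/-- the classification -/
theorem scn3_main {X : Type*} [Group X] [Finite X] (hX : IsPGroup 2 X)
    (hna : ¬ IsMulCommutative X)
    (hscn : ¬ ∃ A : Subgroup X, A.Normal ∧ Subgroup.centralizer (A : Set X) = A ∧
      ∃ E : Subgroup X, E ≤ A ∧ Cfsg.IsElementaryAbelian 2 E ∧ Nat.card E = 8)
    (A : Subgroup (MulAut X)) (hA : Odd (Nat.card A))
    (hXA : Subgroup.closure {g : X | ∃ φ ∈ A, ∃ x : X, g = x⁻¹ * φ x} = ⊤) :
    Nonempty (X ≃* QuaternionGroup 2) ∨
      (Cfsg.IsSpecial 2 X ∧ Nat.card X = 64 ∧ Nat.card {x : X // orderOf x = 2} = 3 ∧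
        ∀ x : X, orderOf x = 2 → x ∈ Subgroup.center X) ∨
      (Cfsg.IsExtraspecial 2 X ∧ Nat.card X = 32 ∧ Nat.card {x : X // orderOf x = 2} = 11) := by
  have : Fact (Nat.Prime 2) := ⟨Nat.prime_two⟩
  have : Group.IsNilpotent X := hX.isNilpotent
  apply Setup.main (A := A)
  refine ⟨hX, hA, ?_, ?_, ?_⟩
  · intro N hN
    rw [eq_top_iff, ← hXA, closure_le]
    rintro g ⟨φ, hφ, x, rfl⟩
    exact hN φ hφ x
  · intro B hBn hBc E hEB hE2
    by_contra hcon
    push Not at hcon
    obtain ⟨i, hi⟩ := (hX.to_subgroup E).exists_card_eq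
    have hi3 : 3 ≤ i := by
      by_contra h
      push Not at h
      have : 2 ^ i ≤ 2 ^ 2 := Nat.pow_le_pow_right (by norm_num) (by omega)
      omega
    have hdvd : 2 ^ 3 ∣ Nat.card E := by
      rw [hi]
      exact pow_dvd_pow 2 hi3
    obtain ⟨K, hK⟩ := Sylow.exists_subgroup_card_pow_prime 2 hdvd
    obtain ⟨A', hBA', hA'n, hA'c⟩ := Cfsg.Agent.Lib.Helper24.exists_normal_self_centralizing B
      (Cfsg.Agent.Lib.Helper73.isMulCommutative_of_forall B hBc)
    apply hscn
    refine ⟨A', hA'n, hA'c, K.map E.subtype, ?_, ⟨?_, ?_⟩, ?_⟩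
    · rintro _ ⟨k, -, rfl⟩
      exact hBA' (hEB k.2)
    · apply Cfsg.Agent.Lib.Helper73.isMulCommutative_of_forall
      rintro _ ⟨k, -, rfl⟩ _ ⟨k', -, rfl⟩
      exact hBc _ (hEB k.2) _ (hEB k'.2)
    · rintro _ ⟨k, -, rfl⟩
      exact hE2 _ k.2
    · rw [Subgroup.card_map_of_injective E.subtype_injective, hK]
      norm_num
  · by_contra hcon
    push Not at hcon
    exact hna ⟨⟨hcon⟩⟩

end Cfsg.Agent.Lib.Helper73.Scn3
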