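import Cfsg.Agent.Lib.Helper19.SuzHigCW

/-!
(helper73) The Chevalley–Warning bound for the squaring map of a group of class two:
if `T ≤ M` are central, `M` has exponent two and contains all elements of square one, and all
squares and commutators lie in `T`, then `|P : M| ≤ |T|²`.
-/

set_option autoImplicit false

namespace Cfsg.Agent.Lib.Helper73.Scn3

open Subgroup

variable {P : Type*} [Group P]

theorem sq_eq_of_mk_eq' (M : Subgroup P) (hMc : M ≤ center P) (hM2 : ∀ m ∈ M, m * m = 1) {x y : P}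
    (hxy : x⁻¹ * y ∈ M) : x * x = y * y := by
  set z := x⁻¹ * y with hz
  have hzc := Subgroup.mem_center_iff.mp (hMc hxy)
  have hy : y = x * z := by rw [hz]; group
  rw [hy]
  calc x * x = x * x * (z * z) := by rw [hM2 z hxy, mul_one]
    _ = x * (x * z) * z := by group
    _ = x * (z * x) * z := by rw [hzc x]
    _ = x * z * (x * z) := by group

theorem cmq_congr' (M : Subgroup P) (hMc : M ≤ center P) {x x' y y' : P} (hx : x⁻¹ * x' ∈ M)
    (hy : y⁻¹ * y' ∈ M) : x'⁻¹ * y' * x' * y'⁻¹ = x⁻¹ * y * x * y⁻¹ := by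
  set z := x⁻¹ * x' with hz
  set w := y⁻¹ * y' with hw
  have ex : x' = x * z := by rw [hz]; group
  have ey : y' = y * w := by rw [hw]; group
  rw [ex, ey]
  have c1 := Subgroup.mem_center_iff.mp (hMc hx)
  have c2 := Subgroup.mem_center_iff.mp (hMc hy)
  calc (x * z)⁻¹ * (y * w) * (x * z) * (y * w)⁻¹
      = z⁻¹ * (x⁻¹ * y * (w * x) * (z * w⁻¹) * y⁻¹) := by group
    _ = z⁻¹ * (x⁻¹ * y * (x * w) * (z * w⁻¹) * y⁻¹) := by rw [c2 x]
    _ = z⁻¹ * (x⁻¹ * y * x * ((w * z) * w⁻¹) * y⁻¹) := by group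
    _ = z⁻¹ * (x⁻¹ * y * x * ((z * w) * w⁻¹) * y⁻¹) := by rw [c1 w]
    _ = z⁻¹ * (x⁻¹ * y * x * (z * y⁻¹)) := by group
    _ = z⁻¹ * (x⁻¹ * y * x * (y⁻¹ * z)) := by rw [c1 y⁻¹]
    _ = z⁻¹ * ((x⁻¹ * y * x * y⁻¹) * z) := by group
    _ = z⁻¹ * (z * (x⁻¹ * y * x * y⁻¹)) := by rw [c1 (x⁻¹ * y * x * y⁻¹)]
    _ = x⁻¹ * y * x * y⁻¹ := by group

/-- the Chevalley–Warning bound -/
theorem quad_bound [Finite P] (M T : Subgroup P) (hTM : T ≤ M) (hMc : M ≤ center P)
    (hM2 : ∀ m ∈ M, m * m = 1) (hsq : ∀ x : P, x * x ∈ T) (hcm : ∀ x y : P, x⁻¹ * y * x * y⁻¹ ∈ T)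
    (hinv : ∀ x : P, x * x = 1 → x ∈ M) : Nat.card P ≤ Nat.card M * Nat.card T ^ 2 := by
  have hMn : M.Normal := by
    constructor
    intro m hm g
    have := mem_center_iff.mp (hMc hm) g
    rw [this, mul_inv_cancel_right]
    exact hm
  have hTc : ∀ t ∈ T, ∀ g : P, g * t = t * g := fun t ht g => mem_center_iff.mp (hMc (hTM ht)) g
  have hout : ∀ v : P ⧸ M, (QuotientGroup.mk v.out : P ⧸ M) = v := fun v =>
    QuotientGroup.out_eq' v
  have hrel : ∀ (v : P ⧸ M) (x : P), (QuotientGroup.mk x : P ⧸ M) = v → x⁻¹ * v.out ∈ M := by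
    intro v x hx
    rw [← QuotientGroup.eq, hx, hout]
  let S : P ⧸ M → ↥T := fun v => ⟨v.out * v.out, hsq _⟩
  let B : P ⧸ M → P ⧸ M → ↥T := fun v w => ⟨v.out⁻¹ * w.out * v.out * w.out⁻¹, hcm _ _⟩
  have hSmk : ∀ (v : P ⧸ M) (x : P), (QuotientGroup.mk x : P ⧸ M) = v → (S v : P) = x * x := by
    intro v x hx
    show v.out * v.out = x * x
    exact (sq_eq_of_mk_eq' M hMc hM2 (hrel v x hx)).symm
  have hBmk : ∀ (v w : P ⧸ M) (x y : P), (QuotientGroup.mk x : P ⧸ M) = v →
      (QuotientGroup.mk y : P ⧸ M) = w → (B v w : P) = x⁻¹ * y * x * y⁻¹ := by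
    intro v w x y hx hy
    show v.out⁻¹ * w.out * v.out * w.out⁻¹ = _
    exact cmq_congr' M hMc (hrel v x hx) (hrel w y hy)
  have key : Nat.card (P ⧸ M) ≤ Nat.card ↥T ^ 2 := by
    apply Cfsg.Agent.Lib.Helper19.Suz.quad_card_le (V := P ⧸ M) (W := ↥T) _ _ S B
    · -- quadratic
      intro v w
      apply Subtype.ext
      have h1 := hSmk (v * w) (v.out * w.out) (by rw [QuotientGroup.mk_mul, hout, hout])
      rw [h1]
      show _ = (S v : P) * (S w : P) * (B v w : P)
      rw [hSmk v v.out (hout v), hSmk w w.out (hout w), hBmk v w v.out w.out (hout v) (hout w)]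
      set x := v.out
      set y := w.out
      have hc := hTc _ (hcm x y)
      calc (x * y) * (x * y) = x * x * ((x⁻¹ * y * x * y⁻¹) * (y * y)) := by group
        _ = x * x * ((y * y) * (x⁻¹ * y * x * y⁻¹)) := by rw [hc (y * y)]
        _ = (x * x) * (y * y) * (x⁻¹ * y * x * y⁻¹) := by group
    · -- additive in the first variable
      intro v w t
      apply Subtype.ext
      have h1 := hBmk (v * w) t (v.out * w.out) t.out (by rw [QuotientGroup.mk_mul, hout, hout])
        (hout t)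
      rw [h1]
      show _ = (B v t : P) * (B w t : P)
      rw [hBmk v t v.out t.out (hout v) (hout t), hBmk w t w.out t.out (hout w) (hout t)]
      set x := v.out
      set x' := w.out
      set y := t.out
      have hc := hTc _ (hcm x y)
      calc (x * x')⁻¹ * y * (x * x') * y⁻¹ = x'⁻¹ * (x⁻¹ * y * x * y⁻¹) * (y * x' * y⁻¹) := by group
        _ = (x⁻¹ * y * x * y⁻¹) * x'⁻¹ * (y * x' * y⁻¹) := by rw [hc x'⁻¹]
        _ = (x⁻¹ * y * x * y⁻¹) * (x'⁻¹ * y * x' * y⁻¹) := by group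
    · -- additive in the second variable
      intro v w t
      apply Subtype.ext
      have h1 := hBmk v (w * t) v.out (w.out * t.out) (hout v)
        (by rw [QuotientGroup.mk_mul, hout, hout])
      rw [h1]
      show _ = (B v w : P) * (B v t : P)
      rw [hBmk v w v.out w.out (hout v) (hout w), hBmk v t v.out t.out (hout v) (hout t)]
      set x := v.out
      set y := w.out
      set y' := t.out
      have hc := hTc _ (hcm x y')
      calc x⁻¹ * (y * y') * x * (y * y')⁻¹ = x⁻¹ * y * x * ((x⁻¹ * y' * x * y'⁻¹) * y⁻¹) := by group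
        _ = x⁻¹ * y * x * (y⁻¹ * (x⁻¹ * y' * x * y'⁻¹)) := by rw [hc y⁻¹]
        _ = (x⁻¹ * y * x * y⁻¹) * (x⁻¹ * y' * x * y'⁻¹) := by group
    · -- anisotropic
      intro v hv
      have h1 : v.out * v.out = 1 := congrArg Subtype.val hv
      have h2 := hinv _ h1
      rw [← hout v]
      exact (QuotientGroup.eq_one_iff _).mpr h2
    · intro v
      induction v using QuotientGroup.induction_on with
      | H x =>
        rw [← QuotientGroup.mk_mul]
        exact (QuotientGroup.eq_one_iff _).mpr (hTM (hsq x))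
    · intro w
      apply Subtype.ext
      exact hM2 _ (hTM w.2)
  rw [Subgroup.card_eq_card_quotient_mul_card_subgroup M, mul_comm]
  exact Nat.mul_le_mul_left _ key

end Cfsg.Agent.Lib.Helper73.Scn3
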