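import Cfsg.Agent.Lib.Helper73.Scn3Basic
import Cfsg.Agent.Lib.Helper73.Scn3Quad

/-!
(helper73) Groups with `X' = Φ(X) = Z(X)` of exponent two: general lemmas.
-/

set_option autoImplicit false

namespace Cfsg.Agent.Lib.Helper73.Scn3

open Subgroup
open scoped commutatorElement

variable {X : Type*} [Group X]

/-- `X' = Φ(X) = Z(X)` has exponent two -/
structure Star (X : Type*) [Group X] : Prop where
  comm_eq : commutator X = center X
  frat_eq : frattini X = center X
  exp : ∀ z ∈ center X, z ^ 2 = 1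

section class2

variable (hc : ∀ a b : X, ⁅a, b⁆ ∈ center X)
include hc

theorem comm_mul_left (x y g : X) : ⁅x * y, g⁆ = ⁅x, g⁆ * ⁅y, g⁆ := by
  have h1 : ⁅x * y, g⁆ = x * ⁅y, g⁆ * x⁻¹ * ⁅x, g⁆ := by
    simp only [commutatorElement_def]; group
  have h2 : x * ⁅y, g⁆ = ⁅y, g⁆ * x := mem_center_iff.mp (hc y g) x
  have h3 : ⁅x, g⁆ * ⁅y, g⁆ = ⁅y, g⁆ * ⁅x, g⁆ := (mem_center_iff.mp (hc y g) _)
  rw [h1, h2, mul_inv_cancel_right, h3]

theorem comm_mul_right (g x y : X) : ⁅g, x * y⁆ = ⁅g, x⁆ * ⁅g, y⁆ := by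
  have h1 : ⁅g, x * y⁆ = ⁅g, x⁆ * (x * ⁅g, y⁆ * x⁻¹) := by
    simp only [commutatorElement_def]; group
  have h2 : x * ⁅g, y⁆ = ⁅g, y⁆ * x := mem_center_iff.mp (hc g y) x
  rw [h1, h2, mul_inv_cancel_right]

theorem comm_inv_left (x g : X) : ⁅x⁻¹, g⁆ = (⁅x, g⁆)⁻¹ := by
  have h1 := comm_mul_left hc x x⁻¹ g
  rw [mul_inv_cancel, commutatorElement_one_left] at h1
  exact eq_inv_of_mul_eq_one_right h1.symm

theorem comm_inv_right (g x : X) : ⁅g, x⁻¹⁆ = (⁅g, x⁆)⁻¹ := by
  have h1 := comm_mul_right hc g x x⁻¹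
  rw [mul_inv_cancel, commutatorElement_one_right] at h1
  exact eq_inv_of_mul_eq_one_right h1.symm

theorem sq_mul' (x y : X) : (x * y) ^ 2 = x ^ 2 * y ^ 2 * ⁅y, x⁆ := by
  have h1 : (x * y) ^ 2 = x ^ 2 * (x⁻¹ * (⁅y, x⁆ * x) * y ^ 2) := by
    simp only [commutatorElement_def, pow_two]; group
  have h2 : ⁅y, x⁆ * x = x * ⁅y, x⁆ := (mem_center_iff.mp (hc y x) x).symm
  have h3 : ⁅y, x⁆ * y ^ 2 = y ^ 2 * ⁅y, x⁆ := (mem_center_iff.mp (hc y x) _).symm
  rw [h1, h2, inv_mul_cancel_left, mul_assoc, h3]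

/-- the elements with commutators with `g` in a given subgroup -/
def commIn (g : X) (R : Subgroup X) : Subgroup X :=
  R.comap (Cfsg.Agent.Lib.Helper86.commHom g (hc g))

theorem mem_commIn (g : X) (R : Subgroup X) (x : X) : x ∈ commIn hc g R ↔ ⁅g, x⁆ ∈ R := Iff.rfl

end class2

/-- if `D ≤ C` is central in `C` and of index at most two then `C` is abelian -/
theorem comm_of_card_le_two_mul [Finite X] (C D : Subgroup X) (hDC : D ≤ C)
    (hDc : ∀ d ∈ D, ∀ c ∈ C, c * d = d * c) (hcard : Nat.card C ≤ 2 * Nat.card D) :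
    ∀ x ∈ C, ∀ y ∈ C, x * y = y * x := by
  have hcD : Nat.card (D.subgroupOf C) = Nat.card D :=
    Nat.card_congr (Subgroup.subgroupOfEquivOfLe hDC).toEquiv
  have h1 := Subgroup.card_mul_index (D.subgroupOf C)
  rw [hcD] at h1
  have hpos : 0 < Nat.card D := Nat.card_pos
  have hidx : (D.subgroupOf C).index ≤ 2 := by
    by_contra hlt
    push Not at hlt
    have : Nat.card D * 3 ≤ Nat.card D * (D.subgroupOf C).index := Nat.mul_le_mul_left _ hlt
    omega
  have hidx0 : (D.subgroupOf C).index ≠ 0 := Subgroup.index_ne_zero_of_finite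
  intro x hx y hy
  by_cases hxD : x ∈ D
  · exact (hDc x hxD y hy).symm
  by_cases hyD : y ∈ D
  · exact hDc y hyD x hx
  have hidx2 : (D.subgroupOf C).index = 2 := by
    have h3 : (D.subgroupOf C).index ≠ 1 := by
      intro h
      rw [Subgroup.index_eq_one, Subgroup.subgroupOf_eq_top] at h
      exact hxD (h hx)
    omega
  have h4 : (⟨x, hx⟩ : C)⁻¹ * ⟨y, hy⟩ ∈ D.subgroupOf C := by
    rw [Subgroup.mul_mem_iff_of_index_two hidx2, inv_mem_iff]
    simp only [mem_subgroupOf]
    exact ⟨fun h => absurd h hxD, fun h => absurd h hyD⟩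
  rw [mem_subgroupOf] at h4
  have h5 : x⁻¹ * y ∈ D := h4
  have h6 : y = x * (x⁻¹ * y) := by group
  have h7 := hDc _ h5 x hx
  calc x * y = x * (x * (x⁻¹ * y)) := by rw [← h6]
    _ = x * (x⁻¹ * y) * x := by rw [mul_assoc, h7]
    _ = y * x := by rw [← h6]

/-- a subgroup such that any two elements outside it differ by an element of it has index at most two -/
theorem card_le_two_mul_of_forall [Finite X] (H : Subgroup X)
    (h : ∀ x y : X, x ∉ H → y ∉ H → x⁻¹ * y ∈ H) : Nat.card X ≤ 2 * Nat.card H := by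
  by_cases htop : H = ⊤
  · rw [htop, Subgroup.card_top]; omega
  obtain ⟨x0, hx0⟩ : ∃ x0, x0 ∉ H := by
    by_contra hcon
    push Not at hcon
    exact htop (eq_top_iff.mpr fun x _ => hcon x)
  have hidx : H.index = 2 := by
    rw [Subgroup.index_eq_two_iff']
    refine ⟨x0⁻¹, fun b => ?_⟩
    by_cases hb : b ∈ H
    · right
      refine ⟨hb, fun h1 => hx0 ?_⟩
      have := (H.mul_mem_cancel_right hb).mp h1
      exact inv_mem_iff.mp this
    · left
      exact ⟨h x0 b hx0 hb, hb⟩
  have := Subgroup.card_mul_index H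
  rw [hidx] at this
  omega

section ab2

variable (hc : ∀ a b : X, ⁅a, b⁆ ∈ center X)
include hc

/-- a nonabelian group of class two with an abelian subgroup `B` of index two has
`|B| = |Z(X)| |X'|` -/
theorem card_of_abelian_index_two (B : Subgroup X) (hBc : ∀ x ∈ B, ∀ y ∈ B, x * y = y * x)
    (hBi : B.index = 2) (hnab : ∃ x y : X, x * y ≠ y * x) :
    Nat.card B = Nat.card (center X) * Nat.card (commutator X) := by
  obtain ⟨x0, hx0⟩ : ∃ x0, x0 ∉ B := by
    by_contra hcon
    push Not at hcon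
    have : B = ⊤ := eq_top_iff.mpr fun x _ => hcon x
    rw [this, Subgroup.index_top] at hBi
    omega
  -- every element is in `B` or in `B x0`
  have hdec : ∀ g : X, g ∈ B ∨ g * x0⁻¹ ∈ B := by
    intro g
    by_cases hg : g ∈ B
    · left; exact hg
    · right
      rw [Subgroup.mul_mem_iff_of_index_two hBi, inv_mem_iff]
      exact ⟨fun h => absurd h hg, fun h => absurd h hx0⟩
  -- the centre lies in `B`
  have hZB : center X ≤ B := by
    intro z hz
    by_contra hzB
    obtain ⟨x, y, hxy⟩ := hnab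
    apply hxy
    have key : ∀ g : X, ∃ b ∈ B, ∃ c ∈ center X, g = b * c := by
      intro g
      by_cases hg : g ∈ B
      · exact ⟨g, hg, 1, one_mem _, (mul_one g).symm⟩
      · refine ⟨g * z⁻¹, ?_, z, hz, by group⟩
        rw [Subgroup.mul_mem_iff_of_index_two hBi, inv_mem_iff]
        exact ⟨fun h => absurd h hg, fun h => absurd h hzB⟩
    obtain ⟨b, hb, c, hc', rfl⟩ := key x
    obtain ⟨b', hb', c', hc'', rfl⟩ := key y
    have e1 := mem_center_iff.mp hc'
    have e2 := mem_center_iff.mp hc''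
    calc b * c * (b' * c') = b * (c * b') * c' := by group
      _ = b * (b' * c) * c' := by rw [e1 b']
      _ = (b * b') * (c * c') := by group
      _ = (b' * b) * (c' * c) := by rw [hBc b hb b' hb', e1 c']
      _ = b' * (b * c') * c := by group
      _ = b' * (c' * b) * c := by rw [e2 b]
      _ = b' * c' * (b * c) := by group
  -- the homomorphism `y ↦ ⁅y, x0⁆` on `B`
  let φ : B →* X := MonoidHom.mk' (fun y : B => ⁅(y : X), x0⁆) (by
    intro a b
    show ⁅((a * b : B) : X), x0⁆ = _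
    rw [Subgroup.coe_mul]
    exact comm_mul_left hc _ _ _)
  have hφ : ∀ y : B, φ y = ⁅(y : X), x0⁆ := fun _ => rfl
  -- kernel
  have hker : φ.ker = (center X).subgroupOf B := by
    ext y
    rw [MonoidHom.mem_ker, hφ, mem_subgroupOf, commutatorElement_eq_one_iff_mul_comm]
    constructor
    · intro h
      rw [mem_center_iff]
      intro g
      rcases hdec g with hg | hg
      · exact hBc g hg y y.2
      · have e1 : g = (g * x0⁻¹) * x0 := by group
        have e2 := hBc _ hg y y.2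
        rw [e1]
        calc g * x0⁻¹ * x0 * ↑y = g * x0⁻¹ * (x0 * ↑y) := by group
          _ = g * x0⁻¹ * (↑y * x0) := by rw [h]
          _ = (g * x0⁻¹ * ↑y) * x0 := by group
          _ = (↑y * (g * x0⁻¹)) * x0 := by rw [e2]
          _ = ↑y * (g * x0⁻¹ * x0) := by group
    · intro h
      exact (mem_center_iff.mp h x0).symm
  -- range
  have hrange : φ.range = commutator X := by
    apply le_antisymm
    · rintro _ ⟨y, rfl⟩
      rw [hφ]
      exact commutatorElement_mem_commutator _ _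
    · rw [commutator_def, Subgroup.commutator_le]
      intro g _ h _
      -- `{g | ∀ h, ⁅g, h⁆ ∈ range}` contains `B` and `x0`
      have hrc : ∀ y ∈ B, ⁅y, x0⁆ ∈ φ.range := fun y hy => ⟨⟨y, hy⟩, rfl⟩
      have hrc' : ∀ y ∈ B, ⁅x0, y⁆ ∈ φ.range := fun y hy => by
        rw [← commutatorElement_inv]; exact inv_mem (hrc y hy)
      have step : ∀ a b : X, (a ∈ B ∨ a = x0) → (b ∈ B ∨ b = x0) → ⁅a, b⁆ ∈ φ.range := by
        rintro a b (ha | rfl) (hb | rfl)
        · have : ⁅a, b⁆ = 1 := by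
            rw [commutatorElement_eq_one_iff_mul_comm]; exact hBc a ha b hb
          rw [this]; exact one_mem _
        · exact hrc a ha
        · exact hrc' b hb
        · rw [commutatorElement_self]; exact one_mem _
      -- decompose `g` and `h`
      have dec : ∀ g : X, ∃ b ∈ B, g = b ∨ g = b * x0 := by
        intro g
        rcases hdec g with hg | hg
        · exact ⟨g, hg, Or.inl rfl⟩
        · exact ⟨g * x0⁻¹, hg, Or.inr (by group)⟩
      obtain ⟨b1, hb1, hg⟩ := dec g
      obtain ⟨b2, hb2, hh⟩ := dec h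
      rcases hg with rfl | rfl <;> rcases hh with rfl | rfl
      · exact step _ _ (Or.inl hb1) (Or.inl hb2)
      · rw [comm_mul_right hc]
        exact mul_mem (step _ _ (Or.inl hb1) (Or.inl hb2)) (step _ _ (Or.inl hb1) (Or.inr rfl))
      · rw [comm_mul_left hc]
        exact mul_mem (step _ _ (Or.inl hb1) (Or.inl hb2)) (step _ _ (Or.inr rfl) (Or.inl hb2))
      · rw [comm_mul_left hc, comm_mul_right hc, comm_mul_right hc]
        exact mul_mem (mul_mem (step _ _ (Or.inl hb1) (Or.inl hb2))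
          (step _ _ (Or.inl hb1) (Or.inr rfl)))
          (mul_mem (step _ _ (Or.inr rfl) (Or.inl hb2)) (step _ _ (Or.inr rfl) (Or.inr rfl)))
  have h1 := Subgroup.card_eq_card_quotient_mul_card_subgroup φ.ker
  have h2 : Nat.card (B ⧸ φ.ker) = Nat.card φ.range :=
    Nat.card_congr (QuotientGroup.quotientKerEquivRange φ).toEquiv
  have h3 : Nat.card φ.ker = Nat.card (center X) := by
    rw [hker]
    exact Nat.card_congr (Subgroup.subgroupOfEquivOfLe hZB).toEquiv
  rw [h2, h3, hrange] at h1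
  rw [h1, mul_comm]

end ab2

end Cfsg.Agent.Lib.Helper73.Scn3
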