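import Mathlib
import Cfsg.Agent.Lib.Helper20.DihQuatLift

set_option autoImplicit false

/-!
# S3385 / S3685 module [D12] (helper59's Sims front-end sheet)

A group of order `12` with a normal subgroup `Q` of order `2`, quotient `P ⧸ Q ≃* S₃` and a
non-cyclic subgroup of order `4` is the dihedral group of order `12`.
-/

namespace Cfsg.Agent.Lib.Helper73.SimsFrontD12

open Cfsg.Agent.Lib.Helper20

/-- In `Perm (Fin 3)` an element of order dividing `3` commuting with an element of order dividing
`2` forces one of them to be trivial. -/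
theorem perm3_comm : ∀ σ τ : Equiv.Perm (Fin 3), (σ ^ 3 = 1 ∧ τ ^ 2 = 1 ∧ τ * σ = σ * τ) →
    (σ = 1 ∨ τ = 1) := by
  decide

/-- Dihedral presentation data give an isomorphism onto `DihedralGroup 6`. -/
theorem nonempty_mulEquiv_dihedral_six_of_data {G : Type*} [Group G] (hcard : Nat.card G = 12)
    (ρ s : G) (hρ : orderOf ρ = 6) (hs : s * s = 1) (hsρ : s * ρ * s⁻¹ = ρ⁻¹)
    (hns : s ∉ Subgroup.zpowers ρ) : Nonempty (G ≃* DihedralGroup 6) := by
  have hfin : Finite G := Nat.finite_of_card_ne_zero (by rw [hcard]; norm_num)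
  have hρ6 : ρ ^ 6 = 1 := by rw [← hρ]; exact pow_orderOf_eq_one ρ
  have hinj := dihHom_injective ρ s 6 hρ6 hs hsρ hρ hns
  have hbij : Function.Bijective (dihHom ρ s 6 hρ6 hs hsρ) := by
    rw [Nat.bijective_iff_injective_and_card]
    refine ⟨hinj, ?_⟩
    rw [DihedralGroup.nat_card, hcard]
  exact ⟨(MulEquiv.ofBijective _ hbij).symm⟩

theorem dihedral_six_of {P : Type*} [Group P] (hcard : Nat.card P = 12) (Q : Subgroup P)
    [Q.Normal] (hQ : Nat.card ↥Q = 2) (hquot : Nonempty (P ⧸ Q ≃* Equiv.Perm (Fin 3)))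
    (T : Subgroup P) (hT : Nat.card ↥T = 4) (hnc : ¬ IsCyclic ↥T) :
    Nonempty (P ≃* DihedralGroup 6) := by
  classical
  have hfin : Finite P := Nat.finite_of_card_ne_zero (by rw [hcard]; norm_num)
  obtain ⟨φ⟩ := hquot
  -- the generator `q` of `Q`
  have h2 : Fact (Nat.Prime 2) := ⟨Nat.prime_two⟩
  obtain ⟨q', hq'⟩ := exists_prime_orderOf_dvd_card' (G := ↥Q) 2 (by rw [hQ])
  set q : P := (q' : P) with hqdef
  have hqQ : q ∈ Q := q'.2
  have hqo : orderOf q = 2 := by rw [hqdef, Subgroup.orderOf_coe]; exact hq'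
  have hq1 : q ≠ 1 := by
    intro h; rw [h, orderOf_one] at hqo; norm_num at hqo
  have hqq : q * q = 1 := by
    have := pow_orderOf_eq_one q
    rwa [hqo, pow_two] at this
  -- every element of `Q` is `1` or `q`
  have hQmem : ∀ x ∈ Q, x = 1 ∨ x = q := by
    intro x hx
    by_cases hx1 : x = 1
    · left; exact hx1
    · right
      obtain ⟨y, _, hy⟩ := (Nat.card_eq_two_iff' (1 : ↥Q)).mp hQ
      have hq'1 : q' ≠ 1 := by
        intro h; apply hq1; rw [hqdef, h]; rfl
      have hxx : (⟨x, hx⟩ : ↥Q) ≠ 1 := by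
        intro h; apply hx1; exact congrArg Subtype.val h
      have e1 := hy q' hq'1
      have e2 := hy ⟨x, hx⟩ hxx
      have : (⟨x, hx⟩ : ↥Q) = q' := by rw [e1, e2]
      exact congrArg Subtype.val this
  -- `q` is central
  have hqc : ∀ g : P, g * q = q * g := by
    intro g
    have hmem : g * q * g⁻¹ ∈ Q := Subgroup.Normal.conj_mem inferInstance q hqQ g
    rcases hQmem _ hmem with h | h
    · exfalso; apply hq1
      have : g * q = g := by
        have := congrArg (· * g) h
        simpa using this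
      exact mul_left_cancel (a := g) (by rw [this, mul_one])
    · have := congrArg (· * g) h
      simpa using this
  -- an element of order 3
  have h3 : Fact (Nat.Prime 3) := ⟨Nat.prime_three⟩
  obtain ⟨d, hd⟩ := exists_prime_orderOf_dvd_card' (G := P) 3 (by rw [hcard]; norm_num)
  set r : P := q * d with hrdef
  have hro : orderOf r = 6 := by
    have hcomm : Commute q d := (hqc d).symm
    have := hcomm.orderOf_mul_eq_mul_orderOf_of_coprime (by rw [hqo, hd]; norm_num)
    rw [hrdef, this, hqo, hd]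
  have hr6 : r ^ 6 = 1 := by rw [← hro]; exact pow_orderOf_eq_one r
  have hd3 : d ^ 3 = 1 := by rw [← hd]; exact pow_orderOf_eq_one d
  have hr3 : r ^ 3 = q := by
    have hcomm : Commute q d := (hqc d).symm
    rw [hrdef, hcomm.mul_pow, hd3, mul_one]
    have : q ^ 3 = q * q * q := by rw [pow_succ, pow_two]
    rw [this, hqq, one_mul]
  -- `Q ≤ zpowers r`
  have hQr : ∀ x ∈ Q, x ∈ Subgroup.zpowers r := by
    intro x hx
    rcases hQmem x hx with h | h
    · rw [h]; exact Subgroup.one_mem _
    · rw [h, ← hr3]; exact Subgroup.pow_mem _ (Subgroup.mem_zpowers r) _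
  -- elements of `zpowers r` with trivial square lie in `{1, q}`
  have hsq : ∀ x ∈ Subgroup.zpowers r, x * x = 1 → x = 1 ∨ x = q := by
    intro x hx hxx
    have hfo : IsOfFinOrder r := isOfFinOrder_of_finite r
    rw [← hfo.mem_powers_iff_mem_zpowers, Submonoid.mem_powers_iff] at hx
    obtain ⟨k, rfl⟩ := hx
    have h1 : r ^ (2 * k) = 1 := by rw [two_mul, pow_add]; exact hxx
    have h2 : 6 ∣ 2 * k := by rw [← hro]; exact orderOf_dvd_of_pow_eq_one h1
    have h3 : 3 ∣ k := by omega
    obtain ⟨m, rfl⟩ := h3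
    rw [pow_mul, hr3]
    rcases Nat.even_or_odd m with ⟨j, hj⟩ | ⟨j, hj⟩
    · left; rw [hj, ← two_mul, pow_mul, pow_two, hqq, one_pow]
    · right; rw [hj, pow_succ, pow_mul, pow_two, hqq, one_pow, one_mul]
  -- every element of `T` has trivial square
  have hTsq : ∀ t ∈ T, t * t = 1 := by
    intro t ht
    have hdvd : orderOf (⟨t, ht⟩ : ↥T) ∣ 4 := by rw [← hT]; exact orderOf_dvd_natCard _
    have hne4 : orderOf (⟨t, ht⟩ : ↥T) ≠ 4 := by
      intro h
      apply hnc
      exact isCyclic_of_orderOf_eq_card (⟨t, ht⟩ : ↥T) (by rw [h, hT])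
    have h4 : (4 : ℕ) = 2 ^ 2 := by norm_num
    rw [h4, Nat.dvd_prime_pow Nat.prime_two] at hdvd
    obtain ⟨k, hk, hk'⟩ := hdvd
    have hk2 : k ≤ 1 := by
      rcases Nat.lt_or_ge k 2 with h | h
      · omega
      · exfalso; apply hne4; have : k = 2 := by omega
        rw [hk', this]; norm_num
    have hpow : (⟨t, ht⟩ : ↥T) ^ 2 = 1 := by
      apply orderOf_dvd_iff_pow_eq_one.mp
      rw [hk']
      interval_cases k <;> norm_num
    have := congrArg (Subtype.val) hpow
    simpa [pow_two] using this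
  -- an element of `T` outside `zpowers r`
  have hext : ∃ t ∈ T, t ∉ Subgroup.zpowers r := by
    by_contra hcon
    push Not at hcon
    have hsub : ∀ t : ↥T, (t : P) = 1 ∨ (t : P) = q := fun t =>
      hsq _ (hcon _ t.2) (hTsq _ t.2)
    have hle : Nat.card ↥T ≤ 2 := by
      have hsubset : (T : Set P) ⊆ ({1, q} : Set P) := by
        intro x hx
        rcases hsub ⟨x, hx⟩ with h | h
        · left; exact h
        · right; exact h
      have h1 : Nat.card ↥T = (T : Set P).ncard := by
        rw [← Nat.card_coe_set_eq]; rfl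
      rw [h1]
      calc (T : Set P).ncard ≤ ({1, q} : Set P).ncard :=
            Set.ncard_le_ncard hsubset (Set.toFinite _)
        _ ≤ 2 := by
            refine (Set.ncard_insert_le 1 {q}).trans ?_
            rw [Set.ncard_singleton]
    omega
  obtain ⟨t, htT, htr⟩ := hext
  have htt : t * t = 1 := hTsq t htT
  -- `zpowers r` is normal (index 2)
  have hidx : (Subgroup.zpowers r).index = 2 := by
    have h := (Subgroup.zpowers r).card_mul_index
    rw [Nat.card_zpowers, hro, hcard] at h
    omega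
  have hnorm : (Subgroup.zpowers r).Normal := Subgroup.normal_of_index_eq_two hidx
  have hconj : t * r * t⁻¹ ∈ Subgroup.zpowers r :=
    hnorm.conj_mem r (Subgroup.mem_zpowers r) t
  have hconjo : orderOf (t * r * t⁻¹) = 6 := by
    rw [← hro]
    exact orderOf_injective (MulAut.conj t).toMonoidHom (MulAut.conj t).injective r
  -- `t * r * t⁻¹ = r` or `r⁻¹`
  have hcases : t * r * t⁻¹ = r ∨ t * r * t⁻¹ = r⁻¹ := by
    have hfo : IsOfFinOrder r := isOfFinOrder_of_finite r
    have hx := hconj
    rw [← hfo.mem_powers_iff_mem_zpowers, Submonoid.mem_powers_iff] at hx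
    obtain ⟨k, hk⟩ := hx
    have hkmod : r ^ (k % 6) = t * r * t⁻¹ := by
      rw [← hk, ← hro, pow_mod_orderOf]
    have hlt : k % 6 < 6 := Nat.mod_lt _ (by norm_num)
    set j := k % 6 with hj
    have hord : orderOf (r ^ j) = 6 := by rw [hkmod]; exact hconjo
    rw [orderOf_pow, hro] at hord
    interval_cases j
    · simp at hord
    · left; rw [← hkmod, pow_one]
    · norm_num at hord
    · norm_num at hord
    · norm_num at hord
    · right
      rw [← hkmod]
      apply eq_inv_of_mul_eq_one_left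
      rw [← pow_succ]; exact hr6
  rcases hcases with hc | hc
  · -- commuting case: impossible
    exfalso
    have hcomm : t * r = r * t := by
      have := congrArg (· * t) hc
      simpa using this
    set σ : Equiv.Perm (Fin 3) := φ (QuotientGroup.mk r) with hσ
    set τ : Equiv.Perm (Fin 3) := φ (QuotientGroup.mk t) with hτ
    have hσ3 : σ ^ 3 = 1 := by
      rw [hσ, ← map_pow, ← QuotientGroup.mk_pow, hr3]
      have : (QuotientGroup.mk q : P ⧸ Q) = 1 := (QuotientGroup.eq_one_iff q).mpr hqQ
      rw [this, map_one]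
    have hτ2 : τ ^ 2 = 1 := by
      rw [hτ, ← map_pow, ← QuotientGroup.mk_pow, pow_two, htt, QuotientGroup.mk_one, map_one]
    have hστ : τ * σ = σ * τ := by
      rw [hσ, hτ, ← map_mul, ← map_mul, ← QuotientGroup.mk_mul, ← QuotientGroup.mk_mul, hcomm]
    rcases perm3_comm σ τ ⟨hσ3, hτ2, hστ⟩ with h | h
    · have h1 : (QuotientGroup.mk r : P ⧸ Q) = 1 := by
        apply φ.injective; rw [map_one]; exact h
      have hrQ : r ∈ Q := (QuotientGroup.eq_one_iff r).mp h1
      rcases hQmem r hrQ with h' | h'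
      · rw [h', orderOf_one] at hro; norm_num at hro
      · rw [h', hqo] at hro; norm_num at hro
    · have h1 : (QuotientGroup.mk t : P ⧸ Q) = 1 := by
        apply φ.injective; rw [map_one]; exact h
      have htQ : t ∈ Q := (QuotientGroup.eq_one_iff t).mp h1
      exact htr (hQr t htQ)
  · exact nonempty_mulEquiv_dihedral_six_of_data hcard r t hro htt hc htr

end Cfsg.Agent.Lib.Helper73.SimsFrontD12
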