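import Mathlib
import Cfsg.Agent.Lib.Helper32.SLMD.Defs2

/-!
# SLMD-[G-CONST] (helper73): `const_mult`, `const_fix`
-/

set_option autoImplicit false
set_option linter.unusedSectionVars false
set_option linter.unusedVariables false

namespace Cfsg.Agent.Lib.Helper32.SLMD

open Matrix Cfsg.Agent.Lib.Helper41 Cfsg.Agent.Lib.Helper39 Module
open scoped LinearAlgebra.Projectivization

universe u v

section generic

variable {G : Type*} [Group G] {N : Type*} [Group N] [Fintype N] {H : Type*} [Group H]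
  {V : Type*} [AddCommGroup V] [Module ℂ V] [FiniteDimensional ℂ V]

namespace H73GConst

/-- the sum of the inverse values of a non-trivial linear character vanishes -/
theorem sum_inv_eq_zero (lam : N →* ℂˣ) (hlam : lam ≠ 1) :
    ∑ n : N, (((lam n)⁻¹ : ℂˣ) : ℂ) = 0 := by
  classical
  have hne : (Units.coeHom ℂ).comp lam⁻¹ ≠ 1 := by
    intro h
    apply hlam
    ext n
    have := congrArg (fun f => f n) h
    simp only [MonoidHom.comp_apply, MonoidHom.inv_apply, Units.coeHom_apply, MonoidHom.one_apply,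
      Units.val_inv_eq_inv_val] at this
    rw [MonoidHom.one_apply, Units.val_one]
    have h2 : ((lam n : ℂˣ) : ℂ) ≠ 0 := (lam n).ne_zero
    field_simp at this
    exact this.symm
  have := sum_hom_units_eq_zero ((Units.coeHom ℂ).comp lam⁻¹) hne
  simpa [MonoidHom.comp_apply, MonoidHom.inv_apply] using this

/-- splitting off the term `n = 1` -/
theorem sum_split (ρ : Representation ℂ G V) (ν : N →* G) (τ : ℂ)
    (hτ : ∀ n : N, n ≠ 1 → ρ.character (ν n) = τ) (lam : N →* ℂˣ) :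
    ∑ n : N, (((lam n)⁻¹ : ℂˣ) : ℂ) * ρ.character (ν n) =
      (finrank ℂ V : ℂ) + τ * (∑ n : N, (((lam n)⁻¹ : ℂˣ) : ℂ) - 1) := by
  classical
  rw [← Finset.add_sum_erase Finset.univ _ (Finset.mem_univ (1 : N))]
  rw [← Finset.add_sum_erase Finset.univ (fun n : N => (((lam n)⁻¹ : ℂˣ) : ℂ)) (Finset.mem_univ (1 : N))]
  have h1 : (((lam 1)⁻¹ : ℂˣ) : ℂ) = 1 := by simp
  rw [h1, map_one, Representation.char_one, one_mul, add_sub_cancel_left, Finset.mul_sum]
  congr 1
  apply Finset.sum_congr rfl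
  intro n hn
  rw [hτ n (Finset.ne_of_mem_erase hn), mul_comm]

end H73GConst

/-- [G-CONST] -/
theorem const_mult (ρ : Representation ℂ G V) (ν : N →* G) (τ : ℂ)
    (hτ : ∀ n : N, n ≠ 1 → ρ.character (ν n) = τ) (lam : N →* ℂˣ) (hlam : lam ≠ 1) :
    (Fintype.card N : ℂ) * (finrank ℂ ↥(eigenSub ρ ν lam) : ℂ) = (finrank ℂ V : ℂ) - τ := by
  rw [← sum_twist_character ρ ν lam, H73GConst.sum_split ρ ν τ hτ lam,
    H73GConst.sum_inv_eq_zero lam hlam]
  ring

/-- [G-CONST] -/
theorem const_fix (ρ : Representation ℂ G V) (ν : N →* G) (τ : ℂ)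
    (hτ : ∀ n : N, n ≠ 1 → ρ.character (ν n) = τ) :
    (Fintype.card N : ℂ) * (finrank ℂ ↥(eigenSub ρ ν 1) : ℂ) =
      (finrank ℂ V : ℂ) + ((Fintype.card N : ℂ) - 1) * τ := by
  rw [← sum_twist_character ρ ν 1, H73GConst.sum_split ρ ν τ hτ 1]
  have : ∑ n : N, ((((1 : N →* ℂˣ) n)⁻¹ : ℂˣ) : ℂ) = (Fintype.card N : ℂ) := by
    simp
  rw [this]
  ring

end generic

end Cfsg.Agent.Lib.Helper32.SLMD
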