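import Cfsg.Agent.Lib.Helper43.JordanBlockAlt
import Cfsg.Agent.Lib.Helper43.RegularNilpotent2
import Mathlib.LinearAlgebra.SymplecticGroup

/-!
(helper73, module REGU for helper40, S2512) A regular unipotent element of Mathlib's symplectic group.
-/

set_option autoImplicit false

namespace Cfsg.Agent.Lib.Helper73

open Matrix Module Cfsg.Agent.Lib.Helper43

variable {F : Type*} [Field F]

/-- the powers of a regular nilpotent matrix vanish exactly from the size of the matrix on -/
theorem pow_eq_zero_iff_of_regular {ι : Type*} [Fintype ι] [DecidableEq ι] (N : Matrix ι ι F)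
    (h1 : finrank F (LinearMap.ker (Matrix.mulVecLin N)) ≤ 1) (hnil : N ^ Fintype.card ι = 0)
    (j : ℕ) : N ^ j = 0 ↔ Fintype.card ι ≤ j := by
  have hfin : finrank F (ι → F) = Fintype.card ι := Module.finrank_fintype_fun_eq_card F
  constructor
  · intro h
    by_contra hcon
    push Not at hcon
    have h4 := finrank_ker_pow_eq (Matrix.mulVecLin N) h1
      (mulVecLin_pow_finrank_eq_zero N hnil) j (by rw [hfin]; omega)
    rw [← mulVecLin_pow', h, Matrix.mulVecLin_zero, LinearMap.ker_zero, finrank_top, hfin] at h4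
    omega
  · intro h
    exact pow_eq_zero_of_le h hnil

/-- the powers of `spUnipMat m F - 1` vanish exactly from `2 * m` on -/
theorem spUnipMat_sub_one_pow_eq_zero_iff (m : ℕ) (hm : 1 ≤ m) (j : ℕ) :
    (spUnipMat m F - 1) ^ j = 0 ↔ 2 * m ≤ j := by
  have hcard : Fintype.card (Fin m ⊕ Fin m) = 2 * m := by
    simp only [Fintype.card_sum, Fintype.card_fin]; ring
  have := pow_eq_zero_iff_of_regular (spUnipMat m F - 1) (spUnipMat_ker hm)
    (by rw [hcard]; exact spUnipMat_sub_one_pow) j
  rw [hcard] at this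
  exact this

/-- **REGU.** a regular unipotent element of the symplectic group -/
theorem exists_symplectic_regular_unipotent (_h2 : (2 : F) ≠ 0) (m : ℕ) (hm : 1 ≤ m) :
    ∃ u : symplecticGroup (Fin m) F, ∀ j : ℕ,
      ((u : Matrix (Fin m ⊕ Fin m) (Fin m ⊕ Fin m) F) - 1) ^ j = 0 ↔ 2 * m ≤ j := by
  have hRR : revMat m F * revMat m F = 1 := revMat_mul_self
  obtain ⟨P, hP⟩ : ∃ P : Matrix (Fin m ⊕ Fin m) (Fin m ⊕ Fin m) F,
      P = Matrix.fromBlocks 1 0 0 (revMat m F) := ⟨_, rfl⟩
  have hPP : P * P = 1 := by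
    rw [hP, Matrix.fromBlocks_multiply]
    simp only [Matrix.mul_one, Matrix.mul_zero, Matrix.zero_mul, add_zero, zero_add, hRR]
    exact Matrix.fromBlocks_one
  have hPΩP : P * spUnipForm m F * P = J (Fin m) F := by
    rw [hP, spUnipForm, Matrix.fromBlocks_multiply, Matrix.fromBlocks_multiply, Matrix.J]
    simp only [Matrix.mul_one, Matrix.mul_zero, Matrix.zero_mul, add_zero, zero_add, Matrix.one_mul,
      Matrix.mul_neg, Matrix.neg_mul, hRR, neg_zero]
  have hPJP : P * J (Fin m) F * P = spUnipForm m F := by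
    rw [← hPΩP]
    calc P * (P * spUnipForm m F * P) * P = (P * P) * spUnipForm m F * (P * P) := by
          simp only [Matrix.mul_assoc]
      _ = spUnipForm m F := by rw [hPP, Matrix.one_mul, Matrix.mul_one]
  have hPt : Pᵀ = P := by
    rw [hP, Matrix.fromBlocks_transpose]
    simp only [Matrix.transpose_one, Matrix.transpose_zero, revMat_transpose]
  have hpres : (spUnipMat m F)ᵀ * spUnipForm m F * spUnipMat m F = spUnipForm m F :=
    (spUnipForm_formInv (F := F) (m := m)).pres
  have hmem : P * spUnipMat m F * P ∈ symplecticGroup (Fin m) F := by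
    rw [SymplecticGroup.mem_iff']
    have hut : (P * spUnipMat m F * P)ᵀ = P * (spUnipMat m F)ᵀ * P := by
      rw [Matrix.transpose_mul, Matrix.transpose_mul, hPt, Matrix.mul_assoc]
    rw [hut]
    calc P * (spUnipMat m F)ᵀ * P * J (Fin m) F * (P * spUnipMat m F * P)
        = P * ((spUnipMat m F)ᵀ * (P * J (Fin m) F * P) * spUnipMat m F) * P := by
          simp only [Matrix.mul_assoc]
      _ = J (Fin m) F := by rw [hPJP, hpres, hPΩP]
  refine ⟨⟨P * spUnipMat m F * P, hmem⟩, fun j => ?_⟩
  change (P * spUnipMat m F * P - 1) ^ j = 0 ↔ 2 * m ≤ j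
  have h1 : P * spUnipMat m F * P - 1 = P * (spUnipMat m F - 1) * P := by
    rw [Matrix.mul_sub, Matrix.sub_mul, Matrix.mul_one, hPP]
  have h2 : ∀ k : ℕ, (P * (spUnipMat m F - 1) * P) ^ k = P * (spUnipMat m F - 1) ^ k * P := by
    intro k
    induction k with
    | zero => rw [pow_zero, pow_zero, Matrix.mul_one, hPP]
    | succ k ih =>
      rw [pow_succ, ih, pow_succ]
      calc P * (spUnipMat m F - 1) ^ k * P * (P * (spUnipMat m F - 1) * P)
          = P * (spUnipMat m F - 1) ^ k * (P * P) * (spUnipMat m F - 1) * P := by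
            simp only [Matrix.mul_assoc]
        _ = P * ((spUnipMat m F - 1) ^ k * (spUnipMat m F - 1)) * P := by
          rw [hPP, Matrix.mul_one, Matrix.mul_assoc P]
  rw [h1, h2, ← spUnipMat_sub_one_pow_eq_zero_iff (F := F) m hm j]
  constructor
  · intro h
    have h3 : P * (P * (spUnipMat m F - 1) ^ j * P) * P = 0 := by
      rw [h, Matrix.mul_zero, Matrix.zero_mul]
    have h4 : P * (P * (spUnipMat m F - 1) ^ j * P) * P = (spUnipMat m F - 1) ^ j := by
      calc P * (P * (spUnipMat m F - 1) ^ j * P) * P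
          = (P * P) * (spUnipMat m F - 1) ^ j * (P * P) := by simp only [Matrix.mul_assoc]
        _ = (spUnipMat m F - 1) ^ j := by rw [hPP, Matrix.one_mul, Matrix.mul_one]
    rw [h4] at h3
    exact h3
  · intro h
    rw [h, Matrix.mul_zero, Matrix.zero_mul]

end Cfsg.Agent.Lib.Helper73
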