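import Mathlib
import Cfsg.Agent.Lib.Helper85.SqfDefs
import Cfsg.Agent.Lib.Helper52.SqfInh

/-!
# Project SQF (helper85, S4130): modules SQF-[PIDX] and SQF-[IDX-C] (helper73, hedge)
-/

set_option autoImplicit false

namespace Cfsg.Agent.Lib.Helper73.Sqf

open Cfsg Cfsg.Agent.Lib.Helper85.Sqf

section
variable {G : Type*} [Group G]

/-- [PIDX] -/
theorem card_dvd_mul_card_inf [Finite G] (h : SqF G) {p : ℕ} [Fact p.Prime] (N : Subgroup G)
    [N.Normal] (hN : IsPGroup p N) (x : G) :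
    Nat.card N ∣ p * Nat.card ↥(N ⊓ Subgroup.centralizer ({x} : Set G)) := by
  set C := Subgroup.centralizer ({x} : Set G) with hC
  have hp : p.Prime := Fact.out
  -- |N| = |N ⊓ C| * C.relIndex N
  have h1 : Nat.card ↥(N ⊓ C) * C.relIndex N = Nat.card N := by
    have hle : C ⊓ N ≤ N := inf_le_right
    have e1 : Nat.card ↥(N ⊓ C) = Nat.card ↥(C.subgroupOf N) := by
      rw [inf_comm, ← Subgroup.inf_subgroupOf_right C N]
      exact (Nat.card_congr (Subgroup.subgroupOfEquivOfLe hle).toEquiv).symm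
    rw [e1]
    exact (C.subgroupOf N).card_mul_index
  -- the relIndex divides a power of p and is squarefree
  have h2 : C.relIndex N ∣ C.index :=
    Cfsg.Agent.Lib.Helper52.Sqf.relIndex_dvd_index_of_normal_right C N
  have h3 : Squarefree (C.relIndex N) := (h x).squarefree_of_dvd h2
  obtain ⟨n, hn⟩ := hN.exists_card_eq
  have h4 : C.relIndex N ∣ p ^ n := by
    rw [← hn, ← h1]
    exact dvd_mul_left _ _
  obtain ⟨k, _, hk⟩ := (Nat.dvd_prime_pow hp).1 h4
  have hk1 : k ≤ 1 := by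
    by_contra hcon
    push Not at hcon
    rw [hk] at h3
    have : p * p ∣ p ^ k := by
      rw [← pow_two]
      exact pow_dvd_pow p hcon
    exact hp.not_isUnit (h3 p this)
  have h5 : C.relIndex N ∣ p := by
    rw [hk]
    calc p ^ k ∣ p ^ 1 := pow_dvd_pow p hk1
      _ = p := pow_one p
  rw [← h1, mul_comm p]
  exact mul_dvd_mul_left _ h5

/-- [IDX-C] -/
theorem centralizes_of_inner_coprime [Finite G] {p : ℕ} [Fact p.Prime] (P M : Subgroup G)
    (hP : IsPGroup p P) (hMP : M ≤ P) (hMn : ∀ c ∈ P, ∀ m ∈ M, c * m * c⁻¹ ∈ M)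
    (y c : G) (hc : c ∈ P) (hy : ∀ m ∈ M, y * m * y⁻¹ = c * m * c⁻¹)
    (n : ℕ) (hn : n.Coprime p) (hyn : ∀ m ∈ M, y ^ n * m = m * y ^ n) :
    ∀ m ∈ M, y * m = m * y := by
  -- `y^j m y^-j = c^j m c^-j`
  have hpow : ∀ j : ℕ, ∀ m ∈ M, y ^ j * m * (y ^ j)⁻¹ = c ^ j * m * (c ^ j)⁻¹ := by
    intro j
    induction j with
    | zero => intro m _; simp
    | succ j ih =>
      intro m hm
      have hcm : c * m * c⁻¹ ∈ M := hMn c hc m hm
      calc y ^ (j + 1) * m * (y ^ (j + 1))⁻¹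
          = y ^ j * (y * m * y⁻¹) * (y ^ j)⁻¹ := by
            rw [pow_succ]; group
        _ = y ^ j * (c * m * c⁻¹) * (y ^ j)⁻¹ := by rw [hy m hm]
        _ = c ^ j * (c * m * c⁻¹) * (c ^ j)⁻¹ := ih _ hcm
        _ = c ^ (j + 1) * m * (c ^ (j + 1))⁻¹ := by
            rw [pow_succ]; group
  -- `c^n` centralises `M`
  have hcn : ∀ m ∈ M, c ^ n * m = m * c ^ n := by
    intro m hm
    have h1 := hpow n m hm
    have h2 : y ^ n * m * (y ^ n)⁻¹ = m := by
      rw [hyn m hm]; group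
    rw [h2] at h1
    calc c ^ n * m = (c ^ n * m * (c ^ n)⁻¹) * c ^ n := by group
      _ = m * c ^ n := by rw [← h1]
  -- `c` is a power of `c^n`
  have hco : (orderOf c).Coprime n := by
    obtain ⟨k, hk⟩ := hP.exists_orderOf_eq_pow (⟨c, hc⟩ : ↥P)
    have hk' : orderOf c = p ^ k := by
      have := Subgroup.orderOf_mk c hc
      rw [← this]; exact hk
    rw [hk']
    exact Nat.Coprime.pow_left k hn.symm
  obtain ⟨e, he⟩ := exists_pow_eq_self_of_coprime hco.symm
  have hcc : ∀ m ∈ M, c * m = m * c := by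
    intro m hm
    have hcomm : Commute (c ^ n) m := hcn m hm
    have := hcomm.pow_left e
    rw [he] at this
    exact this
  intro m hm
  have h1 := hy m hm
  have h2 : c * m * c⁻¹ = m := by rw [hcc m hm]; group
  rw [h2] at h1
  calc y * m = (y * m * y⁻¹) * y := by group
    _ = m * y := by rw [h1]

end

end Cfsg.Agent.Lib.Helper73.Sqf
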