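import Mathlib
import Cfsg.Agent.Lib.Helper71.SylAltDefs

set_option autoImplicit false

/-!
# S2221-[ARITH] (helper73, for helper71): binary digits of `n` and the `2`-part of `n!`.
-/

namespace Cfsg.Agent.Lib.Helper73.SylAlt

open Equiv Cfsg.Agent.Lib.Helper71.SylAlt

/-- auxiliary: binary expansion of `m`, with the `2`-adic valuation of `(2 m)!`. -/
theorem exists_bits_aux (m : ℕ) : ∃ F : Finset ℕ, ∑ b ∈ F, 2 ^ b = m ∧
    ∑ b ∈ F, (2 ^ (b + 1) - 1) = padicValNat 2 (Nat.factorial (2 * m)) ∧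
    (0 ∈ F ↔ m % 2 = 1) ∧ ∑ b ∈ F.erase 0, 2 ^ b = 2 * (m / 2) := by
  induction m using Nat.strong_induction_on with
  | _ m ih =>
    rcases Nat.eq_zero_or_pos m with rfl | hm
    · exact ⟨∅, by simp⟩
    · obtain ⟨F', h1, h2, -, -⟩ := ih (m / 2) (Nat.div_lt_self hm (by norm_num))
      have hinj : Function.Injective (fun b : ℕ => b + 1) := fun a b h => by simpa using h
      have hS1 : ∑ b ∈ F'.image (fun b : ℕ => b + 1), 2 ^ b = 2 * (m / 2) := by
        rw [Finset.sum_image (fun a _ b _ h => hinj h), ← h1, Finset.mul_sum]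
        exact Finset.sum_congr rfl (fun b _ => by ring)
      have hS2 : ∑ b ∈ F'.image (fun b : ℕ => b + 1), (2 ^ (b + 1) - 1)
          = padicValNat 2 (Nat.factorial (2 * (m / 2))) + 2 * (m / 2) := by
        rw [Finset.sum_image (fun a _ b _ h => hinj h), ← h2, ← h1, Finset.mul_sum,
          ← Finset.sum_add_distrib]
        refine Finset.sum_congr rfl (fun b _ => ?_)
        have : 1 ≤ 2 ^ (b + 1) := Nat.one_le_two_pow
        have h3 : 2 ^ (b + 1 + 1) = 2 * 2 ^ (b + 1) := by ring
        have h4 : 2 * 2 ^ b = 2 ^ (b + 1) := by ring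
        omega
      have hval : padicValNat 2 (Nat.factorial (2 * m))
          = padicValNat 2 (Nat.factorial (2 * (m / 2))) + m := by
        have : Fact (Nat.Prime 2) := ⟨Nat.prime_two⟩
        rw [padicValNat_factorial_mul, ← padicValNat_mul_div_factorial m]
      have h0 : (0 : ℕ) ∉ F'.image (fun b : ℕ => b + 1) := by simp
      rcases Nat.mod_two_eq_zero_or_one m with hpar | hpar
      · refine ⟨F'.image (fun b : ℕ => b + 1), ?_, ?_, ?_, ?_⟩
        · rw [hS1]; omega
        · rw [hS2, hval]; omega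
        · constructor
          · intro h; exact absurd h h0
          · intro h; omega
        · rw [Finset.erase_eq_of_notMem h0, hS1]
      · refine ⟨insert 0 (F'.image (fun b : ℕ => b + 1)), ?_, ?_, ?_, ?_⟩
        · rw [Finset.sum_insert h0, hS1]; simp; omega
        · rw [Finset.sum_insert h0, hS2, hval]; simp; omega
        · constructor
          · intro _; exact hpar
          · intro _; exact Finset.mem_insert_self _ _
        · rw [Finset.erase_insert h0, hS1]

theorem exists_bits (n : ℕ) : ∃ E : Finset ℕ, 0 ∉ E ∧ ∑ a ∈ E, 2 ^ a = 2 * (n / 2) ∧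
    ∑ a ∈ E, (2 ^ a - 1) = padicValNat 2 (Nat.factorial n) ∧
    (1 ∈ E ↔ (n % 4 = 2 ∨ n % 4 = 3)) ∧ ∑ a ∈ E.erase 1, 2 ^ a = 4 * (n / 4) := by
  obtain ⟨F, h1, h2, h3, h4⟩ := exists_bits_aux (n / 2)
  have hinj : Function.Injective (fun b : ℕ => b + 1) := fun a b h => by simpa using h
  refine ⟨F.image (fun b : ℕ => b + 1), by simp, ?_, ?_, ?_, ?_⟩
  · rw [Finset.sum_image (fun a _ b _ h => hinj h), ← h1, Finset.mul_sum]
    exact Finset.sum_congr rfl (fun b _ => by ring)
  · rw [Finset.sum_image (fun a _ b _ h => hinj h), h2]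
    have : Fact (Nat.Prime 2) := ⟨Nat.prime_two⟩
    exact padicValNat_mul_div_factorial n
  · have : (1 : ℕ) ∈ F.image (fun b : ℕ => b + 1) ↔ 0 ∈ F := by
      constructor
      · intro h
        obtain ⟨b, hb, hb1⟩ := Finset.mem_image.1 h
        have : b = 0 := by simpa using hb1
        exact this ▸ hb
      · intro h
        exact Finset.mem_image.2 ⟨0, h, rfl⟩
    rw [this, h3]; omega
  · have himg : (F.image (fun b : ℕ => b + 1)).erase 1 = (F.erase 0).image (fun b : ℕ => b + 1) := by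
      rw [Finset.image_erase hinj]
    rw [himg, Finset.sum_image (fun a _ b _ h => hinj h)]
    have : ∑ b ∈ F.erase 0, 2 ^ (b + 1) = 2 * ∑ b ∈ F.erase 0, 2 ^ b := by
      rw [Finset.mul_sum]; exact Finset.sum_congr rfl (fun b _ => by ring)
    rw [this, h4]; omega

theorem sum_two_pow_eq_two_pow {E : Finset ℕ} {r : ℕ} (h : ∑ a ∈ E, 2 ^ a = 2 ^ r) : E = {r} := by
  apply Finset.geomSum_injective (n := 2) le_rfl
  simpa using h

end Cfsg.Agent.Lib.Helper73.SylAlt
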