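import Mathlib
import Cfsg.Agent.Lib.Helper71.SylAltDefs

set_option autoImplicit false

/-!
# S2221-[TRANSFER] (helper73, for helper71): a Sylow `2`-subgroup of `Alt(n)` is isomorphic to
`R ⊓ Alt(n)` for any subgroup `R` of `Sym(n)` of order the `2`-part of `n!`.
-/

namespace Cfsg.Agent.Lib.Helper73.SylAlt

open Equiv Cfsg.Agent.Lib.Helper71.SylAlt

theorem card_inf_alt_of_card {n : ℕ} (hn : 2 ≤ n) (R : Subgroup (Perm (Fin n)))
    (hR : Nat.card R = 2 ^ padicValNat 2 (Nat.factorial n)) :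
    1 ≤ padicValNat 2 (Nat.factorial n) ∧
    (Nat.card (alternatingGroup (Fin n))).factorization 2 = padicValNat 2 (Nat.factorial n) - 1 ∧
    Nat.card ↥(R ⊓ alternatingGroup (Fin n)) = 2 ^ (padicValNat 2 (Nat.factorial n) - 1) := by
  have hp2 : Fact (Nat.Prime 2) := ⟨Nat.prime_two⟩
  have hnt : Nontrivial (Fin n) := Fin.nontrivial_iff_two_le.2 hn
  set v := padicValNat 2 (Nat.factorial n) with hv
  set A := alternatingGroup (Fin n) with hA
  have hcardA : 2 * Nat.card A = Nat.factorial n := by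
    rw [two_mul_nat_card_alternatingGroup, Nat.card_perm, Nat.card_fin]
  have hApos : Nat.card A ≠ 0 := Nat.card_pos.ne'
  have hvA : v = 1 + padicValNat 2 (Nat.card A) := by
    rw [hv, ← hcardA, padicValNat.mul (by norm_num) hApos]
    simp
  have hfac : (Nat.card A).factorization 2 = v - 1 := by
    rw [Nat.factorization_def _ Nat.prime_two]; omega
  have hv1 : 1 ≤ v := by omega
  refine ⟨hv1, hfac, ?_⟩
  -- the relative index
  have hdvd : A.relIndex R ∣ 2 := by
    have := Subgroup.relIndex_dvd_index_of_normal A R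
    rwa [alternatingGroup.index_eq_two] at this
  have hmul : Nat.card ↥(R ⊓ A) * A.relIndex R = Nat.card R := by
    have h1 := Subgroup.card_mul_index (A.subgroupOf R)
    have h2 : Nat.card ↥(A.subgroupOf R) = Nat.card ↥(R ⊓ A) := by
      rw [← Subgroup.inf_subgroupOf_right A R, inf_comm]
      exact Nat.card_congr (Subgroup.subgroupOfEquivOfLe inf_le_left).toEquiv
    rw [h2] at h1
    exact h1
  have hne1 : A.relIndex R ≠ 1 := by
    intro h1
    rw [Subgroup.relIndex_eq_one] at h1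
    have hd : Nat.card R ∣ Nat.card A := Subgroup.card_dvd_of_le h1
    rw [hR] at hd
    have hd2 : 2 ^ (v + 1) ∣ Nat.factorial n := by
      rw [← hcardA, pow_succ, mul_comm]
      exact Nat.mul_dvd_mul_left 2 hd
    have := (padicValNat_dvd_iff_le (p := 2) (Nat.factorial_ne_zero n)).1 hd2
    omega
  have h2 : A.relIndex R = 2 := by
    rcases (Nat.dvd_prime Nat.prime_two).1 hdvd with h | h
    · exact absurd h hne1
    · exact h
  rw [h2, hR] at hmul
  have hpow : (2 : ℕ) ^ v = 2 ^ (v - 1) * 2 := by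
    rw [← pow_succ]; congr 1; omega
  rw [hpow] at hmul
  exact Nat.eq_of_mul_eq_mul_right (by norm_num) hmul

theorem sylow_alt_equiv {n : ℕ} (hn : 2 ≤ n) (R : Subgroup (Perm (Fin n)))
    (hR : Nat.card R = 2 ^ padicValNat 2 (Nat.factorial n))
    (P : Sylow 2 (alternatingGroup (Fin n))) :
    Nonempty (↥(P : Subgroup (alternatingGroup (Fin n))) ≃* ↥(R ⊓ alternatingGroup (Fin n))) := by
  have hp2 : Fact (Nat.Prime 2) := ⟨Nat.prime_two⟩
  obtain ⟨-, hfac, hcard⟩ := card_inf_alt_of_card hn R hR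
  have e0 : ↥((R ⊓ alternatingGroup (Fin n)).subgroupOf (alternatingGroup (Fin n))) ≃*
      ↥(R ⊓ alternatingGroup (Fin n)) := Subgroup.subgroupOfEquivOfLe inf_le_right
  have hQ0 : Nat.card ↥((R ⊓ alternatingGroup (Fin n)).subgroupOf (alternatingGroup (Fin n)))
      = 2 ^ (Nat.card (alternatingGroup (Fin n))).factorization 2 := by
    rw [Nat.card_congr e0.toEquiv, hcard, hfac]
  have e1 : ↥(P : Subgroup (alternatingGroup (Fin n))) ≃*
      ↥((Sylow.ofCard ((R ⊓ alternatingGroup (Fin n)).subgroupOf (alternatingGroup (Fin n))) hQ0 :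
        Sylow 2 (alternatingGroup (Fin n))) : Subgroup (alternatingGroup (Fin n))) :=
    Sylow.equiv P _
  have e2 : ↥((Sylow.ofCard ((R ⊓ alternatingGroup (Fin n)).subgroupOf (alternatingGroup (Fin n))) hQ0 :
        Sylow 2 (alternatingGroup (Fin n))) : Subgroup (alternatingGroup (Fin n))) ≃*
      ↥((R ⊓ alternatingGroup (Fin n)).subgroupOf (alternatingGroup (Fin n))) :=
    MulEquiv.subgroupCongr (Sylow.coe_ofCard _ hQ0)
  exact ⟨(e1.trans e2).trans e0⟩

end Cfsg.Agent.Lib.Helper73.SylAlt
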