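import Mathlib
import Cfsg.Agent.Lib.Helper87.FusionSat
import Cfsg.Agent.Lib.Helper9.NPCLemmas2
import Cfsg.Agent.Lib.Helper24.OddSolvableStructure
import Cfsg.Agent.Lib.Helper87.FusionKNormSat
import Cfsg.Agent.Lib.Helper29.ZStarElement

/-!
# Helper73: conjugacy classes of `2`-elements

`TwoClasses G` is the type of conjugacy classes of `G` consisting of elements of `2`-power order.
* `card_twoClasses_le_card_conjClasses_sylow`: `k₂(G) ≤ k(P)`;
* `card_conjClasses_sylow_le_of_hasNormalPComplement`: `k(P) ≤ k₂(G)` if `G` is `2`-nilpotent;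
* `exists_weaklyClosed_of_card_lt`: if `|P| < 2 k₂(G)` and `P ≠ 1` then some `1 ≠ x ∈ P` is the only
  `G`-conjugate of itself in `P`.
-/

set_option autoImplicit false

namespace Cfsg.Agent.Lib.Helper73

open Cfsg

section Basic

variable {G : Type*} [Group G]

/-- Conjugacy classes consisting of elements of `2`-power order. -/
abbrev TwoClasses (G : Type*) [Group G] : Type _ :=
  {c : ConjClasses G // ∀ x ∈ c.carrier, ∃ k : ℕ, orderOf x = 2 ^ k}

theorem orderOf_conj_eq (g x : G) : orderOf (g * x * g⁻¹) = orderOf x :=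
  (SemiconjBy.orderOf_eq g (show SemiconjBy g x (g * x * g⁻¹) by
    unfold SemiconjBy; group)).symm

theorem twoClass_mk_mem {x : G} (hx : ∃ k : ℕ, orderOf x = 2 ^ k) :
    ∀ y ∈ (ConjClasses.mk x).carrier, ∃ k : ℕ, orderOf y = 2 ^ k := by
  intro y hy
  rw [ConjClasses.mem_carrier_iff_mk_eq, ConjClasses.mk_eq_mk_iff_isConj, isConj_iff] at hy
  obtain ⟨c, hc⟩ := hy
  obtain ⟨k, hk⟩ := hx
  exact ⟨k, by rw [← hk, ← hc, orderOf_conj_eq]⟩

/-- The class of a `2`-element. -/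
def twoClassOf (x : G) (hx : ∃ k : ℕ, orderOf x = 2 ^ k) : TwoClasses G :=
  ⟨ConjClasses.mk x, twoClass_mk_mem hx⟩

theorem twoClassOf_eq_iff {x y : G} (hx : ∃ k : ℕ, orderOf x = 2 ^ k)
    (hy : ∃ k : ℕ, orderOf y = 2 ^ k) :
    twoClassOf x hx = twoClassOf y hy ↔ ∃ g : G, g * x * g⁻¹ = y := by
  rw [Subtype.ext_iff]
  show ConjClasses.mk x = ConjClasses.mk y ↔ _
  rw [ConjClasses.mk_eq_mk_iff_isConj, isConj_iff]

theorem exists_rep_twoClass (c : TwoClasses G) :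
    ∃ (x : G) (hx : ∃ k : ℕ, orderOf x = 2 ^ k), twoClassOf x hx = c := by
  obtain ⟨x, hx⟩ := ConjClasses.exists_rep c.1
  exact ⟨x, c.2 x (by rw [← hx]; exact ConjClasses.mem_carrier_mk), Subtype.ext hx⟩

theorem isTwoEl_of_mem_sylow [Finite G] (P : Sylow 2 G) {x : G} (hx : x ∈ P) :
    ∃ k : ℕ, orderOf x = 2 ^ k := by
  obtain ⟨k, hk⟩ := (IsPGroup.iff_orderOf.1 P.isPGroup') ⟨x, hx⟩
  exact ⟨k, by rw [← hk, Subgroup.orderOf_mk]⟩

theorem exists_conj_mem_sylow_of_isTwoEl [Finite G] (P : Sylow 2 G) {x : G}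
    (hx : ∃ k : ℕ, orderOf x = 2 ^ k) : ∃ g : G, g * x * g⁻¹ ∈ P := by
  haveI : Fact (Nat.Prime 2) := ⟨Nat.prime_two⟩
  obtain ⟨k, hk⟩ := hx
  have hp : IsPGroup 2 (Subgroup.zpowers x) := by
    apply IsPGroup.of_card (n := k)
    rw [Nat.card_zpowers, hk]
  obtain ⟨c, hc⟩ := Cfsg.Agent.Lib.Helper87.exists_conj_mem_sylow P hp
  exact ⟨c, hc x (Subgroup.mem_zpowers x)⟩

theorem exists_mem_sylow_rep [Finite G] (P : Sylow 2 G) (c : TwoClasses G) :
    ∃ y : (P : Subgroup G), twoClassOf (y : G) (isTwoEl_of_mem_sylow P y.2) = c := by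
  obtain ⟨x, hx, hc⟩ := exists_rep_twoClass c
  obtain ⟨g, hg⟩ := exists_conj_mem_sylow_of_isTwoEl P hx
  refine ⟨⟨g * x * g⁻¹, hg⟩, ?_⟩
  rw [← hc, twoClassOf_eq_iff]
  exact ⟨g⁻¹, by group⟩

/-- `k₂(G) ≤ k(P)`. -/
theorem card_twoClasses_le_card_conjClasses_sylow [Finite G] (P : Sylow 2 G) :
    Nat.card (TwoClasses G) ≤ Nat.card (ConjClasses (P : Subgroup G)) := by
  classical
  choose rep hrep using exists_mem_sylow_rep P
  apply Nat.card_le_card_of_injective (fun c => ConjClasses.mk (rep c))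
  intro c c' h
  have h1 : IsConj (rep c) (rep c') := ConjClasses.mk_eq_mk_iff_isConj.1 h
  obtain ⟨u, hu⟩ := isConj_iff.1 h1
  rw [← hrep c, ← hrep c', twoClassOf_eq_iff]
  refine ⟨(u : G), ?_⟩
  have := congrArg (fun z : (P : Subgroup G) => (z : G)) hu
  simpa using this

/-- `k(P) ≤ k₂(G)` when `P` controls its own fusion. -/
theorem card_conjClasses_sylow_le_of_control [Finite G] (P : Sylow 2 G)
    (hctrl : ∀ x ∈ P, ∀ g : G, g * x * g⁻¹ ∈ P → ∃ u ∈ P, g * x * g⁻¹ = u * x * u⁻¹) :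
    Nat.card (ConjClasses (P : Subgroup G)) ≤ Nat.card (TwoClasses G) := by
  classical
  choose rep hrep using (ConjClasses.exists_rep (α := (P : Subgroup G)))
  apply Nat.card_le_card_of_injective
    (fun d => twoClassOf ((rep d : (P : Subgroup G)) : G) (isTwoEl_of_mem_sylow P (rep d).2))
  intro d d' h
  rw [twoClassOf_eq_iff] at h
  obtain ⟨g, hg⟩ := h
  have hgP : g * (rep d : G) * g⁻¹ ∈ P := by rw [hg]; exact (rep d').2
  obtain ⟨u, huP, hu⟩ := hctrl _ (rep d).2 g hgP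
  rw [← hrep d, ← hrep d', ConjClasses.mk_eq_mk_iff_isConj, isConj_iff]
  refine ⟨⟨u, huP⟩, Subtype.ext ?_⟩
  show u * (rep d : G) * u⁻¹ = (rep d' : G)
  rw [← hu, hg]

/-- If `|P| < 2 k₂(G)` and `P ≠ 1`, some non-identity element of `P` is the only `G`-conjugate of itself in `P`. -/
theorem exists_weaklyClosed_of_card_lt [Finite G] (P : Sylow 2 G)
    (hn : Nat.card (P : Subgroup G) < 2 * Nat.card (TwoClasses G))
    (hP : Nat.card (P : Subgroup G) ≠ 1) :
    ∃ x ∈ P, x ≠ 1 ∧ ∀ g : G, g * x * g⁻¹ ∈ P → g * x * g⁻¹ = x := by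
  classical
  by_contra hcon
  push Not at hcon
  choose rep hrep using exists_mem_sylow_rep P
  have h1 : ∃ k : ℕ, orderOf (1 : G) = 2 ^ k := ⟨0, by simp⟩
  obtain ⟨c₁, hc₁⟩ : ∃ c₁, c₁ = twoClassOf (1 : G) h1 := ⟨_, rfl⟩
  have hne : ∀ c : {c : TwoClasses G // c ≠ c₁}, ((rep c.1 : (P : Subgroup G)) : G) ≠ 1 := by
    intro c h
    apply c.2
    refine (hrep c.1).symm.trans (Eq.trans ?_ hc₁.symm)
    rw [twoClassOf_eq_iff]
    exact ⟨1, by rw [h]; group⟩
  have halt : ∀ c : {c : TwoClasses G // c ≠ c₁}, ∃ y : (P : Subgroup G),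
      twoClassOf (y : G) (isTwoEl_of_mem_sylow P y.2) = c.1 ∧ y ≠ rep c.1 := by
    intro c
    obtain ⟨g, hgP, hgne⟩ := hcon _ (rep c.1).2 (hne c)
    refine ⟨⟨_, hgP⟩, ?_, ?_⟩
    · refine Eq.trans ?_ (hrep c.1)
      rw [twoClassOf_eq_iff]
      exact ⟨g⁻¹, by group⟩
    · intro h
      exact hgne (congrArg (fun z : (P : Subgroup G) => (z : G)) h)
  choose alt halt1 halt2 using halt
  let Φ : TwoClasses G ⊕ {c : TwoClasses G // c ≠ c₁} → (P : Subgroup G) :=
    fun s => Sum.elim rep alt s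
  have hΦ : Function.Injective Φ := by
    rintro (c | c) (c' | c') h
    · have h2 : rep c = rep c' := h
      rw [← hrep c, ← hrep c', h2]
    · exfalso
      have h2 : rep c = alt c' := h
      have h3 : c = c'.1 := by
        rw [← hrep c, ← halt1 c']
        simp only [h2]
      apply halt2 c'
      rw [← h2, h3]
    · exfalso
      have h2 : alt c = rep c' := h
      have h3 : c.1 = c' := by
        rw [← hrep c', ← halt1 c]
        simp only [h2]
      apply halt2 c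
      rw [h2, h3]
    · have h2 : alt c = alt c' := h
      have h3 : c.1 = c'.1 := by
        rw [← halt1 c, ← halt1 c']
        simp only [h2]
      rw [Subtype.ext h3]
  have hcard := Nat.card_le_card_of_injective Φ hΦ
  rw [Nat.card_sum] at hcard
  have hopt : Nat.card {c : TwoClasses G // c ≠ c₁} + 1 = Nat.card (TwoClasses G) := by
    rw [← Finite.card_option]
    exact Nat.card_congr (Equiv.optionSubtypeNe c₁)
  haveI : Fact (Nat.Prime 2) := ⟨Nat.prime_two⟩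
  obtain ⟨a, ha⟩ := IsPGroup.iff_card.1 P.isPGroup'
  have ha0 : a ≠ 0 := by
    rintro rfl
    exact hP (by rw [ha, pow_zero])
  obtain ⟨a', rfl⟩ := Nat.exists_eq_succ_of_ne_zero ha0
  rw [ha, pow_succ] at hn hcard
  omega

theorem isTwoEl_map {H : Type*} [Group H] (f : G →* H) {x : G} (hx : ∃ k : ℕ, orderOf x = 2 ^ k) :
    ∃ k : ℕ, orderOf (f x) = 2 ^ k := by
  obtain ⟨k, hk⟩ := hx
  have h1 := orderOf_map_dvd f x
  rw [hk] at h1
  obtain ⟨j, -, hj⟩ := (Nat.dvd_prime_pow Nat.prime_two).1 h1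
  exact ⟨j, hj⟩

/-- `2`-elements congruent modulo a normal subgroup of odd order are conjugate under it. -/
theorem conj_of_mk_eq_of_odd [Finite G] (O : Subgroup G) [hOn : O.Normal] (hO : Odd (Nat.card O))
    {x y : G} (hx : ∃ k : ℕ, orderOf x = 2 ^ k) (hy : ∃ k : ℕ, orderOf y = 2 ^ k)
    (h : (x : G ⧸ O) = (y : G ⧸ O)) : ∃ a ∈ O, a * x * a⁻¹ = y := by
  haveI : Fact (Nat.Prime 2) := ⟨Nat.prime_two⟩
  obtain ⟨ky, hky⟩ := hy
  obtain ⟨kx, hkx⟩ := hx
  have hpy : IsPGroup 2 (Subgroup.zpowers y) := by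
    apply IsPGroup.of_card (n := ky)
    rw [Nat.card_zpowers, hky]
  have hpx : IsPGroup 2 (Subgroup.zpowers x) := by
    apply IsPGroup.of_card (n := kx)
    rw [Nat.card_zpowers, hkx]
  obtain ⟨T, hT⟩ := hpy.exists_le_sylow
  have hyT : y ∈ T := hT (Subgroup.mem_zpowers y)
  have hxy : x⁻¹ * y ∈ O := QuotientGroup.eq.1 h
  have hyx : y⁻¹ * x ∈ O := by
    have := O.inv_mem hxy
    rwa [mul_inv_rev, inv_inv] at this
  have hle : Subgroup.zpowers x ≤ (T : Subgroup G) ⊔ O := by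
    rw [Subgroup.zpowers_le]
    have : x = y * (y⁻¹ * x) := by group
    rw [this]
    exact Subgroup.mul_mem_sup hyT hyx
  obtain ⟨a, haO, ha⟩ := Cfsg.Agent.Lib.Helper87.exists_conj_mem_sylow_of_le_sup T O hpx hle
  refine ⟨a, haO, ?_⟩
  have hw : a * x * a⁻¹ ∈ T := ha x (Subgroup.mem_zpowers x)
  obtain ⟨w, hwdef⟩ : ∃ w, w = a * x * a⁻¹ := ⟨_, rfl⟩
  rw [← hwdef] at hw ⊢
  have h1 : w * y⁻¹ ∈ (T : Subgroup G) := Subgroup.mul_mem _ hw (Subgroup.inv_mem _ hyT)
  have h2 : w * y⁻¹ ∈ O := by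
    have e : w * y⁻¹ = a * (x * a⁻¹ * x⁻¹) * (x * (y⁻¹ * x) * x⁻¹) := by rw [hwdef]; group
    rw [e]
    exact O.mul_mem (O.mul_mem haO (hOn.conj_mem _ (O.inv_mem haO) x)) (hOn.conj_mem _ hyx x)
  obtain ⟨j, hj⟩ := (IsPGroup.iff_orderOf.1 T.isPGroup') ⟨w * y⁻¹, h1⟩
  have h3 : (w * y⁻¹) ^ (2 ^ j) = 1 := by
    rw [← hj, Subgroup.orderOf_mk]
    exact pow_orderOf_eq_one _
  have h4 := Cfsg.Agent.Lib.Helper29.eq_one_of_pow_two_pow_of_mem_odd h3 O hO h2
  exact mul_inv_eq_one.1 h4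

/-- `k₂(G) ≤ k₂(G ⧸ O)` for a normal subgroup `O` of odd order. -/
theorem card_twoClasses_le_quotient_of_odd [Finite G] (O : Subgroup G) [O.Normal]
    (hO : Odd (Nat.card O)) : Nat.card (TwoClasses G) ≤ Nat.card (TwoClasses (G ⧸ O)) := by
  classical
  choose rep hrep2 hrep using (exists_rep_twoClass (G := G))
  apply Nat.card_le_card_of_injective
    (fun c => twoClassOf ((QuotientGroup.mk' O) (rep c)) (isTwoEl_map _ (hrep2 c)))
  intro c c' h
  rw [twoClassOf_eq_iff] at h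
  obtain ⟨gb, hg⟩ := h
  obtain ⟨g, rfl⟩ := QuotientGroup.mk'_surjective O gb
  have h1 : ((g * rep c * g⁻¹ : G) : G ⧸ O) = (rep c' : G ⧸ O) := by
    refine Eq.trans ?_ hg
    simp
  have hx : ∃ k : ℕ, orderOf (g * rep c * g⁻¹) = 2 ^ k := by
    rw [orderOf_conj_eq]
    exact hrep2 c
  obtain ⟨a, -, ha⟩ := conj_of_mk_eq_of_odd O hO hx (hrep2 c') h1
  rw [← hrep c, ← hrep c', twoClassOf_eq_iff]
  exact ⟨a * g, by rw [← ha]; group⟩

/-- `k₂(G) ≤ |Z| · k₂(G ⧸ Z)` for a normal subgroup `Z`. -/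
theorem card_twoClasses_le_mul_quotient [Finite G] (Z : Subgroup G) [Z.Normal] :
    Nat.card (TwoClasses G) ≤ Nat.card Z * Nat.card (TwoClasses (G ⧸ Z)) := by
  classical
  choose rep hrep2 hrep using (exists_rep_twoClass (G := G))
  -- fixed lifts of representatives of the classes of the quotient
  have hlift : ∀ d : TwoClasses (G ⧸ Z), ∃ y : G, ∃ hy : (∃ k : ℕ, orderOf (y : G ⧸ Z) = 2 ^ k),
      twoClassOf (y : G ⧸ Z) hy = d := by
    intro d
    obtain ⟨yb, hyb, hd⟩ := exists_rep_twoClass d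
    obtain ⟨y, rfl⟩ := QuotientGroup.mk'_surjective Z yb
    exact ⟨y, hyb, hd⟩
  choose lift hlift2 hlift3 using hlift
  let π : TwoClasses G → TwoClasses (G ⧸ Z) :=
    fun c => twoClassOf ((QuotientGroup.mk' Z) (rep c)) (isTwoEl_map _ (hrep2 c))
  have hz : ∀ c : TwoClasses G, ∃ z : Z, ∃ g : G, g * rep c * g⁻¹ = lift (π c) * (z : G) := by
    intro c
    have h1 : twoClassOf ((QuotientGroup.mk' Z) (rep c)) (isTwoEl_map _ (hrep2 c)) =
        twoClassOf (lift (π c) : G ⧸ Z) (hlift2 (π c)) := (hlift3 (π c)).symm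
    rw [twoClassOf_eq_iff] at h1
    obtain ⟨gb, hg⟩ := h1
    obtain ⟨g, rfl⟩ := QuotientGroup.mk'_surjective Z gb
    have h2 : ((lift (π c) : G) : G ⧸ Z) = ((g * rep c * g⁻¹ : G) : G ⧸ Z) := by
      refine Eq.trans hg.symm ?_
      simp
    have h3 : (lift (π c))⁻¹ * (g * rep c * g⁻¹) ∈ Z := QuotientGroup.eq.1 h2
    exact ⟨⟨_, h3⟩, g, by group⟩
  choose zz hzz using hz
  rw [← Nat.card_prod]
  apply Nat.card_le_card_of_injective (fun c => (zz c, π c))
  intro c c' h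
  have h1 : zz c = zz c' := congrArg Prod.fst h
  have h2 : π c = π c' := congrArg Prod.snd h
  obtain ⟨g, hg⟩ := hzz c
  obtain ⟨g', hg'⟩ := hzz c'
  rw [← hrep c, ← hrep c', twoClassOf_eq_iff]
  refine ⟨g'⁻¹ * g, ?_⟩
  have h3 : g * rep c * g⁻¹ = g' * rep c' * g'⁻¹ := by rw [hg, hg', h1, h2]
  calc g'⁻¹ * g * rep c * (g'⁻¹ * g)⁻¹ = g'⁻¹ * (g * rep c * g⁻¹) * g' := by group
    _ = rep c' := by rw [h3]; group

end Basic

section Quot

variable {G : Type*} [Group G] [Finite G]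

theorem card_sylow_two_eq (P : Sylow 2 G) : Nat.card (P : Subgroup G) = 2 ^ (Nat.card G).factorization 2 := by
  haveI : Fact (Nat.Prime 2) := ⟨Nat.prime_two⟩
  exact Sylow.card_eq_multiplicity P

theorem card_sylow_quotient_of_odd (O : Subgroup G) [O.Normal] (hO : Odd (Nat.card O)) (P : Sylow 2 G)
    (Q : Sylow 2 (G ⧸ O)) : Nat.card (Q : Subgroup (G ⧸ O)) = Nat.card (P : Subgroup G) := by
  rw [card_sylow_two_eq, card_sylow_two_eq, Subgroup.card_eq_card_quotient_mul_card_subgroup O,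
    Nat.factorization_mul Nat.card_pos.ne' Nat.card_pos.ne', Finsupp.add_apply,
    Nat.factorization_eq_zero_of_not_dvd (n := Nat.card O) (by
      intro h2
      exact (Nat.not_even_iff_odd.2 hO) (even_iff_two_dvd.2 h2)), add_zero]

theorem card_sylow_quotient_of_card_two (Z : Subgroup G) [Z.Normal] (hZ : Nat.card Z = 2) (P : Sylow 2 G)
    (Q : Sylow 2 (G ⧸ Z)) : Nat.card (P : Subgroup G) = Nat.card (Q : Subgroup (G ⧸ Z)) * 2 := by
  rw [card_sylow_two_eq, card_sylow_two_eq, Subgroup.card_eq_card_quotient_mul_card_subgroup Z,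
    Nat.factorization_mul Nat.card_pos.ne' Nat.card_pos.ne', Finsupp.add_apply, hZ,
    Nat.Prime.factorization_self Nat.prime_two, pow_succ]

theorem hasNormalPComplement_of_quotient_of_odd (O : Subgroup G) [O.Normal] (hO : Odd (Nat.card O))
    (h : HasNormalPComplement 2 (G ⧸ O)) : HasNormalPComplement 2 G := by
  haveI : Fact (Nat.Prime 2) := ⟨Nat.prime_two⟩
  obtain ⟨K, hKn, hOK, hidx, hcop, -⟩ :=
    Cfsg.Agent.Lib.Helper9.exists_comap_of_hasNormalPComplement_quotient O h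
  haveI := hKn
  apply Cfsg.Agent.Lib.Helper24.hasNormalPComplement_of_normal_of_coprime_of_index 2 K _ hidx
  have h1 := Subgroup.relIndex_mul_relIndex (H := (⊥ : Subgroup G)) (K := O) (L := K) bot_le hOK
  rw [Subgroup.relIndex_bot_left, Subgroup.relIndex_bot_left] at h1
  rw [← h1]
  exact Nat.Coprime.mul_left hO.coprime_two_right hcop

theorem hasNormalPComplement_of_quotient_of_card_two (Z : Subgroup G) [Z.Normal] (hZ : Nat.card Z = 2)
    (h : HasNormalPComplement 2 (G ⧸ Z)) : HasNormalPComplement 2 G := by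
  haveI : Fact (Nat.Prime 2) := ⟨Nat.prime_two⟩
  exact Cfsg.Agent.Lib.Helper9.hasNormalPComplement_of_quotient_of_card_prime
    (fun q hq _ => hq.two_le) Z hZ h

theorem hasNormalPComplement_of_card_sylow_eq_one (P : Sylow 2 G) (hP : Nat.card (P : Subgroup G) = 1) :
    HasNormalPComplement 2 G := by
  haveI : Fact (Nat.Prime 2) := ⟨Nat.prime_two⟩
  apply Cfsg.Agent.Lib.Helper24.hasNormalPComplement_of_normal_of_coprime_of_index 2 (⊤ : Subgroup G) _
    ⟨0, by simp⟩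
  rw [Subgroup.card_top]
  have h1 := (P : Subgroup G).card_mul_index
  rw [hP, one_mul] at h1
  rw [← h1, Nat.coprime_comm, Nat.Prime.coprime_iff_not_dvd Nat.prime_two]
  exact P.not_dvd_index

end Quot

section Main

universe u

open Cfsg.Agent.Lib.Helper29

theorem npc_of_card_lt_aux (hZ : ZStarStatement.{u}) :
    ∀ (n : ℕ) (G : Type u) [Group G] [Finite G], Nat.card G = n → ∀ P : Sylow 2 G,
      Nat.card (P : Subgroup G) < 2 * Nat.card (TwoClasses G) → HasNormalPComplement 2 G := by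
  intro n
  induction n using Nat.strong_induction_on with
  | _ n ih =>
  intro G _ _ hn P hlt
  classical
  haveI : Fact (Nat.Prime 2) := ⟨Nat.prime_two⟩
  by_cases hP1 : Nat.card (P : Subgroup G) = 1
  · exact hasNormalPComplement_of_card_sylow_eq_one P hP1
  obtain ⟨x, hxP, hx1, hx⟩ := exists_weaklyClosed_of_card_lt P hlt hP1
  have hcx := zstar_element hZ P x hxP hx
  obtain ⟨t, htz, ht2⟩ := exists_involution_zpowers P hxP hx1
  obtain ⟨O, hOdef⟩ : ∃ O : Subgroup G, O = Cfsg.oddCore G := ⟨_, rfl⟩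
  haveI hOn : O.Normal := by rw [hOdef]; exact Cfsg.Agent.Lib.Helper97.pPrimeCore_normal 2
  have hOodd : Odd (Nat.card O) := by rw [hOdef]; exact Cfsg.Agent.Lib.Helper97.odd_card_oddCore
  rw [← hOdef] at hcx
  -- the image of `x` in `G ⧸ O` is central
  have hxc : ∀ a : G ⧸ O, a * (x : G ⧸ O) = (x : G ⧸ O) * a := by
    intro a
    obtain ⟨g, rfl⟩ := QuotientGroup.mk'_surjective O a
    show ((g * x : G) : G ⧸ O) = ((x * g : G) : G ⧸ O)
    rw [QuotientGroup.eq]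
    have h1 := hcx g⁻¹
    have h2 : (g * x)⁻¹ * (x * g) = x⁻¹ * (x * g⁻¹ * x⁻¹ * g⁻¹⁻¹)⁻¹ * x⁻¹⁻¹ := by group
    rw [h2]
    exact hOn.conj_mem _ (O.inv_mem h1) _
  obtain ⟨i, hi⟩ := Subgroup.mem_zpowers_iff.1 htz
  obtain ⟨tb, htb⟩ : ∃ tb : G ⧸ O, tb = (t : G ⧸ O) := ⟨_, rfl⟩
  have htbx : tb = (x : G ⧸ O) ^ i := by rw [htb, ← hi]; rfl
  have htc : ∀ a : G ⧸ O, a * tb = tb * a := by
    intro a
    have h1 : Commute a (x : G ⧸ O) := hxc a
    rw [htbx]
    exact (h1.zpow_right i).eq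
  have htt : t * t = 1 := by
    have := pow_orderOf_eq_one t
    rwa [ht2, sq] at this
  have htb2 : tb * tb = 1 := by
    rw [htb]
    show ((t * t : G) : G ⧸ O) = 1
    rw [htt]; rfl
  have htne : t ≠ 1 := by
    intro h
    rw [h, orderOf_one] at ht2
    exact absurd ht2 (by decide)
  have htb1 : tb ≠ 1 := by
    rw [htb]
    intro h
    have h1 : t ∈ O := (QuotientGroup.eq_one_iff t).1 h
    apply htne
    exact eq_one_of_pow_two_pow_of_mem_odd (k := 1) (by rw [pow_one, sq]; exact htt) O hOodd h1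
  have htbo : orderOf tb = 2 := orderOf_eq_prime (by rw [sq]; exact htb2) htb1
  obtain ⟨Zb, hZb⟩ : ∃ Zb : Subgroup (G ⧸ O), Zb = Subgroup.zpowers tb := ⟨_, rfl⟩
  have hZcard : Nat.card Zb = 2 := by rw [hZb, Nat.card_zpowers, htbo]
  haveI hZn : Zb.Normal := by
    constructor
    intro a ha b
    rw [hZb] at ha ⊢
    obtain ⟨k, rfl⟩ := Subgroup.mem_zpowers_iff.1 ha
    have h1 : Commute b tb := htc b
    have h2 : b * tb ^ k * b⁻¹ = tb ^ k := by
      rw [(h1.zpow_right k).eq]; group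
    rw [h2]
    exact Subgroup.zpow_mem _ (Subgroup.mem_zpowers tb) k
  -- Sylow subgroups of the quotients
  obtain ⟨P₁⟩ : Nonempty (Sylow 2 (G ⧸ O)) := inferInstance
  obtain ⟨P₂⟩ : Nonempty (Sylow 2 ((G ⧸ O) ⧸ Zb)) := inferInstance
  have hc1 : Nat.card (P₁ : Subgroup (G ⧸ O)) = Nat.card (P : Subgroup G) :=
    card_sylow_quotient_of_odd O hOodd P P₁
  have hc2 : Nat.card (P₁ : Subgroup (G ⧸ O)) = Nat.card (P₂ : Subgroup ((G ⧸ O) ⧸ Zb)) * 2 :=
    card_sylow_quotient_of_card_two Zb hZcard P₁ P₂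
  have hk1 : Nat.card (TwoClasses G) ≤ Nat.card (TwoClasses (G ⧸ O)) :=
    card_twoClasses_le_quotient_of_odd O hOodd
  have hk2 : Nat.card (TwoClasses (G ⧸ O)) ≤ Nat.card Zb * Nat.card (TwoClasses ((G ⧸ O) ⧸ Zb)) :=
    card_twoClasses_le_mul_quotient Zb
  rw [hZcard] at hk2
  have hlt2 : Nat.card (P₂ : Subgroup ((G ⧸ O) ⧸ Zb)) < 2 * Nat.card (TwoClasses ((G ⧸ O) ⧸ Zb)) := by
    omega
  have hcardG : Nat.card ((G ⧸ O) ⧸ Zb) < n := by
    have e1 := Subgroup.card_eq_card_quotient_mul_card_subgroup O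
    have e2 := Subgroup.card_eq_card_quotient_mul_card_subgroup Zb
    rw [hZcard] at e2
    have hOpos : 0 < Nat.card O := Nat.card_pos
    have hpos : 0 < Nat.card ((G ⧸ O) ⧸ Zb) := Nat.card_pos
    rw [← hn, e1, e2]
    nlinarith
  have h3 := ih _ hcardG ((G ⧸ O) ⧸ Zb) rfl P₂ hlt2
  have h4 := hasNormalPComplement_of_quotient_of_card_two Zb hZcard h3
  exact hasNormalPComplement_of_quotient_of_odd O hOodd h4

/-- **`k₂(G) > |P|/2` iff `G` is `2`-nilpotent and `k(P) > |P|/2`** (given the Z*-theorem). -/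
theorem card_lt_two_mul_twoClasses_iff (hZ : ZStarStatement.{u}) {G : Type u} [Group G] [Finite G]
    (P : Sylow 2 G) :
    Nat.card (P : Subgroup G) < 2 * Nat.card (TwoClasses G) ↔
      HasNormalPComplement 2 G ∧
        Nat.card (P : Subgroup G) < 2 * Nat.card (ConjClasses (P : Subgroup G)) := by
  haveI : Fact (Nat.Prime 2) := ⟨Nat.prime_two⟩
  constructor
  · intro h
    exact ⟨npc_of_card_lt_aux hZ _ G rfl P h,
      lt_of_lt_of_le h (Nat.mul_le_mul_left 2 (card_twoClasses_le_card_conjClasses_sylow P))⟩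
  · rintro ⟨hnpc, h⟩
    have hctrl := Cfsg.Agent.Lib.Helper9.controlsOwnFusion_of_hasNormalPComplement hnpc P
    exact lt_of_lt_of_le h (Nat.mul_le_mul_left 2 (card_conjClasses_sylow_le_of_control P hctrl))

end Main

end Cfsg.Agent.Lib.Helper73
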