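import Cfsg.Agent.S0646
import Cfsg.Agent.S0645

set_option autoImplicit false

namespace Cfsg.Agent.Lib.Helper73

universe u

/-- abelian case: a cyclic subgroup `⟨a⟩` of index `p`, `b0 ∉ ⟨a⟩` commuting with `a`:
either `⟨b0⟩ = ⊤`-like (`a ∈ ⟨b0⟩`) or there is `b ∉ ⟨a⟩` with `b ^ p = 1`. -/
theorem abelian_cyclic_max_dichotomy {G : Type*} [Group G] (p : ℕ) (hp : p.Prime) (a b0 : G) (n : ℕ)
    (horder : orderOf a = p ^ n)
    (hcomm : b0 * a = a * b0) (hpow : b0 ^ p ∈ Subgroup.zpowers a) (hb0 : b0 ∉ Subgroup.zpowers a) :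
    a ∈ Subgroup.zpowers b0 ∨ ∃ b : G, b ∉ Subgroup.zpowers a ∧ b ^ p = 1 := by
  obtain ⟨j, hj⟩ := Subgroup.mem_zpowers_iff.mp hpow
  by_cases hpj : (p : ℤ) ∣ j
  · right
    obtain ⟨i, rfl⟩ := hpj
    refine ⟨b0 * a ^ (-i), ?_, ?_⟩
    · intro h
      apply hb0
      have h2 : b0 = (b0 * a ^ (-i)) * a ^ i := by rw [mul_assoc, ← zpow_add]; simp
      rw [h2]
      exact mul_mem h (Subgroup.zpow_mem_zpowers a i)
    · have hc : Commute b0 (a ^ (-i)) := Commute.zpow_right hcomm _
      rw [hc.mul_pow, ← hj, ← zpow_natCast (a ^ (-i)) p, ← zpow_mul, ← zpow_add]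
      have : (p : ℤ) * i + -i * p = 0 := by ring
      rw [this, zpow_zero]
  · left
    have hcop : IsCoprime j ((p : ℤ) ^ n) := by
      apply IsCoprime.pow_right
      rw [isCoprime_comm]
      exact (Nat.prime_iff_prime_int.mp hp).coprime_iff_not_dvd.mpr hpj
    obtain ⟨u, v, huv⟩ := hcop
    have h1 : a = (a ^ j) ^ u := by
      have h2 : a ^ ((p : ℤ) ^ n) = 1 := by
        have := pow_orderOf_eq_one a
        rw [horder] at this
        exact_mod_cast this
      calc a = a ^ (1 : ℤ) := (zpow_one a).symm
        _ = a ^ (u * j + v * (p : ℤ) ^ n) := by rw [huv]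
        _ = (a ^ j) ^ u := by
            rw [zpow_add, mul_comm v, zpow_mul a _ v, h2, one_zpow, mul_one, mul_comm, zpow_mul]
    rw [h1, hj]
    exact Subgroup.zpow_mem _ (Subgroup.pow_mem _ (Subgroup.mem_zpowers b0) _) _

/-- A group of order `p ^ m` with a unique subgroup of order `p ^ s`, `1 ≤ s < m`
(and `2 ≤ s` if `p = 2`), is cyclic. -/
theorem isCyclic_of_unique_subgroup_card_prime_pow (p : ℕ) (hp : p.Prime) :
    ∀ (m : ℕ) (G : Type u) [Group G] [Finite G] (s : ℕ), Nat.card G = p ^ m → 1 ≤ s → s < m →
      (p ≠ 2 ∨ 2 ≤ s) →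
      (∀ H K : Subgroup G, Nat.card H = p ^ s → Nat.card K = p ^ s → H = K) → IsCyclic G := by
  have : Fact p.Prime := ⟨hp⟩
  intro m
  induction m with
  | zero => intro G _ _ s _ _ hsm; omega
  | succ m ih =>
    intro G _ _ s hG hs1 hsm h2 huniq
    have hdvd : p ^ s ∣ Nat.card G := hG ▸ pow_dvd_pow p hsm.le
    obtain ⟨H, hH⟩ := Sylow.exists_subgroup_card_pow_prime p hdvd
    -- (i)
    have hi : ∀ (L : Subgroup G) (j : ℕ), j ≤ s → Nat.card L = p ^ j → L ≤ H := by
      intro L j hj hL
      obtain ⟨K, hK, hLK⟩ := Sylow.exists_subgroup_card_pow_prime_le p hdvd L hL hj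
      rwa [huniq K H hK hH] at hLK
    -- (ii)
    have hii : ∀ (K : Subgroup G) (j : ℕ), s ≤ j → Nat.card K = p ^ j → H ≤ K := by
      intro K j hj hK
      have hd : p ^ s ∣ Nat.card K := hK ▸ pow_dvd_pow p hj
      obtain ⟨K', hK'⟩ := Sylow.exists_subgroup_card_pow_prime p hd
      have h3 : Nat.card (K'.map K.subtype) = p ^ s := by
        rw [← hK']
        exact Nat.card_congr (K'.equivMapOfInjective K.subtype K.subtype_injective).symm.toEquiv
      rw [← huniq _ H h3 hH]
      exact Subgroup.map_subtype_le K'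
    -- elements of small order lie in H
    have hsmall : ∀ (x : G) (j : ℕ), j ≤ s → x ^ (p ^ j) = 1 → x ∈ H := by
      intro x j hj hx
      have h3 : orderOf x ∣ p ^ j := orderOf_dvd_of_pow_eq_one hx
      obtain ⟨i, hi1, hi2⟩ := (Nat.dvd_prime_pow hp).mp h3
      have h4 : Nat.card (Subgroup.zpowers x) = p ^ i := by rw [Nat.card_zpowers, hi2]
      exact hi _ i (hi1.trans hj) h4 (Subgroup.mem_zpowers x)
    have hcardpow : ∀ K : Subgroup G, ∃ j, j ≤ m + 1 ∧ Nat.card K = p ^ j := by
      intro K
      have := Subgroup.card_subgroup_dvd_card K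
      rw [hG] at this
      exact (Nat.dvd_prime_pow hp).mp this
    -- a cyclic subgroup not inside a proper subgroup K ⊇ ... : finishing lemma
    have hfinish : ∀ (M : Subgroup G) (x : G), Nat.card M = p ^ m → M ≤ Subgroup.zpowers x → x ∉ M →
        IsCyclic G := by
      intro M x hM hle hx
      obtain ⟨e, he1, he2⟩ := hcardpow (Subgroup.zpowers x)
      have h3 : p ^ m ∣ p ^ e := by
        rw [← hM, ← he2]; exact Subgroup.card_dvd_of_le hle
      have h4 : m ≤ e := (Nat.pow_dvd_pow_iff_le_right hp.one_lt).mp h3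
      have h5 : e ≠ m := by
        intro h
        apply hx
        have := Subgroup.eq_of_le_of_card_ge hle (by rw [hM, he2, h])
        rw [this]; exact Subgroup.mem_zpowers x
      have h6 : e = m + 1 := by omega
      apply isCyclic_of_orderOf_eq_card x
      rw [← Nat.card_zpowers, he2, h6, hG]
    rcases Nat.lt_or_ge s m with hsm' | hsm'
    · -- inductive case: a maximal subgroup is cyclic
      have hdvd' : p ^ m ∣ Nat.card G := hG ▸ pow_dvd_pow p (Nat.le_succ m)
      obtain ⟨M, hM⟩ := Sylow.exists_subgroup_card_pow_prime p hdvd'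
      have hMcyc : IsCyclic M := by
        apply ih M s hM hs1 hsm' h2
        intro H₁ H₂ h1 h2'
        apply Subgroup.map_injective M.subtype_injective
        apply huniq
        · rw [← h1]
          exact Nat.card_congr (H₁.equivMapOfInjective M.subtype M.subtype_injective).symm.toEquiv
        · rw [← h2']
          exact Nat.card_congr (H₂.equivMapOfInjective M.subtype M.subtype_injective).symm.toEquiv
      have hMi : M.index = p := by
        have := Subgroup.index_mul_card M
        rw [hM, hG, pow_succ, mul_comm] at this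
        exact Nat.eq_of_mul_eq_mul_left (pos_of_ne_zero (pow_ne_zero _ hp.ne_zero)) this
      have hHM : H ≤ M := hii M m hsm'.le hM
      by_cases hab : ∀ x y : G, x * y = y * x
      · -- abelian case
        obtain ⟨g, hg⟩ := hMcyc.exists_generator
        have hzp : Subgroup.zpowers (g : G) = M := by
          ext x
          constructor
          · intro hx
            obtain ⟨k, rfl⟩ := Subgroup.mem_zpowers_iff.mp hx
            exact M.zpow_mem g.2 k
          · intro hx
            obtain ⟨k, hk⟩ := Subgroup.mem_zpowers_iff.mp (hg ⟨x, hx⟩)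
            refine Subgroup.mem_zpowers_iff.mpr ⟨k, ?_⟩
            have := congrArg Subtype.val hk
            simpa using this
        have horder : orderOf (g : G) = p ^ m := by rw [← Nat.card_zpowers, hzp, hM]
        have hMne : M ≠ ⊤ := by
          intro h
          rw [h, Subgroup.index_top] at hMi
          exact hp.one_lt.ne hMi
        obtain ⟨b0, hb0⟩ : ∃ b0 : G, b0 ∉ M := by
          by_contra hcon
          push Not at hcon
          exact hMne (eq_top_iff.mpr fun x _ => hcon x)
        have hMn : M.Normal := ⟨fun n hn g => by rw [hab g n, mul_inv_cancel_right]; exact hn⟩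
        have hpow : b0 ^ p ∈ Subgroup.zpowers (g : G) := by
          rw [hzp, ← hMi]; exact M.pow_index_mem b0
        rcases abelian_cyclic_max_dichotomy p hp (g : G) b0 m horder (hab _ _) hpow
          (by rw [hzp]; exact hb0) with h | ⟨b, hb1, hb2⟩
        · apply hfinish M b0 hM _ hb0
          rw [← hzp]
          exact (Subgroup.zpowers_le).mpr h
        · exfalso
          apply hb1
          rw [hzp]
          apply hHM
          exact hsmall b 1 hs1 (by rwa [pow_one])
      · -- non-abelian case
        exfalso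
        push Not at hab
        obtain ⟨x, y, hxy⟩ := hab
        have hm3 : 3 ≤ m + 1 := by omega
        by_cases hp2 : p = 2
        · subst hp2
          have hs2 : 2 ≤ s := by
            rcases h2 with h | h
            · exact absurd rfl h
            · exact h
          obtain ⟨a, b, ha, hb, hcases⟩ := Cfsg.Agent.S0646.result (m + 1) hm3 hG M hMcyc hMi ⟨x, y, hxy⟩
          have hHa : H ≤ Subgroup.zpowers a := by
            apply hii _ m hsm'.le
            rw [Nat.card_zpowers, ha]; rfl
          apply hb
          apply hHa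
          apply hsmall b 2 hs2
          have ha2 : a ^ (2 ^ m) = 1 := by
            have := pow_orderOf_eq_one a
            rwa [ha] at this
          have hmm : 2 ^ (m + 1 - 2) * 2 = 2 ^ m := by
            obtain ⟨t, rfl⟩ : ∃ t, m = t + 1 := ⟨m - 1, by omega⟩
            rw [show t + 1 + 1 - 2 = t by omega, pow_succ]
          have h4 : b ^ (2 ^ 2) = (b ^ 2) ^ 2 := by rw [← pow_mul]; norm_num
          rw [h4]
          rcases hcases with ⟨h, -⟩ | ⟨h, -⟩ | ⟨-, h, -⟩ | ⟨-, h, -⟩
          · rw [h, one_pow]
          · rw [h, ← pow_mul, hmm, ha2]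
          · rw [h, one_pow]
          · rw [h, one_pow]
        · obtain ⟨a, b, ha, hb, hb', -⟩ := Cfsg.Agent.S0645.result hp2 (m + 1) hm3 hG M hMcyc hMi ⟨x, y, hxy⟩
          have hHa : H ≤ Subgroup.zpowers a := by
            apply hii _ m hsm'.le
            rw [Nat.card_zpowers, ha]; rfl
          apply hb'
          apply hHa
          apply hsmall b 1 hs1
          rw [pow_one, ← hb]
          exact pow_orderOf_eq_one b
    · -- base case s = m
      have hsm'' : s = m := by omega
      subst hsm''
      have hHne : H ≠ ⊤ := by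
        intro h
        have := (Subgroup.card_eq_iff_eq_top H).mpr h
        rw [hH, hG] at this
        exact (Nat.pow_lt_pow_right hp.one_lt (Nat.lt_succ_self s)).ne this
      obtain ⟨x, hx⟩ : ∃ x : G, x ∉ H := by
        by_contra hcon
        push Not at hcon
        exact hHne (eq_top_iff.mpr fun x _ => hcon x)
      obtain ⟨e, he1, he2⟩ := hcardpow (Subgroup.zpowers x)
      have h3 : ¬ e ≤ s := by
        intro h
        exact hx (hi _ e h he2 (Subgroup.mem_zpowers x))
      have h6 : e = s + 1 := by omega
      apply isCyclic_of_orderOf_eq_card x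
      rw [← Nat.card_zpowers, he2, h6, hG]

end Cfsg.Agent.Lib.Helper73
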