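import Mathlib
import Cfsg.Prelude.Def_CaseTheorems
import Cfsg.Agent.Lib.Helper73.MetacyclicTwo

/-!
# Helper73: `C₄ ≀ C₂` does not embed in a 2-group of sectional rank at most 2

* `pRankLE_subgroup`: `PRankLE` passes to subgroups.
* `rank_two_dependence'`: version of `rank_two_dependence` with commuting (not central) `z`.
* `wreath_obstruction`: if `a` has order 4, `s` is an involution outside a subgroup `Q`
  containing `a` and `b = s a s⁻¹`, `a` and `b` commute and `⟨a⟩ ≠ ⟨b⟩`, then the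
  sectional 2-rank is at least 3 (the section `⟨a b⁻¹, a², s, a²b²⟩ / ⟨a²b²⟩` is `E₈`).
-/

set_option autoImplicit false

namespace Cfsg.Agent.Lib.Helper73

open Cfsg

/-- `PRankLE` passes to subgroups. -/
theorem pRankLE_subgroup {G : Type*} [Group G] (p k : ℕ) (h : PRankLE p k G) (E : Subgroup G) :
    PRankLE p k E := by
  intro A hA hexp
  have hcard : Nat.card (A.map E.subtype) = Nat.card A :=
    Subgroup.card_map_of_injective E.subtype_injective
  rw [← hcard]
  refine h (A.map E.subtype) inferInstance ?_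
  rintro a ⟨b, hb, rfl⟩
  rw [← map_pow, hexp b hb, map_one]

/-- In a group of 2-rank at most 2: if `z, u, v` are pairwise commuting elements of exponent 2,
`z ≠ 1` and `u ∉ ⟨z⟩`, then `v ∈ ⟨z⟩` or `v u ∈ ⟨z⟩`. -/
theorem rank_two_dependence' {S : Type*} [Group S] [Finite S] (hrk : PRankLE 2 2 S) (z u v : S)
    (hz1 : z ≠ 1) (hz2 : z ^ 2 = 1) (hu2 : u ^ 2 = 1) (hv2 : v ^ 2 = 1)
    (hzu : z * u = u * z) (hzv : z * v = v * z) (huv : u * v = v * u)
    (hu : u ∉ Subgroup.zpowers z) :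
    v ∈ Subgroup.zpowers z ∨ v * u ∈ Subgroup.zpowers z := by
  set E := Subgroup.closure ({u, v, z} : Set S) with hE
  have hcomm : ∀ x ∈ ({u, v, z} : Set S), ∀ y ∈ ({u, v, z} : Set S), x * y = y * x := by
    intro x hx y hy
    simp only [Set.mem_insert_iff, Set.mem_singleton_iff] at hx hy
    rcases hx with rfl | rfl | rfl <;> rcases hy with rfl | rfl | rfl
    · rfl
    · exact huv
    · exact hzu.symm
    · exact huv.symm
    · rfl
    · exact hzv.symm
    · exact hzu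
    · exact hzv
    · rfl
  have hEc : IsMulCommutative ↥E := Subgroup.isMulCommutative_closure hcomm
  have hzE : z ∈ E := Subgroup.subset_closure (by simp)
  have huE : u ∈ E := Subgroup.subset_closure (by simp)
  have hvE : v ∈ E := Subgroup.subset_closure (by simp)
  have key : ∀ (x : S) (hx : x ∈ E),
      (⟨x, hx⟩ : E) ∈ Subgroup.zpowers (⟨z, hzE⟩ : E) ↔ x ∈ Subgroup.zpowers z := by
    intro x hx
    constructor
    · intro h
      obtain ⟨k, hk⟩ := Subgroup.mem_zpowers_iff.1 h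
      refine Subgroup.mem_zpowers_iff.2 ⟨k, ?_⟩
      have := congrArg Subtype.val hk
      simpa using this
    · intro h
      obtain ⟨k, hk⟩ := Subgroup.mem_zpowers_iff.1 h
      refine Subgroup.mem_zpowers_iff.2 ⟨k, ?_⟩
      apply Subtype.ext
      simpa using hk
  have h := rank_two_dependence (S := ↥E) (pRankLE_subgroup 2 2 hrk E) ⟨z, hzE⟩ ⟨u, huE⟩ ⟨v, hvE⟩
    (fun h => hz1 (congrArg Subtype.val h))
    (Subtype.ext (by simpa using hz2)) (Subtype.ext (by simpa using hu2))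
    (Subtype.ext (by simpa using hv2))
    (fun x => hEc.is_comm.comm x ⟨z, hzE⟩)
    (Subtype.ext huv)
    (fun h => hu ((key u huE).1 h))
  rcases h with h | h
  · left; exact (key v hvE).1 h
  · right; exact (key (v * u) (E.mul_mem hvE huE)).1 h

/-- **Wreath obstruction.** A finite group of sectional 2-rank at most 2 contains no copy of
`C₄ ≀ C₂`: there are no `a` of order 4 and involution `s` with `b = s a s⁻¹` commuting with `a`,
`b ≠ a^{±1}`, and `s` outside a subgroup `Q` containing `a, b`. -/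
theorem wreath_obstruction {G : Type*} [Group G] [Finite G] (hr : SectionalPRankLE 2 2 G)
    (a s : G) (Q : Subgroup G)
    (ha4 : a ^ 4 = 1) (ha2 : a ^ 2 ≠ 1) (hs2 : s ^ 2 = 1)
    (hab : a * (s * a * s⁻¹) = (s * a * s⁻¹) * a)
    (hne1 : a ≠ s * a * s⁻¹) (hne2 : a ≠ (s * a * s⁻¹)⁻¹)
    (haQ : a ∈ Q) (hbQ : s * a * s⁻¹ ∈ Q) (hsQ : s ∉ Q) : False := by
  obtain ⟨b, hb⟩ : ∃ b, b = s * a * s⁻¹ := ⟨_, rfl⟩
  rw [← hb] at hab hne1 hne2 hbQ
  have hsinv : s⁻¹ = s := by
    rw [inv_eq_iff_mul_eq_one, ← sq, hs2]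
  have hb4 : b ^ 4 = 1 := by rw [hb, conj_pow, ha4, mul_one, mul_inv_cancel]
  have hb2 : b ^ 2 ≠ 1 := by
    intro h
    apply ha2
    rw [hb, conj_pow] at h
    have : a ^ 2 = s⁻¹ * (s * a ^ 2 * s⁻¹) * s := by group
    rw [this, h, mul_one, inv_mul_cancel]
  have hsb : s * b * s⁻¹ = a := by
    rw [hb, hsinv]
    calc s * (s * a * s) * s = (s * s) * a * (s * s) := by simp only [mul_assoc]
      _ = a := by rw [← sq, hs2, one_mul, mul_one]
  have hsb' : s⁻¹ * b * s = a := by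
    have := hsb
    rw [hsinv] at this ⊢
    exact this
  have hsa' : s⁻¹ * a * s = b := by
    rw [hb, hsinv]
  have hsa2 : s⁻¹ * a ^ 2 * s = b ^ 2 := by
    rw [hb, conj_pow, hsinv]
  have hcab : Commute a b := hab
  obtain ⟨c, hc⟩ : ∃ c, c = a ^ 2 * b ^ 2 := ⟨_, rfl⟩
  have hc2 : c ^ 2 = 1 := by
    rw [hc, (hcab.pow_pow 2 2).mul_pow, ← pow_mul, ← pow_mul, ha4, hb4, one_mul]
  have hainv2 : (a ^ 2)⁻¹ = a ^ 2 := by
    rw [inv_eq_iff_mul_eq_one, ← pow_add, ha4]
  have hbinv2 : (b ^ 2)⁻¹ = b ^ 2 := by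
    rw [inv_eq_iff_mul_eq_one, ← pow_add, hb4]
  have hca : Commute c a := by
    rw [hc]
    exact ((Commute.refl a).pow_left 2).mul_left ((hcab.symm).pow_left 2)
  have hcb : Commute c b := by
    rw [hc]
    exact ((hcab).pow_left 2).mul_left ((Commute.refl b).pow_left 2)
  have hcs : s * c * s⁻¹ = c := by
    rw [hc]
    calc s * (a ^ 2 * b ^ 2) * s⁻¹ = (s * a * s⁻¹) ^ 2 * (s * b * s⁻¹) ^ 2 := by
          rw [conj_pow, conj_pow]; group
      _ = b ^ 2 * a ^ 2 := by rw [← hb, hsb]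
      _ = a ^ 2 * b ^ 2 := ((hcab.pow_pow 2 2).eq).symm
  -- the subgroup `H = C_G(c)` and its central subgroup `N = ⟨c⟩`
  set H : Subgroup G := Subgroup.centralizer ({c} : Set G) with hH
  have memH : ∀ g : G, g ∈ H ↔ c * g = g * c := by
    intro g
    rw [hH, Subgroup.mem_centralizer_iff]
    simp
  have haH : a ∈ H := (memH a).2 hca.eq
  have hbH : b ∈ H := (memH b).2 hcb.eq
  have hsH : s ∈ H := by
    rw [memH]
    calc c * s = (s * c * s⁻¹) * s := by rw [hcs]
      _ = s * c := by group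
  set N : Subgroup H := (Subgroup.zpowers c).subgroupOf H with hN
  have hNn : N.Normal := by
    refine ⟨fun n hn h => ?_⟩
    rw [hN, Subgroup.mem_subgroupOf] at hn ⊢
    obtain ⟨k, hk⟩ := Subgroup.mem_zpowers_iff.1 hn
    have hcomm : Commute (h : G) (n : G) := by
      rw [← hk]
      exact (Commute.zpow_right ((memH h).1 h.2).symm k)
    have : ((h * n * h⁻¹ : H) : G) = (n : G) := by
      push_cast
      rw [hcomm.eq, mul_inv_cancel_right]
    rw [this]
    exact hn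
  have hrk : PRankLE 2 2 (H ⧸ N) := hr H N
  have memN : ∀ y : H, y ∈ N ↔ (y : G) = 1 ∨ (y : G) = c := by
    intro y
    rw [hN, Subgroup.mem_subgroupOf]
    constructor
    · intro h
      exact mem_zpowers_of_sq_eq_one c _ hc2 h
    · rintro (h | h)
      · rw [h]; exact Subgroup.one_mem _
      · rw [h]; exact Subgroup.mem_zpowers c
  have hcQ : c ∈ Q := by rw [hc]; exact Q.mul_mem (Q.pow_mem haQ 2) (Q.pow_mem hbQ 2)
  have memNQ : ∀ y : H, y ∈ N → (y : G) ∈ Q := by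
    intro y hy
    rcases (memN y).1 hy with h | h
    · rw [h]; exact Q.one_mem
    · rw [h]; exact hcQ
  set π := QuotientGroup.mk' N with hπ
  set za : H := ⟨a ^ 2, H.pow_mem haH 2⟩ with hza
  set ua : H := ⟨a * b⁻¹, H.mul_mem haH (H.inv_mem hbH)⟩ with hua
  set va : H := ⟨s, hsH⟩ with hva
  have pi_eq_one : ∀ y : H, π y = 1 ↔ y ∈ N := fun y => QuotientGroup.eq_one_iff y
  have pi_eq : ∀ x y : H, π x = π y ↔ x⁻¹ * y ∈ N := fun x y => QuotientGroup.eq
  -- the square of `a b⁻¹` is `c`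
  have hx2 : (a * b⁻¹) ^ 2 = c := by
    rw [(hcab.inv_right).mul_pow, inv_pow, hbinv2, hc]
  have hz1 : π za ≠ 1 := by
    intro h
    rcases (memN za).1 ((pi_eq_one za).1 h) with h | h
    · exact ha2 h
    · apply hb2
      have h' : a ^ 2 = a ^ 2 * b ^ 2 := by rw [← hc]; exact h
      have := mul_left_cancel (a := a ^ 2) (b := 1) (c := b ^ 2) (by rw [mul_one]; exact h')
      exact this.symm
  have hz2 : π za ^ 2 = 1 := by
    rw [← map_pow]
    have : za ^ 2 = 1 := by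
      apply Subtype.ext
      show (a ^ 2) ^ 2 = 1
      rw [← pow_mul, ha4]
    rw [this, map_one]
  have hu2 : π ua ^ 2 = 1 := by
    rw [← map_pow, pi_eq_one, memN]
    right
    show (a * b⁻¹) ^ 2 = c
    exact hx2
  have hv2 : π va ^ 2 = 1 := by
    rw [← map_pow]
    have : va ^ 2 = 1 := by
      apply Subtype.ext
      show s ^ 2 = 1
      exact hs2
    rw [this, map_one]
  have hzu : π za * π ua = π ua * π za := by
    rw [← map_mul, ← map_mul]
    congr 1
    apply Subtype.ext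
    show a ^ 2 * (a * b⁻¹) = a * b⁻¹ * a ^ 2
    exact (((Commute.refl a).mul_right hcab.inv_right).pow_left 2).eq
  have hzv : π za * π va = π va * π za := by
    rw [← map_mul, ← map_mul, pi_eq, memN]
    right
    show (a ^ 2 * s)⁻¹ * (s * a ^ 2) = c
    calc (a ^ 2 * s)⁻¹ * (s * a ^ 2) = (s⁻¹ * a ^ 2 * s)⁻¹ * a ^ 2 := by group
      _ = b ^ 2 * a ^ 2 := by rw [hsa2, hbinv2]
      _ = c := by rw [hc]; exact ((hcab.pow_pow 2 2).eq).symm
  have hxs : s⁻¹ * (a * b⁻¹)⁻¹ * s = a * b⁻¹ := by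
    calc s⁻¹ * (a * b⁻¹)⁻¹ * s = (s⁻¹ * b * s) * (s⁻¹ * a * s)⁻¹ := by group
      _ = a * b⁻¹ := by rw [hsb', hsa']
  have huv : π ua * π va = π va * π ua := by
    rw [← map_mul, ← map_mul, pi_eq, memN]
    right
    show (a * b⁻¹ * s)⁻¹ * (s * (a * b⁻¹)) = c
    calc (a * b⁻¹ * s)⁻¹ * (s * (a * b⁻¹)) = (s⁻¹ * (a * b⁻¹)⁻¹ * s) * (a * b⁻¹) := by group
      _ = (a * b⁻¹) ^ 2 := by rw [hxs, sq]
      _ = c := hx2
  have hbm3 : b⁻¹ * (b ^ 2)⁻¹ = b := by
    calc b⁻¹ * (b ^ 2)⁻¹ = b * (b ^ 4)⁻¹ := by group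
      _ = b := by rw [hb4, inv_one, mul_one]
  have hu : π ua ∉ Subgroup.zpowers (π za) := by
    intro h
    rcases mem_zpowers_of_sq_eq_one (π za) (π ua) hz2 h with h | h
    · rcases (memN ua).1 ((pi_eq_one ua).1 h) with h | h
      · apply hne1
        have h' : a * b⁻¹ = 1 := h
        exact mul_inv_eq_one.1 h'
      · apply hne1
        have h' : a * b⁻¹ = a ^ 2 * b ^ 2 := by rw [← hc]; exact h
        have h1 : b⁻¹ = a * b ^ 2 := by
          have : a⁻¹ * (a * b⁻¹) = a⁻¹ * (a ^ 2 * b ^ 2) := by rw [h']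
          calc b⁻¹ = a⁻¹ * (a * b⁻¹) := by group
            _ = a⁻¹ * (a ^ 2 * b ^ 2) := this
            _ = a * b ^ 2 := by group
        have h2 : a = b⁻¹ * (b ^ 2)⁻¹ := eq_mul_inv_of_mul_eq h1.symm
        rw [hbm3] at h2
        exact h2
    · rcases (memN (za⁻¹ * ua)).1 ((pi_eq za ua).1 h.symm) with h | h
      · apply hne2
        have h' : (a ^ 2)⁻¹ * (a * b⁻¹) = 1 := h
        have h1 : a⁻¹ * b⁻¹ = 1 := by
          calc a⁻¹ * b⁻¹ = (a ^ 2)⁻¹ * (a * b⁻¹) := by group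
            _ = 1 := h'
        have h2 : a⁻¹ = b := by
          have := mul_eq_one_iff_eq_inv.1 h1
          rw [inv_inv] at this
          exact this
        rw [← h2, inv_inv]
      · apply hne2
        have h' : (a ^ 2)⁻¹ * (a * b⁻¹) = a ^ 2 * b ^ 2 := by rw [← hc]; exact h
        -- a⁻¹ b⁻¹ = a² b², so a³ b³ = 1
        have h1 : a⁻¹ * b⁻¹ = a ^ 2 * b ^ 2 := by
          calc a⁻¹ * b⁻¹ = (a ^ 2)⁻¹ * (a * b⁻¹) := by group
            _ = a ^ 2 * b ^ 2 := h'
        have h2 : b⁻¹ = a ^ 3 * b ^ 2 := by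
          calc b⁻¹ = a * (a⁻¹ * b⁻¹) := by group
            _ = a * (a ^ 2 * b ^ 2) := by rw [h1]
            _ = a ^ 3 * b ^ 2 := by group
        have h3 : a ^ 3 = b⁻¹ * (b ^ 2)⁻¹ := eq_mul_inv_of_mul_eq h2.symm
        rw [hbm3] at h3
        have h4 : a ^ 3 = a⁻¹ := by
          calc a ^ 3 = a ^ 4 * a⁻¹ := by group
            _ = a⁻¹ := by rw [ha4, one_mul]
        rw [h4] at h3
        rw [← h3, inv_inv]
  have inQ : ∀ y : H, π y ∈ Subgroup.zpowers (π za) → (y : G) ∈ Q := by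
    intro y hy
    rcases mem_zpowers_of_sq_eq_one (π za) (π y) hz2 hy with h | h
    · exact memNQ y ((pi_eq_one y).1 h)
    · have h1 := memNQ _ ((pi_eq za y).1 h.symm)
      have h2 : ((za⁻¹ * y : H) : G) = (a ^ 2)⁻¹ * (y : G) := rfl
      rw [h2] at h1
      have := Q.mul_mem (Q.pow_mem haQ 2) h1
      rwa [mul_inv_cancel_left] at this
  rcases rank_two_dependence' hrk (π za) (π ua) (π va) hz1 hz2 hu2 hv2 hzu hzv huv hu with h | h
  · exact hsQ (inQ va h)
  · rw [← map_mul] at h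
    have h1 := inQ (va * ua) h
    have h2 : ((va * ua : H) : G) = s * (a * b⁻¹) := rfl
    rw [h2] at h1
    have h3 : a * b⁻¹ ∈ Q := Q.mul_mem haQ (Q.inv_mem hbQ)
    have := Q.mul_mem h1 (Q.inv_mem h3)
    rw [mul_inv_cancel_right] at this
    exact hsQ this

end Cfsg.Agent.Lib.Helper73
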