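import Mathlib
import Cfsg.Prelude.Def_CaseTheorems

/-!
# Helper73: the involution of a cyclic characteristic subgroup of a Sylow 2-subgroup is isolated
when Sylow intersections are central (consequence of the Z*-theorem, taken as a hypothesis)

* `ZStarHyp G`: the statement of Glauberman's Z*-theorem for the group `G`.
* `charInv_isolated`: if the intersection of two distinct Sylow 2-subgroups always lies in the centre of a Sylow
  2-subgroup and `c` is an involution of a Sylow 2-subgroup `S` fixed by the normalizer of `S`, then the only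
  conjugate of `c` in `S` is `c`.
* `central_mod_oddCore_of_zstar`: the conclusion of S3184 from `ZStarHyp G`.
-/

set_option autoImplicit false

namespace Cfsg.Agent.Lib.Helper73

open Cfsg
open scoped Pointwise

universe u

/-- The statement of Glauberman's Z*-theorem for the group `G`. -/
def ZStarHyp (G : Type u) [Group G] [Finite G] : Prop :=
  ∀ (P : Sylow 2 G) (u : G), orderOf u = 2 → u ∈ P → (∀ g : G, g * u * g⁻¹ ∈ P → g * u * g⁻¹ = u) →
    ∃ N : Subgroup G, N.Normal ∧ Odd (Nat.card N) ∧ ∀ g : G, (u * g * u⁻¹ * g⁻¹) ∈ N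

variable {G : Type u} [Group G] [Finite G]

/-- Burnside: a conjugate of `c` centralizing `S` equals `c`, if `c` centralizes `S` and is fixed by `N_G(S)`. -/
theorem eq_of_conj_mem_centralizer (S : Sylow 2 G) (c : G)
    (hcent : c ∈ Subgroup.centralizer ((S : Subgroup G) : Set G))
    (hnorm : ∀ n ∈ Subgroup.normalizer ((S : Subgroup G) : Set G), n * c * n⁻¹ = c)
    (x : G) (hx : x * c * x⁻¹ ∈ Subgroup.centralizer ((S : Subgroup G) : Set G)) :
    x * c * x⁻¹ = c := by
  haveI : Fact (Nat.Prime 2) := ⟨Nat.prime_two⟩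
  have hx' : (x⁻¹)⁻¹ * c * x⁻¹ ∈ Subgroup.centralizer ((S : Subgroup G) : Set G) := by
    rw [inv_inv]; exact hx
  obtain ⟨n, hn, hn2⟩ := Sylow.conj_eq_normalizer_conj_of_mem_centralizer S c x⁻¹ hcent hx'
  rw [inv_inv] at hn2
  rw [hn2]
  have := hnorm n⁻¹ (Subgroup.inv_mem _ hn)
  rw [inv_inv] at this
  exact this

/-- General form: if `a` is a conjugate of `c` centralizing `h • S`, then `a = h c h⁻¹`. -/
theorem eq_conj_of_mem_centralizer_smul (S : Sylow 2 G) (c : G)
    (hcent : c ∈ Subgroup.centralizer ((S : Subgroup G) : Set G))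
    (hnorm : ∀ n ∈ Subgroup.normalizer ((S : Subgroup G) : Set G), n * c * n⁻¹ = c)
    (h x : G) (hx : ∀ s ∈ (S : Subgroup G), (h * s * h⁻¹) * (x * c * x⁻¹) = (x * c * x⁻¹) * (h * s * h⁻¹)) :
    x * c * x⁻¹ = h * c * h⁻¹ := by
  have h1 : (h⁻¹ * x) * c * (h⁻¹ * x)⁻¹ ∈ Subgroup.centralizer ((S : Subgroup G) : Set G) := by
    rw [Subgroup.mem_centralizer_iff]
    intro s hs
    have := hx s hs
    have e1 : s * (h⁻¹ * x * c * (h⁻¹ * x)⁻¹) = h⁻¹ * ((h * s * h⁻¹) * (x * c * x⁻¹)) * h := by group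
    have e2 : (h⁻¹ * x * c * (h⁻¹ * x)⁻¹) * s = h⁻¹ * ((x * c * x⁻¹) * (h * s * h⁻¹)) * h := by group
    rw [e1, e2, this]
  have h2 := eq_of_conj_mem_centralizer S c hcent hnorm (h⁻¹ * x) h1
  have e3 : x * c * x⁻¹ = h * ((h⁻¹ * x) * c * (h⁻¹ * x)⁻¹) * h⁻¹ := by group
  rw [e3, h2]

/-- The isolation statement. -/
theorem charInv_isolated
    (hCI : ∀ S T : Sylow 2 G, S ≠ T → ∃ U : Sylow 2 G,
      (S : Subgroup G) ⊓ (T : Subgroup G) ≤ (Subgroup.center ↥(U : Subgroup G)).map (U : Subgroup G).subtype)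
    (S : Sylow 2 G) (c : G) (hcS : c ∈ (S : Subgroup G))
    (hcent : c ∈ Subgroup.centralizer ((S : Subgroup G) : Set G))
    (hnorm : ∀ n ∈ Subgroup.normalizer ((S : Subgroup G) : Set G), n * c * n⁻¹ = c)
    (hpow : IsPGroup 2 (Subgroup.zpowers c))
    (g : G) (hg : g * c * g⁻¹ ∈ (S : Subgroup G)) : g * c * g⁻¹ = c := by
  haveI : Fact (Nat.Prime 2) := ⟨Nat.prime_two⟩
  obtain ⟨a, ha⟩ : ∃ a, a = g * c * g⁻¹ := ⟨_, rfl⟩
  rw [← ha] at hg ⊢
  -- `c` commutes with `a`
  have hca : c * a = a * c := by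
    have := (Subgroup.mem_centralizer_iff.1 hcent) a hg
    exact this.symm
  -- every Sylow 2-subgroup is central-intersection: membership in centre of `U`
  have hcenterU : ∀ (U : Sylow 2 G) (y : G),
      y ∈ (Subgroup.center ↥(U : Subgroup G)).map (U : Subgroup G).subtype →
      ∀ s ∈ (U : Subgroup G), s * y = y * s := by
    rintro U _ ⟨z, hz, rfl⟩ s hs
    have := (Subgroup.mem_center_iff.1 hz) ⟨s, hs⟩
    have h2 := congrArg Subtype.val this
    simpa using h2
  -- the centralizer of `a`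
  set H : Subgroup G := Subgroup.centralizer ({a} : Set G) with hH
  have hcH : c ∈ H := by
    rw [hH, Subgroup.mem_centralizer_iff]
    intro y hy
    rw [Set.mem_singleton_iff] at hy
    subst hy
    exact hca.symm
  -- `g • S ≤ H`
  have hTH : ((g • S : Sylow 2 G) : Subgroup G) ≤ H := by
    intro y hy
    rw [Sylow.smul_def, Sylow.pointwise_smul_def, Subgroup.mem_pointwise_smul_iff_inv_smul_mem] at hy
    simp only [MulAut.smul_def, MulAut.conj_inv_apply] at hy
    rw [hH, Subgroup.mem_centralizer_iff]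
    intro z hz
    rw [Set.mem_singleton_iff] at hz
    subst hz
    have h1 := (Subgroup.mem_centralizer_iff.1 hcent) _ hy
    -- h1 : g⁻¹ * y * g * c = c * (g⁻¹ * y * g)
    rw [ha]
    have e1 : g * c * g⁻¹ * y = g * (c * (g⁻¹ * y * g)) * g⁻¹ := by group
    have e2 : y * (g * c * g⁻¹) = g * ((g⁻¹ * y * g) * c) * g⁻¹ := by group
    rw [e1, e2, h1]
  -- a Sylow 2-subgroup of `H` containing `c`
  have hcz : IsPGroup 2 (Subgroup.zpowers (⟨c, hcH⟩ : H)) := by
    intro y
    obtain ⟨y, hy⟩ := y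
    obtain ⟨k, rfl⟩ := Subgroup.mem_zpowers_iff.1 hy
    obtain ⟨m, hm⟩ := hpow ⟨c ^ k, Subgroup.zpow_mem_zpowers c k⟩
    refine ⟨m, ?_⟩
    have h1 := congrArg Subtype.val hm
    apply Subtype.ext
    apply Subtype.ext
    simpa using h1
  obtain ⟨Q, hQ⟩ := hcz.exists_le_sylow
  obtain ⟨y, hy⟩ := MulAction.exists_smul_eq H ((g • S : Sylow 2 G).subtype hTH) Q
  -- `k = y * g`
  have hcQ : (⟨c, hcH⟩ : H) ∈ (Q : Subgroup H) := hQ (Subgroup.mem_zpowers _)
  rw [← hy] at hcQ
  rw [Sylow.smul_def, Sylow.pointwise_smul_def, Subgroup.mem_pointwise_smul_iff_inv_smul_mem] at hcQ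
  simp only [MulAut.smul_def, MulAut.conj_inv_apply] at hcQ
  rw [Sylow.coe_subtype, Subgroup.mem_subgroupOf] at hcQ
  simp only [Subgroup.coe_mul, Subgroup.coe_inv] at hcQ
  rw [Sylow.smul_def, Sylow.pointwise_smul_def, Subgroup.mem_pointwise_smul_iff_inv_smul_mem] at hcQ
  simp only [MulAut.smul_def, MulAut.conj_inv_apply] at hcQ
  -- hcQ : g⁻¹ * ((y:G)⁻¹ * c * y) * g ∈ S
  have hya : (y : G) * a = a * (y : G) := by
    have := (Subgroup.mem_centralizer_iff.1 y.2) a (Set.mem_singleton a)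
    exact this.symm
  obtain ⟨k, hk⟩ : ∃ k : G, k = (y : G) * g := ⟨_, rfl⟩
  have hka : k * c * k⁻¹ = a := by
    rw [hk, ha]
    have e1 : (y : G) * g * c * ((y : G) * g)⁻¹ = (y : G) * (g * c * g⁻¹) * (y : G)⁻¹ := by group
    rw [e1, ← ha, hya]
    group
  have hck : k⁻¹ * c * k ∈ (S : Subgroup G) := by
    have e1 : k⁻¹ * c * k = g⁻¹ * ((y : G)⁻¹ * c * (y : G)) * g := by rw [hk]; group
    rw [e1]
    exact hcQ
  -- the Sylow subgroup `V = k • S`
  have hmemV : ∀ z : G, z ∈ ((k • S : Sylow 2 G) : Subgroup G) ↔ k⁻¹ * z * k ∈ (S : Subgroup G) := by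
    intro z
    rw [Sylow.smul_def, Sylow.pointwise_smul_def, Subgroup.mem_pointwise_smul_iff_inv_smul_mem]
    simp only [MulAut.smul_def, MulAut.conj_inv_apply]
  have hcV : c ∈ ((k • S : Sylow 2 G) : Subgroup G) := (hmemV c).2 hck
  have haV : a ∈ ((k • S : Sylow 2 G) : Subgroup G) := by
    rw [hmemV, ← hka]
    have e1 : k⁻¹ * (k * c * k⁻¹) * k = c := by group
    rw [e1]
    exact hcS
  by_cases hSV : S = k • S
  · -- `a` centralizes `S`
    have hacent : g * c * g⁻¹ ∈ Subgroup.centralizer ((S : Subgroup G) : Set G) := by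
      rw [← ha, Subgroup.mem_centralizer_iff]
      intro s hs
      have hs' : s ∈ ((k • S : Sylow 2 G) : Subgroup G) := by rw [← hSV]; exact hs
      rw [hmemV] at hs'
      have h1 := (Subgroup.mem_centralizer_iff.1 hcent) _ hs'
      -- h1 : k⁻¹ * s * k * c = c * (k⁻¹ * s * k)
      rw [← hka]
      have e1 : s * (k * c * k⁻¹) = k * ((k⁻¹ * s * k) * c) * k⁻¹ := by group
      have e2 : k * c * k⁻¹ * s = k * (c * (k⁻¹ * s * k)) * k⁻¹ := by group
      rw [e1, e2, h1]
    rw [ha]
    exact eq_of_conj_mem_centralizer S c hcent hnorm g hacent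
  · obtain ⟨U, hU⟩ := hCI S (k • S) hSV
    have hcU := hcenterU U c (hU ⟨hcS, hcV⟩)
    have haU := hcenterU U a (hU ⟨hg, haV⟩)
    obtain ⟨h, hh⟩ := MulAction.exists_smul_eq G S U
    have hmemU : ∀ s ∈ (S : Subgroup G), h * s * h⁻¹ ∈ (U : Subgroup G) := by
      intro s hs
      rw [← hh, Sylow.smul_def, Sylow.pointwise_smul_def, Subgroup.mem_pointwise_smul_iff_inv_smul_mem]
      simp only [MulAut.smul_def, MulAut.conj_inv_apply]
      have e1 : h⁻¹ * (h * s * h⁻¹) * h = s := by group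
      rw [e1]
      exact hs
    have h1 : (1 : G) * c * (1 : G)⁻¹ = h * c * h⁻¹ := by
      apply eq_conj_of_mem_centralizer_smul S c hcent hnorm h 1
      intro s hs
      have := hcU _ (hmemU s hs)
      simpa using this
    have h2 : g * c * g⁻¹ = h * c * h⁻¹ := by
      apply eq_conj_of_mem_centralizer_smul S c hcent hnorm h g
      intro s hs
      have := haU _ (hmemU s hs)
      rw [← ha]
      exact this
    rw [ha, h2, ← h1]
    group

end Cfsg.Agent.Lib.Helper73

namespace Cfsg.Agent.Lib.Helper73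

open Cfsg
open scoped Pointwise

universe u
variable {G : Type u} [Group G] [Finite G]

/-- Conjugation by an element of the normalizer, as an automorphism of the subgroup. -/
def normConjEquiv (S : Subgroup G) (n : G) (hn : n ∈ Subgroup.normalizer (S : Set G)) : S ≃* S where
  toFun s := ⟨n * s * n⁻¹, (Subgroup.mem_normalizer_iff.1 hn s).1 s.2⟩
  invFun s := ⟨n⁻¹ * s * n, by
    have := (Subgroup.mem_normalizer_iff.1 (Subgroup.inv_mem _ hn) s).1 s.2
    simpa using this⟩
  left_inv s := Subtype.ext (by simp [mul_assoc])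
  right_inv s := Subtype.ext (by simp [mul_assoc])
  map_mul' s t := Subtype.ext (by simp [mul_assoc])

/-- An involution in a cyclic characteristic subgroup is fixed by all automorphisms. -/
theorem aut_fixes_involution_of_cyclic_char {S : Type*} [Group S] [Finite S] (C : Subgroup S)
    (hCc : IsCyclic ↥C) (hCh : C.Characteristic) (c : S) (hc : c ∈ C) (hc2 : orderOf c = 2)
    (φ : S ≃* S) : φ c = c := by
  classical
  have hφc : φ c ∈ C := by
    have h1 := hCh.fixed φ
    have : c ∈ C.comap φ.toMonoidHom := by rw [h1]; exact hc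
    exact this
  have ho : orderOf (φ c) = 2 := by rw [MulEquiv.orderOf_eq]; exact hc2
  by_contra hne
  haveI : Fintype ↥C := Fintype.ofFinite _
  have hle := IsCyclic.card_pow_eq_one_le (α := ↥C) (n := 2) (by norm_num)
  have hc1 : c ≠ 1 := by
    intro h; rw [h, orderOf_one] at hc2; omega
  have hφ1 : φ c ≠ 1 := by
    intro h; rw [h, orderOf_one] at ho; omega
  have hsq : c ^ 2 = 1 := by rw [← hc2]; exact pow_orderOf_eq_one c
  have hsq' : (φ c) ^ 2 = 1 := by rw [← ho]; exact pow_orderOf_eq_one _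
  have hsub : ({(1 : ↥C), ⟨c, hc⟩, ⟨φ c, hφc⟩} : Finset ↥C) ⊆
      Finset.univ.filter (fun a : ↥C => a ^ 2 = 1) := by
    intro x hx
    simp only [Finset.mem_insert, Finset.mem_singleton] at hx
    simp only [Finset.mem_filter, Finset.mem_univ, true_and]
    rcases hx with rfl | rfl | rfl
    · simp
    · exact Subtype.ext (by simpa using hsq)
    · exact Subtype.ext (by simpa using hsq')
  have hcard : ({(1 : ↥C), ⟨c, hc⟩, ⟨φ c, hφc⟩} : Finset ↥C).card = 3 := by
    rw [Finset.card_insert_of_notMem, Finset.card_insert_of_notMem, Finset.card_singleton]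
    · simp only [Finset.mem_singleton]
      intro h
      exact hne (congrArg Subtype.val h).symm
    · simp only [Finset.mem_insert, Finset.mem_singleton, not_or]
      refine ⟨fun h => hc1 (congrArg Subtype.val h).symm, fun h => hφ1 (congrArg Subtype.val h).symm⟩
  have := Finset.card_le_card hsub
  omega

/-- **S3184 from the Z*-theorem.** -/
theorem central_mod_oddCore_of_zstar (hZ : ZStarHyp G)
    (hCI : ∀ S T : Sylow 2 G, S ≠ T → ∃ U : Sylow 2 G,
      (S : Subgroup G) ⊓ (T : Subgroup G) ≤ (Subgroup.center ↥(U : Subgroup G)).map (U : Subgroup G).subtype)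
    (S : Sylow 2 G) (C : Subgroup ↥(S : Subgroup G)) (hCc : IsCyclic ↥C) (hCh : C.Characteristic)
    (c : ↥(S : Subgroup G)) (hc : c ∈ C) (hc2 : orderOf c = 2) :
    ∀ g : G, (QuotientGroup.mk (s := Cfsg.oddCore G) (g * (c : G) * g⁻¹)) =
      QuotientGroup.mk (s := Cfsg.oddCore G) (c : G) := by
  have hfix := aut_fixes_involution_of_cyclic_char C hCc hCh c hc hc2
  have hc2' : orderOf (c : G) = 2 := by rw [Subgroup.orderOf_coe]; exact hc2
  have hnorm : ∀ n ∈ Subgroup.normalizer ((S : Subgroup G) : Set G), n * (c : G) * n⁻¹ = c := by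
    intro n hn
    have := hfix (normConjEquiv (S : Subgroup G) n hn)
    exact congrArg Subtype.val this
  have hcent : (c : G) ∈ Subgroup.centralizer ((S : Subgroup G) : Set G) := by
    rw [Subgroup.mem_centralizer_iff]
    intro s hs
    have := hnorm s (Subgroup.le_normalizer hs)
    -- s * c * s⁻¹ = c
    rw [mul_inv_eq_iff_eq_mul] at this
    exact this
  have hpow : IsPGroup 2 (Subgroup.zpowers (c : G)) := by
    haveI : Fact (Nat.Prime 2) := ⟨Nat.prime_two⟩
    apply IsPGroup.of_card (n := 1)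
    rw [Nat.card_zpowers, hc2', pow_one]
  have hiso : ∀ g : G, g * (c : G) * g⁻¹ ∈ S → g * (c : G) * g⁻¹ = c :=
    fun g hg => charInv_isolated hCI S c c.2 hcent hnorm hpow g hg
  obtain ⟨N, hN, hodd, hcomm⟩ := hZ S c hc2' c.2 hiso
  have hNle : N ≤ Cfsg.oddCore G := by
    apply le_sSup
    refine ⟨hN, ?_⟩
    exact Nat.Coprime.symm (Nat.coprime_two_left.2 hodd)
  intro g
  rw [QuotientGroup.eq]
  apply hNle
  have hcinv : (c : G)⁻¹ = c := by
    have hsq : (c : G) ^ 2 = 1 := by
      have := pow_orderOf_eq_one (c : G)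
      rwa [hc2'] at this
    rw [inv_eq_iff_mul_eq_one, ← sq, hsq]
  have h1 := hcomm g
  have h2 := N.inv_mem h1
  have e1 : (g * (c : G) * g⁻¹)⁻¹ * c = ((c : G) * g * (c : G)⁻¹ * g⁻¹)⁻¹ := by
    rw [hcinv]
    have e2 : (g * (c : G) * g⁻¹)⁻¹ = g * (c : G)⁻¹ * g⁻¹ := by group
    rw [e2, hcinv]
    have e3 : ((c : G) * g * (c : G) * g⁻¹)⁻¹ = g * (c : G)⁻¹ * g⁻¹ * (c : G)⁻¹ := by group
    rw [e3, hcinv]
  rw [e1]
  exact h2

end Cfsg.Agent.Lib.Helper73
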